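import Mathlib

/-! A complete coset table bounds the order of a group generated by torsion elements. -/

namespace CfsgLib.Recog

theorem coset_cover {G : Type*} [Group G] {ι : Type*} [Finite ι] (H : Subgroup G) [Finite H] (r : ι → G)
    (i₀ : ι) (h0 : r i₀ = 1) (S : Set G) (hS : Subgroup.closure S = ⊤) (htor : ∀ s ∈ S, ∃ k : ℕ, s ^ (k + 1) = 1)
    (h : ∀ i, ∀ s ∈ S, ∃ j, r i * s * (r j)⁻¹ ∈ H) :
    Finite G ∧ Nat.card G ≤ Nat.card H * Nat.card ι := by
  let P : G → Prop := fun g => ∀ i, ∃ j, r i * g * (r j)⁻¹ ∈ H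
  have hmul : ∀ a b, P a → P b → P (a * b) := by
    intro a b ha hb i
    obtain ⟨j, hj⟩ := ha i
    obtain ⟨k, hk⟩ := hb j
    refine ⟨k, ?_⟩
    have := H.mul_mem hj hk
    convert this using 1
    group
  have h1 : P 1 := fun i => ⟨i, by simp⟩
  have hpow : ∀ a, P a → ∀ k : ℕ, P (a ^ k) := by
    intro a ha k
    induction k with
    | zero => simpa using h1
    | succ k ih => rw [pow_succ]; exact hmul _ _ ih ha
  have hall : ∀ g, P g := by
    intro g
    have hg : g ∈ Subgroup.closure S := hS ▸ Subgroup.mem_top g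
    induction hg using Subgroup.closure_induction_right with
    | one => exact h1
    | mul_right x _ y hy ih => exact hmul _ _ ih (fun i => h i y hy)
    | mul_inv_cancel x _ y hy ih =>
      obtain ⟨k, hk⟩ := htor y hy
      have e : y⁻¹ = y ^ k := inv_eq_of_mul_eq_one_right (by rw [← pow_succ']; exact hk)
      rw [e]
      exact hmul _ _ ih (hpow _ (fun i => h i y hy) k)
  let f : H × ι → G := fun p => (p.1 : G) * r p.2
  have hf : Function.Surjective f := by
    intro g
    obtain ⟨j, hj⟩ := hall g i₀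
    rw [h0, one_mul] at hj
    exact ⟨(⟨_, hj⟩, j), inv_mul_cancel_right g (r j)⟩
  haveI : Finite G := Finite.of_surjective f hf
  exact ⟨inferInstance, (Nat.card_le_card_of_surjective f hf).trans (Nat.card_prod _ _).le⟩

end CfsgLib.Recog
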