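import Mathlib

/-! Coset tables of the icosahedral presentations (generated). -/

namespace CfsgLib.Recog

theorem altFive_table {G : Type*} [Group G] (x y : G) (h3 : x * x * x = 1) (h5 : y * y * y * y * y = 1) (h2 : x * y * x * y = 1)
    (H : Subgroup G) (hy : y ∈ H)
    (i : Fin 12) (s : G) (hs : s ∈ ({x, y} : Set G)) :
    ∃ j : Fin 12, (![(1), (x), (x * y), (x * y * y), (x * y * y * y), (x * y * y * x), (x * y * y * y * x), (x * y * y * x * x), (x * y * y * y * x * x), (x * y * y * y * x * x * y), (x * y * y * y * x * x * y * y), (x * y * y * y * x * x * y * y * x)] : Fin 12 → G) i * s * ((![(1), (x), (x * y), (x * y * y), (x * y * y * y), (x * y * y * x), (x * y * y * y * x), (x * y * y * x * x), (x * y * y * y * x * x), (x * y * y * y * x * x * y), (x * y * y * y * x * x * y * y), (x * y * y * y * x * x * y * y * x)] : Fin 12 → G) j)⁻¹ ∈ H := by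
  have c0y : (1) * y * (1)⁻¹ ∈ H := by
    simpa using hy
  have c0x : (1) * x * (x)⁻¹ ∈ H := by
    convert H.one_mem using 1; group
  have c1y : (x) * y * (x * y)⁻¹ ∈ H := by
    convert H.one_mem using 1; group
  have c2x : (x * y) * x * (1)⁻¹ ∈ H := by
    have e : x = (x * y)⁻¹ * (y)⁻¹ := by
      calc x = (x * y)⁻¹ * (x * y * x * y) * (y)⁻¹ := by group
        _ = _ := by rw [h2, mul_one]
    have m := H.mul_mem (H.inv_mem (H.mul_mem c0x c1y)) (H.inv_mem c0y)
    convert m using 1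
    conv_lhs => arg 1; arg 2; rw [e]
    simp only [mul_inv_rev, mul_assoc, inv_inv, one_mul, mul_one, inv_one, mul_inv_cancel_left, inv_mul_cancel_left, mul_inv_cancel, inv_mul_cancel]
  have c1x : (x) * x * (x * y)⁻¹ ∈ H := by
    have e : x = (1)⁻¹ * (x * x)⁻¹ := by
      calc x = (1)⁻¹ * (x * x * x) * (x * x)⁻¹ := by group
        _ = _ := by rw [h3, mul_one]
    have m := H.mul_mem (H.inv_mem H.one_mem) (H.inv_mem (H.mul_mem c2x c0x))
    convert m using 1
    conv_lhs => arg 1; arg 2; rw [e]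
    simp only [mul_inv_rev, mul_assoc, inv_inv, one_mul, mul_one, inv_one, mul_inv_cancel_left, inv_mul_cancel_left, mul_inv_cancel, inv_mul_cancel]
  have c2y : (x * y) * y * (x * y * y)⁻¹ ∈ H := by
    convert H.one_mem using 1; group
  have c3y : (x * y * y) * y * (x * y * y * y)⁻¹ ∈ H := by
    convert H.one_mem using 1; group
  have c3x : (x * y * y) * x * (x * y * y * x)⁻¹ ∈ H := by
    convert H.one_mem using 1; group
  have c5y : (x * y * y * x) * y * (x)⁻¹ ∈ H := by
    have e : y = (x * y * x)⁻¹ * (1)⁻¹ := by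
      calc y = (x * y * x)⁻¹ * (x * y * x * y) * (1)⁻¹ := by group
        _ = _ := by rw [h2, mul_one]
    have m := H.mul_mem (H.inv_mem (H.mul_mem (H.mul_mem c1x c2y) c3x)) (H.inv_mem H.one_mem)
    convert m using 1
    conv_lhs => arg 1; arg 2; rw [e]
    simp only [mul_inv_rev, mul_assoc, inv_inv, one_mul, mul_one, inv_one, mul_inv_cancel_left, inv_mul_cancel_left, mul_inv_cancel, inv_mul_cancel]
  have c4y : (x * y * y * y) * y * (x * y * y * x)⁻¹ ∈ H := by
    have e : y = (y * y)⁻¹ * (y * y)⁻¹ := by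
      calc y = (y * y)⁻¹ * (y * y * y * y * y) * (y * y)⁻¹ := by group
        _ = _ := by rw [h5, mul_one]
    have m := H.mul_mem (H.inv_mem (H.mul_mem c2y c3y)) (H.inv_mem (H.mul_mem c5y c1y))
    convert m using 1
    conv_lhs => arg 1; arg 2; rw [e]
    simp only [mul_inv_rev, mul_assoc, inv_inv, one_mul, mul_one, inv_one, mul_inv_cancel_left, inv_mul_cancel_left, mul_inv_cancel, inv_mul_cancel]
  have c4x : (x * y * y * y) * x * (x * y * y * y * x)⁻¹ ∈ H := by
    convert H.one_mem using 1; group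
  have c5x : (x * y * y * x) * x * (x * y * y * x * x)⁻¹ ∈ H := by
    convert H.one_mem using 1; group
  have c7x : (x * y * y * x * x) * x * (x * y * y)⁻¹ ∈ H := by
    have e : x = (x * x)⁻¹ * (1)⁻¹ := by
      calc x = (x * x)⁻¹ * (x * x * x) * (1)⁻¹ := by group
        _ = _ := by rw [h3, mul_one]
    have m := H.mul_mem (H.inv_mem (H.mul_mem c3x c5x)) (H.inv_mem H.one_mem)
    convert m using 1
    conv_lhs => arg 1; arg 2; rw [e]
    simp only [mul_inv_rev, mul_assoc, inv_inv, one_mul, mul_one, inv_one, mul_inv_cancel_left, inv_mul_cancel_left, mul_inv_cancel, inv_mul_cancel]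
  have c6y : (x * y * y * y * x) * y * (x * y * y * x * x)⁻¹ ∈ H := by
    have e : y = (x)⁻¹ * (x * y)⁻¹ := by
      calc y = (x)⁻¹ * (x * y * x * y) * (x * y)⁻¹ := by group
        _ = _ := by rw [h2, mul_one]
    have m := H.mul_mem (H.inv_mem c4x) (H.inv_mem (H.mul_mem c7x c3y))
    convert m using 1
    conv_lhs => arg 1; arg 2; rw [e]
    simp only [mul_inv_rev, mul_assoc, inv_inv, one_mul, mul_one, inv_one, mul_inv_cancel_left, inv_mul_cancel_left, mul_inv_cancel, inv_mul_cancel]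
  have c6x : (x * y * y * y * x) * x * (x * y * y * y * x * x)⁻¹ ∈ H := by
    convert H.one_mem using 1; group
  have c8x : (x * y * y * y * x * x) * x * (x * y * y * y)⁻¹ ∈ H := by
    have e : x = (x * x)⁻¹ * (1)⁻¹ := by
      calc x = (x * x)⁻¹ * (x * x * x) * (1)⁻¹ := by group
        _ = _ := by rw [h3, mul_one]
    have m := H.mul_mem (H.inv_mem (H.mul_mem c4x c6x)) (H.inv_mem H.one_mem)
    convert m using 1
    conv_lhs => arg 1; arg 2; rw [e]
    simp only [mul_inv_rev, mul_assoc, inv_inv, one_mul, mul_one, inv_one, mul_inv_cancel_left, inv_mul_cancel_left, mul_inv_cancel, inv_mul_cancel]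
  have c7y : (x * y * y * x * x) * y * (x * y * y * y * x * x)⁻¹ ∈ H := by
    have e : y = (x)⁻¹ * (x * y)⁻¹ := by
      calc y = (x)⁻¹ * (x * y * x * y) * (x * y)⁻¹ := by group
        _ = _ := by rw [h2, mul_one]
    have m := H.mul_mem (H.inv_mem c5x) (H.inv_mem (H.mul_mem c8x c4y))
    convert m using 1
    conv_lhs => arg 1; arg 2; rw [e]
    simp only [mul_inv_rev, mul_assoc, inv_inv, one_mul, mul_one, inv_one, mul_inv_cancel_left, inv_mul_cancel_left, mul_inv_cancel, inv_mul_cancel]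
  have c8y : (x * y * y * y * x * x) * y * (x * y * y * y * x * x * y)⁻¹ ∈ H := by
    convert H.one_mem using 1; group
  have c9y : (x * y * y * y * x * x * y) * y * (x * y * y * y * x * x * y * y)⁻¹ ∈ H := by
    convert H.one_mem using 1; group
  have c10y : (x * y * y * y * x * x * y * y) * y * (x * y * y * y * x)⁻¹ ∈ H := by
    have e : y = (y * y * y * y)⁻¹ * (1)⁻¹ := by
      calc y = (y * y * y * y)⁻¹ * (y * y * y * y * y) * (1)⁻¹ := by group
        _ = _ := by rw [h5, mul_one]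
    have m := H.mul_mem (H.inv_mem (H.mul_mem (H.mul_mem (H.mul_mem c6y c7y) c8y) c9y)) (H.inv_mem H.one_mem)
    convert m using 1
    conv_lhs => arg 1; arg 2; rw [e]
    simp only [mul_inv_rev, mul_assoc, inv_inv, one_mul, mul_one, inv_one, mul_inv_cancel_left, inv_mul_cancel_left, mul_inv_cancel, inv_mul_cancel]
  have c9x : (x * y * y * y * x * x * y) * x * (x * y * y * y * x * x * y * y)⁻¹ ∈ H := by
    have e : x = (x * y)⁻¹ * (y)⁻¹ := by
      calc x = (x * y)⁻¹ * (x * y * x * y) * (y)⁻¹ := by group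
        _ = _ := by rw [h2, mul_one]
    have m := H.mul_mem (H.inv_mem (H.mul_mem c6x c8y)) (H.inv_mem c10y)
    convert m using 1
    conv_lhs => arg 1; arg 2; rw [e]
    simp only [mul_inv_rev, mul_assoc, inv_inv, one_mul, mul_one, inv_one, mul_inv_cancel_left, inv_mul_cancel_left, mul_inv_cancel, inv_mul_cancel]
  have c10x : (x * y * y * y * x * x * y * y) * x * (x * y * y * y * x * x * y * y * x)⁻¹ ∈ H := by
    convert H.one_mem using 1; group
  have c11x : (x * y * y * y * x * x * y * y * x) * x * (x * y * y * y * x * x * y)⁻¹ ∈ H := by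
    have e : x = (x * x)⁻¹ * (1)⁻¹ := by
      calc x = (x * x)⁻¹ * (x * x * x) * (1)⁻¹ := by group
        _ = _ := by rw [h3, mul_one]
    have m := H.mul_mem (H.inv_mem (H.mul_mem c9x c10x)) (H.inv_mem H.one_mem)
    convert m using 1
    conv_lhs => arg 1; arg 2; rw [e]
    simp only [mul_inv_rev, mul_assoc, inv_inv, one_mul, mul_one, inv_one, mul_inv_cancel_left, inv_mul_cancel_left, mul_inv_cancel, inv_mul_cancel]
  have c11y : (x * y * y * y * x * x * y * y * x) * y * (x * y * y * y * x * x * y * y * x)⁻¹ ∈ H := by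
    have e : y = (x)⁻¹ * (x * y)⁻¹ := by
      calc y = (x)⁻¹ * (x * y * x * y) * (x * y)⁻¹ := by group
        _ = _ := by rw [h2, mul_one]
    have m := H.mul_mem (H.inv_mem c10x) (H.inv_mem (H.mul_mem c11x c9y))
    convert m using 1
    conv_lhs => arg 1; arg 2; rw [e]
    simp only [mul_inv_rev, mul_assoc, inv_inv, one_mul, mul_one, inv_one, mul_inv_cancel_left, inv_mul_cancel_left, mul_inv_cancel, inv_mul_cancel]
  simp only [Set.mem_insert_iff, Set.mem_singleton_iff] at hs
  rcases hs with rfl | rfl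
  · fin_cases i
    · exact ⟨1, c0x⟩
    · exact ⟨2, c1x⟩
    · exact ⟨0, c2x⟩
    · exact ⟨5, c3x⟩
    · exact ⟨6, c4x⟩
    · exact ⟨7, c5x⟩
    · exact ⟨8, c6x⟩
    · exact ⟨3, c7x⟩
    · exact ⟨4, c8x⟩
    · exact ⟨10, c9x⟩
    · exact ⟨11, c10x⟩
    · exact ⟨9, c11x⟩
  · fin_cases i
    · exact ⟨0, c0y⟩
    · exact ⟨2, c1y⟩
    · exact ⟨3, c2y⟩
    · exact ⟨4, c3y⟩
    · exact ⟨5, c4y⟩
    · exact ⟨1, c5y⟩
    · exact ⟨7, c6y⟩
    · exact ⟨8, c7y⟩
    · exact ⟨9, c8y⟩
    · exact ⟨10, c9y⟩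
    · exact ⟨6, c10y⟩
    · exact ⟨11, c11y⟩

theorem slTwoFive_table {G : Type*} [Group G] (x y z : G) (h3 : x * x * x = 1) (h5 : y * y * y * y * y = 1) (hz : z * z = 1) (hxz : z * x * z * x * x = 1) (hyz : z * y * z * y * y * y * y = 1) (h2 : x * y * x * y * z = 1)
    (H : Subgroup G) (hy : y ∈ H) (hz : z ∈ H)
    (i : Fin 12) (s : G) (hs : s ∈ ({x, y, z} : Set G)) :
    ∃ j : Fin 12, (![(1), (x), (x * y), (x * y * y), (x * y * y * y), (x * y * y * x), (x * y * y * y * x), (x * y * y * x * x), (x * y * y * y * x * x), (x * y * y * y * x * x * y), (x * y * y * y * x * x * y * y), (x * y * y * y * x * x * y * y * x)] : Fin 12 → G) i * s * ((![(1), (x), (x * y), (x * y * y), (x * y * y * y), (x * y * y * x), (x * y * y * y * x), (x * y * y * x * x), (x * y * y * y * x * x), (x * y * y * y * x * x * y), (x * y * y * y * x * x * y * y), (x * y * y * y * x * x * y * y * x)] : Fin 12 → G) j)⁻¹ ∈ H := by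
  have c0y : (1) * y * (1)⁻¹ ∈ H := by
    simpa using hy
  have c0z : (1) * z * (1)⁻¹ ∈ H := by
    simpa using hz
  have c0x : (1) * x * (x)⁻¹ ∈ H := by
    convert H.one_mem using 1; group
  have c1y : (x) * y * (x * y)⁻¹ ∈ H := by
    convert H.one_mem using 1; group
  have c2x : (x * y) * x * (1)⁻¹ ∈ H := by
    have e : x = (x * y)⁻¹ * (y * z)⁻¹ := by
      calc x = (x * y)⁻¹ * (x * y * x * y * z) * (y * z)⁻¹ := by group
        _ = _ := by rw [h2, mul_one]
    have m := H.mul_mem (H.inv_mem (H.mul_mem c0x c1y)) (H.inv_mem (H.mul_mem c0y c0z))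
    convert m using 1
    conv_lhs => arg 1; arg 2; rw [e]
    simp only [mul_inv_rev, mul_assoc, inv_inv, one_mul, mul_one, inv_one, mul_inv_cancel_left, inv_mul_cancel_left, mul_inv_cancel, inv_mul_cancel]
  have c1x : (x) * x * (x * y)⁻¹ ∈ H := by
    have e : x = (1)⁻¹ * (x * x)⁻¹ := by
      calc x = (1)⁻¹ * (x * x * x) * (x * x)⁻¹ := by group
        _ = _ := by rw [h3, mul_one]
    have m := H.mul_mem (H.inv_mem H.one_mem) (H.inv_mem (H.mul_mem c2x c0x))
    convert m using 1
    conv_lhs => arg 1; arg 2; rw [e]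
    simp only [mul_inv_rev, mul_assoc, inv_inv, one_mul, mul_one, inv_one, mul_inv_cancel_left, inv_mul_cancel_left, mul_inv_cancel, inv_mul_cancel]
  have c2z : (x * y) * z * (x * y)⁻¹ ∈ H := by
    have e : z = (1)⁻¹ * (x * z * x * x)⁻¹ := by
      calc z = (1)⁻¹ * (z * x * z * x * x) * (x * z * x * x)⁻¹ := by group
        _ = _ := by rw [hxz, mul_one]
    have m := H.mul_mem (H.inv_mem H.one_mem) (H.inv_mem (H.mul_mem (H.mul_mem (H.mul_mem c2x c0z) c0x) c1x))
    convert m using 1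
    conv_lhs => arg 1; arg 2; rw [e]
    simp only [mul_inv_rev, mul_assoc, inv_inv, one_mul, mul_one, inv_one, mul_inv_cancel_left, inv_mul_cancel_left, mul_inv_cancel, inv_mul_cancel]
  have c1z : (x) * z * (x)⁻¹ ∈ H := by
    have e : z = (z * x)⁻¹ * (x * x)⁻¹ := by
      calc z = (z * x)⁻¹ * (z * x * z * x * x) * (x * x)⁻¹ := by group
        _ = _ := by rw [hxz, mul_one]
    have m := H.mul_mem (H.inv_mem (H.mul_mem c0z c0x)) (H.inv_mem (H.mul_mem c1x c2x))
    convert m using 1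
    conv_lhs => arg 1; arg 2; rw [e]
    simp only [mul_inv_rev, mul_assoc, inv_inv, one_mul, mul_one, inv_one, mul_inv_cancel_left, inv_mul_cancel_left, mul_inv_cancel, inv_mul_cancel]
  have c2y : (x * y) * y * (x * y * y)⁻¹ ∈ H := by
    convert H.one_mem using 1; group
  have c3y : (x * y * y) * y * (x * y * y * y)⁻¹ ∈ H := by
    convert H.one_mem using 1; group
  have c3x : (x * y * y) * x * (x * y * y * x)⁻¹ ∈ H := by
    convert H.one_mem using 1; group
  have c5y : (x * y * y * x) * y * (x)⁻¹ ∈ H := by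
    have e : y = (x * y * x)⁻¹ * (z)⁻¹ := by
      calc y = (x * y * x)⁻¹ * (x * y * x * y * z) * (z)⁻¹ := by group
        _ = _ := by rw [h2, mul_one]
    have m := H.mul_mem (H.inv_mem (H.mul_mem (H.mul_mem c1x c2y) c3x)) (H.inv_mem c1z)
    convert m using 1
    conv_lhs => arg 1; arg 2; rw [e]
    simp only [mul_inv_rev, mul_assoc, inv_inv, one_mul, mul_one, inv_one, mul_inv_cancel_left, inv_mul_cancel_left, mul_inv_cancel, inv_mul_cancel]
  have c4y : (x * y * y * y) * y * (x * y * y * x)⁻¹ ∈ H := by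
    have e : y = (y * y)⁻¹ * (y * y)⁻¹ := by
      calc y = (y * y)⁻¹ * (y * y * y * y * y) * (y * y)⁻¹ := by group
        _ = _ := by rw [h5, mul_one]
    have m := H.mul_mem (H.inv_mem (H.mul_mem c2y c3y)) (H.inv_mem (H.mul_mem c5y c1y))
    convert m using 1
    conv_lhs => arg 1; arg 2; rw [e]
    simp only [mul_inv_rev, mul_assoc, inv_inv, one_mul, mul_one, inv_one, mul_inv_cancel_left, inv_mul_cancel_left, mul_inv_cancel, inv_mul_cancel]
  have c3z : (x * y * y) * z * (x * y * y)⁻¹ ∈ H := by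
    have e : z = (z * y)⁻¹ * (y * y * y * y)⁻¹ := by
      calc z = (z * y)⁻¹ * (z * y * z * y * y * y * y) * (y * y * y * y)⁻¹ := by group
        _ = _ := by rw [hyz, mul_one]
    have m := H.mul_mem (H.inv_mem (H.mul_mem c2z c2y)) (H.inv_mem (H.mul_mem (H.mul_mem (H.mul_mem c3y c4y) c5y) c1y))
    convert m using 1
    conv_lhs => arg 1; arg 2; rw [e]
    simp only [mul_inv_rev, mul_assoc, inv_inv, one_mul, mul_one, inv_one, mul_inv_cancel_left, inv_mul_cancel_left, mul_inv_cancel, inv_mul_cancel]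
  have c4z : (x * y * y * y) * z * (x * y * y * y)⁻¹ ∈ H := by
    have e : z = (z * y)⁻¹ * (y * y * y * y)⁻¹ := by
      calc z = (z * y)⁻¹ * (z * y * z * y * y * y * y) * (y * y * y * y)⁻¹ := by group
        _ = _ := by rw [hyz, mul_one]
    have m := H.mul_mem (H.inv_mem (H.mul_mem c3z c3y)) (H.inv_mem (H.mul_mem (H.mul_mem (H.mul_mem c4y c5y) c1y) c2y))
    convert m using 1
    conv_lhs => arg 1; arg 2; rw [e]
    simp only [mul_inv_rev, mul_assoc, inv_inv, one_mul, mul_one, inv_one, mul_inv_cancel_left, inv_mul_cancel_left, mul_inv_cancel, inv_mul_cancel]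
  have c5z : (x * y * y * x) * z * (x * y * y * x)⁻¹ ∈ H := by
    have e : z = (z * y)⁻¹ * (y * y * y * y)⁻¹ := by
      calc z = (z * y)⁻¹ * (z * y * z * y * y * y * y) * (y * y * y * y)⁻¹ := by group
        _ = _ := by rw [hyz, mul_one]
    have m := H.mul_mem (H.inv_mem (H.mul_mem c4z c4y)) (H.inv_mem (H.mul_mem (H.mul_mem (H.mul_mem c5y c1y) c2y) c3y))
    convert m using 1
    conv_lhs => arg 1; arg 2; rw [e]
    simp only [mul_inv_rev, mul_assoc, inv_inv, one_mul, mul_one, inv_one, mul_inv_cancel_left, inv_mul_cancel_left, mul_inv_cancel, inv_mul_cancel]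
  have c4x : (x * y * y * y) * x * (x * y * y * y * x)⁻¹ ∈ H := by
    convert H.one_mem using 1; group
  have c5x : (x * y * y * x) * x * (x * y * y * x * x)⁻¹ ∈ H := by
    convert H.one_mem using 1; group
  have c7x : (x * y * y * x * x) * x * (x * y * y)⁻¹ ∈ H := by
    have e : x = (x * x)⁻¹ * (1)⁻¹ := by
      calc x = (x * x)⁻¹ * (x * x * x) * (1)⁻¹ := by group
        _ = _ := by rw [h3, mul_one]
    have m := H.mul_mem (H.inv_mem (H.mul_mem c3x c5x)) (H.inv_mem H.one_mem)
    convert m using 1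
    conv_lhs => arg 1; arg 2; rw [e]
    simp only [mul_inv_rev, mul_assoc, inv_inv, one_mul, mul_one, inv_one, mul_inv_cancel_left, inv_mul_cancel_left, mul_inv_cancel, inv_mul_cancel]
  have c6y : (x * y * y * y * x) * y * (x * y * y * x * x)⁻¹ ∈ H := by
    have e : y = (x)⁻¹ * (x * y * z)⁻¹ := by
      calc y = (x)⁻¹ * (x * y * x * y * z) * (x * y * z)⁻¹ := by group
        _ = _ := by rw [h2, mul_one]
    have m := H.mul_mem (H.inv_mem c4x) (H.inv_mem (H.mul_mem (H.mul_mem c7x c3y) c4z))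
    convert m using 1
    conv_lhs => arg 1; arg 2; rw [e]
    simp only [mul_inv_rev, mul_assoc, inv_inv, one_mul, mul_one, inv_one, mul_inv_cancel_left, inv_mul_cancel_left, mul_inv_cancel, inv_mul_cancel]
  have c7z : (x * y * y * x * x) * z * (x * y * y * x * x)⁻¹ ∈ H := by
    have e : z = (z * x)⁻¹ * (x * x)⁻¹ := by
      calc z = (z * x)⁻¹ * (z * x * z * x * x) * (x * x)⁻¹ := by group
        _ = _ := by rw [hxz, mul_one]
    have m := H.mul_mem (H.inv_mem (H.mul_mem c5z c5x)) (H.inv_mem (H.mul_mem c7x c3x))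
    convert m using 1
    conv_lhs => arg 1; arg 2; rw [e]
    simp only [mul_inv_rev, mul_assoc, inv_inv, one_mul, mul_one, inv_one, mul_inv_cancel_left, inv_mul_cancel_left, mul_inv_cancel, inv_mul_cancel]
  have c6x : (x * y * y * y * x) * x * (x * y * y * y * x * x)⁻¹ ∈ H := by
    convert H.one_mem using 1; group
  have c8x : (x * y * y * y * x * x) * x * (x * y * y * y)⁻¹ ∈ H := by
    have e : x = (x * x)⁻¹ * (1)⁻¹ := by
      calc x = (x * x)⁻¹ * (x * x * x) * (1)⁻¹ := by group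
        _ = _ := by rw [h3, mul_one]
    have m := H.mul_mem (H.inv_mem (H.mul_mem c4x c6x)) (H.inv_mem H.one_mem)
    convert m using 1
    conv_lhs => arg 1; arg 2; rw [e]
    simp only [mul_inv_rev, mul_assoc, inv_inv, one_mul, mul_one, inv_one, mul_inv_cancel_left, inv_mul_cancel_left, mul_inv_cancel, inv_mul_cancel]
  have c6z : (x * y * y * y * x) * z * (x * y * y * y * x)⁻¹ ∈ H := by
    have e : z = (z * x)⁻¹ * (x * x)⁻¹ := by
      calc z = (z * x)⁻¹ * (z * x * z * x * x) * (x * x)⁻¹ := by group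
        _ = _ := by rw [hxz, mul_one]
    have m := H.mul_mem (H.inv_mem (H.mul_mem c4z c4x)) (H.inv_mem (H.mul_mem c6x c8x))
    convert m using 1
    conv_lhs => arg 1; arg 2; rw [e]
    simp only [mul_inv_rev, mul_assoc, inv_inv, one_mul, mul_one, inv_one, mul_inv_cancel_left, inv_mul_cancel_left, mul_inv_cancel, inv_mul_cancel]
  have c7y : (x * y * y * x * x) * y * (x * y * y * y * x * x)⁻¹ ∈ H := by
    have e : y = (x)⁻¹ * (x * y * z)⁻¹ := by
      calc y = (x)⁻¹ * (x * y * x * y * z) * (x * y * z)⁻¹ := by group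
        _ = _ := by rw [h2, mul_one]
    have m := H.mul_mem (H.inv_mem c5x) (H.inv_mem (H.mul_mem (H.mul_mem c8x c4y) c5z))
    convert m using 1
    conv_lhs => arg 1; arg 2; rw [e]
    simp only [mul_inv_rev, mul_assoc, inv_inv, one_mul, mul_one, inv_one, mul_inv_cancel_left, inv_mul_cancel_left, mul_inv_cancel, inv_mul_cancel]
  have c8z : (x * y * y * y * x * x) * z * (x * y * y * y * x * x)⁻¹ ∈ H := by
    have e : z = (z * x)⁻¹ * (x * x)⁻¹ := by
      calc z = (z * x)⁻¹ * (z * x * z * x * x) * (x * x)⁻¹ := by group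
        _ = _ := by rw [hxz, mul_one]
    have m := H.mul_mem (H.inv_mem (H.mul_mem c6z c6x)) (H.inv_mem (H.mul_mem c8x c4x))
    convert m using 1
    conv_lhs => arg 1; arg 2; rw [e]
    simp only [mul_inv_rev, mul_assoc, inv_inv, one_mul, mul_one, inv_one, mul_inv_cancel_left, inv_mul_cancel_left, mul_inv_cancel, inv_mul_cancel]
  have c8y : (x * y * y * y * x * x) * y * (x * y * y * y * x * x * y)⁻¹ ∈ H := by
    convert H.one_mem using 1; group
  have c9y : (x * y * y * y * x * x * y) * y * (x * y * y * y * x * x * y * y)⁻¹ ∈ H := by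
    convert H.one_mem using 1; group
  have c10y : (x * y * y * y * x * x * y * y) * y * (x * y * y * y * x)⁻¹ ∈ H := by
    have e : y = (y * y * y * y)⁻¹ * (1)⁻¹ := by
      calc y = (y * y * y * y)⁻¹ * (y * y * y * y * y) * (1)⁻¹ := by group
        _ = _ := by rw [h5, mul_one]
    have m := H.mul_mem (H.inv_mem (H.mul_mem (H.mul_mem (H.mul_mem c6y c7y) c8y) c9y)) (H.inv_mem H.one_mem)
    convert m using 1
    conv_lhs => arg 1; arg 2; rw [e]
    simp only [mul_inv_rev, mul_assoc, inv_inv, one_mul, mul_one, inv_one, mul_inv_cancel_left, inv_mul_cancel_left, mul_inv_cancel, inv_mul_cancel]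
  have c9x : (x * y * y * y * x * x * y) * x * (x * y * y * y * x * x * y * y)⁻¹ ∈ H := by
    have e : x = (x * y)⁻¹ * (y * z)⁻¹ := by
      calc x = (x * y)⁻¹ * (x * y * x * y * z) * (y * z)⁻¹ := by group
        _ = _ := by rw [h2, mul_one]
    have m := H.mul_mem (H.inv_mem (H.mul_mem c6x c8y)) (H.inv_mem (H.mul_mem c10y c6z))
    convert m using 1
    conv_lhs => arg 1; arg 2; rw [e]
    simp only [mul_inv_rev, mul_assoc, inv_inv, one_mul, mul_one, inv_one, mul_inv_cancel_left, inv_mul_cancel_left, mul_inv_cancel, inv_mul_cancel]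
  have c9z : (x * y * y * y * x * x * y) * z * (x * y * y * y * x * x * y)⁻¹ ∈ H := by
    have e : z = (z * y)⁻¹ * (y * y * y * y)⁻¹ := by
      calc z = (z * y)⁻¹ * (z * y * z * y * y * y * y) * (y * y * y * y)⁻¹ := by group
        _ = _ := by rw [hyz, mul_one]
    have m := H.mul_mem (H.inv_mem (H.mul_mem c8z c8y)) (H.inv_mem (H.mul_mem (H.mul_mem (H.mul_mem c9y c10y) c6y) c7y))
    convert m using 1
    conv_lhs => arg 1; arg 2; rw [e]
    simp only [mul_inv_rev, mul_assoc, inv_inv, one_mul, mul_one, inv_one, mul_inv_cancel_left, inv_mul_cancel_left, mul_inv_cancel, inv_mul_cancel]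
  have c10z : (x * y * y * y * x * x * y * y) * z * (x * y * y * y * x * x * y * y)⁻¹ ∈ H := by
    have e : z = (z * y)⁻¹ * (y * y * y * y)⁻¹ := by
      calc z = (z * y)⁻¹ * (z * y * z * y * y * y * y) * (y * y * y * y)⁻¹ := by group
        _ = _ := by rw [hyz, mul_one]
    have m := H.mul_mem (H.inv_mem (H.mul_mem c9z c9y)) (H.inv_mem (H.mul_mem (H.mul_mem (H.mul_mem c10y c6y) c7y) c8y))
    convert m using 1
    conv_lhs => arg 1; arg 2; rw [e]
    simp only [mul_inv_rev, mul_assoc, inv_inv, one_mul, mul_one, inv_one, mul_inv_cancel_left, inv_mul_cancel_left, mul_inv_cancel, inv_mul_cancel]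
  have c10x : (x * y * y * y * x * x * y * y) * x * (x * y * y * y * x * x * y * y * x)⁻¹ ∈ H := by
    convert H.one_mem using 1; group
  have c11x : (x * y * y * y * x * x * y * y * x) * x * (x * y * y * y * x * x * y)⁻¹ ∈ H := by
    have e : x = (x * x)⁻¹ * (1)⁻¹ := by
      calc x = (x * x)⁻¹ * (x * x * x) * (1)⁻¹ := by group
        _ = _ := by rw [h3, mul_one]
    have m := H.mul_mem (H.inv_mem (H.mul_mem c9x c10x)) (H.inv_mem H.one_mem)
    convert m using 1
    conv_lhs => arg 1; arg 2; rw [e]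
    simp only [mul_inv_rev, mul_assoc, inv_inv, one_mul, mul_one, inv_one, mul_inv_cancel_left, inv_mul_cancel_left, mul_inv_cancel, inv_mul_cancel]
  have c11z : (x * y * y * y * x * x * y * y * x) * z * (x * y * y * y * x * x * y * y * x)⁻¹ ∈ H := by
    have e : z = (z * x)⁻¹ * (x * x)⁻¹ := by
      calc z = (z * x)⁻¹ * (z * x * z * x * x) * (x * x)⁻¹ := by group
        _ = _ := by rw [hxz, mul_one]
    have m := H.mul_mem (H.inv_mem (H.mul_mem c10z c10x)) (H.inv_mem (H.mul_mem c11x c9x))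
    convert m using 1
    conv_lhs => arg 1; arg 2; rw [e]
    simp only [mul_inv_rev, mul_assoc, inv_inv, one_mul, mul_one, inv_one, mul_inv_cancel_left, inv_mul_cancel_left, mul_inv_cancel, inv_mul_cancel]
  have c11y : (x * y * y * y * x * x * y * y * x) * y * (x * y * y * y * x * x * y * y * x)⁻¹ ∈ H := by
    have e : y = (x)⁻¹ * (x * y * z)⁻¹ := by
      calc y = (x)⁻¹ * (x * y * x * y * z) * (x * y * z)⁻¹ := by group
        _ = _ := by rw [h2, mul_one]
    have m := H.mul_mem (H.inv_mem c10x) (H.inv_mem (H.mul_mem (H.mul_mem c11x c9y) c10z))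
    convert m using 1
    conv_lhs => arg 1; arg 2; rw [e]
    simp only [mul_inv_rev, mul_assoc, inv_inv, one_mul, mul_one, inv_one, mul_inv_cancel_left, inv_mul_cancel_left, mul_inv_cancel, inv_mul_cancel]
  simp only [Set.mem_insert_iff, Set.mem_singleton_iff] at hs
  rcases hs with rfl | rfl | rfl
  · fin_cases i
    · exact ⟨1, c0x⟩
    · exact ⟨2, c1x⟩
    · exact ⟨0, c2x⟩
    · exact ⟨5, c3x⟩
    · exact ⟨6, c4x⟩
    · exact ⟨7, c5x⟩
    · exact ⟨8, c6x⟩
    · exact ⟨3, c7x⟩
    · exact ⟨4, c8x⟩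
    · exact ⟨10, c9x⟩
    · exact ⟨11, c10x⟩
    · exact ⟨9, c11x⟩
  · fin_cases i
    · exact ⟨0, c0y⟩
    · exact ⟨2, c1y⟩
    · exact ⟨3, c2y⟩
    · exact ⟨4, c3y⟩
    · exact ⟨5, c4y⟩
    · exact ⟨1, c5y⟩
    · exact ⟨7, c6y⟩
    · exact ⟨8, c7y⟩
    · exact ⟨9, c8y⟩
    · exact ⟨10, c9y⟩
    · exact ⟨6, c10y⟩
    · exact ⟨11, c11y⟩
  · fin_cases i
    · exact ⟨0, c0z⟩
    · exact ⟨1, c1z⟩
    · exact ⟨2, c2z⟩
    · exact ⟨3, c3z⟩
    · exact ⟨4, c4z⟩
    · exact ⟨5, c5z⟩
    · exact ⟨6, c6z⟩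
    · exact ⟨7, c7z⟩
    · exact ⟨8, c8z⟩
    · exact ⟨9, c9z⟩
    · exact ⟨10, c10z⟩
    · exact ⟨11, c11z⟩

end CfsgLib.Recog
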