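import Mathlib
import Cfsg.Agent.Lib.Recog.CosetCover
import Cfsg.Agent.Lib.Recog.IcosahedralTable
import Cfsg.Agent.Lib.ClassK.SmallSimple

/-! The icosahedral presentations of `A₅` and `SL(2,5)`. -/

namespace CfsgLib.Recog

/-- The relators of `A₅`. -/
abbrev icoRels : Set (FreeGroup (Fin 2)) := {FreeGroup.of (0 : Fin 2) ^ 3, FreeGroup.of (1 : Fin 2) ^ 5,
        (FreeGroup.of (0 : Fin 2) * FreeGroup.of 1) ^ 2}

/-- The relators of `SL(2,5)`. -/
abbrev binIcoRels : Set (FreeGroup (Fin 3)) := {FreeGroup.of (0 : Fin 3) ^ 3, FreeGroup.of (1 : Fin 3) ^ 5, FreeGroup.of (2 : Fin 3) ^ 2,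
        (FreeGroup.of (2 : Fin 3))⁻¹ * FreeGroup.of 0 * FreeGroup.of 2 * (FreeGroup.of (0 : Fin 3))⁻¹,
        (FreeGroup.of (2 : Fin 3))⁻¹ * FreeGroup.of 1 * FreeGroup.of 2 * (FreeGroup.of (1 : Fin 3))⁻¹,
        (FreeGroup.of (0 : Fin 3) * FreeGroup.of 1) ^ 2 * (FreeGroup.of (2 : Fin 3))⁻¹}

theorem ico_bound : Finite (PresentedGroup icoRels) ∧ Nat.card (PresentedGroup icoRels) ≤ 60 := by
  classical
  set x : PresentedGroup icoRels := PresentedGroup.of 0 with hx
  set y : PresentedGroup icoRels := PresentedGroup.of 1 with hy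
  have hr : ∀ r ∈ icoRels, PresentedGroup.mk icoRels r = 1 := fun r hr => PresentedGroup.one_of_mem hr
  have h3 : x * x * x = 1 := by
    have := hr (FreeGroup.of (0 : Fin 2) ^ 3) (by simp [icoRels])
    simp only [map_pow, pow_succ, pow_zero, one_mul] at this
    exact this
  have h5 : y * y * y * y * y = 1 := by
    have := hr (FreeGroup.of (1 : Fin 2) ^ 5) (by simp [icoRels])
    simp only [map_pow, pow_succ, pow_zero, one_mul] at this
    exact this
  have h2 : x * y * x * y = 1 := by
    have := hr ((FreeGroup.of (0 : Fin 2) * FreeGroup.of 1) ^ 2) (by simp [icoRels])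
    simp only [map_pow, map_mul, pow_succ, pow_zero, one_mul, ← mul_assoc] at this
    exact this
  have hfin : IsOfFinOrder y := isOfFinOrder_iff_pow_eq_one.mpr ⟨5, by norm_num, by simp [pow_succ, h5]⟩
  haveI : Finite (Subgroup.zpowers y) := hfin.finite_zpowers.to_subtype
  have hHy : Nat.card (Subgroup.zpowers y) ≤ 5 := by
    rw [Nat.card_zpowers]
    exact Nat.le_of_dvd (by norm_num) (orderOf_dvd_of_pow_eq_one (by simp [pow_succ, h5]))
  have hS : Subgroup.closure ({x, y} : Set (PresentedGroup icoRels)) = ⊤ := by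
    rw [← PresentedGroup.closure_range_of]
    congr 1
    ext g; constructor
    · rintro (rfl | rfl) <;> exact ⟨_, rfl⟩
    · rintro ⟨i, rfl⟩; fin_cases i <;> simp [x, y]
  obtain ⟨hf, hc⟩ := coset_cover (Subgroup.zpowers y) _ (0 : Fin 12) rfl _ hS
    (by
      rintro s (rfl | rfl)
      · exact ⟨2, by simp [pow_succ, h3]⟩
      · exact ⟨4, by simp [pow_succ, h5]⟩)
    (altFive_table x y h3 h5 h2 (Subgroup.zpowers y) (Subgroup.mem_zpowers y))
  refine ⟨hf, hc.trans ?_⟩
  simp only [Nat.card_eq_fintype_card (α := Fin 12), Fintype.card_fin]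
  omega

theorem binIco_bound : Finite (PresentedGroup binIcoRels) ∧ Nat.card (PresentedGroup binIcoRels) ≤ 120 := by
  classical
  set x : PresentedGroup binIcoRels := PresentedGroup.of 0 with hx
  set y : PresentedGroup binIcoRels := PresentedGroup.of 1 with hy
  set z : PresentedGroup binIcoRels := PresentedGroup.of 2 with hz'
  have hr : ∀ r ∈ binIcoRels, PresentedGroup.mk binIcoRels r = 1 := fun r hr => PresentedGroup.one_of_mem hr
  have h3 : x * x * x = 1 := by
    have := hr (FreeGroup.of (0 : Fin 3) ^ 3) (by simp [binIcoRels])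
    simp only [map_pow, pow_succ, pow_zero, one_mul] at this
    exact this
  have h5 : y * y * y * y * y = 1 := by
    have := hr (FreeGroup.of (1 : Fin 3) ^ 5) (by simp [binIcoRels])
    simp only [map_pow, pow_succ, pow_zero, one_mul] at this
    exact this
  have hz : z * z = 1 := by
    have := hr (FreeGroup.of (2 : Fin 3) ^ 2) (by simp [binIcoRels])
    simp only [map_pow, pow_succ, pow_zero, one_mul] at this
    exact this
  have hzi : z⁻¹ = z := inv_eq_of_mul_eq_one_right hz
  have hcx : z * x * z = x := by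
    have := hr ((FreeGroup.of (2 : Fin 3))⁻¹ * FreeGroup.of 0 * FreeGroup.of 2 * (FreeGroup.of (0 : Fin 3))⁻¹) (by simp [binIcoRels])
    simp only [map_mul, map_inv] at this
    rw [mul_inv_eq_one] at this
    have h : z⁻¹ * x * z = x := this
    rwa [hzi] at h
  have hxz : z * x * z * x * x = 1 := by rw [hcx, h3]
  have hcy : z * y * z = y := by
    have := hr ((FreeGroup.of (2 : Fin 3))⁻¹ * FreeGroup.of 1 * FreeGroup.of 2 * (FreeGroup.of (1 : Fin 3))⁻¹) (by simp [binIcoRels])
    simp only [map_mul, map_inv] at this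
    rw [mul_inv_eq_one] at this
    have h : z⁻¹ * y * z = y := this
    rwa [hzi] at h
  have hyz : z * y * z * y * y * y * y = 1 := by rw [hcy, h5]
  have h2 : x * y * x * y * z = 1 := by
    have := hr ((FreeGroup.of (0 : Fin 3) * FreeGroup.of 1) ^ 2 * (FreeGroup.of (2 : Fin 3))⁻¹) (by simp [binIcoRels])
    simp only [map_pow, map_mul, map_inv, pow_succ, pow_zero, one_mul, ← mul_assoc] at this
    have h : x * y * x * y * z⁻¹ = 1 := this
    rwa [hzi] at h
  set H : Subgroup (PresentedGroup binIcoRels) := Subgroup.closure {y, z}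
  have hcyz : Commute y z := by
    change y * z = z * y
    calc y * z = (z * y * z) * z := by rw [hcy]
      _ = z * y * (z * z) := by group
      _ = z * y := by rw [hz, mul_one]
  -- H has at most ten elements
  let f : Fin 5 × Fin 2 → PresentedGroup binIcoRels := fun p => y ^ (p.1 : ℕ) * z ^ (p.2 : ℕ)
  have hH : (H : Set (PresentedGroup binIcoRels)) ⊆ Set.range f := by
    have hy5 : y ^ 5 = 1 := by simp [pow_succ, h5]
    have hz2 : z ^ 2 = 1 := by simp [pow_succ, hz]
    have hclosed : ∀ a b : ℕ, y ^ a * z ^ b ∈ Set.range f := fun a b =>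
      ⟨(⟨a % 5, Nat.mod_lt _ (by norm_num)⟩, ⟨b % 2, Nat.mod_lt _ (by norm_num)⟩), by
        simp only [f]
        rw [← pow_eq_pow_mod a hy5, ← pow_eq_pow_mod b hz2]⟩
    intro g hg
    induction hg using Subgroup.closure_induction with
    | mem g hg =>
      rcases hg with rfl | rfl
      · simpa using hclosed 1 0
      · simpa using hclosed 0 1
    | one => simpa using hclosed 0 0
    | mul a b _ _ ha hb =>
      obtain ⟨⟨a1, a2⟩, rfl⟩ := ha
      obtain ⟨⟨b1, b2⟩, rfl⟩ := hb
      have := hclosed (a1 + b1) (a2 + b2)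
      rwa [pow_add, pow_add, (hcyz.pow_pow b1 a2).symm.mul_mul_mul_comm] at *
    | inv a _ ha =>
      obtain ⟨⟨a1, a2⟩, rfl⟩ := ha
      have e : (y ^ (a1 : ℕ) * z ^ (a2 : ℕ))⁻¹ = y ^ (5 - (a1 : ℕ)) * z ^ (a2 : ℕ) := by
        apply inv_eq_of_mul_eq_one_right
        rw [(hcyz.pow_pow (5 - (a1 : ℕ)) (a2 : ℕ)).symm.mul_mul_mul_comm, ← pow_add, ← pow_add,
          show (a1 : ℕ) + (5 - a1) = 5 by omega, hy5, one_mul, ← two_mul, pow_mul, hz2, one_pow]
      simp only [f, e]
      exact hclosed _ _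
  haveI : Finite H := Set.Finite.to_subtype (Set.Finite.subset (Set.finite_range f) hH)
  have hHc : Nat.card H ≤ 10 := by
    refine (Nat.card_mono (Set.finite_range f) hH).trans ?_
    refine (Finite.card_range_le f).trans ?_
    simp
  have hS : Subgroup.closure ({x, y, z} : Set (PresentedGroup binIcoRels)) = ⊤ := by
    rw [← PresentedGroup.closure_range_of]
    congr 1
    ext g; constructor
    · rintro (rfl | rfl | rfl) <;> exact ⟨_, rfl⟩
    · rintro ⟨i, rfl⟩; fin_cases i <;> simp [x, y, z]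
  obtain ⟨hf, hc⟩ := coset_cover H _ (0 : Fin 12) rfl _ hS
    (by
      rintro s (rfl | rfl | rfl)
      · exact ⟨2, by simp [pow_succ, h3]⟩
      · exact ⟨4, by simp [pow_succ, h5]⟩
      · exact ⟨1, by simp [pow_succ, hz]⟩)
    (slTwoFive_table x y z h3 h5 hz hxz hyz h2 H (Subgroup.subset_closure (by simp)) (Subgroup.subset_closure (by simp)))
  refine ⟨hf, hc.trans ?_⟩
  simp only [Nat.card_eq_fintype_card (α := Fin 12), Fintype.card_fin]
  omega

/-- The generators of `A₅`. -/
def icoGen : Fin 2 → alternatingGroup (Fin 5) :=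
  ![⟨Equiv.swap 0 1 * Equiv.swap 1 2, Equiv.Perm.mem_alternatingGroup.mpr (by decide)⟩,
    ⟨finRotate 5 * finRotate 5, Equiv.Perm.mem_alternatingGroup.mpr (by decide)⟩]

theorem ico_rels_hold : ∀ r ∈ icoRels, FreeGroup.lift icoGen r = 1 := by
  rintro r (rfl | rfl | rfl) <;> simp only [map_pow, map_mul, FreeGroup.lift_apply_of] <;> decide +kernel

theorem ico_hom_surjective : Function.Surjective (PresentedGroup.toGroup ico_rels_hold) := by
  haveI : Fact (Nat.Prime 2) := ⟨Nat.prime_two⟩
  haveI := alternatingGroup.isSimpleGroup (α := Fin 5) (by simp)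
  set φ := PresentedGroup.toGroup ico_rels_hold
  have h60 : Nat.card (alternatingGroup (Fin 5)) = 60 := by
    rw [nat_card_alternatingGroup]; simp [Nat.card_eq_fintype_card, Nat.factorial]
  have hmem : ∀ i, icoGen i ∈ φ.range := fun i => ⟨PresentedGroup.of i, PresentedGroup.toGroup.of ico_rels_hold⟩
  have h2 : 2 ∣ Nat.card φ.range := by
    have h : orderOf (icoGen 0 * icoGen 1) = 2 := orderOf_eq_prime (by decide +kernel) (by decide +kernel)
    exact (dvd_of_eq h.symm).trans (Subgroup.orderOf_dvd_natCard _ (φ.range.mul_mem (hmem 0) (hmem 1)))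
  have h3 : 3 ∣ Nat.card φ.range := by
    haveI : Fact (Nat.Prime 3) := ⟨Nat.prime_three⟩
    have h : orderOf (icoGen 0) = 3 := orderOf_eq_prime (by decide +kernel) (by decide +kernel)
    exact (dvd_of_eq h.symm).trans (Subgroup.orderOf_dvd_natCard _ (hmem 0))
  have h5 : 5 ∣ Nat.card φ.range := by
    haveI : Fact (Nat.Prime 5) := ⟨by decide +kernel⟩
    have h : orderOf (icoGen 1) = 5 := orderOf_eq_prime (by decide +kernel) (by decide +kernel)
    exact (dvd_of_eq h.symm).trans (Subgroup.orderOf_dvd_natCard _ (hmem 1))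
  have h30 : 30 ∣ Nat.card φ.range := by omega
  have hd := Subgroup.card_subgroup_dvd_card φ.range
  have hidx := Subgroup.index_mul_card φ.range
  rw [h60] at hd hidx
  rw [← MonoidHom.range_eq_top]
  by_contra hne
  have hne60 : Nat.card φ.range ≠ 60 := fun h => hne (Subgroup.eq_top_of_card_eq _ (h.trans h60.symm))
  obtain ⟨c, hc⟩ := h30
  have hc2 : c ≤ 2 := by have := Nat.le_of_dvd (by norm_num) hd; omega
  have hi2 : φ.range.index = 2 := by
    rw [hc] at hidx hne60
    interval_cases c <;> omega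
  haveI : φ.range.Normal := Subgroup.normal_of_index_eq_two hi2
  rcases (inferInstance : φ.range.Normal).eq_bot_or_eq_top with h | h
  · rw [h, Subgroup.card_bot] at hc; omega
  · exact hne h

theorem ico_equiv : Nonempty (PresentedGroup icoRels ≃* alternatingGroup (Fin 5)) := by
  obtain ⟨hf, hc⟩ := ico_bound
  refine ⟨MulEquiv.ofBijective _ ((Nat.bijective_iff_surjective_and_card _).mpr ⟨ico_hom_surjective, ?_⟩)⟩
  have h60 : Nat.card (alternatingGroup (Fin 5)) = 60 := by
    rw [nat_card_alternatingGroup]; simp [Nat.card_eq_fintype_card, Nat.factorial]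
  have := Nat.card_le_card_of_surjective _ ico_hom_surjective
  omega

/-- The generators of `SL(2,5)`. -/
def binIcoGen : Fin 3 → Matrix.SpecialLinearGroup (Fin 2) (ZMod 5) :=
  ![⟨!![0, -1; 1, -1], by decide⟩, ⟨!![1, 1; 0, 1], by decide⟩, ⟨!![-1, 0; 0, -1], by decide⟩]

theorem binIco_rels_hold : ∀ r ∈ binIcoRels, FreeGroup.lift binIcoGen r = 1 := by
  rintro r (rfl | rfl | rfl | rfl | rfl | rfl) <;>
    simp only [map_pow, map_mul, map_inv, FreeGroup.lift_apply_of] <;> decide +kernel

theorem natCard_slTwoFive : Nat.card (Matrix.SpecialLinearGroup (Fin 2) (ZMod 5)) = 120 := by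
  rw [Nat.card_eq_fintype_card]
  decide +kernel

theorem zmodFive_sq_eq_one : ∀ b : ZMod 5, b ^ 2 = 1 → b = 1 ∨ b = -1 := by decide

theorem scalar_neg_one_five : Matrix.scalar (Fin 2) (-1 : ZMod 5) = ↑(binIcoGen 2) := by decide

theorem binIco_hom_surjective : Function.Surjective (PresentedGroup.toGroup binIco_rels_hold) := by
  haveI : Fact (Nat.Prime 2) := ⟨Nat.prime_two⟩
  haveI : Fact (Nat.Prime 5) := ⟨by decide +kernel⟩
  haveI := CfsgLib.ClassK.isSimpleGroup_psl_two (F := ZMod 5) (by simp)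
  set φ := PresentedGroup.toGroup binIco_rels_hold
  set R := φ.range
  have hmem : ∀ i, binIcoGen i ∈ R := fun i => ⟨PresentedGroup.of i, PresentedGroup.toGroup.of binIco_rels_hold⟩
  have h3 : 3 ∣ Nat.card R := by
    haveI : Fact (Nat.Prime 3) := ⟨Nat.prime_three⟩
    have h : orderOf (binIcoGen 0) = 3 := orderOf_eq_prime (by decide +kernel) (by decide +kernel)
    exact (dvd_of_eq h.symm).trans (Subgroup.orderOf_dvd_natCard _ (hmem 0))
  have h5 : 5 ∣ Nat.card R := by
    have h : orderOf (binIcoGen 1) = 5 := orderOf_eq_prime (by decide +kernel) (by decide +kernel)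
    exact (dvd_of_eq h.symm).trans (Subgroup.orderOf_dvd_natCard _ (hmem 1))
  have h4 : 4 ∣ Nat.card R := by
    have h : orderOf (binIcoGen 0 * binIcoGen 1) = 4 :=
      orderOf_eq_prime_pow (p := 2) (n := 1) (by decide +kernel) (by decide +kernel)
    exact (dvd_of_eq h.symm).trans (Subgroup.orderOf_dvd_natCard _ (R.mul_mem (hmem 0) (hmem 1)))
  have h60 : 60 ∣ Nat.card R := by omega
  have hd := Subgroup.card_subgroup_dvd_card R
  rw [natCard_slTwoFive] at hd
  rw [← MonoidHom.range_eq_top]
  by_contra hne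
  have hidx := Subgroup.index_mul_card R
  rw [natCard_slTwoFive] at hidx
  obtain ⟨c, hc⟩ := h60
  have hne120 : Nat.card R ≠ 120 := fun h => hne (Subgroup.eq_top_of_card_eq _ (h.trans natCard_slTwoFive.symm))
  have hc2 : c ≤ 2 := by have := Nat.le_of_dvd (by norm_num) hd; omega
  have hpos : 0 < Nat.card R := Nat.card_pos
  have hi2 : R.index = 2 := by
    rw [hc] at hidx hne120 hpos
    interval_cases c <;> omega
  haveI : R.Normal := Subgroup.normal_of_index_eq_two hi2
  -- its image in PSL(2,5) is normal, so trivial or everything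
  let Zc := Subgroup.center (Matrix.SpecialLinearGroup (Fin 2) (ZMod 5))
  have hzR : Zc ≤ R := by
    intro g hg
    rw [Matrix.SpecialLinearGroup.mem_center_iff] at hg
    obtain ⟨a, ha, hag⟩ := hg
    have : a = 1 ∨ a = -1 := by
      rw [Fintype.card_fin] at ha
      exact zmodFive_sq_eq_one a ha
    rcases this with rfl | rfl
    · have : g = 1 := Subtype.ext (by rw [← hag]; simp)
      rw [this]; exact R.one_mem
    · have : g = binIcoGen 2 := Subtype.ext (hag.symm.trans scalar_neg_one_five)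
      rw [this]; exact hmem 2
  have hn : (R.map (QuotientGroup.mk' Zc)).Normal := (inferInstance : R.Normal).map _ (QuotientGroup.mk'_surjective _)
  rcases IsSimpleGroup.eq_bot_or_eq_top_of_normal (R.map (QuotientGroup.mk' Zc)) hn with h | h
  · have hle : R ≤ Zc := fun g hg => (QuotientGroup.eq_one_iff g).mp ((Subgroup.eq_bot_iff_forall _).mp h _ ⟨g, hg, rfl⟩)
    have h1 := hle (hmem 1)
    rw [Subgroup.mem_center_iff] at h1
    exact absurd (h1 (binIcoGen 0)) (by decide +kernel)
  · apply hne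
    rw [Subgroup.eq_top_iff']
    intro g
    obtain ⟨r, hr, hre⟩ : QuotientGroup.mk' Zc g ∈ R.map (QuotientGroup.mk' Zc) := h ▸ Subgroup.mem_top _
    rw [QuotientGroup.mk'_eq_mk'] at hre
    obtain ⟨c, hc, rfl⟩ := hre
    exact R.mul_mem hr (hzR hc)

theorem binIco_equiv : Nonempty (PresentedGroup binIcoRels ≃* Matrix.SpecialLinearGroup (Fin 2) (ZMod 5)) := by
  obtain ⟨hf, hc⟩ := binIco_bound
  refine ⟨MulEquiv.ofBijective _ ((Nat.bijective_iff_surjective_and_card _).mpr ⟨binIco_hom_surjective, ?_⟩)⟩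
  have := Nat.card_le_card_of_surjective _ binIco_hom_surjective
  have := natCard_slTwoFive
  omega

end CfsgLib.Recog
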