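import Mathlib
import Cfsg.Prelude.Def_Sz

/-!
No non-trivial element of odd order of `Sz(F)` fixes a non-zero vector of the natural module.
-/

set_option autoImplicit false
set_option linter.unusedSectionVars false

namespace CfsgLib.Recog.Suz

open Matrix Cfsg.Lie
open scoped MatrixGroups

variable {F : Type*} [Field F] [CharP F 2]

theorem pairOf_zero : pairOf 0 = (0, 1) := rfl
theorem pairOf_one : pairOf 1 = (0, 2) := rfl
theorem pairOf_two : pairOf 2 = (1, 3) := rfl
theorem pairOf_three : pairOf 3 = (2, 3) := rfl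

/-- The form as a matrix. -/
def jMat (F : Type*) [Field F] : Matrix (Fin 4) (Fin 4) F :=
  !![0, 0, 0, 1; 0, 0, 1, 0; 0, 1, 0, 0; 1, 0, 0, 0]

/-- Isometry of the form. -/
def IsSymp (A : Matrix (Fin 4) (Fin 4) F) : Prop :=
  ∀ u v, altForm4 (A *ᵥ u) (A *ᵥ v) = altForm4 u v

omit [CharP F 2] in
theorem altForm4_cols {A : Matrix (Fin 4) (Fin 4) F} (h : IsSymp A) (i j : Fin 4) :
    A 0 i * A 3 j + A 1 i * A 2 j + A 2 i * A 1 j + A 3 i * A 0 j = jMat F i j := by
  have := h (Pi.single i 1) (Pi.single j 1)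
  simp only [altForm4, Matrix.mulVec_single_one, Matrix.col_apply] at this
  rw [this]
  fin_cases i <;> fin_cases j <;> simp [jMat]

theorem IsSymp.mul {A B : Matrix (Fin 4) (Fin 4) F} (hA : IsSymp A) (hB : IsSymp B) :
    IsSymp (A * B) := fun u v => by
  rw [← Matrix.mulVec_mulVec, ← Matrix.mulVec_mulVec]
  exact (hA _ _).trans (hB u v)

omit [CharP F 2] in
theorem jMat_sq : jMat F * jMat F = 1 := by
  ext i j; fin_cases i <;> fin_cases j <;> simp [jMat, Matrix.mul_apply, Fin.sum_univ_four]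

omit [CharP F 2] in
theorem isSymp_transpose {A : Matrix (Fin 4) (Fin 4) F} (h : IsSymp A) :
    A * jMat F * Aᵀ = jMat F := by
  have h1 : Aᵀ * jMat F * A = jMat F := by
    ext i j
    rw [← altForm4_cols h i j]
    simp [jMat, Matrix.mul_apply, Fin.sum_univ_four]
    ring
  have h2 : jMat F * Aᵀ * jMat F * A = 1 := by
    rw [Matrix.mul_assoc (jMat F) Aᵀ, Matrix.mul_assoc (jMat F), h1, jMat_sq]
  have h3 : A * (jMat F * Aᵀ * jMat F) = 1 := mul_eq_one_comm.mp h2
  calc A * jMat F * Aᵀ = A * (jMat F * Aᵀ * (jMat F * jMat F)) := by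
        rw [jMat_sq, Matrix.mul_one, Matrix.mul_assoc]
    _ = A * (jMat F * Aᵀ * jMat F) * jMat F := by simp only [Matrix.mul_assoc]
    _ = jMat F := by rw [h3, Matrix.one_mul]

theorem star4_mul {A B : Matrix (Fin 4) (Fin 4) F} (hA : IsSymp A) (hB : IsSymp B) :
    star4 (A * B) = star4 A * star4 B := by
  have hc := altForm4_cols hB
  have hr : ∀ i j : Fin 4,
      A i 0 * A j 3 + A i 1 * A j 2 + A i 2 * A j 1 + A i 3 * A j 0 = jMat F i j := by
    intro i j
    have := congrFun (congrFun (isSymp_transpose hA) i) j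
    rw [← this]
    simp [jMat, Matrix.mul_apply, Fin.sum_univ_four]
    ring
  have key : ∀ k l i j : Fin 4, jMat F k l = 0 → jMat F i j = 0 →
      (A * B) k i * (A * B) l j - (A * B) l i * (A * B) k j =
      (A k 0 * A l 1 - A l 0 * A k 1) * (B 0 i * B 1 j - B 1 i * B 0 j) +
      (A k 0 * A l 2 - A l 0 * A k 2) * (B 0 i * B 2 j - B 2 i * B 0 j) +
      (A k 1 * A l 3 - A l 1 * A k 3) * (B 1 i * B 3 j - B 3 i * B 1 j) +
      (A k 2 * A l 3 - A l 2 * A k 3) * (B 2 i * B 3 j - B 3 i * B 2 j) := by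
    intro k l i j hkl hij
    have h1 := hr k l
    have h2 := hc i j
    rw [hkl] at h1
    rw [hij] at h2
    simp only [Matrix.mul_apply, Fin.sum_univ_four, CharTwo.sub_eq_add]
    linear_combination (B 0 i * B 3 j + B 3 i * B 0 j) * h1 + (A k 1 * A l 2 + A k 2 * A l 1) * h2
      + (-(A k 1 * A l 2 * B 0 i * B 3 j) - A k 1 * A l 2 * B 3 i * B 0 j
        - A k 2 * A l 1 * B 0 i * B 3 j - A k 2 * A l 1 * B 3 i * B 0 j
        + A k 0 * A l 0 * B 0 i * B 0 j + A k 1 * A l 1 * B 1 i * B 1 j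
        + A k 2 * A l 2 * B 2 i * B 2 j + A k 3 * A l 3 * B 3 i * B 3 j) * (CharTwo.two_eq_zero (R := F))
  ext p r
  simp only [star4, Matrix.of_apply]
  rw [key _ _ _ _ (by fin_cases p <;> simp [pairOf, jMat]) (by fin_cases r <;> simp [pairOf, jMat]),
    Matrix.mul_apply, Fin.sum_univ_four]
  simp [pairOf]

theorem isSymp_of_mem {g : GL (Fin 4) F} (h : g ∈ Sp4 F) : IsSymp (g : Matrix (Fin 4) (Fin 4) F) := h

theorem star4_one : star4 (1 : Matrix (Fin 4) (Fin 4) F) = 1 := by
  ext i j; fin_cases i <;> fin_cases j <;>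
    simp [star4, Matrix.one_apply, pairOf_zero, pairOf_one, pairOf_two, pairOf_three]

theorem mem_Sp4_and_star {m e : ℕ} (he : e = 2 ^ m) {g : GL (Fin 4) F} (h : g ∈ Sz F e) :
    g ∈ Sp4 F ∧ star4 (g : Matrix (Fin 4) (Fin 4) F) =
      (g : Matrix (Fin 4) (Fin 4) F).map (fun x => x ^ e) := by
  subst he
  let θ : F →+* F := iterateFrobenius F 2 m
  have hθ : (fun x : F => x ^ 2 ^ m) = θ := by funext x; simp [θ, iterateFrobenius_def]
  rw [hθ]
  induction h using Subgroup.closure_induction with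
  | mem x hx => rw [← hθ]; exact hx
  | one =>
    refine ⟨one_mem _, ?_⟩
    rw [Units.val_one, star4_one]
    exact (map_one θ.mapMatrix).symm
  | mul x y _ _ hx hy =>
    refine ⟨mul_mem hx.1 hy.1, ?_⟩
    rw [Units.val_mul, star4_mul (isSymp_of_mem hx.1) (isSymp_of_mem hy.1), hx.2, hy.2]
    exact (map_mul θ.mapMatrix _ _).symm
  | inv x _ hx =>
    refine ⟨inv_mem hx.1, ?_⟩
    have h1 := star4_mul (isSymp_of_mem (inv_mem hx.1)) (isSymp_of_mem hx.1)
    rw [← Units.val_mul, inv_mul_cancel, Units.val_one, star4_one, hx.2] at h1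
    have h2 : θ.mapMatrix (↑x⁻¹) * θ.mapMatrix (x : Matrix (Fin 4) (Fin 4) F) = 1 := by
      rw [← map_mul, ← Units.val_mul, inv_mul_cancel, Units.val_one, map_one]
    have h3 : IsUnit (θ.mapMatrix (x : Matrix (Fin 4) (Fin 4) F)) := x.isUnit.map _
    exact h3.mul_right_cancel (h1.symm.trans h2.symm)

/-- The middle block of a symplectic matrix fixing the first and last basis vectors. -/
theorem star4_block (a b c d : F) :
    Matrix.trace (star4 !![1, 0, 0, 0; 0, a, b, 0; 0, c, d, 0; 0, 0, 0, 1]) = 0 := by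
  simp [Matrix.trace, Fin.sum_univ_four, star4, pairOf, CharTwo.sub_eq_add]
  linear_combination (a + d) * (CharTwo.two_eq_zero (R := F))

theorem eq_one_of_fixes {m e : ℕ} (he : e = 2 ^ m) {g : GL (Fin 4) F} (hg : g ∈ Sz F e)
    {n : ℕ} (hn : Odd n) (hgn : g ^ n = 1) {v : Fin 4 → F} (hv : v ≠ 0)
    (hfix : (g : Matrix (Fin 4) (Fin 4) F) *ᵥ v = v) : g = 1 := by
  obtain ⟨hSp, hstar⟩ := mem_Sp4_and_star he hg
  have hsy : IsSymp (g : Matrix (Fin 4) (Fin 4) F) := hSp
  have hself : ∀ u : Fin 4 → F, altForm4 u u = 0 := fun u => by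
    simp only [altForm4]
    linear_combination (u 0 * u 3 + u 1 * u 2) * (CharTwo.two_eq_zero (R := F))
  have hsymm : ∀ u z : Fin 4 → F, altForm4 u z = altForm4 z u := fun u z => by
    simp only [altForm4]; ring
  have hadd : ∀ u z z' : Fin 4 → F, altForm4 u (z + z') = altForm4 u z + altForm4 u z' :=
    fun u z z' => by simp only [altForm4, Pi.add_apply]; ring
  have hsmul : ∀ (t : F) (u z : Fin 4 → F), altForm4 u (t • z) = t * altForm4 u z :=
    fun t u z => by simp only [altForm4, Pi.smul_apply, smul_eq_mul]; ring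
  have hnd : ∀ u : Fin 4 → F, u ≠ 0 → ∃ z, altForm4 u z = 1 := by
    intro u hu
    obtain ⟨i, hi⟩ := Function.ne_iff.mp hu
    refine ⟨(u i)⁻¹ • Pi.single (3 - i) 1, ?_⟩
    rw [hsmul]
    have : altForm4 u (Pi.single (3 - i) 1) = u i := by
      fin_cases i <;> simp [altForm4]
    rw [this, inv_mul_cancel₀ hi]
  -- a fixed partner of `v`
  obtain ⟨w₀, hw₀⟩ := hnd v hv
  set G := (g : Matrix (Fin 4) (Fin 4) F)
  set w : Fin 4 → F := ∑ i ∈ Finset.range n, (G ^ i) *ᵥ w₀ with hw
  have hGn : G ^ n = 1 := by rw [← Units.val_pow_eq_pow_val, hgn, Units.val_one]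
  have hwfix : G *ᵥ w = w := by
    have h1 := Finset.sum_range_succ (fun i => (G ^ i) *ᵥ w₀) n
    have h2 := Finset.sum_range_succ' (fun i => (G ^ i) *ᵥ w₀) n
    rw [h2, hGn, pow_zero] at h1
    rw [hw, Matrix.mulVec_sum]
    simp only [Matrix.mulVec_mulVec, ← pow_succ']
    exact add_right_cancel h1
  have hvw : altForm4 v w = 1 := by
    have hpow : ∀ i : ℕ, altForm4 v ((G ^ i) *ᵥ w₀) = 1 := by
      intro i
      induction i with
      | zero => rw [pow_zero, Matrix.one_mulVec, hw₀]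
      | succ i ih => rw [pow_succ', ← Matrix.mulVec_mulVec, ← hfix, hsy, ih]
    let L : (Fin 4 → F) →+ F := AddMonoidHom.mk' (altForm4 v) (hadd v)
    change L w = 1
    rw [hw, map_sum, Finset.sum_congr rfl (fun i _ => show L ((G ^ i) *ᵥ w₀) = 1 from hpow i), Finset.sum_const, Finset.card_range]
    obtain ⟨j, rfl⟩ := hn
    rw [nsmul_one]
    push_cast
    linear_combination (j : F) * (CharTwo.two_eq_zero (R := F))
  -- a hyperbolic basis
  obtain ⟨u₁, hu₁, hu₁v, hu₁w⟩ : ∃ u : Fin 4 → F, u ≠ 0 ∧ altForm4 v u = 0 ∧ altForm4 w u = 0 := by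
    let Φ : (Fin 4 → F) →ₗ[F] (Fin 2 → F) :=
      { toFun := fun u => ![altForm4 v u, altForm4 w u]
        map_add' := fun u z => by funext i; fin_cases i <;> simp [hadd]
        map_smul' := fun t u => by funext i; fin_cases i <;> simp [hsmul] }
    have hk : LinearMap.ker Φ ≠ ⊥ := by
      intro hk
      have h1 := LinearMap.finrank_le_finrank_of_injective (LinearMap.ker_eq_bot.mp hk)
      simp at h1
    obtain ⟨u, hu, hu0⟩ := Submodule.exists_mem_ne_zero_of_ne_bot hk
    exact ⟨u, hu0, congrFun hu 0, congrFun hu 1⟩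
  obtain ⟨z, hz⟩ := hnd u₁ hu₁
  set u₂ := z + altForm4 w z • v + altForm4 v z • w with hu₂
  have h12 : altForm4 u₁ u₂ = 1 := by
    rw [hu₂, hadd, hadd, hsmul, hsmul, hz, hsymm u₁ v, hu₁v, hsymm u₁ w, hu₁w]; ring
  have hv2 : altForm4 v u₂ = 0 := by
    rw [hu₂, hadd, hadd, hsmul, hsmul, hself, hvw]
    linear_combination (altForm4 v z) * (CharTwo.two_eq_zero (R := F))
  have hw2 : altForm4 w u₂ = 0 := by
    rw [hu₂, hadd, hadd, hsmul, hsmul, hself, hsymm w v, hvw]
    linear_combination (altForm4 w z) * (CharTwo.two_eq_zero (R := F))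
  let P : Matrix (Fin 4) (Fin 4) F := Matrix.of fun i j => (![v, u₁, u₂, w] j) i
  have hP : Pᵀ * jMat F * P = jMat F := by
    ext i j
    have e : (Pᵀ * jMat F * P) i j = altForm4 (![v, u₁, u₂, w] i) (![v, u₁, u₂, w] j) := by
      simp [P, jMat, Matrix.mul_apply, Fin.sum_univ_four, altForm4]; ring
    rw [e]
    fin_cases i <;> fin_cases j <;>
      simp [jMat, hself, hvw, hu₁v, hu₁w, hv2, hw2, h12, hsymm u₁ v, hsymm u₁ w, hsymm w v,
        hsymm u₂ v, hsymm u₂ w, hsymm u₂ u₁]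
  have hPsy : IsSymp P := by
    have hf : ∀ u z : Fin 4 → F, altForm4 u z = dotProduct u (jMat F *ᵥ z) := by
      intro u z
      simp [altForm4, jMat, Matrix.mulVec, dotProduct, Fin.sum_univ_four]
    intro u z
    rw [hf, hf, Matrix.mulVec_mulVec, ← Matrix.vecMul_transpose, ← Matrix.dotProduct_mulVec,
      Matrix.mulVec_mulVec, ← Matrix.mul_assoc, hP]
  set Q := jMat F * Pᵀ * jMat F with hQ
  have hQP : Q * P = 1 := by
    rw [hQ, Matrix.mul_assoc (jMat F) Pᵀ, Matrix.mul_assoc (jMat F), hP, jMat_sq]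
  have hPQ : P * Q = 1 := mul_eq_one_comm.mp hQP
  have hQsy : IsSymp Q := by
    intro u z
    rw [← hPsy, Matrix.mulVec_mulVec, Matrix.mulVec_mulVec, hPQ, Matrix.one_mulVec,
      Matrix.one_mulVec]
  set D := Q * G * P with hD
  have hDsy : IsSymp D := (hQsy.mul hsy).mul hPsy
  have hG : G = P * D * Q := by
    rw [hD]
    calc G = (P * Q) * G * (P * Q) := by rw [hPQ, Matrix.one_mul, Matrix.mul_one]
      _ = P * (Q * G * P) * Q := by simp only [Matrix.mul_assoc]
  have hcol : ∀ j : Fin 4, j = 0 ∨ j = 3 → D *ᵥ Pi.single j 1 = Pi.single j 1 := by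
    intro j hj
    have h1 : P *ᵥ Pi.single j 1 = ![v, u₁, u₂, w] j := by
      funext i; simp [P]
    rw [hD, ← Matrix.mulVec_mulVec, h1, ← Matrix.mulVec_mulVec,
      show G *ᵥ ![v, u₁, u₂, w] j = ![v, u₁, u₂, w] j by
        rcases hj with rfl | rfl
        · exact hfix
        · exact hwfix,
      ← h1, Matrix.mulVec_mulVec, hQP, Matrix.one_mulVec]
  have e0 : ∀ i, D i 0 = if i = 0 then 1 else 0 := fun i => by
    have := congrFun (hcol 0 (Or.inl rfl)) i
    rw [Matrix.mulVec_single_one] at this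
    simpa [Pi.single_apply] using this
  have e3 : ∀ i, D i 3 = if i = 3 then 1 else 0 := fun i => by
    have := congrFun (hcol 3 (Or.inr rfl)) i
    rw [Matrix.mulVec_single_one] at this
    simpa [Pi.single_apply] using this
  have r0 : D 0 1 = 0 ∧ D 0 2 = 0 ∧ D 3 1 = 0 ∧ D 3 2 = 0 := by
    have a1 := altForm4_cols hDsy 0 1
    have a2 := altForm4_cols hDsy 0 2
    have b1 := altForm4_cols hDsy 3 1
    have b2 := altForm4_cols hDsy 3 2
    simp [e0, e3, jMat] at a1 a2 b1 b2
    exact ⟨b1, b2, a1, a2⟩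
  have hdet : D 1 1 * D 2 2 + D 2 1 * D 1 2 = 1 := by
    have := altForm4_cols hDsy 1 2
    simpa [r0, jMat] using this
  have hDeq : D = !![1, 0, 0, 0; 0, D 1 1, D 1 2, 0; 0, D 2 1, D 2 2, 0; 0, 0, 0, 1] := by
    ext i j
    fin_cases i <;> fin_cases j <;> simp [e0, e3, r0]
  -- the trace of `g` vanishes
  have htrD : D 1 1 + D 2 2 = 0 := by
    have h1 : star4 G = star4 P * star4 D * star4 Q := by
      have hPDsy : IsSymp (P * D) := hPsy.mul hDsy
      rw [hG, star4_mul hPDsy hQsy, star4_mul hPsy hDsy]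
    have h2 : Matrix.trace (star4 G) = 0 := by
      rw [h1, Matrix.trace_mul_cycle, ← star4_mul hQsy hPsy, hQP, star4_one, Matrix.one_mul, hDeq]
      exact star4_block _ _ _ _
    rw [hstar] at h2
    have h3 : Matrix.trace G = 0 := by
      subst he
      have h4 : (Matrix.trace G) ^ 2 ^ m = 0 := by
        rw [← h2]
        simp only [Matrix.trace, Matrix.diag, Matrix.map_apply]
        exact map_sum (iterateFrobenius F 2 m) (fun i => G i i) Finset.univ
      exact pow_eq_zero_iff (by positivity) |>.mp h4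
    rw [hG, Matrix.trace_mul_cycle, hQP, Matrix.one_mul, hDeq] at h3
    simp [Matrix.trace, Fin.sum_univ_four] at h3
    linear_combination h3 - (CharTwo.two_eq_zero (R := F))
  have hD2 : D * D = 1 := by
    rw [hDeq]
    have h22 : D 2 2 = D 1 1 := by
      linear_combination htrD - (D 1 1) * (CharTwo.two_eq_zero (R := F))
    rw [h22] at hdet
    ext i j
    fin_cases i <;> fin_cases j <;>
      simp [Matrix.mul_apply, Fin.sum_univ_four, h22] <;>
      first
        | linear_combination hdet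
        | linear_combination (D 1 1 * D 1 2) * (CharTwo.two_eq_zero (R := F))
        | linear_combination (D 1 1 * D 2 1) * (CharTwo.two_eq_zero (R := F))
  have hg2 : g ^ 2 = 1 := by
    apply Units.ext
    rw [Units.val_pow_eq_pow_val, Units.val_one, sq]
    calc G * G = P * D * ((Q * P) * D) * Q := by rw [hG]; simp only [Matrix.mul_assoc]
      _ = P * (D * D) * Q := by rw [hQP, Matrix.one_mul, Matrix.mul_assoc P D D]
      _ = 1 := by rw [hD2, Matrix.mul_one, hPQ]
  have := pow_gcd_eq_one.mpr ⟨hg2, hgn⟩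
  rwa [show Nat.gcd 2 n = 1 from Nat.coprime_two_left.mpr hn, pow_one] at this

end CfsgLib.Recog.Suz
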