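import Cfsg.Agent.Lib.Recog.PlaneThirteenTable
import Cfsg.Agent.Lib.Classical.SLOrder
import Mathlib.LinearAlgebra.Matrix.ProjectiveSpecialLinearGroup
import Mathlib.GroupTheory.Perm.Cycle.Type
import Mathlib.Algebra.Field.ZMod

/-!
# A group of order 5616 acting on a plane of order three is `PSL(3, 3)`
-/

set_option autoImplicit false
set_option linter.unusedSectionVars false
set_option linter.unusedSimpArgs false

namespace CfsgLib.Recog.PlaneThirteen

open Equiv Finset

local instance : Fact (Nat.Prime 13) := ⟨by norm_num⟩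
local instance : Fact (Nat.Prime 3) := ⟨Nat.prime_three⟩

/-- The collineations. -/
def collGroup : Subgroup (Perm (ZMod 13)) where
  carrier := {σ | ∀ a b c, coll (σ a) (σ b) (σ c) = coll a b c}
  one_mem' := fun _ _ _ => rfl
  mul_mem' := fun {σ τ} hσ hτ a b c => by
    rw [Perm.mul_apply, Perm.mul_apply, Perm.mul_apply, hσ, hτ]
  inv_mem' := fun {σ} hσ a b c => by
    rw [← hσ (σ⁻¹ a) (σ⁻¹ b) (σ⁻¹ c), Perm.coe_inv, Equiv.apply_symm_apply,
      Equiv.apply_symm_apply, Equiv.apply_symm_apply]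

theorem eq_one_of_frame {σ : Perm (ZMod 13)} (hσ : σ ∈ collGroup) (h0 : σ 0 = 0) (h1 : σ 1 = 1)
    (h2 : σ 2 = 2) (h5 : σ 5 = 5) : σ = 1 := by
  have step : ∀ (n : Fin 9) (a b c d p : ZMod 13),
      steps.getD n.val (0, 0, 0, 0, 0) = (a, b, c, d, p) → σ a = a → σ b = b → σ c = c →
      σ d = d → σ p = p := by
    intro n a b c d p hn e1 e2 e3 e4
    have h := steps_ok n
    simp only [hn] at h
    obtain ⟨c1, c2, c3⟩ := h
    refine c3 _ ?_ ?_
    · have := hσ a b p
      rwa [e1, e2, c1] at this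
    · have := hσ c d p
      rwa [e3, e4, c2] at this
  have h3 := step 0 0 1 2 5 3 rfl h0 h1 h2 h5
  have h8 := step 1 0 2 1 5 8 rfl h0 h2 h1 h5
  have h4 := step 2 0 5 1 2 4 rfl h0 h5 h1 h2
  have h9 := step 3 0 1 8 4 9 rfl h0 h1 h8 h4
  have h12 := step 4 0 2 5 9 12 rfl h0 h2 h5 h9
  have h7 := step 5 0 5 1 12 7 rfl h0 h5 h1 h12
  have h10 := step 6 1 2 5 9 10 rfl h1 h2 h5 h9
  have h6 := step 7 0 10 1 5 6 rfl h0 h10 h1 h5
  have h11 := step 8 0 10 1 12 11 rfl h0 h10 h1 h12
  ext i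
  rw [Perm.one_apply]
  fin_cases i <;> assumption

theorem card_collGroup_le : Nat.card collGroup ≤ 5616 := by
  classical
  let φ : collGroup → {q : ZMod 13 × ZMod 13 × ZMod 13 × ZMod 13 // q ∈ frames} := fun σ =>
    ⟨((σ : Perm (ZMod 13)) 0, (σ : Perm (ZMod 13)) 1, (σ : Perm (ZMod 13)) 2,
      (σ : Perm (ZMod 13)) 5), by
      obtain ⟨f1, f2, f3, f4⟩ := frame0
      exact mem_frames (fun h => absurd ((σ : Perm (ZMod 13)).injective h) (by decide))
        ((σ.2 0 1 2).trans f1) ((σ.2 0 1 5).trans f2) ((σ.2 0 2 5).trans f3)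
        ((σ.2 1 2 5).trans f4)⟩
  have hφ : Function.Injective φ := by
    intro σ τ h
    simp only [φ, Subtype.mk.injEq, Prod.mk.injEq] at h
    have h' := eq_one_of_frame (τ⁻¹ * σ).2 (σ := ((τ : Perm (ZMod 13))⁻¹ * σ))
      (by rw [Perm.mul_apply, h.1, Perm.coe_inv, Equiv.symm_apply_apply])
      (by rw [Perm.mul_apply, h.2.1, Perm.coe_inv, Equiv.symm_apply_apply])
      (by rw [Perm.mul_apply, h.2.2.1, Perm.coe_inv, Equiv.symm_apply_apply])
      (by rw [Perm.mul_apply, h.2.2.2, Perm.coe_inv, Equiv.symm_apply_apply])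
    exact (Subtype.ext (inv_mul_eq_one.1 h')).symm
  refine (Nat.card_le_card_of_injective φ hφ).trans ?_
  rw [Nat.card_eq_fintype_card, ← frames_length]
  calc Fintype.card {q // q ∈ frames}
      ≤ frames.toFinset.card := by
        rw [Fintype.card_subtype]
        exact card_le_card fun q hq => List.mem_toFinset.2 (mem_filter.1 hq).2
    _ ≤ frames.length := List.toFinset_card_le _

/-- The action of a matrix on triples. -/
def apM (M : Matrix (Fin 3) (Fin 3) (ZMod 3)) (v : ZMod 3 × ZMod 3 × ZMod 3) :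
    ZMod 3 × ZMod 3 × ZMod 3 :=
  (M 0 0 * v.1 + M 0 1 * v.2.1 + M 0 2 * v.2.2, M 1 0 * v.1 + M 1 1 * v.2.1 + M 1 2 * v.2.2,
    M 2 0 * v.1 + M 2 1 * v.2.1 + M 2 2 * v.2.2)

/-- Scaling. -/
def smV (s : ZMod 3) (v : ZMod 3 × ZMod 3 × ZMod 3) : ZMod 3 × ZMod 3 × ZMod 3 :=
  (s * v.1, s * v.2.1, s * v.2.2)

theorem apM_mul (M N : Matrix (Fin 3) (Fin 3) (ZMod 3)) (v : ZMod 3 × ZMod 3 × ZMod 3) :
    apM (M * N) v = apM M (apM N v) := by
  simp only [apM, Matrix.mul_apply, Fin.sum_univ_three, Prod.mk.injEq]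
  exact ⟨by ring, by ring, by ring⟩

theorem apM_smV (M : Matrix (Fin 3) (Fin 3) (ZMod 3)) (s : ZMod 3)
    (v : ZMod 3 × ZMod 3 × ZMod 3) : apM M (smV s v) = smV s (apM M v) := by
  simp only [apM, smV, Prod.mk.injEq]
  exact ⟨by ring, by ring, by ring⟩

theorem apM_one (v : ZMod 3 × ZMod 3 × ZMod 3) : apM 1 v = v := by
  simp [apM, Matrix.one_apply]

theorem det3_apM (M : Matrix (Fin 3) (Fin 3) (ZMod 3)) (u v w : ZMod 3 × ZMod 3 × ZMod 3) :
    det3 (apM M u) (apM M v) (apM M w) = M.det * det3 u v w := by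
  simp only [det3, apM, Matrix.det_fin_three]
  ring

theorem det3_smV (r s q : ZMod 3) (u v w : ZMod 3 × ZMod 3 × ZMod 3) :
    det3 (smV r u) (smV s v) (smV q w) = r * s * q * det3 u v w := by
  simp only [det3, smV]
  ring

theorem exists_image (g : Matrix.SpecialLinearGroup (Fin 3) (ZMod 3)) (i : ZMod 13) :
    ∃ j, ∃ s : ZMod 3, s ≠ 0 ∧
      apM (g : Matrix (Fin 3) (Fin 3) (ZMod 3)) (vec i) = smV s (vec j) := by
  refine vec_cover _ fun h => vec_ne i ?_
  have := congrArg (apM ((g⁻¹ : Matrix.SpecialLinearGroup (Fin 3) (ZMod 3)) :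
    Matrix (Fin 3) (Fin 3) (ZMod 3))) h
  rw [← apM_mul, ← Matrix.SpecialLinearGroup.coe_mul, inv_mul_cancel,
    Matrix.SpecialLinearGroup.coe_one, apM_one] at this
  rw [this]
  simp [apM]

/-- The image of a point. -/
noncomputable def img (g : Matrix.SpecialLinearGroup (Fin 3) (ZMod 3)) (i : ZMod 13) : ZMod 13 :=
  (exists_image g i).choose

theorem img_spec (g : Matrix.SpecialLinearGroup (Fin 3) (ZMod 3)) (i : ZMod 13) :
    ∃ s : ZMod 3, s ≠ 0 ∧
      apM (g : Matrix (Fin 3) (Fin 3) (ZMod 3)) (vec i) = smV s (vec (img g i)) :=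
  (exists_image g i).choose_spec

theorem eq_img {g : Matrix.SpecialLinearGroup (Fin 3) (ZMod 3)} {i j : ZMod 13} {s : ZMod 3}
    (h : apM (g : Matrix (Fin 3) (Fin 3) (ZMod 3)) (vec i) = smV s (vec j)) : img g i = j := by
  obtain ⟨r, hr, e⟩ := img_spec g i
  rw [h] at e
  refine vec_inj _ _ (s / r) ?_
  simp only [smV, Prod.mk.injEq] at e
  simp only [Prod.mk.injEq]
  obtain ⟨e1, e2, e3⟩ := e
  refine ⟨?_, ?_, ?_⟩ <;> field_simp
  · rw [mul_comm, ← e1, mul_comm]
  · rw [mul_comm, ← e2, mul_comm]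
  · rw [mul_comm, ← e3, mul_comm]

theorem img_mul (g h : Matrix.SpecialLinearGroup (Fin 3) (ZMod 3)) (i : ZMod 13) :
    img (g * h) i = img g (img h i) := by
  obtain ⟨r, -, e1⟩ := img_spec h i
  obtain ⟨s, -, e2⟩ := img_spec g (img h i)
  refine eq_img (s := r * s) ?_
  rw [Matrix.SpecialLinearGroup.coe_mul, apM_mul, e1, apM_smV, e2]
  simp only [smV, mul_assoc]

theorem img_one (i : ZMod 13) : img 1 i = i :=
  eq_img (s := 1) (by rw [Matrix.SpecialLinearGroup.coe_one, apM_one]; simp [smV])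

/-- The permutation representation. -/
noncomputable def slPerm : Matrix.SpecialLinearGroup (Fin 3) (ZMod 3) →* Perm (ZMod 13) where
  toFun g := ⟨img g, img g⁻¹, fun i => by rw [← img_mul, inv_mul_cancel, img_one],
    fun i => by rw [← img_mul, mul_inv_cancel, img_one]⟩
  map_one' := Equiv.ext img_one
  map_mul' g h := Equiv.ext (img_mul g h)

theorem slPerm_mem (g : Matrix.SpecialLinearGroup (Fin 3) (ZMod 3)) : slPerm g ∈ collGroup := by
  intro a b c
  obtain ⟨r, hr, ea⟩ := img_spec g a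
  obtain ⟨s, hs, eb⟩ := img_spec g b
  obtain ⟨q, hq, ec⟩ := img_spec g c
  rw [Bool.eq_iff_iff, coll_det, coll_det]
  show det3 (vec (img g a)) (vec (img g b)) (vec (img g c)) = 0 ↔ _
  have e := det3_apM (g : Matrix (Fin 3) (Fin 3) (ZMod 3)) (vec a) (vec b) (vec c)
  rw [ea, eb, ec, det3_smV, g.2, one_mul] at e
  rw [← e, mul_eq_zero]
  simp [hr, hs, hq]

theorem slPerm_injective : Function.Injective slPerm := by
  refine (injective_iff_map_eq_one _).2 fun g hg => ?_
  have hfix : ∀ i, ∃ s : ZMod 3,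
      apM (g : Matrix (Fin 3) (Fin 3) (ZMod 3)) (vec i) = smV s (vec i) := fun i => by
    obtain ⟨s, -, e⟩ := img_spec g i
    have h : img g i = i := Equiv.congr_fun hg i
    exact ⟨s, by rw [h] at e; exact e⟩
  obtain ⟨r, e0⟩ := hfix 0
  obtain ⟨s, e1⟩ := hfix 10
  obtain ⟨q, e2⟩ := hfix 7
  obtain ⟨k, e3⟩ := hfix 9
  obtain ⟨b0, b1, b2, b3⟩ := vec_basis
  rw [b0] at e0; rw [b1] at e1; rw [b2] at e2; rw [b3] at e3
  simp only [apM, smV, mul_one, mul_zero, add_zero, zero_add, Prod.mk.injEq] at e0 e1 e2 e3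
  obtain ⟨x0, x1, x2⟩ := e0
  obtain ⟨y0, y1, y2⟩ := e1
  obtain ⟨z0, z1, z2⟩ := e2
  rw [x0, y0, z0, x1, y1, z1, x2, y2, z2] at e3
  simp only [add_zero, zero_add] at e3
  obtain ⟨k0, k1, k2⟩ := e3
  have hd := g.2
  rw [Matrix.det_fin_three, x0, y0, z0, x1, y1, z1, x2, y2, z2, k0, k1, k2] at hd
  have hk : k = 1 := by
    revert hd
    generalize k = a
    revert a
    decide
  ext i j
  fin_cases i <;> fin_cases j <;>
    simp [x0, y0, z0, x1, y1, z1, x2, y2, z2, k0, k1, k2, hk, Matrix.one_apply]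

theorem card_psl_three {F : Type*} [Field F] [Fintype F] (hF : Fintype.card F = 3) :
    Nat.card (Matrix.ProjectiveSpecialLinearGroup (Fin 3) F) = 5616 := by
  classical
  have h := CfsgLib.Classical.card_psl_mul (F := F) (n := 3) (by norm_num)
  rw [hF, Fin.prod_univ_three] at h
  norm_num at h
  rw [Nat.card_eq_fintype_card]
  omega

theorem card_sl : Nat.card (Matrix.SpecialLinearGroup (Fin 3) (ZMod 3)) = 5616 ∧
    Subgroup.center (Matrix.SpecialLinearGroup (Fin 3) (ZMod 3)) = ⊥ := by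
  have hc : Subgroup.center (Matrix.SpecialLinearGroup (Fin 3) (ZMod 3)) = ⊥ := by
    rw [eq_bot_iff]
    intro A hA
    rw [Matrix.SpecialLinearGroup.mem_center_iff] at hA
    obtain ⟨r, hr, hA⟩ := hA
    have h1 : r = 1 := by
      revert hr
      generalize r = a
      revert a
      decide
    subst h1
    rw [Subgroup.mem_bot]
    refine Subtype.ext (hA.symm.trans ?_)
    simp
  refine ⟨?_, hc⟩
  rw [← Nat.card_congr ((QuotientGroup.quotientMulEquivOfEq hc).trans
    QuotientGroup.quotientBot).toEquiv]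
  exact card_psl_three (ZMod.card 3)

/-- A group of order 5616 faithful on a plane with 13 points is `PSL(3, 3)`. -/
theorem equiv_psl {G : Type*} [Group G] [Finite G] (hcard : Nat.card G = 5616) {Ω : Type*}
    [Fintype Ω] [DecidableEq Ω] (ρ : G →* Perm Ω) (hρ : Function.Injective ρ)
    (hΩ : Fintype.card Ω = 13) (L : Finset (Finset Ω)) (hL : L.card = 13)
    (h4 : ∀ l ∈ L, l.card = 4) (hpair : ∀ a b, a ≠ b → ∃ l ∈ L, a ∈ l ∧ b ∈ l)
    (hinv : ∀ g, ∀ l ∈ L, l.image (ρ g) ∈ L) :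
    Nonempty (G ≃* Matrix.ProjectiveSpecialLinearGroup (Fin 3) (ZMod 3)) := by
  classical
  obtain ⟨x, hx⟩ := exists_prime_orderOf_dvd_card' (G := G) 13 (by rw [hcard]; norm_num)
  obtain ⟨σ, eσ⟩ : ∃ σ, σ = ρ x := ⟨_, rfl⟩
  have hσ : orderOf σ = 13 := by rw [eσ, orderOf_injective ρ hρ, hx]
  have hcyc : σ.IsCycle := Perm.isCycle_of_prime_order'' (by rw [hΩ]; norm_num) (by rw [hσ, hΩ])
  have hsupp : σ.support = univ := by
    refine eq_univ_of_card _ ?_
    rw [← hcyc.orderOf, hσ, hΩ]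
  obtain ⟨a⟩ : Nonempty Ω := Fintype.card_pos_iff.1 (by omega)
  have hmove : σ a ≠ a := Perm.mem_support.1 (by rw [hsupp]; exact mem_univ a)
  have hpow : ∀ n : ℕ, (σ ^ n) a = (σ ^ (n % 13)) a := fun n => by rw [← hσ, pow_mod_orderOf]
  obtain ⟨φ, hφdef⟩ : ∃ φ : ZMod 13 → Ω, ∀ n : ℕ, φ n = (σ ^ n) a :=
    ⟨fun i => (σ ^ i.val) a, fun n => by
      show (σ ^ ((n : ZMod 13)).val) a = _
      rw [ZMod.val_natCast, ← hpow]⟩
  have hφv : ∀ i, φ i = (σ ^ i.val) a := fun i => by
    rw [← hφdef, ZMod.natCast_zmod_val]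
  have hφadd : ∀ (i : ZMod 13) (n : ℕ), φ (i + n) = (σ ^ n) (φ i) := fun i n => by
    rw [hφv i, ← Perm.mul_apply, ← pow_add, ← hφdef, Nat.cast_add, ZMod.natCast_zmod_val, add_comm]
  have hφinj : Function.Injective φ := by
    have key : ∀ p q : ℕ, p ≤ q → q < 13 → (σ ^ p) a = (σ ^ q) a → p = q := by
      intro p q hpq hq h
      have h1 : (σ ^ (q - p)) a = a := (σ ^ p).injective (by
        rw [← Perm.mul_apply, ← pow_add, Nat.add_sub_cancel' hpq, h])
      have h2 : σ ^ (q - p) = 1 := hcyc.pow_eq_one_iff.2 ⟨a, hmove, h1⟩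
      have h3 := orderOf_dvd_of_pow_eq_one h2
      rw [hσ] at h3
      have := Nat.eq_zero_of_dvd_of_lt h3 (by omega)
      omega
    intro i j h
    rw [hφv, hφv] at h
    refine ZMod.val_injective 13 ?_
    rcases le_total i.val j.val with h' | h'
    · exact key _ _ h' (ZMod.val_lt j) h
    · exact (key _ _ h' (ZMod.val_lt i) h.symm).symm
  have hφ : Function.Bijective φ :=
    (Fintype.bijective_iff_injective_and_card φ).2 ⟨hφinj, by rw [ZMod.card, hΩ]⟩
  obtain ⟨l₀, hl₀⟩ := card_pos.1 (show 0 < L.card by omega)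
  obtain ⟨D, eD⟩ : ∃ D, D = univ.filter fun i => φ i ∈ l₀ := ⟨_, rfl⟩
  have hDl : D.image φ = l₀ := by
    ext p
    obtain ⟨i, rfl⟩ := hφ.2 p
    simp [eD, hφinj.eq_iff]
  have hD4 : D.card = 4 := by rw [← card_image_of_injective D hφinj, hDl, h4 _ hl₀]
  have hline : ∀ k : ZMod 13, (D.image fun i => φ (i + k)) ∈ L := by
    intro k
    have := hinv (x ^ k.val) l₀ hl₀
    rw [← hDl, image_image, map_pow, ← eσ] at this
    convert this using 1
    refine image_congr fun i _ => ?_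
    rw [Function.comp_apply, ← hφadd, ZMod.natCast_zmod_val]
  have hdist : Function.Injective fun k : ZMod 13 => D.image fun i => φ (i + k) := by
    intro k k' h
    by_contra hne
    have hst : ∀ i ∈ D, i + (k - k') ∈ D := by
      intro i hi
      have : φ (i + k) ∈ D.image fun i => φ (i + k') := by
        have h' : (D.image fun i => φ (i + k)) = D.image fun i => φ (i + k') := h
        rw [← h']
        exact mem_image_of_mem _ hi
      obtain ⟨j, hj, e⟩ := mem_image.1 this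
      rw [show i + (k - k') = j by linear_combination (hφinj e).symm]
      exact hj
    obtain ⟨d, hd⟩ := card_pos.1 (show 0 < D.card by omega)
    have hall : ∀ n : ℕ, d + n * (k - k') ∈ D := fun n => by
      induction n with
      | zero => simpa using hd
      | succ n ih => rw [Nat.cast_succ, add_mul, one_mul, ← add_assoc]; exact hst _ ih
    have : (univ : Finset (ZMod 13)) ⊆ D := fun i _ => by
      have h' := hall ((i - d) / (k - k')).val
      rw [ZMod.natCast_zmod_val, div_mul_cancel₀ _ (sub_ne_zero.2 hne)] at h'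
      simpa using h'
    have := card_le_card this
    rw [card_univ, ZMod.card] at this
    omega
  have hLeq : univ.image (fun k : ZMod 13 => D.image fun i => φ (i + k)) = L :=
    eq_of_subset_of_card_le (fun l hl => by
      obtain ⟨k, -, rfl⟩ := mem_image.1 hl
      exact hline k) (by rw [card_image_of_injective _ hdist, card_univ, ZMod.card, hL])
  have hplanar : ∀ j : ZMod 13, j ≠ 0 → ∃ d ∈ D, d + j ∈ D := by
    intro j hj
    obtain ⟨l, hl, h0, h1⟩ := hpair (φ 0) (φ j) (hφinj.ne hj.symm)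
    rw [← hLeq] at hl
    obtain ⟨k, -, rfl⟩ := mem_image.1 hl
    obtain ⟨d, hd, ed⟩ := mem_image.1 h0
    obtain ⟨d', hd', ed'⟩ := mem_image.1 h1
    refine ⟨d, hd, ?_⟩
    rw [show d + j = d' by linear_combination (hφinj ed) - (hφinj ed')]
    exact hd'
  obtain ⟨m, c, hm, hDaff⟩ : ∃ m c : ZMod 13, m ≠ 0 ∧ D = D0.image fun x => m * x + c := by
    obtain ⟨a₀, ha₀, ha₁⟩ := hplanar 1 one_ne_zero
    obtain ⟨D', eD'⟩ : ∃ D', D' = (D.image fun x => x - a₀) := ⟨_, rfl⟩
    have hD' : D'.card = 4 := by rw [eD', card_image_of_injective _ (sub_left_injective), hD4]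
    have h0 : (0 : ZMod 13) ∈ D' := by rw [eD']; exact mem_image.2 ⟨a₀, ha₀, sub_self _⟩
    have h1 : (1 : ZMod 13) ∈ D' := by rw [eD']; exact mem_image.2 ⟨_, ha₁, by ring⟩
    have hrest : ((D'.erase 0).erase 1).card = 2 := by
      rw [card_erase_of_mem (mem_erase.2 ⟨one_ne_zero, h1⟩), card_erase_of_mem h0, hD']
    obtain ⟨u, v, -, huv⟩ := card_eq_two.1 hrest
    have hmem : ∀ x, x ∈ D' ↔ x ∈ ([0, 1, u, v] : List (ZMod 13)) := by
      intro x
      have hx := Finset.ext_iff.1 huv x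
      simp only [mem_erase, mem_insert, mem_singleton] at hx
      simp only [List.mem_cons, List.not_mem_nil, or_false]
      by_cases e0 : x = 0
      · simp [e0, h0]
      by_cases e1 : x = 1
      · simp [e1, h1]
      simpa [e0, e1] using hx
    obtain ⟨m, n, e, hmn, hsub⟩ := planar_affine u v fun j hj => by
      obtain ⟨d, hd, hdj⟩ := hplanar j hj
      refine ⟨d - a₀, (hmem _).1 ?_, (hmem _).1 ?_⟩ <;> rw [eD']
      · exact mem_image_of_mem _ hd
      · exact mem_image.2 ⟨_, hdj, by ring⟩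
    have hm : m ≠ 0 := left_ne_zero_of_mul_eq_one hmn
    refine ⟨m, e + a₀, hm, eq_of_subset_of_card_le (fun x hx => ?_) ?_⟩
    · have := hsub (x - a₀) ((hmem _).1 (by rw [eD']; exact mem_image_of_mem _ hx))
      refine mem_image.2 ⟨_, this, ?_⟩
      linear_combination (x - a₀ - e) * hmn
    · rw [hD4]
      exact card_image_le.trans (by decide)
  have hψ : Function.Bijective fun i => φ (m * i + c) :=
    hφ.comp (((Equiv.addRight c).bijective).comp (mulLeft_bijective₀ m hm))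
  let ψ : ZMod 13 ≃ Ω := Equiv.ofBijective _ hψ
  have hcollψ : ∀ p q r, coll p q r = true ↔ ∃ l ∈ L, ψ p ∈ l ∧ ψ q ∈ l ∧ ψ r ∈ l := by
    intro p q r
    rw [coll_iff]
    have hmem : ∀ k i, ψ i ∈ D.image (fun j => φ (j + k)) ↔ i - k / m ∈ D0 := by
      intro k i
      show φ (m * i + c) ∈ _ ↔ _
      rw [hDaff, image_image, mem_image]
      constructor
      · rintro ⟨d, hd, e⟩
        rw [show i - k / m = d by
          have := hφinj e
          field_simp
          linear_combination -this]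
        exact hd
      · intro h
        refine ⟨_, h, congrArg φ ?_⟩
        field_simp
        ring
    constructor
    · rintro ⟨i, h1, h2, h3⟩
      refine ⟨_, hline (i * m), ?_, ?_, ?_⟩ <;> rw [hmem, mul_div_cancel_right₀ _ hm] <;> assumption
    · rintro ⟨l, hl, h1, h2, h3⟩
      rw [← hLeq] at hl
      obtain ⟨k, -, rfl⟩ := mem_image.1 hl
      rw [hmem] at h1 h2 h3
      exact ⟨_, h1, h2, h3⟩
  have hfwd : ∀ g p q r, coll p q r = true →
      coll (ψ.symm.permCongr (ρ g) p) (ψ.symm.permCongr (ρ g) q) (ψ.symm.permCongr (ρ g) r) =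
        true := by
    intro g p q r h
    rw [hcollψ] at h ⊢
    obtain ⟨l, hl, h1, h2, h3⟩ := h
    refine ⟨_, hinv g l hl, ?_, ?_, ?_⟩ <;>
      simp only [Equiv.permCongr_apply, Equiv.symm_symm, Equiv.apply_symm_apply] <;>
      exact mem_image_of_mem _ (by assumption)
  let τ : G →* collGroup := MonoidHom.codRestrict
    ((ψ.symm.permCongrHom.toMonoidHom).comp ρ) collGroup (fun g p q r => by
      show coll (ψ.symm.permCongr (ρ g) p) (ψ.symm.permCongr (ρ g) q)
        (ψ.symm.permCongr (ρ g) r) = _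
      rw [Bool.eq_iff_iff]
      refine ⟨fun h => ?_, hfwd g p q r⟩
      have := hfwd g⁻¹ _ _ _ h
      simpa [Equiv.permCongr_apply, map_inv] using this)
  have hτ : Function.Injective τ := fun g h e =>
    hρ (ψ.symm.permCongrHom.injective (congrArg Subtype.val e))
  obtain ⟨hSL, hcen⟩ := card_sl
  let κ : Matrix.SpecialLinearGroup (Fin 3) (ZMod 3) →* collGroup :=
    slPerm.codRestrict collGroup slPerm_mem
  have hκ : Function.Injective κ := fun g h e => slPerm_injective (congrArg Subtype.val e)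
  have hA : Nat.card collGroup = 5616 := le_antisymm card_collGroup_le
    (by rw [← hSL]; exact Nat.card_le_card_of_injective κ hκ)
  have b1 : Function.Bijective τ := (Nat.bijective_iff_injective_and_card τ).2 ⟨hτ, by rw [hA, hcard]⟩
  have b2 : Function.Bijective κ := (Nat.bijective_iff_injective_and_card κ).2 ⟨hκ, by rw [hA, hSL]⟩
  exact ⟨((MulEquiv.ofBijective τ b1).trans (MulEquiv.ofBijective κ b2).symm).trans
    ((QuotientGroup.quotientMulEquivOfEq hcen).trans QuotientGroup.quotientBot).symm⟩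

end CfsgLib.Recog.PlaneThirteen
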