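import Cfsg.Agent.Lib.Recog.LThreePairs
import Cfsg.Agent.Lib.Recog.PlaneThirteen

/-!
# The projective plane of a simple group of order 5616
-/

set_option autoImplicit false
set_option linter.unusedSectionVars false

namespace CfsgLib.Recog.LThreeOrder

open Subgroup

universe u

local notation "Cen[" x "]" => Subgroup.centralizer ({x} : Set _)

variable {G : Type u} [Group G] [Finite G] {t : G} (hG : Hyp G t)
include hG

theorem exists_cent : ∃ s : G, Cent s := by
  have : Fact (Nat.Prime 3) := ⟨Nat.prime_three⟩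
  obtain ⟨a, ha⟩ := exists_prime_orderOf_dvd_card' (G := Cen[t]) 3
    (by rw [hG.card_cen]; norm_num)
  exact ⟨a, by rw [Subgroup.orderOf_coe, ha], t, hG.two, (mem_cen.1 a.2).symm⟩

theorem gen_isE {E : Subgroup G} (hE : IsE E) {b d : G} (hb : b ∈ E) (hb1 : b ≠ 1) (hd : d ∈ E)
    (hdb : d ∉ zpowers b) : zpowers b ⊔ zpowers d = E := by
  refine Subgroup.eq_of_le_of_card_ge (sup_le (zpowers_le.2 hb) (zpowers_le.2 hd)) ?_
  have hlt : 3 < Nat.card ↥(zpowers b ⊔ zpowers d) := by
    by_contra hle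
    push Not at hle
    have heq := Subgroup.eq_of_le_of_card_ge (le_sup_left : zpowers b ≤ zpowers b ⊔ zpowers d)
      (by rw [Nat.card_zpowers, (hE.2 b hb hb1).1]; exact hle)
    exact hdb (heq ▸ mem_sup_right (mem_zpowers d))
  have hd' := Subgroup.card_dvd_of_le (sup_le (zpowers_le.2 hb) (zpowers_le.2 hd))
  rw [hE.1] at hd' ⊢
  have : Nat.card ↥(zpowers b ⊔ zpowers d) ∈ Nat.divisors 9 :=
    Nat.mem_divisors.2 ⟨hd', by norm_num⟩
  rw [show Nat.divisors 9 = {1, 3, 9} by decide] at this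
  simp only [Finset.mem_insert, Finset.mem_singleton] at this
  omega

/-- Two members of one class sharing an element coincide. -/
theorem class_unique {E : Subgroup G} (hE : IsE E) {g h x : G}
    (hx1 : x ≠ 1) (hxg : x ∈ E.map (MulAut.conj g).toMonoidHom)
    (hxh : x ∈ E.map (MulAut.conj h).toMonoidHom) :
    E.map (MulAut.conj g).toMonoidHom = E.map (MulAut.conj h).toMonoidHom := by
  obtain ⟨a, ha, ea⟩ := hxg
  obtain ⟨b, hb, eb⟩ := hxh
  simp only [MulEquiv.coe_toMonoidHom, MulAut.conj_apply] at ea eb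
  have ha1 : a ≠ 1 := fun e => hx1 (by rw [← ea, e]; group)
  have hb1 : b ≠ 1 := fun e => hx1 (by rw [← eb, e]; group)
  obtain ⟨n, hn, hnb⟩ := exists_map hG hE ha ha1 hb hb1
  have hk : g⁻¹ * h * n ∈ Subgroup.normalizer (E : Set G) := cen_le_normalizer hG hE ha ha1 (by
    rw [mem_cen]
    calc g⁻¹ * h * n * a = g⁻¹ * (h * (n * a * n⁻¹) * h⁻¹) * h * n := by group
      _ = g⁻¹ * (g * a * g⁻¹) * h * n := by rw [hnb, eb, ← ea]
      _ = a * (g⁻¹ * h * n) := by group)
  have hgh : g⁻¹ * h ∈ Subgroup.normalizer (E : Set G) := by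
    have := Subgroup.mul_mem _ hk (inv_mem hn)
    rwa [mul_inv_cancel_right] at this
  ext y
  simp only [Subgroup.mem_map, MulEquiv.coe_toMonoidHom, MulAut.conj_apply]
  constructor
  · rintro ⟨c, hc, rfl⟩
    refine ⟨(g⁻¹ * h)⁻¹ * c * ((g⁻¹ * h)⁻¹)⁻¹,
      (Subgroup.mem_normalizer_iff.1 (inv_mem hgh) c).1 hc, ?_⟩
    group
  · rintro ⟨c, hc, rfl⟩
    refine ⟨g⁻¹ * h * c * (g⁻¹ * h)⁻¹, (Subgroup.mem_normalizer_iff.1 hgh c).1 hc, ?_⟩
    group

theorem card_cent : Nat.card {x : G // Cent x} = 104 := by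
  obtain ⟨s, hs⟩ := exists_cent hG
  have h := (Cen[s]).index_mul_card
  rw [hG.card, card_cen_54 hG hs] at h
  have h104 : (Cen[s]).index = 104 := by omega
  rw [← h104, ← Nat.card_congr
    { toFun := fun x : {x : G // IsConj s x} => (⟨x.1, by
        obtain ⟨g, hg⟩ := isConj_iff.1 x.2
        exact hg ▸ hs.conj g⟩ : {x : G // Cent x})
      invFun := fun x => ⟨x.1, cent_conj hG hs x.2⟩
      left_inv := fun _ => rfl
      right_inv := fun _ => rfl }]
  rw [Subgroup.index_eq_card]
  refine (Nat.card_congr (Equiv.ofBijective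
    (Quotient.lift (fun g : G => (⟨g * s * g⁻¹, isConj_iff.2 ⟨g, rfl⟩⟩ : {x : G // IsConj s x}))
      ?_) ⟨?_, ?_⟩)).symm
  · intro a b hab
    have h := mem_cen.1 (QuotientGroup.leftRel_apply.1 hab)
    refine Subtype.ext ?_
    show a * s * a⁻¹ = b * s * b⁻¹
    calc a * s * a⁻¹ = a * (s * (a⁻¹ * b)) * b⁻¹ := by group
      _ = a * (a⁻¹ * b * s) * b⁻¹ := by rw [h]
      _ = b * s * b⁻¹ := by group
  · intro p q
    induction p using Quotient.inductionOn with | h a => ?_
    induction q using Quotient.inductionOn with | h b => ?_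
    intro e
    have e' : a * s * a⁻¹ = b * s * b⁻¹ := congrArg Subtype.val e
    refine Quotient.sound (QuotientGroup.leftRel_apply.2 (mem_cen.2 ?_))
    calc a⁻¹ * b * s = a⁻¹ * (b * s * b⁻¹) * b := by group
      _ = a⁻¹ * (a * s * a⁻¹) * b := by rw [e']
      _ = s * (a⁻¹ * b) := by group
  · rintro ⟨x, hx⟩
    obtain ⟨g, hg⟩ := isConj_iff.1 hx
    exact ⟨Quotient.mk'' g, Subtype.ext hg⟩

/-- Central elements commuting with a given one. -/
theorem card_commuting {s : G} (hs : Cent s) :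
    Nat.card {x : G // Cent x ∧ x * s = s * x} % 9 = 5 := by
  classical
  have := Fintype.ofFinite G
  obtain ⟨P, hsP, hPs, -, -⟩ := exists_syl hG hs
  let _ : MulAction (P : Subgroup G) {x : G // Cent x ∧ ¬ x * s = s * x} :=
    { smul := fun a x => ⟨(a : G) * x.1 * (a : G)⁻¹, x.2.1.conj _, fun h => x.2.2 (by
        have ha := mem_cen.1 (hPs a.2)
        calc x.1 * s = (a : G)⁻¹ * ((a : G) * x.1 * (a : G)⁻¹ * ((a : G) * s)) := by group
          _ = (a : G)⁻¹ * ((a : G) * x.1 * (a : G)⁻¹ * s * (a : G)) := by rw [ha]; group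
          _ = (a : G)⁻¹ * (s * ((a : G) * x.1 * (a : G)⁻¹) * (a : G)) := by rw [h]
          _ = (a : G)⁻¹ * (s * (a : G)) * x.1 := by group
          _ = (a : G)⁻¹ * ((a : G) * s) * x.1 := by rw [ha]
          _ = s * x.1 := by group)⟩
      one_smul := fun x => Subtype.ext (by show (1 : G) * x.1 * (1 : G)⁻¹ = _; group)
      mul_smul := fun a b x => Subtype.ext (by
        show ((a : G) * b) * x.1 * ((a : G) * b)⁻¹ = (a : G) * ((b : G) * x.1 * (b : G)⁻¹) * (a : G)⁻¹
        group) }
  have h9 : 9 ∣ Nat.card {x : G // Cent x ∧ ¬ x * s = s * x} := by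
    refine dvd_card_of_orbits (X := (P : Subgroup G)) fun x => ?_
    obtain ⟨A, eA⟩ : ∃ A, A = (MulAction.stabilizer (P : Subgroup G) x).map
      (P : Subgroup G).subtype := ⟨_, rfl⟩
    have hAP : A ≤ (P : Subgroup G) := eA ▸ Subgroup.map_subtype_le _
    have hAx : ∀ a ∈ A, a * x.1 = x.1 * a := by
      intro a ha
      rw [eA] at ha
      obtain ⟨a', ha', rfl⟩ := ha
      have h : (a' : G) * x.1 * (a' : G)⁻¹ = x.1 := congrArg Subtype.val ha'
      calc (a' : G) * x.1 = (a' : G) * x.1 * (a' : G)⁻¹ * a' := by group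
        _ = x.1 * (a' : G) := by rw [h]
    have hcard : Nat.card A = Nat.card (MulAction.stabilizer (P : Subgroup G) x) := by
      rw [eA, Subgroup.card_map_of_injective (P : Subgroup G).subtype_injective]
    have hsA : s ∉ A := fun h => x.2.2 (hAx s h).symm
    have hm := card_mem hG hAP
    simp only [Finset.mem_insert, Finset.mem_singleton] at hm
    have hidx := (MulAction.stabilizer (P : Subgroup G) x).index_mul_card
    rw [sylow_card hG P, ← hcard] at hidx
    rcases hm with e | e | e | e <;> rw [e] at hidx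
    · exact ⟨3, by omega⟩
    · exact ⟨1, by omega⟩
    · exfalso
      obtain ⟨B, eB⟩ : ∃ B, B = A ⊔ zpowers s := ⟨_, rfl⟩
      have hBP : B ≤ (P : Subgroup G) := eB ▸ sup_le hAP (zpowers_le.2 hsP)
      have hlt : 9 < Nat.card B := by
        by_contra hle
        push Not at hle
        have heq : A = B := Subgroup.eq_of_le_of_card_ge (eB ▸ le_sup_left) (by rw [e]; exact hle)
        exact hsA (heq ▸ (eB ▸ mem_sup_right (mem_zpowers s) : s ∈ B))
      have hmB := card_mem hG hBP
      simp only [Finset.mem_insert, Finset.mem_singleton] at hmB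
      have heqP : B = (P : Subgroup G) :=
        Subgroup.eq_of_le_of_card_ge hBP (by rw [sylow_card hG P]; omega)
      have hcomm : B ≤ Subgroup.centralizer (B : Set G) := by
        have hA : A ≤ Subgroup.centralizer (B : Set G) := by
          rw [eB, Subgroup.le_centralizer_iff]
          refine sup_le (fun a ha => mem_centralizer_iff.2 fun b hb =>
            comm_of_abelian_nine hG e hb ha) (zpowers_le.2 ?_)
          exact mem_centralizer_iff.2 fun b hb => mem_cen.1 (hPs (hAP hb))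
        have hS : zpowers s ≤ Subgroup.centralizer (B : Set G) :=
          zpowers_le.2 (mem_centralizer_iff.2 fun b hb => mem_cen.1 (hPs (hBP hb)))
        exact (le_of_eq eB).trans (sup_le hA hS)
      obtain ⟨a, ha, b, hb, hab⟩ := not_abelian hG P
      exact hab ((mem_centralizer_iff.1 (hcomm (heqP ▸ hb)) a (heqP ▸ ha)))
    · exfalso
      exact hsA ((Subgroup.eq_of_le_of_card_ge hAP (by rw [e, sylow_card hG P])).symm ▸ hsP)
  have hsum : Nat.card {x : G // Cent x ∧ x * s = s * x} +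
      Nat.card {x : G // Cent x ∧ ¬ x * s = s * x} = 104 := by
    rw [← card_cent hG, Nat.card_eq_fintype_card, Nat.card_eq_fintype_card,
      Nat.card_eq_fintype_card, Fintype.card_subtype, Fintype.card_subtype, Fintype.card_subtype,
      ← Finset.card_filter_add_card_filter_not (s := Finset.univ.filter fun x : G => Cent x)
        (fun x => x * s = s * x), Finset.filter_filter, Finset.filter_filter]
  omega

/-- Two non-conjugate members. -/
theorem exists_two : ∃ E F : Subgroup G, IsE E ∧ IsE F ∧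
    ∀ g h : G, E.map (MulAut.conj g).toMonoidHom ≠ F.map (MulAut.conj h).toMonoidHom := by
  classical
  have := Fintype.ofFinite G
  obtain ⟨s, hs⟩ := exists_cent hG
  have h5 := card_commuting hG hs
  rw [Nat.card_eq_fintype_card, Fintype.card_subtype] at h5
  have hs1 : s ≠ 1 := hs.ne_one
  obtain ⟨x, hx, hxs, hxn⟩ : ∃ x, Cent x ∧ x * s = s * x ∧ x ∉ zpowers s := by
    by_contra hall
    push Not at hall
    have : (Finset.univ.filter fun x : G => Cent x ∧ x * s = s * x) = {s, s⁻¹} := by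
      ext x
      simp only [Finset.mem_filter, Finset.mem_univ, true_and, Finset.mem_insert,
        Finset.mem_singleton]
      constructor
      · rintro ⟨h1, h2⟩
        exact (zpowers_three hs.1 (hall x h1 h2)).resolve_left h1.ne_one
      · rintro (rfl | rfl)
        exacts [⟨hs, rfl⟩, ⟨hs.inv, by simp⟩]
    rw [this, Finset.card_pair (fun e => hs1 (by
      have h := cube_eq hs.1; rw [← e] at h; exact mul_eq_left.1 h))] at h5
    norm_num at h5
  obtain ⟨E, hE, hsE, hxE⟩ := exists_isE hG hs hx hxs hxn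
  obtain ⟨F, hF, hsF, hne⟩ : ∃ F, IsE F ∧ s ∈ F ∧ F ≠ E := by
    by_contra hall
    push Not at hall
    have : (Finset.univ.filter fun x : G => Cent x ∧ x * s = s * x) =
        (Finset.univ.filter fun x : G => x ∈ E).erase 1 := by
      ext y
      simp only [Finset.mem_filter, Finset.mem_univ, true_and, Finset.mem_erase]
      constructor
      · rintro ⟨h1, h2⟩
        refine ⟨h1.ne_one, ?_⟩
        by_cases hy : y ∈ zpowers s
        · exact zpowers_le.2 hsE hy
        · obtain ⟨F, hF, hsF, hyF⟩ := exists_isE hG hs h1 h2 hy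
          exact hall F hF hsF ▸ hyF
      · rintro ⟨h1, h2⟩
        exact ⟨hE.2 y h2 h1, comm_of_abelian_nine hG hE.1 h2 hsE⟩
    rw [this, Finset.card_erase_of_mem (by simp [E.one_mem]), ← Fintype.card_subtype,
      ← Nat.card_eq_fintype_card] at h5
    change (Nat.card E - 1) % 9 = 5 at h5
    rw [hE.1] at h5
    norm_num at h5
  refine ⟨E, F, hE, hF, fun g h e => hne ?_⟩
  have hid : ∀ K : Subgroup G, K.map (MulAut.conj (1 : G)).toMonoidHom = K := fun K => by
    ext y; simp
  have hFE : F = E.map (MulAut.conj (h⁻¹ * g)).toMonoidHom := by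
    ext y
    have hy := SetLike.ext_iff.1 e (h * y * h⁻¹)
    simp only [Subgroup.mem_map, MulEquiv.coe_toMonoidHom, MulAut.conj_apply] at hy ⊢
    constructor
    · intro hyF
      obtain ⟨c, hc, ec⟩ := hy.2 ⟨y, hyF, rfl⟩
      exact ⟨c, hc, by
        calc h⁻¹ * g * c * (h⁻¹ * g)⁻¹ = h⁻¹ * (g * c * g⁻¹) * h := by group
          _ = y := by rw [ec]; group⟩
    · rintro ⟨c, hc, rfl⟩
      obtain ⟨d, hd, ed⟩ := hy.1 ⟨c, hc, by group⟩
      rwa [← show d = h⁻¹ * g * c * (h⁻¹ * g)⁻¹ by
        simpa using congrArg (fun z => h⁻¹ * z * h) ed]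
  have hu := class_unique hG hE (g := h⁻¹ * g) (h := 1) hs1
    (hFE ▸ hsF) (by rw [hid]; exact hsE)
  rw [hid] at hu
  rw [hFE, hu]

/-- Two points lie on at most one line. -/
theorem lines_unique {H H' F₁ F₂ : Subgroup G} (hH : IsE H) (hH' : IsE H') (hF₁ : IsE F₁)
    (hF₂ : IsE F₂) (hsepH : ∀ x, x ≠ 1 → x ∈ H → x ∈ H' → False)
    (hsepF : ∀ x, x ≠ 1 → x ∈ F₁ → x ∈ F₂ → False) {a b c d : G} (ha1 : a ≠ 1) (hb1 : b ≠ 1)
    (hc1 : c ≠ 1) (hd1 : d ≠ 1) (ha : a ∈ H') (hb : b ∈ H) (hc : c ∈ H') (hd : d ∈ H)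
    (ha' : a ∈ F₁) (hb' : b ∈ F₁) (hc' : c ∈ F₂) (hd' : d ∈ F₂) : False := by
  have hbd : b ∉ zpowers d := fun h => hsepF b hb1 hb' (zpowers_le.2 hd' h)
  have hdb : d ∉ zpowers b := fun h => hsepF d hd1 (zpowers_le.2 hb' h) hd'
  have hnot : ∀ p : G, p ≠ 1 → p ∈ H' → p * b = b * p → p * d = d * p → False := by
    intro p hp1 hp hpb hpd
    refine hsepH p hp1 (cen_isE hG hH fun y hy => ?_) hp
    have hle : H ≤ Cen[p] := (gen_isE hG hH hb hb1 hd hdb) ▸ sup_le
      (zpowers_le.2 (mem_cen.2 hpb.symm)) (zpowers_le.2 (mem_cen.2 hpd.symm))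
    exact (mem_cen.1 (hle hy)).symm
  have hab : a * b = b * a := comm_of_abelian_nine hG hF₁.1 ha' hb'
  have hcd : c * d = d * c := comm_of_abelian_nine hG hF₂.1 hc' hd'
  -- the commutator of `c` and `b`
  have hdC := hH.2 d hd hd1
  obtain ⟨P, hdP, hPd, -, hP⟩ := exists_syl hG hdC
  have hcP : c ∈ (P : Subgroup G) := hP c (by rw [(hH'.2 c hc hc1).1]; decide) hcd
  have hbP : b ∈ (P : Subgroup G) := hP b (by rw [(hH.2 b hb hb1).1]; decide)
    (comm_of_abelian_nine hG hH.1 hb hd)
  have hcen := commutator_central (sylow_card hG P) (⟨c, hcP⟩ : (P : Subgroup G)) ⟨b, hbP⟩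
  obtain ⟨k, ek⟩ : ∃ k, k = c * b * c⁻¹ * b⁻¹ := ⟨_, rfl⟩
  have hk : k ∈ zpowers d := ek ▸ mem_zpowers_of_central hG hdC hdP hPd
    (Subgroup.mul_mem _ (Subgroup.mul_mem _ (Subgroup.mul_mem _ hcP hbP) (inv_mem hcP))
      (inv_mem hbP)) fun y hy => congrArg Subtype.val (Subgroup.mem_center_iff.1 hcen ⟨y, hy⟩)
  have hk1 : k ≠ 1 := fun e => hnot c hc1 hc (by
    calc c * b = c * b * c⁻¹ * b⁻¹ * (b * c) := by group
      _ = b * c := by rw [← ek, e, one_mul]) hcd
  have hac : a * c = c * a := comm_of_abelian_nine hG hH'.1 ha hc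
  have hak : a * k = k * a := by
    have e1 : a * (c * b * c⁻¹) = c * b * c⁻¹ * a := by
      calc a * (c * b * c⁻¹) = a * c * b * c⁻¹ := by group
        _ = c * a * b * c⁻¹ := by rw [hac]
        _ = c * (a * b) * c⁻¹ := by group
        _ = c * (b * a) * c⁻¹ := by rw [hab]
        _ = c * b * (a * c⁻¹) := by group
        _ = c * b * (c⁻¹ * a) := by rw [((show Commute a c from hac).inv_right).eq]
        _ = c * b * c⁻¹ * a := by group
    rw [ek]
    exact ((show Commute a (c * b * c⁻¹) from e1).mul_right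
      ((show Commute a b from hab).inv_right)).eq
  have had : a * d = d * a := by
    rcases zpowers_three hdC.1 hk with e | e | e
    · exact absurd e hk1
    · rw [← e]; exact hak
    · have : d = k⁻¹ := by rw [e, inv_inv]
      rw [this]; exact ((show Commute a k from hak).inv_right).eq
  exact hnot a ha1 ha hab had

/-- A simple group of order 5616 with these centralisers is `PSL(3, 3)`. -/
theorem equiv_psl : Nonempty (G ≃* Matrix.ProjectiveSpecialLinearGroup (Fin 3) (ZMod 3)) := by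
  classical
  have := Fintype.ofFinite G
  have := Fintype.ofFinite (Subgroup G)
  obtain ⟨E, F, hE, hF, hsep⟩ := exists_two hG
  let pts : Finset (Subgroup G) := Finset.univ.image fun g : G => E.map (MulAut.conj g).toMonoidHom
  let lns : Finset (Subgroup G) := Finset.univ.image fun g : G => F.map (MulAut.conj g).toMonoidHom
  let nid : Subgroup G → Finset G := fun H => Finset.univ.filter fun x => x ∈ H ∧ x ≠ 1
  have hnid : ∀ H, IsE H → (nid H).card = 8 := by
    intro H hH
    have e : nid H = (Finset.univ.filter fun x : G => x ∈ H).erase 1 := by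
      ext x
      simp only [nid, Finset.mem_filter, Finset.mem_univ, true_and, Finset.mem_erase, and_comm]
    rw [e, Finset.card_erase_of_mem (by simp [H.one_mem]), ← Fintype.card_subtype,
      ← Nat.card_eq_fintype_card]
    change Nat.card H - 1 = 8
    rw [hH.1]
  have hclass : ∀ (K : Subgroup G), IsE K →
      ((∀ H ∈ Finset.univ.image fun g : G => K.map (MulAut.conj g).toMonoidHom, IsE H) ∧
      (∀ x, Cent x → ∃ H ∈ Finset.univ.image fun g : G => K.map (MulAut.conj g).toMonoidHom, x ∈ H) ∧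
      (∀ H ∈ Finset.univ.image fun g : G => K.map (MulAut.conj g).toMonoidHom,
        ∀ H' ∈ Finset.univ.image fun g : G => K.map (MulAut.conj g).toMonoidHom,
          ∀ x, x ≠ 1 → x ∈ H → x ∈ H' → H = H') ∧
      (Finset.univ.image fun g : G => K.map (MulAut.conj g).toMonoidHom).card = 13) := by
    intro K hK
    have h1 : ∀ H ∈ Finset.univ.image fun g : G => K.map (MulAut.conj g).toMonoidHom, IsE H := by
      intro H hH
      obtain ⟨g, -, rfl⟩ := Finset.mem_image.1 hH
      exact hK.map g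
    have h2 : ∀ x, Cent x →
        ∃ H ∈ Finset.univ.image fun g : G => K.map (MulAut.conj g).toMonoidHom, x ∈ H := by
      intro x hx
      obtain ⟨s, hs, hs1⟩ : ∃ s ∈ K, s ≠ 1 := K.bot_or_exists_ne_one.resolve_left fun e => by
        have := hK.1; rw [e, Subgroup.card_bot] at this; omega
      obtain ⟨g, hg⟩ := isConj_iff.1 (cent_conj hG (hK.2 s hs hs1) hx)
      exact ⟨_, Finset.mem_image_of_mem _ (Finset.mem_univ g), s, hs, hg⟩
    have h3 : ∀ H ∈ Finset.univ.image fun g : G => K.map (MulAut.conj g).toMonoidHom,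
        ∀ H' ∈ Finset.univ.image fun g : G => K.map (MulAut.conj g).toMonoidHom,
          ∀ x, x ≠ 1 → x ∈ H → x ∈ H' → H = H' := by
      intro H hH H' hH' x hx1 hxH hxH'
      obtain ⟨g, -, rfl⟩ := Finset.mem_image.1 hH
      obtain ⟨g', -, rfl⟩ := Finset.mem_image.1 hH'
      exact class_unique hG hK hx1 hxH hxH'
    refine ⟨h1, h2, h3, ?_⟩
    have hd : (Finset.univ.filter fun x : G => Cent x) =
        (Finset.univ.image fun g : G => K.map (MulAut.conj g).toMonoidHom).biUnion nid := by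
      ext x
      simp only [Finset.mem_filter, Finset.mem_univ, true_and, Finset.mem_biUnion, nid]
      exact ⟨fun hx => (h2 x hx).imp fun H hH => ⟨hH.1, hH.2, hx.ne_one⟩,
        fun ⟨H, hH, hxH, hx1⟩ => (h1 H hH).2 x hxH hx1⟩
    have h104 := card_cent hG
    rw [Nat.card_eq_fintype_card, Fintype.card_subtype, hd, Finset.card_biUnion (fun H hH H' hH' hne =>
      Finset.disjoint_left.2 fun x hx hx' => by
        simp only [nid, Finset.mem_filter, Finset.mem_univ, true_and] at hx hx'
        exact hne (h3 H hH H' hH' x hx.2 hx.1 hx'.1)),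
      Finset.sum_congr rfl fun H hH => hnid H (h1 H hH), Finset.sum_const, smul_eq_mul] at h104
    omega
  obtain ⟨pE, pCov, pUni, p13⟩ := hclass E hE
  obtain ⟨lE, lCov, lUni, l13⟩ := hclass F hF
  have hdiff : ∀ H ∈ pts, ∀ K ∈ lns, H ≠ K := by
    intro H hH K hK
    obtain ⟨g, -, rfl⟩ := Finset.mem_image.1 hH
    obtain ⟨h, -, rfl⟩ := Finset.mem_image.1 hK
    exact hsep g h
  -- an element in both a point and a line is unique up to inversion
  have hmeet : ∀ H ∈ pts, ∀ K ∈ lns, ∀ x, x ∈ H → x ∈ K → x ≠ 1 → ∀ y, y ∈ H → y ∈ K → y ≠ 1 →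
      y = x ∨ y = x⁻¹ := by
    intro H hH K hK x hxH hxK hx1 y hyH hyK hy1
    by_cases hy : y ∈ zpowers x
    · exact (zpowers_three ((pE H hH).2 x hxH hx1).1 hy).resolve_left hy1
    · exfalso
      exact hdiff H hH K hK ((gen_isE hG (pE H hH) hxH hx1 hyH hy).symm.trans
        (gen_isE hG (lE K hK) hxK hx1 hyK hy))
  let ptsOn : Subgroup G → Finset (Subgroup G) := fun K =>
    pts.filter fun H => ∃ x ∈ H, x ∈ K ∧ x ≠ 1
  have hfour : ∀ K ∈ lns, (ptsOn K).card = 4 := by
    intro K hK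
    have hsum : (nid K).card = ∑ H ∈ ptsOn K, ((nid K).filter fun x => x ∈ H).card := by
      rw [← Finset.card_biUnion]
      · congr 1
        ext x
        simp only [Finset.mem_biUnion, Finset.mem_filter, ptsOn, nid, Finset.mem_univ, true_and]
        refine ⟨fun hx => ?_, fun ⟨H, _, hx, _⟩ => hx⟩
        obtain ⟨H, hH, hxH⟩ := pCov x ((lE K hK).2 x hx.1 hx.2)
        exact ⟨H, ⟨hH, x, hxH, hx.1, hx.2⟩, hx, hxH⟩
      · intro H hH H' hH' hne
        refine Finset.disjoint_left.2 fun x hx hx' => ?_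
        simp only [nid, Finset.mem_filter, Finset.mem_univ, true_and] at hx hx'
        exact hne (pUni H (Finset.mem_filter.1 hH).1 H' (Finset.mem_filter.1 hH').1 x hx.1.2 hx.2 hx'.2)
    have hfib : ∀ H ∈ ptsOn K, ((nid K).filter fun x => x ∈ H).card = 2 := by
      intro H hH
      obtain ⟨hHp, x, hxH, hxK, hx1⟩ := Finset.mem_filter.1 hH
      have e : ((nid K).filter fun y => y ∈ H) = {x, x⁻¹} := by
        ext y
        simp only [nid, Finset.mem_filter, Finset.mem_univ, true_and, Finset.mem_insert,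
          Finset.mem_singleton]
        refine ⟨fun hy => hmeet H hHp K hK x hxH hxK hx1 y hy.2 hy.1.1 hy.1.2, ?_⟩
        rintro (rfl | rfl)
        exacts [⟨⟨hxK, hx1⟩, hxH⟩, ⟨⟨inv_mem hxK, inv_ne_one.2 hx1⟩, inv_mem hxH⟩]
      rw [e, Finset.card_pair fun e' => hx1 ?_]
      have h := cube_eq ((pE H hHp).2 x hxH hx1).1
      rw [← e'] at h
      exact mul_eq_left.1 h
    rw [hnid K (lE K hK), Finset.sum_congr rfl hfib, Finset.sum_const, smul_eq_mul] at hsum
    omega
  have huniq : ∀ H ∈ pts, ∀ H' ∈ pts, H ≠ H' → ∀ K ∈ lns, ∀ K' ∈ lns, H ∈ ptsOn K → H' ∈ ptsOn K →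
      H ∈ ptsOn K' → H' ∈ ptsOn K' → K = K' := by
    intro H hH H' hH' hne K hK K' hK' h1 h2 h3 h4
    by_contra hKne
    obtain ⟨b, hbH, hbK, hb1⟩ := (Finset.mem_filter.1 h1).2
    obtain ⟨a, haH, haK, ha1⟩ := (Finset.mem_filter.1 h2).2
    obtain ⟨d, hdH, hdK, hd1⟩ := (Finset.mem_filter.1 h3).2
    obtain ⟨c, hcH, hcK, hc1⟩ := (Finset.mem_filter.1 h4).2
    exact lines_unique hG (pE H hH) (pE H' hH') (lE K hK) (lE K' hK')
      (fun x hx1 hx hx' => hne (pUni H hH H' hH' x hx1 hx hx'))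
      (fun x hx1 hx hx' => hKne (lUni K hK K' hK' x hx1 hx hx'))
      ha1 hb1 hc1 hd1 haH hbH hcH hdH haK hbK hcK hdK
  have hpair : ∀ H ∈ pts, ∀ H' ∈ pts, H ≠ H' → ∃ K ∈ lns, H ∈ ptsOn K ∧ H' ∈ ptsOn K := by
    intro H hH H' hH' hne
    by_contra hno
    let A := (nid H).biUnion fun x => (Finset.univ.filter fun K : Subgroup G => K ∈ lns ∧ x ∈ K).biUnion
      fun K => ((ptsOn K).erase H).image fun H'' => (x, H'')
    have hA : A.card = 8 * 3 := by
      rw [Finset.card_biUnion]
      · rw [Finset.sum_congr rfl (g := fun _ => 3), Finset.sum_const, smul_eq_mul, hnid H (pE H hH)]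
        intro x hx
        simp only [nid, Finset.mem_filter, Finset.mem_univ, true_and] at hx
        obtain ⟨K, hK, hxK⟩ := lCov x ((pE H hH).2 x hx.1 hx.2)
        have e : (Finset.univ.filter fun K : Subgroup G => K ∈ lns ∧ x ∈ K) = {K} := by
          ext K'
          simp only [Finset.mem_filter, Finset.mem_univ, true_and, Finset.mem_singleton]
          exact ⟨fun h => lUni K' h.1 K hK x hx.2 h.2 hxK, fun h => h ▸ ⟨hK, hxK⟩⟩
        rw [e, Finset.singleton_biUnion, Finset.card_image_of_injective _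
          (fun p q h => (Prod.mk.inj h).2), Finset.card_erase_of_mem
          (Finset.mem_filter.2 ⟨hH, x, hx.1, hxK, hx.2⟩), hfour K hK]
      · intro x _ y _ hxy
        refine Finset.disjoint_left.2 fun p hp hp' => hxy ?_
        simp only [Finset.mem_biUnion, Finset.mem_image] at hp hp'
        obtain ⟨_, _, _, _, rfl⟩ := hp
        obtain ⟨_, _, _, _, e⟩ := hp'
        exact (Prod.mk.inj e).1.symm
    have hle := Finset.card_le_mul_card_image_of_maps_to (f := Prod.snd) (s := A)
      (t := (pts.erase H).erase H') (fun p hp => ?_) 2 (fun H'' hH'' => ?_)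
    · rw [hA, Finset.card_erase_of_mem (Finset.mem_erase.2 ⟨Ne.symm hne, hH'⟩),
        Finset.card_erase_of_mem hH, p13] at hle
      omega
    · simp only [A, Finset.mem_biUnion, Finset.mem_image, Finset.mem_filter, Finset.mem_univ,
        true_and, nid] at hp
      obtain ⟨x, hx, K, ⟨hK, hxK⟩, H'', hH'', rfl⟩ := hp
      obtain ⟨hneH, hmem⟩ := Finset.mem_erase.1 hH''
      refine Finset.mem_erase.2 ⟨fun e => hno ⟨K, hK, Finset.mem_filter.2 ⟨hH, x, hx.1, hxK, hx.2⟩,
        e ▸ hmem⟩, Finset.mem_erase.2 ⟨hneH, (Finset.mem_filter.1 hmem).1⟩⟩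
    · rcases (A.filter fun p => p.2 = H'').eq_empty_or_nonempty with e | ⟨p, hp⟩
      · simp [e]
      have hmemA : ∀ p ∈ A.filter (fun p => p.2 = H''), ∃ K ∈ lns, H ∈ ptsOn K ∧ H'' ∈ ptsOn K ∧
          p.1 ∈ H ∧ p.1 ∈ K ∧ p.1 ≠ 1 := by
        intro p hp
        simp only [A, Finset.mem_biUnion, Finset.mem_image, Finset.mem_filter, Finset.mem_univ,
          true_and, nid] at hp
        obtain ⟨⟨x, hx, K, ⟨hK, hxK⟩, H₂, hH₂, rfl⟩, e⟩ := hp
        exact ⟨K, hK, Finset.mem_filter.2 ⟨hH, x, hx.1, hxK, hx.2⟩,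
          e ▸ (Finset.mem_erase.1 hH₂).2, hx.1, hxK, hx.2⟩
      obtain ⟨K, hK, h1, h2, h3, h4, h5⟩ := hmemA p hp
      calc (A.filter fun p => p.2 = H'').card
          ≤ ({(p.1, H''), (p.1⁻¹, H'')} : Finset (G × Subgroup G)).card :=
            Finset.card_le_card fun q hq => by
              obtain ⟨K', hK', g1, g2, g3, g4, g5⟩ := hmemA q hq
              have hH''n : H ≠ H'' := fun e => (Finset.mem_erase.1 (Finset.mem_erase.1 hH'').2).1 e.symm
              have hKK : K' = K := huniq H hH H''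
                (Finset.mem_erase.1 (Finset.mem_erase.1 hH'').2).2 hH''n K' hK' K hK g1 g2 h1 h2
              have e2 : q.2 = H'' := (Finset.mem_filter.1 hq).2
              rcases hmeet H hH K hK p.1 h3 h4 h5 q.1 g3 (hKK ▸ g4) g5 with e | e <;>
                simp [Prod.ext_iff, e, e2]
        _ ≤ 2 := Finset.card_le_two
  -- the representation
  have hmap : ∀ (K : Subgroup G), ∀ g : G, ∀ H ∈ Finset.univ.image (fun g : G => K.map (MulAut.conj g).toMonoidHom),
      H.map (MulAut.conj g).toMonoidHom ∈ Finset.univ.image (fun g : G => K.map (MulAut.conj g).toMonoidHom) := by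
    intro K g H hH
    obtain ⟨h, -, rfl⟩ := Finset.mem_image.1 hH
    refine Finset.mem_image.2 ⟨g * h, Finset.mem_univ _, ?_⟩
    rw [Subgroup.map_map]
    congr 1
    ext x
    simp
  let act : MulAction G {H : Subgroup G // H ∈ pts} :=
    { smul := fun g H => ⟨H.1.map (MulAut.conj g).toMonoidHom, hmap E g H.1 H.2⟩
      one_smul := fun H => Subtype.ext (by
        show H.1.map (MulAut.conj (1 : G)).toMonoidHom = H.1
        ext x; simp)
      mul_smul := fun g h H => Subtype.ext (by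
        show H.1.map (MulAut.conj (g * h)).toMonoidHom =
          (H.1.map (MulAut.conj h).toMonoidHom).map (MulAut.conj g).toMonoidHom
        rw [Subgroup.map_map]; congr 1; ext x; simp) }
  let ρ := MulAction.toPermHom G {H : Subgroup G // H ∈ pts}
  have hρ : Function.Injective ρ := by
    rw [← MonoidHom.ker_eq_bot_iff]
    have := hG.simple
    refine (MonoidHom.normal_ker ρ).eq_bot_or_eq_top.resolve_right fun htop => ?_
    have hnor : E.Normal := ⟨fun x hx g => by
      have h : g ∈ ρ.ker := htop ▸ Subgroup.mem_top g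
      have h1 := congrArg Subtype.val (Equiv.congr_fun (MonoidHom.mem_ker.1 h)
        ⟨E, Finset.mem_image.2 ⟨1, Finset.mem_univ _, by ext y; simp⟩⟩)
      have h2 : E.map (MulAut.conj g).toMonoidHom = E := h1
      exact h2.le ⟨x, hx, rfl⟩⟩
    have h9 := hE.1
    rcases hnor.eq_bot_or_eq_top with e | e <;> rw [e] at h9
    · rw [Subgroup.card_bot] at h9; omega
    · rw [Subgroup.card_top, hG.card] at h9; omega
  let line : Subgroup G → Finset {H : Subgroup G // H ∈ pts} := fun K =>
    Finset.univ.filter fun H => H.1 ∈ ptsOn K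
  have hline4 : ∀ K ∈ lns, (line K).card = 4 := by
    intro K hK
    rw [← hfour K hK, ← Finset.card_map (Function.Embedding.subtype _)]
    congr 1
    ext H
    simp only [line, Finset.mem_map, Finset.mem_filter, Finset.mem_univ, true_and,
      Function.Embedding.coe_subtype]
    exact ⟨fun ⟨H', h, e⟩ => e ▸ h, fun h => ⟨⟨H, (Finset.mem_filter.1 h).1⟩, h, rfl⟩⟩
  refine PlaneThirteen.equiv_psl hG.card ρ hρ (by rw [Fintype.card_coe]; exact p13)
    (lns.image line) ?_ ?_ ?_ ?_
  · rw [Finset.card_image_of_injOn]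
    · exact l13
    intro K hK K' hK' e
    obtain ⟨H, hH, H', hH', hne⟩ := Finset.one_lt_card.1 (show 1 < (line K).card by
      rw [hline4 K hK]; norm_num)
    have hH2 : H ∈ line K' := e ▸ hH
    have hH'2 : H' ∈ line K' := e ▸ hH'
    simp only [line, Finset.mem_filter, Finset.mem_univ, true_and] at hH hH' hH2 hH'2
    exact huniq H.1 H.2 H'.1 H'.2 (fun h => hne (Subtype.ext h)) K hK K' hK' hH hH' hH2 hH'2
  · intro l hl
    obtain ⟨K, hK, rfl⟩ := Finset.mem_image.1 hl
    exact hline4 K hK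
  · intro H H' hne
    obtain ⟨K, hK, h1, h2⟩ := hpair H.1 H.2 H'.1 H'.2 fun h => hne (Subtype.ext h)
    exact ⟨line K, Finset.mem_image_of_mem _ hK, by simp [line, h1], by simp [line, h2]⟩
  · intro g l hl
    obtain ⟨K, hK, rfl⟩ := Finset.mem_image.1 hl
    refine Finset.mem_image.2 ⟨_, hmap F g K hK, ?_⟩
    refine (Finset.eq_of_subset_of_card_le ?_ ?_).symm
    · intro H hH
      obtain ⟨H₀, hH₀, rfl⟩ := Finset.mem_image.1 hH
      simp only [line, Finset.mem_filter, Finset.mem_univ, true_and] at hH₀ ⊢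
      obtain ⟨-, x, hxH, hxK, hx1⟩ := Finset.mem_filter.1 hH₀
      refine Finset.mem_filter.2 ⟨(ρ g H₀).2, g * x * g⁻¹, ⟨x, hxH, rfl⟩, ⟨x, hxK, rfl⟩, fun e => hx1 ?_⟩
      simpa using e
    · rw [hline4 _ (hmap F g K hK), Finset.card_image_of_injective _ (ρ g).injective, hline4 K hK]

end CfsgLib.Recog.LThreeOrder
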