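import Mathlib.GroupTheory.Subgroup.Centralizer
import Mathlib.GroupTheory.Index
import Mathlib.Algebra.Group.Subgroup.Finite
import Mathlib.GroupTheory.GroupAction.ConjAct
import Mathlib.GroupTheory.Subgroup.Simple
import Mathlib.Algebra.Group.Subgroup.Pointwise
import Mathlib.Algebra.Group.Pointwise.Set.Finite
import Mathlib.Tactic.Group

/-!
A non-abelian minimal normal subgroup is generated by the pairwise commuting conjugates of a
simple subgroup.
-/

set_option autoImplicit false

namespace CfsgLib.Recog

open Subgroup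

variable {G : Type*} [Group G]

/-- The conjugate subgroup `g T g⁻¹`. -/
abbrev cj (g : G) (T : Subgroup G) : Subgroup G := T.map (MulAut.conj g).toMonoidHom

theorem mem_cj {g x : G} {T : Subgroup G} : x ∈ cj g T ↔ g⁻¹ * x * g ∈ T := by
  simp only [cj, Subgroup.mem_map_equiv, MulAut.conj_symm_apply]

theorem conj_mem_cj {g x : G} {T : Subgroup G} (hx : x ∈ T) : g * x * g⁻¹ ∈ cj g T :=
  mem_cj.mpr (by simpa [mul_assoc] using hx)

theorem cj_mul (g h : G) (T : Subgroup G) : cj (g * h) T = cj g (cj h T) := by
  ext x; simp only [mem_cj, mul_inv_rev, mul_assoc]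

theorem cj_one (T : Subgroup G) : cj (1 : G) T = T := by
  ext x; simp [mem_cj]

theorem cj_mono (g : G) {T U : Subgroup G} (h : T ≤ U) : cj g T ≤ cj g U :=
  Subgroup.map_mono h

theorem natCard_cj (g : G) (T : Subgroup G) : Nat.card (cj g T) = Nat.card T :=
  Subgroup.card_map_of_injective (MulAut.conj g).injective

theorem cj_eq_self_of_normal (g : G) {N : Subgroup G} (hN : N.Normal) : cj g N = N := by
  ext x
  rw [mem_cj]
  constructor
  · intro h
    simpa [mul_assoc] using hN.conj_mem _ h g
  · intro h
    simpa using hN.conj_mem _ h g⁻¹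

theorem cj_ne_bot {g : G} {T : Subgroup G} (h : T ≠ ⊥) : cj g T ≠ ⊥ := fun e => by
  have := cj_mul g⁻¹ g T
  rw [e, inv_mul_cancel, cj_one] at this
  exact h (this.trans (Subgroup.map_bot _))

theorem le_normalizer_cj {g : G} {T U : Subgroup G} (h : U ≤ normalizer (T : Set G)) :
    cj g U ≤ normalizer (cj g T : Set G) := by
  intro x hx
  rw [mem_cj] at hx
  refine mem_normalizer_iff.mpr fun y => ?_
  have := mem_normalizer_iff.mp (h hx) (g⁻¹ * y * g)
  simp only [mem_cj]
  rw [this]
  have e : g⁻¹ * x * g * (g⁻¹ * y * g) * (g⁻¹ * x * g)⁻¹ = g⁻¹ * (x * y * x⁻¹) * g := by group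
  rw [e]

/-- The union of the properties of a simple factor `T` of a minimal normal subgroup `N`. -/
structure IsFactor (N T : Subgroup G) : Prop where
  le : T ≤ N
  ne_bot : T ≠ ⊥
  simple : IsSimpleGroup T
  nonabelian : ¬ IsMulCommutative T
  inf_centralizer : T ⊓ centralizer (T : Set G) = ⊥
  le_normalizer : N ≤ normalizer (T : Set G)
  eq_or_le_centralizer : ∀ g : G, cj g T = T ∨ cj g T ≤ centralizer (T : Set G)
  iSup_eq : (⨆ g : G, cj g T) = N
  le_sup : N ≤ T ⊔ centralizer (T : Set G)

theorem exists_isFactor [Finite G] {N : Subgroup G} (hN : N.Normal) (hne : N ≠ ⊥)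
    (hmin : ∀ K : Subgroup G, K.Normal → K ≤ N → K = ⊥ ∨ K = N) (hab : ¬ IsMulCommutative N) :
    ∃ T : Subgroup G, IsFactor N T := by
  classical
  let P : ℕ → Prop := fun m => ∃ T : Subgroup G,
    T ≤ N ∧ T ≠ ⊥ ∧ N ≤ normalizer (T : Set G) ∧ Nat.card T = m
  have hP : ∃ m, P m := ⟨_, N, le_rfl, hne, Subgroup.le_normalizer, rfl⟩
  obtain ⟨T, hle, hT, hnorm, hcard⟩ := Nat.find_spec hP
  have minT : ∀ K : Subgroup G, K ≤ T → N ≤ normalizer (K : Set G) → K = ⊥ ∨ K = T := by
    intro K hK hKn
    by_cases hb : K = ⊥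
    · exact Or.inl hb
    refine Or.inr (Subgroup.eq_of_le_of_card_ge hK ?_)
    have := Nat.find_min' hP ⟨K, hK.trans hle, hb, hKn, rfl⟩
    omega
  have hleg : ∀ g, cj g T ≤ N := fun g => (cj_mono g hle).trans (cj_eq_self_of_normal g hN).le
  have hnormg : ∀ g, N ≤ normalizer (cj g T : Set G) := fun g => by
    have := le_normalizer_cj (g := g) hnorm
    rwa [cj_eq_self_of_normal g hN] at this
  have hinf : ∀ g h : G, cj g T ≠ cj h T → cj g T ≤ centralizer (cj h T : Set G) := by
    intro g h hgh
    have hbot : cj g T ⊓ cj h T = ⊥ := by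
      set K := cj g⁻¹ (cj g T ⊓ cj h T) with hKdef
      have h1 : K ≤ T := (cj_mono g⁻¹ inf_le_left).trans (by rw [← cj_mul, inv_mul_cancel, cj_one])
      have h2 : N ≤ normalizer (K : Set G) := by
        have : N ≤ normalizer ((cj g T ⊓ cj h T : Subgroup G) : Set G) := by
          intro x hx
          refine mem_normalizer_iff.mpr fun y => ?_
          simp only [Subgroup.mem_inf]
          rw [mem_normalizer_iff.mp (hnormg g hx) y, mem_normalizer_iff.mp (hnormg h hx) y]
        have := le_normalizer_cj (g := g⁻¹) this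
        rwa [cj_eq_self_of_normal g⁻¹ hN] at this
      rcases minT K h1 h2 with h0 | h0
      · by_contra hb; exact cj_ne_bot (g := g⁻¹) hb h0
      · exfalso
        have : cj g T ⊓ cj h T = cj g T := by
          calc cj g T ⊓ cj h T = cj g K := by rw [hKdef, ← cj_mul, mul_inv_cancel, cj_one]
            _ = cj g T := by rw [h0]
        exact hgh (Subgroup.eq_of_le_of_card_ge (inf_eq_left.mp this) (by rw [natCard_cj, natCard_cj]))
    intro s hs
    refine mem_centralizer_iff.mpr fun t ht => ?_
    have e1 : s * t * s⁻¹ * t⁻¹ ∈ cj h T :=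
      mul_mem ((mem_normalizer_iff.mp (hnormg h (hleg g hs)) t).mp ht) (inv_mem ht)
    have e2 : s * (t * s⁻¹ * t⁻¹) ∈ cj g T :=
      mul_mem hs ((mem_normalizer_iff.mp (hnormg g (hleg h ht)) s⁻¹).mp (inv_mem hs))
    have e3 : s * t * s⁻¹ * t⁻¹ = 1 := by
      have : s * t * s⁻¹ * t⁻¹ ∈ cj g T ⊓ cj h T := ⟨by simpa [mul_assoc] using e2, e1⟩
      rwa [hbot, Subgroup.mem_bot] at this
    exact (eq_of_mul_inv_eq_one (by simpa [mul_assoc] using e3) : s * t = t * s).symm
  have hMnormal : (⨆ g : G, cj g T).Normal := by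
    refine ⟨fun x hx k => ?_⟩
    have hle' : cj k (⨆ g : G, cj g T) ≤ ⨆ g : G, cj g T := by
      simp only [cj, Subgroup.map_iSup]
      refine iSup_le fun g => ?_
      have : cj k (cj g T) ≤ ⨆ g : G, cj g T := by
        rw [← cj_mul]; exact le_iSup (fun g : G => cj g T) (k * g)
      exact this
    exact hle' (conj_mem_cj hx)
  have hsup : (⨆ g : G, cj g T) = N := by
    refine (hmin _ hMnormal (iSup_le hleg)).resolve_left fun h => hT ?_
    have := le_iSup (fun g : G => cj g T) 1
    rw [h, cj_one] at this
    exact le_bot_iff.mp this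
  have hTna : ¬ IsMulCommutative T := by
    intro hc
    have hcom : ∀ g h : G, cj g T ≤ centralizer (cj h T : Set G) := by
      intro g h
      by_cases e : cj g T = cj h T
      · intro s hs
        refine mem_centralizer_iff.mpr fun t ht => ?_
        rw [← e, SetLike.mem_coe, mem_cj] at ht
        rw [mem_cj] at hs
        have := congrArg Subtype.val (hc.is_comm.comm (⟨_, ht⟩ : T) ⟨_, hs⟩)
        simp only [Subgroup.coe_mul] at this
        have e' : g⁻¹ * (t * s) * g = g⁻¹ * (s * t) * g := by simpa [mul_assoc] using this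
        simpa using e'
      · exact hinf g h e
    have h1 : N ≤ centralizer (N : Set G) := by
      rw [← hsup]
      refine iSup_le fun g => Subgroup.le_centralizer_iff.mp (iSup_le fun h => ?_)
      exact hcom h g
    exact hab (Subgroup.le_centralizer_iff_isMulCommutative.mp h1)
  refine ⟨T, hle, hT, ?_, hTna, ?_, hnorm, ?_, hsup, ?_⟩
  · have : Nontrivial T := T.nontrivial_iff_ne_bot.mpr hT
    refine ⟨fun K hK => ?_⟩
    have hKT : (K.map T.subtype) ≤ T := Subgroup.map_subtype_le K
    have h1 : T ≤ normalizer ((K.map T.subtype : Subgroup G) : Set G) := by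
      intro x hx
      refine mem_normalizer_iff.mpr fun y => ?_
      constructor
      · rintro ⟨z, hz, rfl⟩
        exact ⟨⟨x, hx⟩ * z * ⟨x, hx⟩⁻¹, hK.conj_mem z hz _, rfl⟩
      · rintro ⟨z, hz, hzy⟩
        refine ⟨⟨x, hx⟩⁻¹ * z * ⟨x, hx⟩, by simpa using hK.conj_mem z hz ⟨x, hx⟩⁻¹, ?_⟩
        simp only [Subgroup.coe_subtype] at hzy
        simp only [Subgroup.coe_subtype, Subgroup.coe_mul, Subgroup.coe_inv, hzy]
        group
    have h2 : centralizer (T : Set G) ≤ normalizer ((K.map T.subtype : Subgroup G) : Set G) := by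
      intro x hx
      refine mem_normalizer_iff.mpr fun y => ?_
      constructor
      · intro hy
        have := mem_centralizer_iff.mp hx y (hKT hy)
        rw [← this, mul_assoc, mul_inv_cancel, mul_one]
        exact hy
      · intro hy
        have := mem_centralizer_iff.mp hx _ (hKT hy)
        have e : x * y * x⁻¹ = y := by
          have e1 : x * (x * y * x⁻¹) = x * (y * 1) := by
            rw [← this]; group
          simpa using mul_left_cancel e1
        rwa [e] at hy
    have h3 : N ≤ normalizer ((K.map T.subtype : Subgroup G) : Set G) := by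
      rw [← hsup]
      refine iSup_le fun g => ?_
      by_cases e : cj g T = T
      · rw [e]; exact h1
      · exact le_trans (by simpa [cj_one] using hinf g 1 (by simpa [cj_one] using e)) h2
    rcases minT _ hKT h3 with h | h
    · left
      rwa [Subgroup.map_eq_bot_iff_of_injective _ T.subtype_injective] at h
    · right
      apply Subgroup.map_injective T.subtype_injective
      rw [h, ← MonoidHom.range_eq_map, Subgroup.range_subtype]
  · have hn : N ≤ normalizer ((T ⊓ centralizer (T : Set G) : Subgroup G) : Set G) := by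
      intro x hx
      have hxn := mem_normalizer_iff.mp (hnorm hx)
      refine mem_normalizer_iff.mpr fun y => ?_
      simp only [Subgroup.mem_inf]
      refine and_congr (hxn y) ?_
      simp only [mem_centralizer_iff]
      constructor
      · intro h t ht
        have e := h (x⁻¹ * t * x) (by rw [SetLike.mem_coe, hxn]; simpa [mul_assoc] using ht)
        calc t * (x * y * x⁻¹) = x * ((x⁻¹ * t * x) * y) * x⁻¹ := by group
          _ = x * (y * (x⁻¹ * t * x)) * x⁻¹ := by rw [e]
          _ = x * y * x⁻¹ * t := by group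
      · intro h t ht
        have e := h (x * t * x⁻¹) ((hxn t).mp ht)
        calc t * y = x⁻¹ * ((x * t * x⁻¹) * (x * y * x⁻¹)) * x := by group
          _ = x⁻¹ * ((x * y * x⁻¹) * (x * t * x⁻¹)) * x := by rw [e]
          _ = y * t := by group
    rcases minT (T ⊓ centralizer (T : Set G)) inf_le_left hn with h | h
    · exact h
    · exact absurd (Subgroup.le_centralizer_iff_isMulCommutative.mp (inf_eq_left.mp h)) hTna
  · intro g
    by_cases e : cj g T = T
    · exact Or.inl e
    · exact Or.inr (by simpa [cj_one] using hinf g 1 (by simpa [cj_one] using e))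
  · rw [← hsup]
    refine iSup_le fun g => ?_
    by_cases e : cj g T = T
    · exact e.le.trans le_sup_left
    · exact le_trans (by simpa [cj_one] using hinf g 1 (by simpa [cj_one] using e)) le_sup_right

theorem IsFactor.normal_of_centralizer_eq_bot {N T : Subgroup G} (h : IsFactor N T)
    (hC : centralizer (T : Set G) = ⊥) : T.Normal := by
  refine ⟨fun x hx g => ?_⟩
  have e : cj g T = T := (h.eq_or_le_centralizer g).resolve_right fun hle =>
    cj_ne_bot h.ne_bot (le_bot_iff.mp (hle.trans hC.le))
  exact e.le (conj_mem_cj hx)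

/-- Either `G` is almost simple via `T`, or `T` has a non-trivial centralizer. -/
theorem IsFactor.almost_simple_or {N T : Subgroup G} (h : IsFactor N T) :
    (∃ T : Subgroup G, T.Normal ∧ IsSimpleGroup T ∧ ¬ IsMulCommutative T ∧
      centralizer (T : Set G) = ⊥) ∨ centralizer (T : Set G) ≠ ⊥ := by
  by_cases hC : centralizer (T : Set G) = ⊥
  · exact Or.inl ⟨T, h.normal_of_centralizer_eq_bot hC, h.simple, h.nonabelian, hC⟩
  · exact Or.inr hC

end CfsgLib.Recog
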