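import Mathlib.GroupTheory.PresentedGroup
import Mathlib.GroupTheory.Perm.Sign
import Mathlib.GroupTheory.Perm.Fin
import Mathlib.GroupTheory.SpecificGroups.Alternating
import Mathlib.GroupTheory.SemidirectProduct
import Mathlib.Tactic

/-! The Coxeter relations bound the order by `(m+1)!`, and Moore's presentation of the alternating groups. -/

set_option autoImplicit false

namespace CfsgLib.Recog.Moore

section Coxeter

variable {K : Type*} [Group K] (s : ℕ → K)

/-- The descending product `s m * s (m-1) * ⋯` with `k` letters. -/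
def desc (m : ℕ) : ℕ → K
  | 0 => 1
  | k + 1 => desc m k * s (m - k)

/-- The Coxeter relations of type A on the first `m` letters. -/
structure Rel (m : ℕ) : Prop where
  sq : ∀ i, i < m → s i * s i = 1
  braid : ∀ i, i + 1 < m → s i * s (i + 1) * s i = s (i + 1) * s i * s (i + 1)
  comm : ∀ i j, i + 2 ≤ j → j < m → Commute (s i) (s j)

variable {s}

theorem commute_desc {m n : ℕ} (h : Rel s n) (hm : m < n) {i : ℕ} :
    ∀ k, k ≤ m + 1 → i + k + 1 ≤ m → Commute (s i) (desc s m k)
  | 0, _, _ => Commute.one_right _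
  | k + 1, hk, hi => by
    show Commute (s i) (desc s m k * s (m - k))
    exact (commute_desc h hm k (by omega) (by omega)).mul_right (h.comm i _ (by omega) (by omega))

theorem desc_push {m n : ℕ} (h : Rel s n) (hm : m < n) {i : ℕ} (hi : i < m) :
    ∀ k, k ≤ m + 1 → m + 1 ≤ i + k → desc s m k * s (i + 1) = s i * desc s m k
  | 0, _, hik => by omega
  | 1, _, hik => by omega
  | k + 2, hk, hik => by
    by_cases he : i + (k + 1) = m
    · show desc s m k * s (m - k) * s (m - (k + 1)) * s (i + 1) = s i * (desc s m k * s (m - k) * s (m - (k + 1)))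
      rw [show m - k = i + 1 by omega, show m - (k + 1) = i by omega]
      rw [mul_assoc, mul_assoc, ← mul_assoc (s (i + 1)), ← h.braid i (by omega)]
      rw [← mul_assoc, ← mul_assoc, ← (commute_desc h hm k (by omega) (by omega)).eq]
      simp only [mul_assoc]
    · show desc s m (k + 1) * s (m - (k + 1)) * s (i + 1) = s i * (desc s m (k + 1) * s (m - (k + 1)))
      rw [mul_assoc, (h.comm (m - (k + 1)) (i + 1) (by omega) (by omega)).eq, ← mul_assoc,
        desc_push h hm hi (k + 1) (by omega) (by omega), mul_assoc]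

theorem mem_cosets {m n : ℕ} (h : Rel s n) (hm : m < n) {x : K}
    (hx : x ∈ Subgroup.closure {y | ∃ i ≤ m, y = s i}) :
    ∃ a ∈ Subgroup.closure {y | ∃ i < m, y = s i}, ∃ k ≤ m + 1, x = a * desc s m k := by
  have step : ∀ i ≤ m, ∀ a ∈ Subgroup.closure {y | ∃ j < m, y = s j}, ∀ k ≤ m + 1,
      ∃ a' ∈ Subgroup.closure {y | ∃ j < m, y = s j}, ∃ k' ≤ m + 1, a * desc s m k * s i = a' * desc s m k' := by
    intro i hi a ha k hk
    rcases lt_trichotomy (i + k) m with hlt | heq | hgt
    · refine ⟨a * s i, mul_mem ha (Subgroup.subset_closure ⟨i, by omega, rfl⟩), k, hk, ?_⟩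
      rw [mul_assoc, mul_assoc, (commute_desc h hm k hk (by omega)).eq]
    · refine ⟨a, ha, k + 1, by omega, ?_⟩
      rw [mul_assoc]
      show a * (desc s m k * s i) = a * (desc s m k * s (m - k))
      rw [show m - k = i by omega]
    · obtain ⟨k, rfl⟩ : ∃ k', k = k' + 1 := ⟨k - 1, by omega⟩
      by_cases he : i + k = m
      · refine ⟨a, ha, k, by omega, ?_⟩
        show a * (desc s m k * s (m - k)) * s i = _
        rw [show m - k = i by omega, mul_assoc, mul_assoc, h.sq i (by omega), mul_one]
      · obtain ⟨i, rfl⟩ : ∃ i', i = i' + 1 := ⟨i - 1, by omega⟩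
        refine ⟨a * s i, mul_mem ha (Subgroup.subset_closure ⟨i, by omega, rfl⟩), k + 1, hk, ?_⟩
        rw [mul_assoc, desc_push h hm (by omega) (k + 1) hk (by omega), mul_assoc]
  induction hx using Subgroup.closure_induction_right with
  | one => exact ⟨1, one_mem _, 0, by omega, by simp [desc]⟩
  | mul_right y _ z hz ih =>
    obtain ⟨a, ha, k, hk, rfl⟩ := ih
    obtain ⟨i, hi, rfl⟩ := hz
    exact step i hi a ha k hk
  | mul_inv_cancel y _ z hz ih =>
    obtain ⟨a, ha, k, hk, rfl⟩ := ih
    obtain ⟨i, hi, rfl⟩ := hz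
    rw [inv_eq_of_mul_eq_one_right (h.sq i (by omega))]
    exact step i hi a ha k hk

theorem finite_card_le {n : ℕ} (h : Rel s n) : ∀ m, m ≤ n →
    Finite (Subgroup.closure {y | ∃ i < m, y = s i}) ∧
      Nat.card (Subgroup.closure {y | ∃ i < m, y = s i}) ≤ (m + 1).factorial := by
  intro m
  induction m with
  | zero =>
    intro _
    rw [show {y : K | ∃ i < 0, y = s i} = ∅ by simp, Subgroup.closure_empty]
    exact ⟨inferInstance, by simp⟩
  | succ m ih =>
    intro hm
    obtain ⟨hf, hc⟩ := ih (by omega)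
    set A := Subgroup.closure {y | ∃ i < m, y = s i} with hA
    have hsub : A ≤ Subgroup.closure {y | ∃ i < m + 1, y = s i} :=
      Subgroup.closure_mono (by rintro y ⟨i, hi, rfl⟩; exact ⟨i, by omega, rfl⟩)
    have hd : ∀ k ≤ m + 1, desc s m k ∈ Subgroup.closure {y | ∃ i < m + 1, y = s i} := by
      intro k
      induction k with
      | zero => exact fun _ => one_mem _
      | succ k ihk => exact fun hk => mul_mem (ihk (by omega)) (Subgroup.subset_closure ⟨m - k, by omega, rfl⟩)
    let f : A × Fin (m + 2) → Subgroup.closure {y | ∃ i < m + 1, y = s i} := fun p =>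
      ⟨p.1.1 * desc s m p.2, mul_mem (hsub p.1.2) (hd _ (by omega))⟩
    have hf' : Function.Surjective f := by
      rintro ⟨x, hx⟩
      have hx' : x ∈ Subgroup.closure {y | ∃ i ≤ m, y = s i} := by simpa [Nat.lt_succ_iff] using hx
      obtain ⟨a, ha, k, hk, rfl⟩ := mem_cosets h (by omega) hx'
      exact ⟨(⟨a, ha⟩, ⟨k, by omega⟩), rfl⟩
    refine ⟨Finite.of_surjective f hf', (Nat.card_le_card_of_surjective f hf').trans ?_⟩
    rw [Nat.card_prod, Nat.card_fin, Nat.factorial_succ (m + 1), mul_comm]
    exact Nat.mul_le_mul_left _ hc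

theorem braid_of {G : Type*} [Group G] {a b : G} (ha : a * a = 1) (hb : b * b = 1) (h : (a * b) ^ 3 = 1) :
    a * b * a = b * a * b := by
  have h' : (a * b * a) * (b * a * b) = 1 := by
    rw [pow_succ, pow_two] at h
    simpa [mul_assoc] using h
  rw [eq_inv_of_mul_eq_one_left h', mul_inv_rev, mul_inv_rev, inv_eq_of_mul_eq_one_right ha,
    inv_eq_of_mul_eq_one_right hb, mul_assoc]

theorem comm_of {G : Type*} [Group G] {a b : G} (ha : a * a = 1) (hb : b * b = 1) (h : (a * b) ^ 2 = 1) :
    Commute a b := by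
  rw [pow_two] at h
  show a * b = b * a
  rw [eq_inv_of_mul_eq_one_left h, mul_inv_rev, inv_eq_of_mul_eq_one_right ha, inv_eq_of_mul_eq_one_right hb]

end Coxeter

section Alternating

variable (k : ℕ)

/-- Moore's relators. -/
def rels : Set (FreeGroup (Fin k)) :=
  {g : FreeGroup (Fin k) | ∃ i : Fin k, i.val = 0 ∧ g = FreeGroup.of i ^ 3} ∪
    {g | ∃ i : Fin k, 1 ≤ i.val ∧ g = FreeGroup.of i ^ 2} ∪
    {g | ∃ i j : Fin k, j.val = i.val + 1 ∧ g = (FreeGroup.of i * FreeGroup.of j) ^ 3} ∪
    {g | ∃ i j : Fin k, i.val + 1 < j.val ∧ g = (FreeGroup.of i * FreeGroup.of j) ^ 2}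

/-- A tuple satisfying Moore's relations. -/
structure Good {K : Type*} [Group K] (x : Fin k → K) : Prop where
  cube : ∀ i : Fin k, i.val = 0 → x i ^ 3 = 1
  sq : ∀ i : Fin k, 1 ≤ i.val → x i ^ 2 = 1
  next' : ∀ i j : Fin k, j.val = i.val + 1 → (x i * x j) ^ 3 = 1
  far : ∀ i j : Fin k, i.val + 1 < j.val → (x i * x j) ^ 2 = 1

theorem good_lift {K : Type*} [Group K] {x : Fin k → K} (h : Good k x) :
    ∀ r ∈ rels k, FreeGroup.lift x r = 1 := by
  rintro r (((⟨i, hi, rfl⟩ | ⟨i, hi, rfl⟩) | ⟨i, j, hij, rfl⟩) | ⟨i, j, hij, rfl⟩)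
  · simpa using h.cube i hi
  · simpa using h.sq i hi
  · simpa using h.next' i j hij
  · simpa using h.far i j hij

theorem good_of : Good k (PresentedGroup.of (rels := rels k)) := by
  have e : ∀ r ∈ rels k, PresentedGroup.mk (rels k) r = 1 := fun r hr => PresentedGroup.one_of_mem hr
  refine ⟨fun i hi => ?_, fun i hi => ?_, fun i j hij => ?_, fun i j hij => ?_⟩
  · simpa using! e _ (Or.inl (Or.inl (Or.inl ⟨i, hi, rfl⟩)))
  · simpa using! e _ (Or.inl (Or.inl (Or.inr ⟨i, hi, rfl⟩)))
  · simpa using! e _ (Or.inl (Or.inr ⟨i, j, hij, rfl⟩))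
  · simpa using! e _ (Or.inr ⟨i, j, hij, rfl⟩)

theorem Good.twist {K : Type*} [Group K] {x : Fin k → K} (h : Good k x) :
    Good k (fun i => if i.val = 0 then (x i)⁻¹ else x i) := by
  refine ⟨fun i hi => ?_, fun i hi => ?_, fun i j hij => ?_, fun i j hij => ?_⟩
  · simp [hi, h.cube i hi]
  · simp [show i.val ≠ 0 by omega, h.sq i hi]
  · rcases Nat.eq_zero_or_pos i.val with hi | hi
    · have hj : (x j)⁻¹ = x j := inv_eq_of_mul_eq_one_right (by rw [← pow_two]; exact h.sq j (by omega))
      have e : x j * x i = x j * (x i * x j) * (x j)⁻¹ := by group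
      simp only [hi, ↓reduceIte, show j.val ≠ 0 by omega]
      rw [show (x i)⁻¹ * x j = (x j * x i)⁻¹ by rw [mul_inv_rev, hj], inv_pow, e, conj_pow, h.next' i j hij]
      simp
    · simpa [show i.val ≠ 0 by omega, show j.val ≠ 0 by omega] using h.next' i j hij
  · rcases Nat.eq_zero_or_pos i.val with hi | hi
    · have hj : (x j)⁻¹ = x j := inv_eq_of_mul_eq_one_right (by rw [← pow_two]; exact h.sq j (by omega))
      have e : x j * x i = x j * (x i * x j) * (x j)⁻¹ := by group
      simp only [hi, ↓reduceIte, show j.val ≠ 0 by omega]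
      rw [show (x i)⁻¹ * x j = (x j * x i)⁻¹ by rw [mul_inv_rev, hj], inv_pow, e, conj_pow, h.far i j hij]
      simp
    · simpa [show i.val ≠ 0 by omega, show j.val ≠ 0 by omega] using h.far i j hij

/-- The adjacent transpositions, indexed by natural numbers. -/
def adj (i : ℕ) : Equiv.Perm (Fin (k + 2)) :=
  if h : i < k + 1 then Equiv.swap ⟨i, by omega⟩ ⟨i + 1, by omega⟩ else 1

theorem swap_cube {α : Type*} [DecidableEq α] [Fintype α] {a b c : α} (hab : a ≠ b) (hac : a ≠ c) (hbc : b ≠ c) :
    (Equiv.swap a b * Equiv.swap a c) ^ 3 = 1 := by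
  have h := (Equiv.Perm.isThreeCycle_swap_mul_swap_same hab hac hbc).orderOf
  rw [← h]; exact pow_orderOf_eq_one _

theorem swap_conj_swap {α : Type*} [DecidableEq α] {a b c : α} (hac : c ≠ a) (hbc : c ≠ b) :
    Equiv.swap a b * Equiv.swap b c * Equiv.swap a b = Equiv.swap a c := by
  have h := Equiv.swap_apply_apply (Equiv.swap a b) b c
  rw [Equiv.swap_apply_right, Equiv.swap_apply_of_ne_of_ne hac hbc, Equiv.swap_inv] at h
  exact h.symm

theorem swap_sq {α : Type*} [DecidableEq α] [Fintype α] {a b c d : α} (hac : a ≠ c) (had : a ≠ d) (hbc : b ≠ c)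
    (hbd : b ≠ d) : Commute (Equiv.swap a b) (Equiv.swap c d) := by
  refine Equiv.Perm.Disjoint.commute fun x => ?_
  rcases em (x = a ∨ x = b) with h | h
  · right; rcases h with rfl | rfl <;> exact Equiv.swap_apply_of_ne_of_ne ‹_› ‹_›
  · left; push_neg at h; exact Equiv.swap_apply_of_ne_of_ne h.1 h.2

theorem good_perm : Good k (fun i : Fin k => adj k 0 * adj k (i.val + 1)) := by
  have hcomm : ∀ i j, i + 2 ≤ j → j < k + 1 → Commute (adj k i) (adj k j) := by
    intro i j hij hj
    simp only [adj, dif_pos (show i < k + 1 by omega), dif_pos hj]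
    apply swap_sq <;> simp <;> omega
  have hsq : ∀ i, adj k i * adj k i = 1 := by
    intro i; unfold adj; split <;> simp
  refine ⟨fun i hi => ?_, fun i hi => ?_, fun i j hij => ?_, fun i j hij => ?_⟩
  · show (adj k 0 * adj k (i.val + 1)) ^ 3 = 1
    rw [hi]
    have := i.isLt
    simp only [adj, dif_pos (show 0 < k + 1 by omega), dif_pos (show 0 + 1 < k + 1 by omega)]
    rw [Equiv.swap_comm]
    exact swap_cube (by simp) (by simp) (by simp)
  · show (adj k 0 * adj k (i.val + 1)) ^ 2 = 1
    rw [(hcomm 0 _ (by omega) (by omega)).mul_pow, pow_two, pow_two, hsq, hsq, mul_one]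
  · show (adj k 0 * adj k (i.val + 1) * (adj k 0 * adj k (j.val + 1))) ^ 3 = 1
    have := j.isLt
    rcases Nat.eq_zero_or_pos i.val with hi | hi
    · rw [hij, hi]
      simp only [adj, dif_pos (show 0 < k + 1 by omega), dif_pos (show 0 + 1 < k + 1 by omega),
        dif_pos (show 0 + 1 + 1 < k + 1 by omega)]
      rw [← mul_assoc (Equiv.swap _ _ * Equiv.swap _ _), swap_conj_swap]
      · rw [Equiv.swap_comm]
        exact swap_cube (by simp) (by simp) (by simp)
      all_goals simp
    · have c0 := hcomm 0 (i.val + 1) (by omega) (by omega)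
      rw [mul_assoc, ← mul_assoc (adj k (i.val + 1)), ← c0.eq, mul_assoc (adj k 0), ← mul_assoc (adj k 0),
        hsq, one_mul, hij]
      simp only [adj, dif_pos (show i.val + 1 < k + 1 by omega), dif_pos (show i.val + 1 + 1 < k + 1 by omega)]
      rw [Equiv.swap_comm]
      exact swap_cube (by simp) (by simp) (by simp)
  · show (adj k 0 * adj k (i.val + 1) * (adj k 0 * adj k (j.val + 1))) ^ 2 = 1
    have := j.isLt
    rcases Nat.eq_zero_or_pos i.val with hi | hi
    · rw [← mul_assoc]
      have hd : Commute (adj k 0 * adj k (i.val + 1) * adj k 0) (adj k (j.val + 1)) :=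
        ((hcomm 0 _ (by omega) (by omega)).mul_left (hcomm _ _ (by omega) (by omega))).mul_left
          (hcomm 0 _ (by omega) (by omega))
      rw [hd.mul_pow, pow_two (adj k (j.val + 1)), hsq, mul_one, pow_two]
      simp [mul_assoc, ← mul_assoc (adj k 0) (adj k 0), ← mul_assoc (adj k (i.val + 1)) (adj k (i.val + 1)), hsq]
    · have c0 := hcomm 0 (i.val + 1) (by omega) (by omega)
      rw [mul_assoc, ← mul_assoc (adj k (i.val + 1)), ← c0.eq, mul_assoc (adj k 0), ← mul_assoc (adj k 0),
        hsq, one_mul, (hcomm _ _ (by omega) (by omega)).mul_pow, pow_two, pow_two, hsq, hsq, mul_one]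

/-- The automorphism of the presented group inverting the first generator. -/
def tauHom : PresentedGroup (rels k) →* PresentedGroup (rels k) :=
  PresentedGroup.toGroup (good_lift k (Good.twist k (good_of k)))

theorem tauHom_of (i : Fin k) : tauHom k (PresentedGroup.of i) =
    if i.val = 0 then (PresentedGroup.of (rels := rels k) i)⁻¹ else PresentedGroup.of i :=
  PresentedGroup.toGroup.of ..

theorem tauHom_tauHom : (tauHom k).comp (tauHom k) = MonoidHom.id _ := by
  refine PresentedGroup.ext fun i => ?_
  simp only [MonoidHom.comp_apply, MonoidHom.id_apply, tauHom_of]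
  by_cases hi : i.val = 0 <;> simp [hi, map_inv, tauHom_of]

/-- The automorphism. -/
def tau : MulAut (PresentedGroup (rels k)) :=
  MonoidHom.toMulEquiv (tauHom k) (tauHom k) (tauHom_tauHom k) (tauHom_tauHom k)

theorem tau_sq : tau k ^ 2 = 1 := by
  ext x
  rw [pow_two]
  exact DFunLike.congr_fun (tauHom_tauHom k) x

theorem nonempty_equiv : Nonempty (PresentedGroup (rels k) ≃* alternatingGroup (Fin (k + 2))) := by
  classical
  let Γ := PresentedGroup (rels k)
  let φ : Subgroup.zpowers (tau k) →* MulAut Γ := (Subgroup.zpowers (tau k)).subtype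
  let P := Γ ⋊[φ] Subgroup.zpowers (tau k)
  let t : P := SemidirectProduct.inr ⟨tau k, Subgroup.mem_zpowers _⟩
  let x : Fin k → P := fun i => SemidirectProduct.inl (PresentedGroup.of i)
  let s : ℕ → P := fun i => if i = 0 then t else if h : i - 1 < k then t * x ⟨i - 1, h⟩ else 1
  have ht : t * t = 1 := by
    rw [← map_mul]
    refine (congrArg _ (Subtype.ext ?_)).trans (map_one _)
    simpa [pow_two] using tau_sq k
  have hx : Good k x := by
    have g := good_of k
    exact ⟨fun i hi => by simp only [x]; rw [← map_pow, g.cube i hi, map_one],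
      fun i hi => by simp only [x]; rw [← map_pow, g.sq i hi, map_one],
      fun i j hij => by simp only [x]; rw [← map_mul, ← map_pow, g.next' i j hij, map_one],
      fun i j hij => by simp only [x]; rw [← map_mul, ← map_pow, g.far i j hij, map_one]⟩
  have hconj : ∀ i : Fin k, t * x i * t = if i.val = 0 then (x i)⁻¹ else x i := by
    intro i
    have e := SemidirectProduct.inl_aut (φ := φ) ⟨tau k, Subgroup.mem_zpowers _⟩ (PresentedGroup.of i)
    rw [show t * x i * t = t * x i * t⁻¹ by rw [inv_eq_of_mul_eq_one_right ht]]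
    refine (e.symm.trans ?_)
    show SemidirectProduct.inl (tauHom k (PresentedGroup.of i)) = _
    rw [tauHom_of]; split <;> simp [x]
  have hs0 : s 0 = t := rfl
  have hss : ∀ i : Fin k, s (i.val + 1) = t * x i := fun i => by simp [s, i.isLt]
  have hmul : ∀ i j : Fin k, s (i.val + 1) * s (j.val + 1) = (if i.val = 0 then (x i)⁻¹ else x i) * x j := by
    intro i j
    rw [hss, hss, ← hconj i]; simp only [mul_assoc]
  have hx' := Good.twist k hx
  have hrel : Rel s (k + 1) := by
    have hsq : ∀ i, i < k + 1 → s i * s i = 1 := by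
      intro i hi
      rcases i with _ | i
      · exact ht
      · rw [hmul ⟨i, by omega⟩ ⟨i, by omega⟩]
        by_cases hi0 : i = 0
        · subst hi0
          exact inv_mul_cancel (x ⟨0, by omega⟩)
        · simp only [hi0, ↓reduceIte, ← pow_two]
          exact hx.sq _ (show 1 ≤ i by omega)
    have hinv : ∀ i, i < k + 1 → (s i)⁻¹ = s i := fun i hi => inv_eq_of_mul_eq_one_right (hsq i hi)
    refine ⟨hsq, fun i hi => ?_, fun i j hij hj => ?_⟩
    · have h3 : (s i * s (i + 1)) ^ 3 = 1 := by
        rcases i with _ | i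
        · have h1 := hss ⟨0, by omega⟩
          simp only [zero_add] at h1
          rw [hs0, h1, ← mul_assoc, ht, one_mul]
          exact hx.cube _ rfl
        · rw [hmul ⟨i, by omega⟩ ⟨i + 1, by omega⟩]
          have := hx'.next' ⟨i, by omega⟩ ⟨i + 1, by omega⟩ rfl
          simpa using this
      exact braid_of (hsq i (by omega)) (hsq (i + 1) hi) h3
    · have h2 : (s i * s j) ^ 2 = 1 := by
        obtain ⟨j, rfl⟩ : ∃ j', j = j' + 1 := ⟨j - 1, by omega⟩
        rcases i with _ | i
        · have h1 := hss ⟨j, by omega⟩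
          simp only at h1
          rw [hs0, h1, ← mul_assoc, ht, one_mul]
          exact hx.sq _ (show 1 ≤ j by omega)
        · rw [hmul ⟨i, by omega⟩ ⟨j, by omega⟩]
          have := hx'.far ⟨i, by omega⟩ ⟨j, by omega⟩ (show i + 1 < j by omega)
          simpa [show j ≠ 0 by omega] using this
      exact comm_of (hsq i (by omega)) (hsq j hj) h2
  obtain ⟨hfin, hle⟩ := finite_card_le hrel (k + 1) le_rfl
  have htop : Subgroup.closure {y | ∃ i < k + 1, y = s i} = ⊤ := by
    set C := Subgroup.closure {y | ∃ i < k + 1, y = s i}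
    have htC : t ∈ C := Subgroup.subset_closure ⟨0, by omega, rfl⟩
    have hxC : ∀ i, x i ∈ C := by
      intro i
      have h1 : s (i.val + 1) ∈ C := Subgroup.subset_closure ⟨i.val + 1, by omega, rfl⟩
      rw [hss] at h1
      have := mul_mem htC h1
      rwa [← mul_assoc, ht, one_mul] at this
    have hl : ∀ g : Γ, (SemidirectProduct.inl g : P) ∈ C := by
      intro g
      exact PresentedGroup.generated_by _ (C.comap SemidirectProduct.inl) hxC g
    rw [eq_top_iff]
    rintro y -
    rw [← SemidirectProduct.inl_left_mul_inr_right y]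
    refine mul_mem (hl _) ?_
    obtain ⟨m, hm⟩ := y.right.2
    have : y.right = (⟨tau k, Subgroup.mem_zpowers _⟩ : Subgroup.zpowers (tau k)) ^ m := Subtype.ext hm.symm
    rw [this, map_zpow]
    exact zpow_mem htC m
  rw [htop] at hfin hle
  haveI : Finite P := Finite.of_equiv _ Subgroup.topEquiv.toEquiv
  rw [Subgroup.card_top] at hle
  -- the map to the symmetric group
  let f : Γ →* Equiv.Perm (Fin (k + 2)) := PresentedGroup.toGroup (good_lift k (good_perm k))
  have hf : ∀ i : Fin k, f (PresentedGroup.of i) = adj k 0 * adj k (i.val + 1) := fun i => PresentedGroup.toGroup.of ..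
  have hsign : ∀ g : Γ, f g ∈ alternatingGroup (Fin (k + 2)) := by
    intro g
    refine PresentedGroup.generated_by _ ((alternatingGroup (Fin (k + 2))).comap f) (fun i => ?_) g
    rw [Subgroup.mem_comap, hf, Equiv.Perm.mem_alternatingGroup, map_mul]
    have hs : ∀ j < k + 1, Equiv.Perm.sign (adj k j) = -1 := by
      intro j hj
      simp only [adj, dif_pos hj]
      exact Equiv.Perm.sign_swap (by simp)
    rw [hs 0 (by omega), hs _ (by omega)]; rfl
  have hA : adj k 0 * adj k 0 = 1 := by unfold adj; split <;> simp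
  have htau1 : ∀ g, f (tau k g) = adj k 0 * f g * (adj k 0)⁻¹ := by
    intro g
    have : (f.comp (tau k).toMonoidHom) = (MulAut.conj (adj k 0)).toMonoidHom.comp f := by
      refine PresentedGroup.ext fun i => ?_
      show f (tauHom k (PresentedGroup.of i)) = adj k 0 * f (PresentedGroup.of i) * (adj k 0)⁻¹
      rw [tauHom_of, hf, inv_eq_of_mul_eq_one_right hA]
      split_ifs with hi
      · rw [map_inv, hf, mul_inv_rev]
        have h1 : adj k (i.val + 1) * adj k (i.val + 1) = 1 := by unfold adj; split <;> simp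
        rw [inv_eq_of_mul_eq_one_right hA, inv_eq_of_mul_eq_one_right h1, ← mul_assoc, hA, one_mul]
      · rw [hf, ← mul_assoc, hA, one_mul]
        simp only [adj, dif_pos (show 0 < k + 1 by omega), dif_pos (show i.val + 1 < k + 1 by omega)]
        exact (swap_sq (by simp) (by simp) (by simp; omega) (by simp)).eq
    exact DFunLike.congr_fun this g
  haveI : Finite Γ := Finite.of_injective (SemidirectProduct.inl : Γ → P) SemidirectProduct.inl_injective
  -- the image contains all adjacent transpositions after adjoining the first one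
  let R : Subgroup (Equiv.Perm (Fin (k + 2))) := f.range ⊔ Subgroup.zpowers (adj k 0)
  have hR : R = ⊤ := by
    rw [eq_top_iff, ← Subgroup.toSubmonoid_le, Subgroup.top_toSubmonoid, ← Equiv.Perm.mclosure_swap_castSucc_succ,
      Submonoid.closure_le]
    rintro _ ⟨i, rfl⟩
    have e : Equiv.swap i.castSucc i.succ = adj k i.val := by
      simp only [adj, dif_pos i.isLt]; rfl
    simp only [SetLike.mem_coe, Subgroup.mem_toSubmonoid]
    rw [e]
    have h0 : adj k 0 ∈ R := Subgroup.mem_sup_right (Subgroup.mem_zpowers _)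
    rcases i with ⟨i, hi⟩
    rcases i with _ | i
    · exact h0
    · have := mul_mem h0 (Subgroup.mem_sup_left (T := Subgroup.zpowers (adj k 0)) ⟨PresentedGroup.of ⟨i, by omega⟩, rfl⟩)
      rwa [hf, ← mul_assoc, hA, one_mul] at this
  have hnorm : ∀ g ∈ f.range, adj k 0 * g * (adj k 0)⁻¹ ∈ f.range := by
    rintro _ ⟨g, rfl⟩; exact ⟨tau k g, htau1 g⟩
  have hcard2 : (k + 2).factorial ≤ 2 * Nat.card f.range := by
    have hsub : ∀ y : Equiv.Perm (Fin (k + 2)), y ∈ f.range ∨ adj k 0 * y ∈ f.range := by
      intro y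
      have hy : y ∈ Subgroup.closure ((f.range : Set _) ∪ {adj k 0}) := by
        rw [Subgroup.closure_union, Subgroup.closure_eq, ← Subgroup.zpowers_eq_closure]
        have := Subgroup.mem_top y
        rw [← hR] at this
        exact this
      rw [← Subgroup.mem_toSubmonoid, Subgroup.closure_toSubmonoid_of_finite] at hy
      induction hy using Submonoid.closure_induction_left with
      | one => exact Or.inl (one_mem _)
      | mul_left a ha b _ ih =>
        rcases ha with ha | ha
        · rcases ih with h | h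
          · exact Or.inl (mul_mem ha h)
          · refine Or.inr ?_
            have := mul_mem (hnorm a ha) h
            rwa [inv_eq_of_mul_eq_one_right hA, mul_assoc, mul_assoc, ← mul_assoc (adj k 0) (adj k 0), hA, one_mul] at this
        · rw [Set.mem_singleton_iff] at ha
          subst ha
          rcases ih with h | h
          · exact Or.inr (by rwa [← mul_assoc, hA, one_mul])
          · exact Or.inl h
    let F : Bool × f.range → Equiv.Perm (Fin (k + 2)) := fun p => if p.1 then adj k 0 * p.2.1 else p.2.1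
    have hF : Function.Surjective F := by
      intro y
      rcases hsub y with h | h
      · exact ⟨(false, ⟨y, h⟩), rfl⟩
      · exact ⟨(true, ⟨_, h⟩), by simp [F, ← mul_assoc, hA]⟩
    have := Nat.card_le_card_of_surjective F hF
    rwa [Nat.card_perm, Nat.card_eq_fintype_card (α := Fin (k + 2)), Fintype.card_fin, Nat.card_prod,
      Nat.card_eq_fintype_card (α := Bool), Fintype.card_bool] at this
  have hP : Nat.card P = Nat.card Γ * Nat.card (Subgroup.zpowers (tau k)) := SemidirectProduct.card
  have halt : 2 * Nat.card (alternatingGroup (Fin (k + 2))) = (k + 2).factorial := by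
    rw [nat_card_alternatingGroup, Nat.card_eq_fintype_card, Fintype.card_fin]
    exact Nat.mul_div_cancel' (Nat.dvd_factorial (by norm_num) (by omega))
  let g : Γ →* alternatingGroup (Fin (k + 2)) := f.codRestrict _ hsign
  have hrange : Nat.card f.range ≤ Nat.card Γ := Nat.card_le_card_of_surjective _ f.rangeRestrict_surjective
  have hgs : Function.Surjective g := by
    have hle' : f.range ≤ alternatingGroup (Fin (k + 2)) := by rintro _ ⟨a, rfl⟩; exact hsign a
    have := Subgroup.eq_of_le_of_card_ge hle' (by omega)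
    rintro ⟨y, hy⟩
    rw [← this] at hy
    obtain ⟨a, rfl⟩ := hy
    exact ⟨a, rfl⟩
  have hΓ : Nat.card Γ ≤ Nat.card (alternatingGroup (Fin (k + 2))) := by
    by_cases h1 : tau k = 1
    · -- then the first transposition centralises the image
      have hk0 : k = 0 := by
        by_contra hk
        have := htau1 (PresentedGroup.of ⟨0, by omega⟩)
        rw [h1, MulAut.one_apply, hf, inv_eq_of_mul_eq_one_right hA, ← mul_assoc, hA, one_mul] at this
        have := DFunLike.congr_fun this ⟨0, by omega⟩
        simp only [adj, dif_pos (show 0 < k + 1 by omega), dif_pos (show 0 + 1 < k + 1 by omega)] at this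
        simp [Equiv.swap_apply_def] at this
      subst hk0
      have : Subsingleton Γ := ⟨fun a b => by
        have hbot : ∀ a : Γ, a ∈ (⊥ : Subgroup Γ) := PresentedGroup.generated_by _ ⊥ (fun i => i.elim0)
        rw [Subgroup.mem_bot.1 (hbot a), Subgroup.mem_bot.1 (hbot b)]⟩
      exact (Finite.card_le_one_iff_subsingleton.2 this).trans Nat.card_pos
    · have h2 : 2 ≤ Nat.card (Subgroup.zpowers (tau k)) := by
        haveI : Nontrivial (Subgroup.zpowers (tau k)) :=
          (Subgroup.nontrivial_iff_ne_bot _).2 (fun h => h1 (Subgroup.zpowers_eq_bot.1 h))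
        haveI : Finite (Subgroup.zpowers (tau k)) :=
          Finite.of_injective (SemidirectProduct.inr : _ → P) SemidirectProduct.inr_injective
        exact Finite.one_lt_card
      nlinarith
  exact ⟨MulEquiv.ofBijective g ((Nat.bijective_iff_surjective_and_card g).2
    ⟨hgs, le_antisymm hΓ (Nat.card_le_card_of_surjective g hgs)⟩)⟩

end Alternating

end CfsgLib.Recog.Moore
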