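import Mathlib
import Cfsg.Agent.Lib.OddLocal.FrobAct
import Cfsg.Agent.Lib.Solvable.MinNormal

/-!
Three primes spread over a normal series are not pairwise non-adjacent in the prime graph.
-/

set_option autoImplicit false

namespace CfsgLib.Recog

open Subgroup
open scoped Pointwise

variable {G : Type*} [Group G] [Finite G]

/-- Commuting elements give an edge of the prime graph. -/
theorem exists_orderOf_prime_mul {a b : G} (h : Commute a b) {p q : ℕ} (hp : p.Prime) (hq : q.Prime)
    (hpq : p ≠ q) (ha : p ∣ orderOf a) (hb : q ∣ orderOf b) : ∃ x : G, orderOf x = p * q := by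
  refine ⟨a ^ (orderOf a / p) * b ^ (orderOf b / q), ?_⟩
  have h1 := orderOf_pow_orderOf_div (orderOf_pos a).ne' ha
  have h2 := orderOf_pow_orderOf_div (orderOf_pos b).ne' hb
  rw [(h.pow_pow _ _).orderOf_mul_eq_mul_orderOf_of_coprime (by
    rw [h1, h2]; exact (Nat.coprime_primes hp hq).mpr hpq), h1, h2]

/-- A normal supplement has order divisible by the index. -/
theorem index_dvd_card_of_sup {H M : Subgroup G} [M.Normal] (h : H ⊔ M = ⊤) :
    M.index ∣ Nat.card H := by
  rw [← Subgroup.relIndex_top_right, ← h, Subgroup.relIndex_sup_right]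
  exact Subgroup.relIndex_dvd_card _ _

theorem dvd_orderOf_of_isPGroup {p : ℕ} [Fact p.Prime] {P : Subgroup G} (hP : IsPGroup p P) {a : G}
    (ha : a ∈ P) (ha1 : a ≠ 1) : p ∣ orderOf a := by
  obtain ⟨k, hk⟩ := IsPGroup.iff_orderOf.mp hP ⟨a, ha⟩
  rw [Subgroup.orderOf_mk] at hk
  rcases k with _ | k
  · exact absurd (orderOf_eq_one_iff.mp (by simpa using hk)) ha1
  · exact hk ▸ dvd_pow_self p (Nat.succ_ne_zero k)

/-- The configuration inside a group with normal `p`-subgroup. -/
theorem frobenius_edge {p q r : ℕ} [Fact p.Prime] [Fact q.Prime] (hr : r.Prime) (hpq : p ≠ q)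
    (hpr : p ≠ r) (hqr : q ≠ r) {P Q : Subgroup G} [P.Normal] (hP : IsPGroup p P) (hP1 : P ≠ ⊥)
    (hQ : IsPGroup q Q) (hQ1 : Q ≠ ⊥) {y : G} (hy : orderOf y = r)
    (hyQ : y ∈ Subgroup.normalizer (Q : Set G)) :
    (∃ x : G, orderOf x = p * q) ∨ (∃ x : G, orderOf x = p * r) ∨ (∃ x : G, orderOf x = q * r) := by
  by_contra hcon
  push Not at hcon
  obtain ⟨n1, n2, n3⟩ := hcon
  have hp : p.Prime := Fact.out
  have hq : q.Prime := Fact.out
  set V := (Subgroup.center P).map P.subtype with hV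
  have hVn : V.Normal := by rw [hV]; infer_instance
  have hVP : V ≤ P := Subgroup.map_subtype_le _
  have hVc : IsMulCommutative V := by rw [hV]; infer_instance
  have hV1 : V ≠ ⊥ := by
    rw [hV, Ne, Subgroup.map_eq_bot_iff_of_injective _ P.subtype_injective]
    have : Nontrivial P := P.nontrivial_iff_ne_bot.mpr hP1
    exact (Subgroup.nontrivial_iff_ne_bot _).mp hP.center_nontrivial
  have hcop : (Nat.card Q).Coprime (Nat.card V) := IsPGroup.coprime_card_of_ne q p hpq.symm Q V hQ (hP.to_le hVP)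
  refine CfsgLib.OddLocal.no_fixedPointFree_frobenius (V := V) hr hy hV1 hQ1 hyQ hcop ?_ ?_ ?_
  · intro i hi m hm hc
    by_contra hm1
    have ho : orderOf (y ^ i) = r := by
      rw [Nat.Coprime.orderOf_pow, hy]
      rw [hy]
      exact (hr.coprime_iff_not_dvd).mpr hi
    obtain ⟨x, hx⟩ := exists_orderOf_prime_mul hc.symm hq hr hqr (dvd_orderOf_of_isPGroup hQ hm hm1) (by rw [ho])
    exact n3 x hx
  · intro m hm hm1 v hv hc
    by_contra hv1
    obtain ⟨x, hx⟩ := exists_orderOf_prime_mul hc.symm hp hq hpq (dvd_orderOf_of_isPGroup hP (hVP hv) hv1)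
      (dvd_orderOf_of_isPGroup hQ hm hm1)
    exact n1 x hx
  · intro m _ v hv hc
    by_contra hv1
    have ho : orderOf (m * y * m⁻¹) = r := by
      rw [← hy]
      exact MulEquiv.orderOf_eq (MulAut.conj m) y
    obtain ⟨x, hx⟩ := exists_orderOf_prime_mul hc.symm hp hr hpr (dvd_orderOf_of_isPGroup hP (hVP hv) hv1) (by rw [ho])
    exact n2 x hx

theorem series_edge (K M : Subgroup G) [K.Normal] [M.Normal] (hKM : K ≤ M) (p q r : ℕ) (hp : p.Prime)
    (hq : q.Prime) (hr : r.Prime) (hpq : p ≠ q) (hpr : p ≠ r) (hqr : q ≠ r)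
    (hpK : p ∣ Nat.card K) (hqM : q ∣ Nat.card M / Nat.card K) (hrG : r ∣ Nat.card G / Nat.card M) :
    (∃ x : G, orderOf x = p * q) ∨ (∃ x : G, orderOf x = p * r) ∨ (∃ x : G, orderOf x = q * r) := by
  have : Fact p.Prime := ⟨hp⟩
  have : Fact q.Prime := ⟨hq⟩
  have : Fact r.Prime := ⟨hr⟩
  let P : Sylow p K := Classical.arbitrary _
  set P' := (P : Subgroup K).map K.subtype with hP'
  set N := Subgroup.normalizer (P' : Set G) with hN
  have hNK : N ⊔ K = ⊤ := Sylow.normalizer_sup_eq_top P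
  have hr' : r ∣ M.index := by
    rwa [← M.card_mul_index, Nat.mul_div_cancel_left _ Nat.card_pos] at hrG
  have hKd : Nat.card K * K.relIndex M = Nat.card M := by
    rw [← Subgroup.relIndex_bot_left K, ← Subgroup.relIndex_bot_left M,
      Subgroup.relIndex_mul_relIndex _ _ _ bot_le hKM]
  have hqN : q ∣ Nat.card (M ⊓ N : Subgroup G) := by
    rw [← hKd, Nat.mul_div_cancel_left _ Nat.card_pos] at hqM
    have hsup : (M ⊓ N) ⊔ K = M := by
      refine le_antisymm (sup_le inf_le_left hKM) fun m hm => ?_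
      have hmem : m ∈ ((N ⊔ K : Subgroup G) : Set G) := by rw [hNK]; exact Subgroup.mem_top m
      rw [Subgroup.mul_normal] at hmem
      obtain ⟨n, hn, k, hk, rfl⟩ := hmem
      exact mul_mem (Subgroup.mem_sup_left ⟨(M.mul_mem_cancel_right (hKM hk)).mp hm, hn⟩)
        (Subgroup.mem_sup_right hk)
    have he : K.relIndex M = K.relIndex (M ⊓ N) := by
      conv_lhs => rw [← hsup]
      rw [Subgroup.relIndex_sup_right]
    rw [he] at hqM
    exact hqM.trans (Subgroup.relIndex_dvd_card _ _)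
  set M' := M.subgroupOf N with hM'
  have hqM' : q ∣ Nat.card M' := by
    rw [hM', ← Subgroup.inf_subgroupOf_right, Nat.card_congr (Subgroup.subgroupOfEquivOfLe inf_le_right).toEquiv]
    exact hqN
  let Q : Sylow q M' := Classical.arbitrary _
  set Q' := (Q : Subgroup M').map M'.subtype with hQ'
  have hrN : r ∣ Nat.card (Subgroup.normalizer (Q' : Set N)) := by
    refine hr'.trans ((dvd_of_eq ?_).trans (index_dvd_card_of_sup (Sylow.normalizer_sup_eq_top Q)))
    show M.index = M.relIndex N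
    have hMN : N ⊔ M = ⊤ := top_le_iff.mp (hNK ▸ sup_le_sup_left hKM N)
    rw [← Subgroup.relIndex_top_right, ← hMN, Subgroup.relIndex_sup_right]
  obtain ⟨y, hy⟩ := exists_prime_orderOf_dvd_card' r hrN
  have hP'N : P' ≤ N := Subgroup.le_normalizer
  have : (P'.subgroupOf N).Normal := Subgroup.normal_subgroupOf_of_le_normalizer le_rfl
  have key := frobenius_edge (G := N) (p := p) (q := q) (r := r) hr hpq hpr hqr
    (P := P'.subgroupOf N) (Q := Q')
    ((P.isPGroup'.map K.subtype).of_equiv (Subgroup.subgroupOfEquivOfLe hP'N).symm)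
    (fun h => by
      rw [Subgroup.subgroupOf_eq_bot, disjoint_iff, inf_eq_left.mpr hP'N, hP',
        Subgroup.map_eq_bot_iff_of_injective _ K.subtype_injective] at h
      exact P.ne_bot_of_dvd_card hpK h)
    (Q.isPGroup'.map M'.subtype)
    (fun h => by
      rw [hQ', Subgroup.map_eq_bot_iff_of_injective _ M'.subtype_injective] at h
      exact Q.ne_bot_of_dvd_card hqM' h)
    (y := (y : N)) (by rw [Subgroup.orderOf_coe, hy]) y.2
  rcases key with ⟨x, hx⟩ | ⟨x, hx⟩ | ⟨x, hx⟩
  · exact Or.inl ⟨x, by rw [Subgroup.orderOf_coe, hx]⟩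
  · exact Or.inr (Or.inl ⟨x, by rw [Subgroup.orderOf_coe, hx]⟩)
  · exact Or.inr (Or.inr ⟨x, by rw [Subgroup.orderOf_coe, hx]⟩)

/-- In a solvable normal subgroup, one of two primes appears before the other above any normal subgroup. -/
theorem exists_split (L K : Subgroup G) [L.Normal] [K.Normal] (hLK : L ≤ K) (hK : Group.IsSolvable K)
    {r s : ℕ} (hr : r.Prime) (hs : s.Prime) (hrs : r ≠ s) (hrK : r ∣ Nat.card K / Nat.card L) :
    ∃ N : Subgroup G, N.Normal ∧ L ≤ N ∧ N ≤ K ∧
      ((r ∣ Nat.card N / Nat.card L ∧ ¬ s ∣ Nat.card N / Nat.card L) ∨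
        (s ∣ Nat.card N / Nat.card L ∧ ¬ r ∣ Nat.card N / Nat.card L)) := by
  let φ := QuotientGroup.mk' L
  have hφ : Function.Surjective φ := QuotientGroup.mk'_surjective L
  have hcard : ∀ X : Subgroup G, L ≤ X → Nat.card (X.map φ) = Nat.card X / Nat.card L := by
    intro X hX
    have h : (Subgroup.comap φ (X.map φ)) = X := by
      rw [Subgroup.comap_map_eq, QuotientGroup.ker_mk', sup_of_le_left hX]
    have h1 : Nat.card L * L.relIndex X = Nat.card X := by
      rw [← Subgroup.relIndex_bot_left L, ← Subgroup.relIndex_bot_left X,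
        Subgroup.relIndex_mul_relIndex _ _ _ bot_le hX]
    have h2 : L.relIndex X = Nat.card (X.map φ) := by
      have h3 := Subgroup.relIndex_comap (H := (⊥ : Subgroup (G ⧸ L))) φ X
      rw [MonoidHom.comap_bot, QuotientGroup.ker_mk', Subgroup.relIndex_bot_left] at h3
      exact h3
    rw [← h1, Nat.mul_div_cancel_left _ Nat.card_pos, h2]
  classical
  let S : Set (Subgroup (G ⧸ L)) := {X | X.Normal ∧ X ≤ K.map φ ∧ ¬ r ∣ Nat.card X ∧ ¬ s ∣ Nat.card X}
  obtain ⟨X, ⟨hXn, hXK, hXr, hXs⟩, hmax⟩ := (Set.toFinite S).exists_maximal ⟨⊥, inferInstance, bot_le,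
    by simp [hr.ne_one], by simp [hs.ne_one]⟩
  have : (K.map φ).Normal := Subgroup.Normal.map inferInstance φ hφ
  have hne : X ≠ K.map φ := fun h => hXr (h ▸ (hcard K hLK).symm ▸ hrK)
  let ψ := QuotientGroup.mk' X
  have hψ : Function.Surjective ψ := QuotientGroup.mk'_surjective X
  have : ((K.map φ).map ψ).Normal := Subgroup.Normal.map inferInstance ψ hψ
  have hKX : (K.map φ).map ψ ≠ ⊥ := by
    rw [Ne, Subgroup.map_eq_bot_iff, QuotientGroup.ker_mk']
    exact fun h => hne (le_antisymm hXK h)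
  obtain ⟨B, hBn, hB1, hBK, hBmin⟩ := CfsgLib.Solvable.exists_minimal_normal_le this hKX
  have hs1 : Group.IsSolvable (K.map φ) := solvable_of_surjective (φ.subgroupMap_surjective K)
  have hs2 : Group.IsSolvable ((K.map φ).map ψ) := solvable_of_surjective (ψ.subgroupMap_surjective _)
  have : Group.IsSolvable B := solvable_of_solvable_injective (Subgroup.inclusion_injective hBK)
  have : IsMulCommutative B := CfsgLib.Solvable.isMulCommutative_of_minimal_normal hB1 hBmin
  obtain ⟨p, hp, hexp⟩ := CfsgLib.Solvable.exists_prime_pow_eq_one_of_minimal_normal hB1 hBmin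
  have : Fact p.Prime := ⟨hp⟩
  obtain ⟨k, hk⟩ := IsPGroup.iff_card.mp (show IsPGroup p B from fun b => ⟨1, Subtype.ext (by simpa using hexp b b.2)⟩)
  set Y := B.comap ψ with hY
  have hXY : X ≤ Y := fun x hx => by
    show ψ x ∈ B
    rw [show ψ x = 1 from (QuotientGroup.eq_one_iff x).mpr hx]
    exact one_mem B
  have hYK : Y ≤ K.map φ := by
    intro x hx
    obtain ⟨a, ha, hax⟩ := hBK hx
    have hd : a⁻¹ * x ∈ X := QuotientGroup.eq.mp hax
    simpa using mul_mem ha (hXK hd)
  have hYcard : Nat.card Y = Nat.card X * p ^ k := by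
    have h3 := Subgroup.relIndex_comap (H := (⊥ : Subgroup ((G ⧸ L) ⧸ X))) ψ Y
    rw [MonoidHom.comap_bot, QuotientGroup.ker_mk', hY, Subgroup.map_comap_eq_self_of_surjective hψ,
      Subgroup.relIndex_bot_left, hk] at h3
    rw [← h3, ← Subgroup.relIndex_bot_left X, ← Subgroup.relIndex_bot_left Y,
      Subgroup.relIndex_mul_relIndex _ _ _ bot_le hXY]
  have hnot : r ∣ Nat.card Y ∨ s ∣ Nat.card Y := by
    by_contra h
    push Not at h
    have hle := hmax ⟨inferInstance, hYK, h.1, h.2⟩ hXY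
    apply hB1
    rw [← Subgroup.map_comap_eq_self_of_surjective hψ B, Subgroup.map_eq_bot_iff, QuotientGroup.ker_mk']
    exact hle
  have hsep : ∀ a : ℕ, a.Prime → ¬ a ∣ Nat.card X → a ∣ Nat.card Y → a = p := fun a ha hn hd => by
    rw [hYcard] at hd
    exact (Nat.prime_dvd_prime_iff_eq ha hp).mp (ha.dvd_of_dvd_pow ((ha.dvd_mul.mp hd).resolve_left hn))
  refine ⟨Y.comap φ, inferInstance, fun x hx => ?_, fun x hx => ?_, ?_⟩
  · show φ x ∈ Y
    rw [show φ x = 1 from (QuotientGroup.eq_one_iff x).mpr hx]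
    exact one_mem Y
  · obtain ⟨a, ha, hax⟩ := hYK hx
    have hd : a⁻¹ * x ∈ L := QuotientGroup.eq.mp hax
    simpa using mul_mem ha (hLK hd)
  · rw [← hcard _ (fun x hx => by
        show φ x ∈ Y
        rw [show φ x = 1 from (QuotientGroup.eq_one_iff x).mpr hx]
        exact one_mem Y), Subgroup.map_comap_eq_self_of_surjective hφ]
    rcases hnot with h | h
    · exact Or.inl ⟨h, fun h' => hrs ((hsep r hr hXr h).trans (hsep s hs hXs h').symm)⟩
    · exact Or.inr ⟨h, fun h' => hrs ((hsep r hr hXr h').trans (hsep s hs hXs h).symm)⟩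

theorem dvd_card_div {N K : Subgroup G} (hNK : N ≤ K) {r : ℕ} (hr : r.Prime) (h1 : r ∣ Nat.card K)
    (h2 : ¬ r ∣ Nat.card N) : r ∣ Nat.card K / Nat.card N := by
  obtain ⟨c, hc⟩ := Subgroup.card_dvd_of_le hNK
  rw [hc] at h1 ⊢
  rw [Nat.mul_div_cancel_left _ Nat.card_pos]
  exact (hr.dvd_mul.mp h1).resolve_left h2

theorem dvd_card_group_div {N : Subgroup G} {r : ℕ} (hr : r.Prime) (h1 : r ∣ Nat.card G)
    (h2 : ¬ r ∣ Nat.card N) : r ∣ Nat.card G / Nat.card N := by
  rw [← Subgroup.card_top] at h1 ⊢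
  exact dvd_card_div le_top hr h1 h2

/-- Two primes dividing a solvable normal subgroup and a third one dividing the order of the group. -/
theorem solvable_edge (K : Subgroup G) [K.Normal] (hK : Group.IsSolvable K) {r s t : ℕ} (hr : r.Prime)
    (hs : s.Prime) (ht : t.Prime) (hrs : r ≠ s) (hrt : r ≠ t) (hst : s ≠ t) (hrK : r ∣ Nat.card K)
    (hsK : s ∣ Nat.card K) (htG : t ∣ Nat.card G) :
    (∃ x : G, orderOf x = r * s) ∨ (∃ x : G, orderOf x = r * t) ∨ (∃ x : G, orderOf x = s * t) := by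
  have hb : ∀ X : Subgroup G, Nat.card X / Nat.card (⊥ : Subgroup G) = Nat.card X := fun X => by simp
  obtain ⟨N, hNn, -, hNK, hcase⟩ := exists_split ⊥ K bot_le hK hr hs hrs (by rwa [hb])
  rw [hb] at hcase
  have hNs : Group.IsSolvable N := solvable_of_solvable_injective (Subgroup.inclusion_injective hNK)
  have core : ∀ a b : ℕ, a.Prime → b.Prime → a ≠ b → a ≠ t → b ≠ t → a ∣ Nat.card N → ¬ b ∣ Nat.card N →
      b ∣ Nat.card K →
      (∃ x : G, orderOf x = a * b) ∨ (∃ x : G, orderOf x = a * t) ∨ (∃ x : G, orderOf x = b * t) := by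
    intro a b ha hb' hab hat hbt haN hbN hbK
    by_cases htN : t ∣ Nat.card N
    · -- `a` and `t` are separated inside `N`
      obtain ⟨N₁, hN₁, -, hle, h⟩ := exists_split ⊥ N bot_le hNs ha ht hat (by rwa [hb])
      rw [hb] at h
      rcases h with ⟨h1, h2⟩ | ⟨h1, h2⟩
      · rcases series_edge N₁ N hle a t b ha ht hb' hat hab hbt.symm h1 (dvd_card_div hle ht htN h2)
          (dvd_card_group_div hb' (hbK.trans (Subgroup.card_subgroup_dvd_card K)) hbN) with e | e | e
        · exact Or.inr (Or.inl e)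
        · exact Or.inl e
        · exact Or.inr (Or.inr (by simpa [mul_comm] using e))
      · rcases series_edge N₁ N hle t a b ht ha hb' hat.symm hbt.symm hab h1 (dvd_card_div hle ha haN h2)
          (dvd_card_group_div hb' (hbK.trans (Subgroup.card_subgroup_dvd_card K)) hbN) with e | e | e
        · exact Or.inr (Or.inl (by simpa [mul_comm] using e))
        · exact Or.inr (Or.inr (by simpa [mul_comm] using e))
        · exact Or.inl e
    by_cases htK : t ∣ Nat.card K
    · -- `b` and `t` are separated above `N`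
      obtain ⟨M, hM, hNM, hMK, h⟩ := exists_split N K hNK hK hb' ht hbt (dvd_card_div hNK hb' hbK hbN)
      rcases h with ⟨h1, h2⟩ | ⟨h1, h2⟩
      · have htM : ¬ t ∣ Nat.card M := fun h => h2 (dvd_card_div hNM ht h htN)
        exact series_edge N M hNM a b t ha hb' ht hab hat hbt haN h1 (dvd_card_group_div ht htG htM)
      · have hbM : ¬ b ∣ Nat.card M := fun h => h2 (dvd_card_div hNM hb' h hbN)
        rcases series_edge N M hNM a t b ha ht hb' hat hab hbt.symm haN h1
          (dvd_card_group_div hb' (hbK.trans (Subgroup.card_subgroup_dvd_card K)) hbM) with e | e | e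
        · exact Or.inr (Or.inl e)
        · exact Or.inl e
        · exact Or.inr (Or.inr (by simpa [mul_comm] using e))
    · exact series_edge N K hNK a b t ha hb' ht hab hat hbt haN (dvd_card_div hNK hb' hbK hbN)
        (dvd_card_group_div ht htG htK)
  rcases hcase with ⟨h1, h2⟩ | ⟨h1, h2⟩
  · exact core r s hr hs hrs hrt hst h1 h2 hsK
  · rcases core s r hs hr hrs.symm hst hrt h1 h2 hrK with e | e | e
    · exact Or.inl (by simpa [mul_comm] using e)
    · exact Or.inr (Or.inr e)
    · exact Or.inr (Or.inl e)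

end CfsgLib.Recog
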