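import Cfsg.Agent.Lib.Recog.OrderM11Five

/-!
# Simple groups of order 7920: the ten character degrees

The characters are indexed as `1, 10, 10, 10, 45, 16, 16, 11, 44, 55`.
-/

set_option autoImplicit false
set_option linter.unusedSectionVars false

namespace CfsgLib.Recog.OrderM11

open Cfsg CfsgLib.Char
open scoped ComplexConjugate _root_.Classical

universe u

variable {G : Type u} [Group G] [Finite G]

/-- The character degrees and the relations on regular elements. -/
structure Table (x : G) (c : Fin 10 → IrrCharacter G) : Prop where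
  order : orderOf x = 11
  bij : Function.Bijective c
  one : (c 0 : G → ℂ) = fun _ => 1
  deg : ∀ i, charDegree (c i : G → ℂ) = ![1, 10, 10, 10, 45, 16, 16, 11, 44, 55] i
  block : BlockEleven x ![c 1, c 2, c 3] (c 4) (c 5) (c 6)
  rel5 : ∀ g : G, ¬ 5 ∣ orderOf g →
    (c 8 : G → ℂ) g = 1 + (c 5 : G → ℂ) g + (c 6 : G → ℂ) g + (c 7 : G → ℂ) g

theorem Table.sum_eq [Fintype (IrrCharacter G)] {x : G} {c : Fin 10 → IrrCharacter G}
    (T : Table x c) {R : Type*} [AddCommMonoid R] (f : IrrCharacter G → R) :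
    ∑ χ : IrrCharacter G, f χ = f (c 0) + f (c 1) + f (c 2) + f (c 3) + f (c 4) + f (c 5) +
      f (c 6) + f (c 7) + f (c 8) + f (c 9) := by
  rw [← (Equiv.ofBijective c T.bij).sum_comp, Fin.sum_univ_succ, Fin.sum_univ_succ,
    Fin.sum_univ_succ, Fin.sum_univ_succ, Fin.sum_univ_succ, Fin.sum_univ_succ,
    Fin.sum_univ_succ, Fin.sum_univ_succ, Fin.sum_univ_succ, Fin.sum_univ_succ]
  simp only [Finset.univ_eq_empty, Finset.sum_empty, add_zero, ← add_assoc]
  rfl

variable [IsSimpleGroup G] (hcard : Nat.card G = 7920)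
include hcard

/-- A simple group of order 7920 has the degree table. -/
theorem exists_table : ∃ (x : G) (c : Fin 10 → IrrCharacter G), Table x c := by
  have : Fact (Nat.Prime 5) := ⟨by norm_num⟩
  have := Fintype.ofFinite G
  have := Fintype.ofFinite (IrrCharacter G)
  obtain ⟨x, t, u, ψ, ψ', B⟩ := exists_blockEleven hcard
  obtain ⟨y, hy⟩ := exists_prime_orderOf_dvd_card' (G := G) 5 (by rw [hcard]; norm_num)
  obtain ⟨P, hP'⟩ := CfsgLib.Block.SelfCentralPrime.exists_sylow_eq hy (centralizer_five hcard hy)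
  obtain ⟨hP, -, hrel⟩ := five hcard P
  obtain ⟨M, hM⟩ := CfsgLib.BlockB.exists_isPModular (p := 5) (by norm_num)
  obtain ⟨a, -, hrows, -⟩ := exists_rowsAt hM P hP hrel (by norm_num) (by norm_num)
  obtain ⟨S, hS⟩ := hrows 1
  set one : IrrCharacter G := ⟨fun _ => 1, isIrrCharacter_one⟩
  have hd1 : charDegree (one : G → ℂ) = 1 := one_deg hcard
  have hne : ∀ χ χ' : IrrCharacter G, charDegree (χ : G → ℂ) ≠ charDegree (χ' : G → ℂ) → χ ≠ χ' :=
    fun χ χ' h e => h (e ▸ rfl)
  have hmod : ∀ χ ∈ S, a χ 1 * (charDegree (χ : G → ℂ) : ℤ) % 5 = 4 := by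
    intro χ hχ
    rcases hS.shape χ hχ with ⟨-, h, -⟩ | ⟨-, h, -⟩
    · rw [Int.ModEq] at h; omega
    · exact absurd rfl h
  have hrest : ∀ χ, χ ∉ S → 5 ∣ charDegree (χ : G → ℂ) := fun χ hχ =>
    (rest_vanish hcard hy (centralizer_five hcard hy) S (by
      have h4 : ∀ χ ∈ S, charDegree (χ : G → ℂ) % 5 * (5 - charDegree (χ : G → ℂ) % 5) = 4 := by
        intro χ hχ
        have h := hmod χ hχ
        have : charDegree (χ : G → ℂ) % 5 = 1 ∨ charDegree (χ : G → ℂ) % 5 = 4 := by
          rcases hS.sign χ hχ with e | e <;> rw [e] at h <;> omega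
        rcases this with e | e <;> rw [e]
      rw [Finset.sum_congr rfl h4, Finset.sum_const, hS.card, smul_eq_mul]) χ hχ).1
  have hψ : ψ ∈ S := by
    by_contra h
    simpa [B.deg_ψ] using hrest ψ h
  have hψ' : ψ' ∈ S := by
    by_contra h
    simpa [B.deg_ψ'] using hrest ψ' h
  set U := ((S.erase one).erase ψ).erase ψ'
  have hψe : ψ ∈ S.erase one :=
    Finset.mem_erase.2 ⟨hne _ _ (by rw [B.deg_ψ, hd1]; norm_num), hψ⟩
  have hψ'e : ψ' ∈ (S.erase one).erase ψ :=
    Finset.mem_erase.2 ⟨B.ne.symm, Finset.mem_erase.2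
      ⟨hne _ _ (by rw [B.deg_ψ', hd1]; norm_num), hψ'⟩⟩
  have hU : U.card = 2 := by
    rw [Finset.card_erase_of_mem hψ'e, Finset.card_erase_of_mem hψe,
      Finset.card_erase_of_mem hS.one_mem, hS.card]
  obtain ⟨D, D', hDD, hset⟩ := Finset.card_eq_two.1 hU
  have hdeg := hS.degree
  rw [← Finset.add_sum_erase _ _ hS.one_mem, ← Finset.add_sum_erase _ _ hψe,
    ← Finset.add_sum_erase _ _ hψ'e] at hdeg
  rw [show ((S.erase one).erase ψ).erase ψ' = {D, D'} from hset, Finset.sum_pair hDD, hS.one_eq,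
    B.deg_ψ, B.deg_ψ', one_deg hcard] at hdeg
  have hU' : ∀ r ∈ ({D, D'} : Finset (IrrCharacter G)), r ∈ S ∧ r ≠ one ∧ r ≠ ψ ∧ r ≠ ψ' := by
    intro r hr
    rw [← hset] at hr
    simp only [U, Finset.mem_erase] at hr
    exact ⟨hr.2.2.2, hr.2.2.1, hr.2.1, hr.1⟩
  have hUv : ∀ r ∈ ({D, D'} : Finset (IrrCharacter G)),
      (a r 1 = 1 ∨ a r 1 = -1) ∧ a r 1 * (charDegree (r : G → ℂ) : ℤ) % 5 = 4 ∧
        (charDegree (r : G → ℂ) = 11 ∨ charDegree (r : G → ℂ) = 22 ∨
          charDegree (r : G → ℂ) = 33 ∨ charDegree (r : G → ℂ) = 44 ∨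
          charDegree (r : G → ℂ) = 66 ∨ charDegree (r : G → ℂ) = 88) := by
    intro r hr
    obtain ⟨hm, h1, h2, h3⟩ := hU' r hr
    refine ⟨hS.sign r hm, hmod r hm, ?_⟩
    have h5 : ¬ 5 ∣ charDegree (r : G → ℂ) := fun h => by
      have h' := hmod r hm
      rcases hS.sign r hm with e | e <;> rw [e] at h' <;> omega
    rcases B.rest r with h | ⟨i, h⟩ | h | h | h | ⟨h, -⟩
    · exact absurd (Subtype.ext h) h1
    · exact absurd (by rw [h, B.deg_t]; norm_num) h5
    · exact absurd (by rw [h, B.deg_u]; norm_num) h5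
    · exact absurd h h2
    · exact absurd h h3
    · obtain ⟨hd, hl, -⟩ := degree_facts hcard r
      have hmem := degree_mem hcard hd hl
      simp only [List.mem_cons, List.not_mem_nil, or_false] at hmem
      omega
  obtain ⟨hDs, hD5, hDd⟩ := hUv D (by simp)
  obtain ⟨hDs', hD5', hDd'⟩ := hUv D' (by simp)
  have hψm := hmod ψ hψ
  have hψm' := hmod ψ' hψ'
  rw [B.deg_ψ] at hψm
  rw [B.deg_ψ'] at hψm'
  have haψ : a ψ 1 = -1 := by rcases hS.sign ψ hψ with e | e <;> rw [e] at hψm ⊢ <;> omega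
  have haψ' : a ψ' 1 = -1 := by rcases hS.sign ψ' hψ' with e | e <;> rw [e] at hψm' ⊢ <;> omega
  rw [haψ, haψ'] at hdeg
  obtain ⟨D₁, D₂, h12, hset', hd₁, hd₂, ha₁, ha₂⟩ : ∃ D₁ D₂ : IrrCharacter G, D₁ ≠ D₂ ∧
      ({D, D'} : Finset (IrrCharacter G)) = {D₁, D₂} ∧ charDegree (D₁ : G → ℂ) = 11 ∧
      charDegree (D₂ : G → ℂ) = 44 ∧ a D₁ 1 = -1 ∧ a D₂ 1 = 1 := by
    by_cases h : charDegree (D : G → ℂ) = 11
    · refine ⟨D, D', hDD, rfl, h, ?_⟩
      rcases hDs with e | e <;> rcases hDs' with e' | e' <;> rw [e] at hD5 hdeg ⊢ <;>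
        rw [e'] at hD5' hdeg ⊢ <;> refine ⟨?_, ?_, ?_⟩ <;> omega
    · refine ⟨D', D, hDD.symm, Finset.pair_comm _ _, ?_⟩
      rcases hDs with e | e <;> rcases hDs' with e' | e' <;> rw [e] at hD5 hdeg ⊢ <;>
        rw [e'] at hD5' hdeg ⊢ <;> refine ⟨?_, ?_, ?_, ?_⟩ <;> omega
  -- the rest
  set V : Finset (IrrCharacter G) := {one, t 0, t 1, t 2, u, ψ, ψ', D₁, D₂}
  have hV : ∀ χ, χ ∉ V → charDegree (χ : G → ℂ) = 55 := by
    intro χ hχ
    simp only [V, Finset.mem_insert, Finset.mem_singleton, not_or] at hχ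
    obtain ⟨h1, h2, h3, h4, h5, h6, h7, h8, h9⟩ := hχ
    have hS' : χ ∉ S := fun hm => by
      have : χ ∈ U := by
        simp only [U, Finset.mem_erase]
        exact ⟨h7, h6, h1, hm⟩
      rw [hset, hset'] at this
      simp [h8, h9] at this
    have h55 := hrest χ hS'
    rcases B.rest χ with h | ⟨i, h⟩ | h | h | h | ⟨h, -⟩
    · exact absurd (Subtype.ext h) h1
    · fin_cases i
      · exact absurd h h2
      · exact absurd h h3
      · exact absurd h h4
    · exact absurd h h5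
    · exact absurd h h6
    · exact absurd h h7
    · obtain ⟨hd, hl, -⟩ := degree_facts hcard χ
      have := CfsgLib.BlockB.irr_degree_pos χ
      omega
  let e9 : Fin 9 → IrrCharacter G := ![one, t 0, t 1, t 2, u, ψ, ψ', D₁, D₂]
  have hde9 : ∀ i, charDegree (e9 i : G → ℂ) = ![1, 10, 10, 10, 45, 16, 16, 11, 44] i := by
    intro i
    fin_cases i <;> first
      | exact hd1
      | exact B.deg_t _
      | exact B.deg_u
      | exact B.deg_ψ
      | exact B.deg_ψ'
      | exact hd₁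
      | exact hd₂
  have hinj9 : Function.Injective e9 := by
    intro i j h
    have hd : (![1, 10, 10, 10, 45, 16, 16, 11, 44] : Fin 9 → ℕ) i =
        (![1, 10, 10, 10, 45, 16, 16, 11, 44] : Fin 9 → ℕ) j := by
      rw [← hde9, ← hde9, h]
    fin_cases i <;> fin_cases j <;> first
      | rfl
      | (exfalso; revert hd; decide)
      | exact absurd h B.ne
      | exact absurd h B.ne.symm
      | exact absurd (B.inj h) (by decide)
  have hVimg : V = Finset.univ.image e9 := by
    ext χ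
    simp [V, e9, Fin.exists_fin_succ, eq_comm]
  have hrestcard : (Finset.univ \ V).card = 1 := by
    have h1 := sum_irr_sq (G := G)
    simp only [← CfsgLib.BlockB.irr_degree_cast, hcard] at h1
    have h2 : ∑ χ : IrrCharacter G, charDegree (χ : G → ℂ) ^ 2 = 7920 := by exact_mod_cast h1
    rw [← Finset.sum_sdiff (Finset.subset_univ V), Finset.sum_congr rfl fun χ hχ => by
        rw [hV χ (Finset.mem_sdiff.1 hχ).2], Finset.sum_const, hVimg,
      Finset.sum_image fun i _ j _ h => hinj9 h, Finset.sum_congr rfl fun i _ => by rw [hde9 i]]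
      at h2
    rw [hVimg]
    simp [Fin.sum_univ_succ] at h2
    omega
  obtain ⟨F, hF⟩ := Finset.card_eq_one.1 hrestcard
  have hFm : F ∉ V := (Finset.mem_sdiff.1 (hF ▸ Finset.mem_singleton_self F)).2
  have hFV : ∀ i, e9 i ≠ F := fun i h => hFm (by
    rw [hVimg, ← h]; exact Finset.mem_image_of_mem _ (Finset.mem_univ i))
  let c : Fin 10 → IrrCharacter G := Fin.snoc e9 F
  have hcc : ∀ i : Fin 9, c i.castSucc = e9 i := fun i => Fin.snoc_castSucc (α := fun _ => _) _ _ i
  have hcl : c (Fin.last 9) = F := Fin.snoc_last (α := fun _ => _) _ _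
  refine ⟨x, c, B.order, ⟨?_, ?_⟩, rfl, ?_, ?_, ?_⟩
  · intro i j h
    induction i using Fin.lastCases with
    | last =>
      induction j using Fin.lastCases with
      | last => rfl
      | cast j => rw [hcl, hcc] at h; exact absurd h.symm (hFV j)
    | cast i =>
      induction j using Fin.lastCases with
      | last => rw [hcl, hcc] at h; exact absurd h (hFV i)
      | cast j => rw [hcc, hcc] at h; rw [hinj9 h]
  · intro χ
    by_cases hχ : χ ∈ V
    · rw [hVimg, Finset.mem_image] at hχ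
      obtain ⟨i, -, hi⟩ := hχ
      exact ⟨i.castSucc, (hcc i).trans hi⟩
    · refine ⟨Fin.last 9, hcl.trans ?_⟩
      have : χ ∈ Finset.univ \ V := Finset.mem_sdiff.2 ⟨Finset.mem_univ _, hχ⟩
      rw [hF, Finset.mem_singleton] at this
      exact this.symm
  · intro i
    induction i using Fin.lastCases with
    | last => rw [hcl, hV F hFm]; rfl
    | cast i => rw [hcc, hde9]; fin_cases i <;> rfl
  · have : (![c 1, c 2, c 3] : Fin 3 → IrrCharacter G) = t := by
      funext i; fin_cases i <;> rfl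
    rw [this]
    exact B
  · intro g hg
    have h := hS.relation g hg
    rw [← Finset.add_sum_erase _ _ hS.one_mem, ← Finset.add_sum_erase _ _ hψe,
      ← Finset.add_sum_erase _ _ hψ'e] at h
    rw [show ((S.erase one).erase ψ).erase ψ' = {D₁, D₂} from hset.trans hset',
      Finset.sum_pair h12, hS.one_eq, haψ, haψ', ha₁, ha₂] at h
    change (D₂ : G → ℂ) g = 1 + (ψ : G → ℂ) g + (ψ' : G → ℂ) g + (D₁ : G → ℂ) g
    push_cast at h
    linear_combination h

/-- The character degrees of a simple group of order 7920. -/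
theorem degree_count : Nat.card (IrrCharacter G) = 10 ∧
    ∀ n : ℕ, Nat.card {χ : IrrCharacter G // charDegree (χ : G → ℂ) = n} =
      (if n = 1 ∨ n = 11 ∨ n = 44 ∨ n = 45 ∨ n = 55 then 1
        else if n = 10 then 3 else if n = 16 then 2 else 0) := by
  obtain ⟨x, c, T⟩ := exists_table hcard
  refine ⟨by rw [← Nat.card_congr (Equiv.ofBijective c T.bij), Nat.card_fin], fun n => ?_⟩
  have e : {i : Fin 10 // (![1, 10, 10, 10, 45, 16, 16, 11, 44, 55] : Fin 10 → ℕ) i = n} ≃
      {χ : IrrCharacter G // charDegree (χ : G → ℂ) = n} :=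
    (Equiv.ofBijective c T.bij).subtypeEquiv fun i => by
      rw [Equiv.ofBijective_apply, T.deg]
  rw [← Nat.card_congr e]
  by_cases hn : n < 56
  · interval_cases n <;> rw [Nat.card_eq_fintype_card] <;> rfl
  · rw [if_neg (by omega), if_neg (by omega), if_neg (by omega), Nat.card_eq_zero]
    refine Or.inl ⟨fun i => ?_⟩
    obtain ⟨i, hi⟩ := i
    fin_cases i <;> simp at hi <;> omega

end CfsgLib.Recog.OrderM11
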