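import Mathlib

/-!
# Simple groups of order 7920: explicit permutations of eleven points

Checks on the ten candidates for the third generator.
-/

set_option autoImplicit false

namespace CfsgLib.Recog.OrderM11

/-- Translation by one. -/
def cP : Equiv.Perm (ZMod 11) := ⟨fun i => i + 1, fun i => i + 10, by decide +kernel, by decide +kernel⟩

/-- Multiplication by three. -/
def mP : Equiv.Perm (ZMod 11) := ⟨fun i => 3 * i, fun i => 4 * i, by decide +kernel, by decide +kernel⟩

/-- Negation. -/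
def nP : Equiv.Perm (ZMod 11) := ⟨fun i => -i, fun i => -i, by decide +kernel, by decide +kernel⟩

/-- A map commuting with the automizer, from its values at one and two. -/
def tw (a b : ZMod 11) (i : ZMod 11) : ZMod 11 :=
  [0, a, b, 9 * a, 5 * a, 3 * a, 9 * b, 4 * b, 5 * b, 4 * a, 3 * b].getD i.val 0

/-- The first admissible third generator. -/
def wP : Equiv.Perm (ZMod 11) :=
  ⟨tw 1 6, fun i => ([0, 1, 7, 5, 9, 4, 2, 10, 8, 3, 6] : List (ZMod 11)).getD i.val 0,
    by decide +kernel, by decide +kernel⟩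

/-- The group of degree eleven. -/
def M11Grp : Subgroup (Equiv.Perm (ZMod 11)) := Subgroup.closure {cP, mP, wP}

theorem tw_spec {f : ZMod 11 → ZMod 11} (h : ∀ i, f (3 * i) = 9 * f i) (i : ZMod 11) :
    f i = tw (f 1) (f 2) i := by
  have h0 : f 0 = 0 := by
    have e := h 0
    rw [mul_zero] at e
    revert e
    generalize f 0 = t
    revert t
    decide +kernel
  have step : ∀ i j : ZMod 11, ∀ k l a : ZMod 11, 3 * i = j → f i = k * a → 9 * k = l →
      f j = l * a := by
    intro i j k l a hj hi hl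
    rw [← hj, h, hi, ← mul_assoc, hl]
  have h1 := (one_mul (f 1)).symm
  have h3 := step 1 3 1 9 _ (by decide) h1 (by decide)
  have h9 := step 3 9 9 4 _ (by decide) h3 (by decide)
  have h5 := step 9 5 4 3 _ (by decide) h9 (by decide)
  have h4 := step 5 4 3 5 _ (by decide) h5 (by decide)
  have h2 := (one_mul (f 2)).symm
  have h6 := step 2 6 1 9 _ (by decide) h2 (by decide)
  have h7 := step 6 7 9 4 _ (by decide) h6 (by decide)
  have h10 := step 7 10 4 3 _ (by decide) h7 (by decide)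
  have h8 := step 10 8 3 5 _ (by decide) h10 (by decide)
  fin_cases i
  · exact h0
  · rfl
  · rfl
  · exact h3
  · exact h4
  · exact h5
  · exact h6
  · exact h7
  · exact h8
  · exact h9
  · exact h10

theorem scale_cases : ∀ a : ZMod 11, a ≠ 0 → ∃ j < 5, 3 ^ j * a = 1 ∨ 3 ^ j * a = 2 := by
  decide +kernel

theorem pair_cases : ∀ a b : ZMod 11, a = 1 ∨ a = 2 → b ≠ 0 → b ≠ a → b ≠ 9 * a → b ≠ 4 * a →
    b ≠ 3 * a → b ≠ 5 * a →
    (a, b) ∈ ([(1, 2), (1, 6), (1, 7), (1, 10), (1, 8), (2, 1), (2, 3), (2, 9), (2, 5), (2, 4)] :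
      List (ZMod 11 × ZMod 11)) := by
  decide +kernel

/-- The words excluding the bad candidates. -/
def word (a b : ZMod 11) : ZMod 11 → ZMod 11 :=
  let c : ZMod 11 → ZMod 11 := fun i => i + 1
  let m : ZMod 11 → ZMod 11 := fun i => 3 * i
  let w := tw a b
  if (a, b) = (1, 2) then c ∘ w ∘ m else
  if (a, b) = (1, 7) then c ∘ c ∘ w else
  if (a, b) = (1, 8) then c ∘ c ∘ w else
  if (a, b) = (2, 1) then c ∘ w else
  if (a, b) = (2, 3) then c ∘ w ∘ c ∘ w ∘ m else
  if (a, b) = (2, 9) then c ∘ c ∘ w ∘ m else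
  if (a, b) = (2, 5) then c ∘ m ∘ w else
  c ∘ c ∘ m ∘ w

/-- The orders of the words. -/
def wordOrd (a b : ZMod 11) : ℕ :=
  if a = 1 then 21 else if (a, b) = (2, 5) ∨ (a, b) = (2, 4) then 28 else 14

theorem word_ord : ∀ p ∈ ([(1, 2), (1, 7), (1, 8), (2, 1), (2, 3), (2, 9), (2, 5), (2, 4)] :
      List (ZMod 11 × ZMod 11)),
    (∀ i, (word p.1 p.2)^[wordOrd p.1 p.2] i = i) ∧
      ∃ i, (word p.1 p.2)^[7920 % wordOrd p.1 p.2] i ≠ i := by
  decide +kernel

theorem nP_cP : nP * cP * nP⁻¹ = cP⁻¹ := by decide +kernel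
theorem nP_mP : nP * mP * nP⁻¹ = mP := by decide +kernel

theorem nP_tw : ∀ i, nP (tw 1 10 (nP i)) = 3 * wP i := by decide +kernel

end CfsgLib.Recog.OrderM11
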