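import Cfsg.Agent.Lib.Recog.OrderM11Five

/-!
# Simple groups of order 7920: three generators

A normalizer chain `x ↦ y ↦ w` of elements of orders 11, 5 and a multiple of 4.
-/

set_option autoImplicit false
set_option linter.unusedSectionVars false

namespace CfsgLib.Recog.OrderM11

open Cfsg CfsgLib.Char
open scoped _root_.Classical Pointwise

universe u

theorem exists_pow_lt_of_mem {H : Type u} [Group H] [Finite H] {x a : H} {n : ℕ}
    (hx : orderOf x = n) (ha : a ∈ Subgroup.zpowers x) : ∃ k < n, a = x ^ k := by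
  obtain ⟨k, hk⟩ := (isOfFinOrder_of_finite x).mem_powers_iff_mem_zpowers.2 ha
  exact ⟨k % n, Nat.mod_lt _ (hx ▸ orderOf_pos x), by rw [← hk, ← hx, pow_mod_orderOf]⟩

theorem mem_normalizer_of_conj {H : Type u} [Group H] [Finite H] {g x : H} {n k : ℕ}
    (_hx : orderOf x = n) (h : g * x * g⁻¹ = x ^ k) :
    g ∈ Subgroup.normalizer (Subgroup.zpowers x : Set H) := by
  refine Subgroup.mem_normalizer_fintype ?_
  rintro a ⟨i, rfl⟩
  exact ⟨(k : ℤ) * i, by rw [← conj_zpow, h]; simp [zpow_mul]⟩

variable {G : Type u} [Group G] [Finite G] [IsSimpleGroup G] (hcard : Nat.card G = 7920)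
include hcard

/-- A Sylow subgroup of prime order generated by a given element. -/
theorem exists_sylow_zpowers {p : ℕ} [Fact p.Prime] {z : G} (hz : orderOf z = p)
    (h2 : ¬ p ^ 2 ∣ 7920) : ∃ P : Sylow p G, (P : Subgroup G) = Subgroup.zpowers z := by
  refine ⟨Sylow.ofCard (Subgroup.zpowers z) ?_, rfl⟩
  rw [Nat.card_zpowers, hz, hcard]
  have h1 : 1 ≤ (7920 : ℕ).factorization p :=
    (Nat.Prime.dvd_iff_one_le_factorization Fact.out (by norm_num)).1
      (hcard ▸ hz ▸ orderOf_dvd_natCard z)
  have h3 : (7920 : ℕ).factorization p < 2 := by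
    by_contra h
    exact h2 ((Nat.Prime.pow_dvd_iff_le_factorization Fact.out (by norm_num)).2 (by omega))
  rw [show (7920 : ℕ).factorization p = 1 by omega, pow_one]

theorem card_normalizer_eleven {x : G} (hx : orderOf x = 11) :
    Nat.card (Subgroup.normalizer (Subgroup.zpowers x : Set G)) = 55 := by
  have : Fact (Nat.Prime 11) := ⟨by norm_num⟩
  obtain ⟨P, hP⟩ := exists_sylow_zpowers hcard hx (by norm_num)
  obtain ⟨-, hC, hrel⟩ := eleven hcard P
  rw [hP] at hC hrel
  have h := Subgroup.relIndex_mul_relIndex ⊥ _ _ bot_le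
    (Subgroup.centralizer_le_normalizer (Subgroup.zpowers x : Set G))
  rw [Subgroup.relIndex_bot_left, Subgroup.relIndex_bot_left, hC, hrel] at h
  omega

theorem card_normalizer_five {y : G} (hy : orderOf y = 5) :
    Nat.card (Subgroup.normalizer (Subgroup.zpowers y : Set G)) = 20 := by
  have : Fact (Nat.Prime 5) := ⟨by norm_num⟩
  obtain ⟨P, hP⟩ := exists_sylow_zpowers hcard hy (by norm_num)
  obtain ⟨-, hC, hrel⟩ := five hcard P
  rw [hP] at hC hrel
  have h := Subgroup.relIndex_mul_relIndex ⊥ _ _ bot_le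
    (Subgroup.centralizer_le_normalizer (Subgroup.zpowers y : Set G))
  rw [Subgroup.relIndex_bot_left, Subgroup.relIndex_bot_left, hC, hrel] at h
  omega

/-- An element normalizing an element of order 11 and raising it to the third power. -/
theorem exists_conj_three {x : G} (hx : orderOf x = 11) : ∃ g : G, g * x * g⁻¹ = x ^ 3 := by
  have hN := card_normalizer_eleven hcard hx
  have hC : Nat.card (Subgroup.centralizer ({x} : Set G)) = 11 := by
    rw [centralizer_eleven hcard hx, Nat.card_zpowers, hx]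
  obtain ⟨g, hgN, hgC⟩ : ∃ g ∈ Subgroup.normalizer (Subgroup.zpowers x : Set G),
      g ∉ Subgroup.centralizer ({x} : Set G) := by
    by_contra! h
    have := Subgroup.card_le_of_le (G := G) h
    omega
  have hmem : g * x * g⁻¹ ∈ Subgroup.zpowers x :=
    (Subgroup.mem_normalizer_iff.1 hgN x).1 (Subgroup.mem_zpowers x)
  obtain ⟨k, hk, hkx⟩ := exists_pow_lt_of_mem hx hmem
  have hiter : ∀ n : ℕ, g ^ n * x * (g ^ n)⁻¹ = x ^ (k ^ n) := by
    intro n
    induction n with
    | zero => simp
    | succ n ih =>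
      have h1 : g ^ (n + 1) * x * (g ^ (n + 1))⁻¹ = g ^ n * (g * x * g⁻¹) * (g ^ n)⁻¹ := by
        simp only [pow_succ, mul_inv_rev, mul_assoc]
      rw [h1, hkx, ← conj_pow, ih, ← pow_mul, ← pow_succ]
  have h55 : g ^ 55 = 1 := by
    have h := pow_card_eq_one' (x := (⟨g, hgN⟩ : Subgroup.normalizer (Subgroup.zpowers x : Set G)))
    rw [hN] at h
    exact congrArg Subtype.val h
  have hk55 : k ^ 55 % 11 = 1 := by
    have h := hiter 55
    rw [h55, one_mul, inv_one, mul_one] at h
    have h2 : x ^ 1 = x ^ k ^ 55 := by rw [pow_one]; exact h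
    rw [pow_eq_pow_iff_modEq, hx] at h2
    exact h2.symm
  have hk1 : k ≠ 1 := by
    rintro rfl
    rw [pow_one, mul_inv_eq_iff_eq_mul] at hkx
    exact hgC (Subgroup.mem_centralizer_singleton_iff.2 hkx)
  have key : ∀ k < (11 : ℕ), k ^ 55 % 11 = 1 → k ≠ 1 → ∃ j < 5, k ^ j % 11 = 3 := by decide +kernel
  obtain ⟨j, -, hj⟩ := key k hk hk55 hk1
  refine ⟨g ^ j, ?_⟩
  rw [hiter j, ← hj]
  conv_rhs => rw [← hx]
  exact (pow_mod_orderOf _ _).symm

/-- An element normalizing an element of order 5 and squaring it. -/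
theorem exists_conj_two {y : G} (hy : orderOf y = 5) : ∃ g : G, g * y * g⁻¹ = y ^ 2 := by
  have hN := card_normalizer_five hcard hy
  have := Fintype.ofFinite G
  by_contra! hno
  have hk : ∀ g ∈ Subgroup.normalizer (Subgroup.zpowers y : Set G),
      g * y * g⁻¹ = y ∨ g * y * g⁻¹ = y ^ 4 := by
    intro g hg
    have hmem : g * y * g⁻¹ ∈ Subgroup.zpowers y :=
      (Subgroup.mem_normalizer_iff.1 hg y).1 (Subgroup.mem_zpowers y)
    obtain ⟨k, hk, hky⟩ := exists_pow_lt_of_mem hy hmem
    have hy1 : y ≠ 1 := fun h => by simp [h] at hy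
    interval_cases k
    · rw [pow_zero] at hky
      exact absurd (conj_eq_one_iff.1 hky) hy1
    · exact Or.inl (hky.trans (pow_one y))
    · exact absurd hky (hno g)
    · refine absurd ?_ (hno g⁻¹)
      have h6 : y ^ 6 = y := by
        rw [show 6 = 5 + 1 from rfl, pow_succ, ← hy, pow_orderOf_eq_one, one_mul]
      have h2 : g * y ^ 2 * g⁻¹ = y := by rw [← conj_pow, hky, ← pow_mul]; exact h6
      rw [inv_inv]
      calc g⁻¹ * y * g = g⁻¹ * (g * y ^ 2 * g⁻¹) * g := by rw [h2]
        _ = y ^ 2 := by group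
    · exact Or.inr hky
  set S := Finset.univ.filter fun g : G => g * y * g⁻¹ = y with hS
  have hSc : S.card = 5 := by
    have hC : Nat.card (Subgroup.centralizer ({y} : Set G)) = 5 := by
      rw [centralizer_five hcard hy, Nat.card_zpowers, hy]
    rw [← hC, ← SetLike.coe_sort_coe, Nat.card_eq_fintype_card, ← Set.toFinset_card]
    refine congrArg Finset.card ?_
    ext g
    simp [hS, Subgroup.mem_centralizer_singleton_iff, mul_inv_eq_iff_eq_mul]
  set T := Finset.univ.filter fun g : G => g * y * g⁻¹ = y ^ 4 with hT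
  have hTc : T.card ≤ 5 := by
    rcases T.eq_empty_or_nonempty with h | ⟨g₀, hg₀⟩
    · simp [h]
    refine le_trans (Finset.card_le_card_of_injOn (fun g => g₀⁻¹ * g) (fun g hg => ?_)
      fun a _ b _ e => mul_left_cancel e) hSc.le
    rw [hT, Finset.mem_filter] at hg₀
    rw [Finset.mem_coe, hT, Finset.mem_filter] at hg
    rw [Finset.mem_coe, hS, Finset.mem_filter]
    refine ⟨Finset.mem_univ _, ?_⟩
    calc g₀⁻¹ * g * y * (g₀⁻¹ * g)⁻¹ = g₀⁻¹ * (g * y * g⁻¹) * g₀ := by group
      _ = g₀⁻¹ * (g₀ * y * g₀⁻¹) * g₀ := by rw [hg.2, hg₀.2]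
      _ = y := by group
  have hle : Nat.card (Subgroup.normalizer (Subgroup.zpowers y : Set G)) ≤ (S ∪ T).card := by
    rw [← SetLike.coe_sort_coe, Nat.card_eq_fintype_card, ← Set.toFinset_card]
    refine Finset.card_le_card fun g hg => ?_
    rw [Set.mem_toFinset] at hg
    rcases hk g hg with h | h
    · exact Finset.mem_union_left _ (Finset.mem_filter.2 ⟨Finset.mem_univ _, h⟩)
    · exact Finset.mem_union_right _ (Finset.mem_filter.2 ⟨Finset.mem_univ _, h⟩)
  have := Finset.card_union_le S T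
  omega

/-- Sylow counting inside a subgroup containing a normalizer. -/
theorem count_mod {p : ℕ} [Fact p.Prime] {z : G} (hz : orderOf z = p) (h2 : ¬ p ^ 2 ∣ 7920)
    (H : Subgroup G) (hN : Subgroup.normalizer (Subgroup.zpowers z : Set G) ≤ H) :
    (Nat.card H / Nat.card (Subgroup.normalizer (Subgroup.zpowers z : Set G))) % p = 1 := by
  have hzH : Subgroup.zpowers z ≤ H := Subgroup.le_normalizer.trans hN
  have hp : Nat.Prime p := Fact.out
  have hc : Nat.card ((Subgroup.zpowers z).subgroupOf H) = p := by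
    rw [Nat.card_congr (Subgroup.subgroupOfEquivOfLe hzH).toEquiv, Nat.card_zpowers, hz]
  have h1 : 1 ≤ (Nat.card H).factorization p :=
    (hp.dvd_iff_one_le_factorization Nat.card_pos.ne').1
      (hc ▸ Subgroup.card_subgroup_dvd_card _)
  have h3 : (Nat.card H).factorization p < 2 := by
    by_contra h
    exact h2 (hcard ▸ dvd_trans ((hp.pow_dvd_iff_le_factorization Nat.card_pos.ne').2 (by omega))
      (Subgroup.card_subgroup_dvd_card H))
  let Q : Sylow p H := Sylow.ofCard ((Subgroup.zpowers z).subgroupOf H) (by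
    rw [hc, show (Nat.card H).factorization p = 1 by omega, pow_one])
  have hmod := card_sylow_modEq_one p H
  rw [Q.card_eq_index_normalizer] at hmod
  change (Subgroup.normalizer ((Subgroup.zpowers z).subgroupOf H : Set H)).index ≡ 1 [MOD p]
    at hmod
  rw [← Subgroup.subgroupOf_normalizer_eq hzH] at hmod
  have hmul := Subgroup.index_mul_card
    ((Subgroup.normalizer (Subgroup.zpowers z : Set G)).subgroupOf H)
  rw [Nat.card_congr (Subgroup.subgroupOfEquivOfLe hN).toEquiv] at hmul
  have hdiv := Nat.eq_div_of_mul_eq_left (by exact Nat.card_pos.ne') hmul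
  rw [← hdiv]
  exact Eq.trans hmod (Nat.mod_eq_of_lt hp.one_lt)

/-- Every subgroup of index 11 or less is the whole group. -/
theorem index_ge {H : Subgroup G} (hH : H ≠ ⊤) : 11 ≤ H.index := by
  by_contra! hlt
  have hcore : H.normalCore = ⊥ := (Subgroup.normalCore_normal H).eq_bot_or_eq_top.resolve_right
    fun h => hH (top_le_iff.1 (h ▸ H.normalCore_le))
  have hinj : Function.Injective (MulAction.toPermHom G (G ⧸ H)) := by
    rw [← MonoidHom.ker_eq_bot_iff, ← Subgroup.normalCore_eq_ker, hcore]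
  have h11 : 11 ∣ Nat.card (Equiv.Perm (G ⧸ H)) :=
    dvd_trans (hcard ▸ by norm_num : 11 ∣ Nat.card G) (Subgroup.card_dvd_of_injective _ hinj)
  rw [Nat.card_perm] at h11
  have := ((Nat.prime_eleven : Nat.Prime 11).dvd_factorial).1 h11
  rw [Subgroup.index] at hlt
  omega

/-- The three elements generate. -/
theorem generate_three {x y w : G} (hx : orderOf x = 11) (hy : orderOf y = 5)
    (hyx : y * x * y⁻¹ = x ^ 3) (hwy : w * y * w⁻¹ = y ^ 2) :
    Subgroup.closure ({x, y, w} : Set G) = ⊤ := by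
  set H := Subgroup.closure ({x, y, w} : Set G)
  have hxH : x ∈ H := Subgroup.subset_closure (Or.inl rfl)
  have hyH : y ∈ H := Subgroup.subset_closure (Or.inr (Or.inl rfl))
  have hwH : w ∈ H := Subgroup.subset_closure (Or.inr (Or.inr rfl))
  have hiter : ∀ n : ℕ, w ^ n * y * (w ^ n)⁻¹ = y ^ (2 ^ n) := by
    intro n
    induction n with
    | zero => simp
    | succ n ih =>
      have h1 : w ^ (n + 1) * y * (w ^ (n + 1))⁻¹ = w ^ n * (w * y * w⁻¹) * (w ^ n)⁻¹ := by
        simp only [pow_succ, mul_inv_rev, mul_assoc]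
      rw [h1, hwy, ← conj_pow, ih, ← pow_mul, ← pow_succ]
  have h4w : 4 ∣ orderOf w := by
    have h := hiter (orderOf w)
    rw [pow_orderOf_eq_one, one_mul, inv_one, mul_one] at h
    have h2 : y ^ 1 = y ^ 2 ^ orderOf w := by rw [pow_one]; exact h
    rw [pow_eq_pow_iff_modEq, hy, Nat.ModEq, Nat.pow_mod] at h2
    rw [Nat.dvd_iff_mod_eq_zero]
    have h16 : (2 : ℕ) ^ orderOf w % 5 = 2 ^ (orderOf w % 4) % 5 := by
      conv_lhs => rw [← Nat.div_add_mod (orderOf w) 4]
      rw [pow_add, pow_mul, Nat.mul_mod, Nat.pow_mod]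
      norm_num
    rw [← Nat.pow_mod, h16] at h2
    have := Nat.mod_lt (orderOf w) (by norm_num : 4 > 0)
    interval_cases h : orderOf w % 4 <;> omega
  have h11 : 11 ∣ Nat.card H := hx ▸ Subgroup.orderOf_dvd_natCard H hxH
  have h5 : 5 ∣ Nat.card H := hy ▸ Subgroup.orderOf_dvd_natCard H hyH
  have h4 : 4 ∣ Nat.card H := h4w.trans (Subgroup.orderOf_dvd_natCard H hwH)
  have h220 : 220 ∣ Nat.card H := Nat.Coprime.mul_dvd_of_dvd_of_dvd (by norm_num : Nat.Coprime 55 4)
    (Nat.Coprime.mul_dvd_of_dvd_of_dvd (by norm_num : Nat.Coprime 11 5) h11 h5) h4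
  by_contra hne
  have hidx := index_ge hcard hne
  have hm := H.index_mul_card
  rw [hcard] at hm
  obtain ⟨k, hk⟩ := h220
  rw [hk] at hm
  have hk' : H.index * k = 36 := by nlinarith
  -- the normalizers are inside
  have : Fact (Nat.Prime 11) := ⟨by norm_num⟩
  have : Fact (Nat.Prime 5) := ⟨by norm_num⟩
  have hNx : Subgroup.normalizer (Subgroup.zpowers x : Set G) ≤ H := by
    have hy' : y ∈ Subgroup.normalizer (Subgroup.zpowers x : Set G) := mem_normalizer_of_conj hx hyx
    have hle : Subgroup.closure ({x, y} : Set G) ≤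
        Subgroup.normalizer (Subgroup.zpowers x : Set G) := by
      rw [Subgroup.closure_le]
      rintro g (rfl | rfl)
      · exact Subgroup.le_normalizer (Subgroup.mem_zpowers _)
      · exact hy'
    have h55 : 55 ∣ Nat.card (Subgroup.closure ({x, y} : Set G)) :=
      Nat.Coprime.mul_dvd_of_dvd_of_dvd (by norm_num : Nat.Coprime 11 5)
        (hx ▸ Subgroup.orderOf_dvd_natCard _ (Subgroup.subset_closure (Or.inl rfl)))
        (hy ▸ Subgroup.orderOf_dvd_natCard _ (Subgroup.subset_closure (Or.inr rfl)))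
    rw [← Subgroup.eq_of_le_of_card_ge hle (by
      rw [card_normalizer_eleven hcard hx]; exact Nat.le_of_dvd Nat.card_pos h55)]
    exact Subgroup.closure_mono fun g hg => by rcases hg with rfl | rfl <;> simp
  have hNy : Subgroup.normalizer (Subgroup.zpowers y : Set G) ≤ H := by
    have hw' : w ∈ Subgroup.normalizer (Subgroup.zpowers y : Set G) := mem_normalizer_of_conj hy hwy
    have hle : Subgroup.closure ({y, w} : Set G) ≤
        Subgroup.normalizer (Subgroup.zpowers y : Set G) := by
      rw [Subgroup.closure_le]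
      rintro g (rfl | rfl)
      · exact Subgroup.le_normalizer (Subgroup.mem_zpowers _)
      · exact hw'
    have h20 : 20 ∣ Nat.card (Subgroup.closure ({y, w} : Set G)) :=
      Nat.Coprime.mul_dvd_of_dvd_of_dvd (by norm_num : Nat.Coprime 5 4)
        (hy ▸ Subgroup.orderOf_dvd_natCard _ (Subgroup.subset_closure (Or.inl rfl)))
        (h4w.trans (Subgroup.orderOf_dvd_natCard _ (Subgroup.subset_closure (Or.inr rfl))))
    rw [← Subgroup.eq_of_le_of_card_ge hle (by
      rw [card_normalizer_five hcard hy]; exact Nat.le_of_dvd Nat.card_pos h20)]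
    exact Subgroup.closure_mono fun g hg => by rcases hg with rfl | rfl <;> simp
  have c11 := count_mod hcard hx (by norm_num) H hNx
  have c5 := count_mod hcard hy (by norm_num) H hNy
  rw [card_normalizer_eleven hcard hx, hk] at c11
  rw [card_normalizer_five hcard hy, hk] at c5
  have hk0 : k ≤ 3 := by nlinarith
  interval_cases k <;> omega

end CfsgLib.Recog.OrderM11
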