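import Cfsg.Agent.Lib.Recog.OrderM11Index
import Cfsg.Agent.Lib.Recog.OrderM11Gens
import Cfsg.Agent.Lib.Recog.OrderM11Check

/-!
# Simple groups of order 7920 are isomorphic

Each one is isomorphic to `M11Grp`.
-/

set_option autoImplicit false
set_option linter.unusedSectionVars false
set_option linter.unusedSimpArgs false

namespace CfsgLib.Recog.OrderM11

open Cfsg CfsgLib.Char
open scoped _root_.Classical Pointwise

universe u v

variable {G : Type u} [Group G] [Finite G] [IsSimpleGroup G] (hcard : Nat.card G = 7920)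
include hcard

/-- A faithful action on eleven points in which an element of order 11 is the translation. -/
theorem exists_labelling : ∃ ρ : G →* Equiv.Perm (ZMod 11), Function.Injective ρ ∧
    ∃ x : G, orderOf x = 11 ∧ ρ x = cP := by
  obtain ⟨M, hM⟩ := exists_index_eleven hcard
  have : Fact (Nat.Prime 11) := ⟨by norm_num⟩
  have := Fintype.ofFinite G
  obtain ⟨x, hx⟩ := exists_prime_orderOf_dvd_card' (G := G) 11 (hcard ▸ by norm_num)
  have hx' : ∀ i j : ZMod 11, x ^ i.val * x ^ j.val = x ^ (i + j).val := by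
    intro i j
    rw [← pow_add, ZMod.val_add]
    exact (pow_mod_orderOf x _).symm.trans (by rw [hx])
  have hcardM : Nat.card M = 720 := by
    have h := M.index_mul_card
    rw [hM, hcard] at h
    omega
  let e₀ : ZMod 11 → G ⧸ M := fun i => ((x ^ i.val : G) : G ⧸ M)
  have hinj : Function.Injective e₀ := by
    intro i j h
    by_contra hne
    have h2 : x ^ (j - i).val ∈ M := by
      have h3 := QuotientGroup.eq.1 h
      have e : (x ^ i.val)⁻¹ * x ^ j.val = x ^ (j - i).val := by
        rw [inv_mul_eq_iff_eq_mul, hx', add_sub_cancel]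
      rwa [e] at h3
    have h4 : orderOf (x ^ (j - i).val) = 11 := by
      rw [Nat.Coprime.orderOf_pow, hx]
      rw [hx]
      refine (Nat.prime_eleven.coprime_iff_not_dvd).2 fun h5 => ?_
      have h6 : (j - i).val ≠ 0 := fun h7 => hne (sub_eq_zero.1 ((ZMod.val_eq_zero _).1 h7)).symm
      have := Nat.le_of_dvd (by omega) h5
      have := ZMod.val_lt (j - i)
      omega
    have h5 := Subgroup.orderOf_dvd_natCard M h2
    rw [h4, hcardM] at h5
    norm_num at h5
  have hc : Nat.card (ZMod 11) = Nat.card (G ⧸ M) := by rw [Nat.card_zmod]; exact hM.symm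
  have hbij : Function.Bijective e₀ := (Nat.bijective_iff_injective_and_card _).2 ⟨hinj, hc⟩
  let e := Equiv.ofBijective e₀ hbij
  let ρ : G →* Equiv.Perm (ZMod 11) :=
    e.symm.permCongrHom.toMonoidHom.comp (MulAction.toPermHom G (G ⧸ M))
  refine ⟨ρ, ?_, x, hx, ?_⟩
  · refine e.symm.permCongrHom.injective.comp ?_
    rw [← MonoidHom.ker_eq_bot_iff, ← Subgroup.normalCore_eq_ker]
    refine (Subgroup.normalCore_normal M).eq_bot_or_eq_top.resolve_right fun h => ?_
    have := top_le_iff.1 (h ▸ M.normalCore_le)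
    rw [this, Subgroup.index_top] at hM
    norm_num at hM
  · ext1 i
    change e.symm (x • e i) = i + 1
    rw [Equiv.symm_apply_eq]
    change x • ((x ^ i.val : G) : G ⧸ M) = ((x ^ (i + 1).val : G) : G ⧸ M)
    rw [MulAction.Quotient.smul_coe, smul_eq_mul, add_comm, ← hx']
    congr 2
    simp [show (1 : ZMod 11).val = 1 from rfl]

/-- Generators in standard position. -/
theorem exists_standard : ∃ ρ : G →* Equiv.Perm (ZMod 11), Function.Injective ρ ∧
    ∃ x y w : G, orderOf x = 11 ∧ orderOf y = 5 ∧ y * x * y⁻¹ = x ^ 3 ∧ w * y * w⁻¹ = y ^ 2 ∧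
      ρ x = cP ∧ ρ y = mP ∧ (ρ w 1 = 1 ∨ ρ w 1 = 2) := by
  obtain ⟨ρ, hρ, x, hx, hρx⟩ := exists_labelling hcard
  obtain ⟨g, hg⟩ := exists_conj_three hcard hx
  -- `ρ g` is affine
  set b := ρ g 0
  have haff : ∀ i : ZMod 11, ρ g i = 3 * i + b := by
    have h := congrArg ρ (mul_inv_eq_iff_eq_mul.1 hg)
    rw [map_mul, map_mul, map_pow, hρx] at h
    have hstep : ∀ i : ZMod 11, ρ g (i + 1) = ρ g i + 3 := by
      intro i
      have h2 := DFunLike.congr_fun h i
      simp only [Equiv.Perm.mul_apply, pow_succ, pow_zero, one_mul, cP, Equiv.coe_fn_mk] at h2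
      rw [h2]; ring
    intro i
    have hn : ∀ n : ℕ, ρ g (n : ZMod 11) = 3 * n + b := by
      intro n
      induction n with
      | zero => simp [b]
      | succ n ih => rw [Nat.cast_succ, hstep, ih]; ring
    simpa using hn i.val
  obtain ⟨j, hj⟩ : ∃ j : ℕ, 3 * (j : ZMod 11) + b = 0 := by
    refine ⟨(-b * 4).val, ?_⟩
    rw [ZMod.natCast_zmod_val]
    generalize b = t
    revert t
    decide +kernel
  obtain ⟨y, hyd⟩ : ∃ y, y = g * x ^ j := ⟨_, rfl⟩
  have hxp : ∀ (n : ℕ) (i : ZMod 11), ρ (x ^ n) i = i + n := by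
    intro n
    induction n with
    | zero => simp
    | succ n ih =>
      intro i
      rw [pow_succ', map_mul, Equiv.Perm.mul_apply, ih, hρx, Nat.cast_succ]
      change i + n + 1 = _
      ring
  have hρy : ρ y = mP := by
    ext1 i
    rw [hyd, map_mul, Equiv.Perm.mul_apply, hxp, haff, mul_add, add_assoc, hj, add_zero]
    rfl
  have hy : orderOf y = 5 := by
    rw [← orderOf_injective ρ hρ, hρy]
    have : Fact (Nat.Prime 5) := ⟨by norm_num⟩
    exact orderOf_eq_prime (by decide +kernel) (by decide +kernel)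
  have hyx : y * x * y⁻¹ = x ^ 3 := by
    rw [← hg, hyd]; group
  obtain ⟨w, hw⟩ := exists_conj_two hcard hy
  have hrel : ∀ i, ρ w (3 * i) = 9 * ρ w i := by
    intro i
    have h := DFunLike.congr_fun (congrArg ρ (mul_inv_eq_iff_eq_mul.1 hw)) i
    rw [map_mul, map_mul, map_pow, hρy] at h
    simp only [Equiv.Perm.mul_apply, pow_two, mP, Equiv.coe_fn_mk] at h
    rw [h]; ring
  have hw0 : ρ w 0 = 0 := by
    have e := hrel 0
    rw [mul_zero] at e
    revert e
    generalize ρ w 0 = t
    revert t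
    decide +kernel
  have hw1 : ρ w 1 ≠ 0 := fun h => by
    have := (ρ w).injective (h.trans hw0.symm)
    exact absurd this (by decide)
  obtain ⟨k, -, hk⟩ := scale_cases _ hw1
  refine ⟨ρ, hρ, x, y, y ^ k * w, hx, hy, hyx, ?_, hρx, hρy, ?_⟩
  · calc y ^ k * w * y * (y ^ k * w)⁻¹ = y ^ k * (w * y * w⁻¹) * (y ^ k)⁻¹ := by group
      _ = y ^ k * y ^ 2 * (y ^ k)⁻¹ := by rw [hw]
      _ = y ^ 2 := by rw [← pow_add, add_comm, pow_add, mul_assoc, mul_inv_cancel, mul_one]
  · have hm : ∀ (n : ℕ) (i : ZMod 11), (mP ^ n) i = 3 ^ n * i := by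
      intro n
      induction n with
      | zero => simp
      | succ n ih =>
        intro i
        rw [pow_succ', Equiv.Perm.mul_apply, ih, pow_succ', mul_assoc]
        rfl
    rwa [map_mul, map_pow, hρy, Equiv.Perm.mul_apply, hm]

/-- The bad candidates. -/
theorem word_false {g : G} {ρ : G →* Equiv.Perm (ZMod 11)} {a b : ZMod 11}
    (h : ⇑(ρ g) = word a b)
    (hab : (a, b) ∈ ([(1, 2), (1, 7), (1, 8), (2, 1), (2, 3), (2, 9), (2, 5), (2, 4)] :
      List (ZMod 11 × ZMod 11))) : False := by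
  obtain ⟨h1, i, h2⟩ := word_ord _ hab
  apply h2
  have hn : ρ g ^ wordOrd a b = 1 := by
    ext1 k
    rw [Equiv.Perm.coe_pow, h]
    exact h1 k
  have h3 : ρ g ^ 7920 = 1 := by rw [← map_pow, ← hcard, pow_card_eq_one', map_one]
  rw [pow_eq_pow_mod _ hn] at h3
  have h4 := DFunLike.congr_fun h3 i
  rw [Equiv.Perm.coe_pow, h] at h4
  exact h4

/-- A simple group of order 7920 is isomorphic to `M11Grp`. -/
theorem equiv_M11Grp : Nonempty (G ≃* M11Grp) := by
  suffices ∃ ρ : G →* Equiv.Perm (ZMod 11), Function.Injective ρ ∧ ρ.range = M11Grp by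
    obtain ⟨ρ, hρ, hr⟩ := this
    exact ⟨(MonoidHom.ofInjective hρ).trans (MulEquiv.subgroupCongr hr)⟩
  obtain ⟨ρ, hρ, x, y, w, hx, hy, hyx, hwy, hρx, hρy, hw1⟩ := exists_standard hcard
  have htw : ∀ i, ρ w i = tw (ρ w 1) (ρ w 2) i := by
    refine tw_spec fun i => ?_
    have h := DFunLike.congr_fun (congrArg ρ (mul_inv_eq_iff_eq_mul.1 hwy)) i
    rw [map_mul, map_mul, map_pow, hρy] at h
    simp only [Equiv.Perm.mul_apply, pow_two, mP, Equiv.coe_fn_mk] at h
    rw [h]; ring
  set a := ρ w 1 with ha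
  set b := ρ w 2 with hb
  have hne : ∀ i : ZMod 11, i ≠ 2 → b ≠ tw a b i := fun i hi e =>
    hi ((ρ w).injective (by rw [htw i, ← hb]; exact e.symm))
  have hmem := pair_cases a b hw1 (hne 0 (by decide)) (hne 1 (by decide)) (hne 3 (by decide))
    (hne 9 (by decide)) (hne 5 (by decide)) (hne 4 (by decide))
  have hwf : ⇑(ρ w) = tw a b := funext htw
  have hrange : ρ.range = Subgroup.closure {cP, mP, ρ w} := by
    rw [MonoidHom.range_eq_map, ← generate_three hcard hx hy hyx hwy, MonoidHom.map_closure,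
      Set.image_insert_eq, Set.image_insert_eq, Set.image_singleton, hρx, hρy]
  have hc : ⇑(ρ x) = fun i => i + 1 := by rw [hρx]; rfl
  have hm : ⇑(ρ y) = fun i => 3 * i := by rw [hρy]; rfl
  simp only [List.mem_cons, List.not_mem_nil, or_false, Prod.mk.injEq] at hmem
  rcases hmem with h | h | h | h | h | h | h | h | h | h <;> obtain ⟨hA, hB⟩ := h <;>
    rw [hA, hB] at hwf
  · exact (word_false hcard (g := x * w * y) (ρ := ρ) (a := 1) (b := 2)
      (by simp only [map_mul, Equiv.Perm.coe_mul, hc, hm, hwf]; rfl) (by decide)).elim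
  · refine ⟨ρ, hρ, ?_⟩
    rw [hrange, show ρ w = wP from Equiv.ext fun i => congrFun hwf i]
    rfl
  · exact (word_false hcard (g := x * x * w) (ρ := ρ) (a := 1) (b := 7)
      (by simp only [map_mul, Equiv.Perm.coe_mul, hc, hm, hwf]; rfl) (by decide)).elim
  · refine ⟨(MulAut.conj nP).toMonoidHom.comp ρ,
      (MulAut.conj nP).injective.comp hρ, ?_⟩
    rw [MonoidHom.range_comp, hrange, MonoidHom.map_closure,
      Set.image_insert_eq, Set.image_insert_eq, Set.image_singleton]
    change Subgroup.closure {nP * cP * nP⁻¹, nP * mP * nP⁻¹, nP * ρ w * nP⁻¹} = _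
    have e : nP * ρ w * nP⁻¹ = mP * wP := by
      ext1 i
      change nP (ρ w (nP i)) = 3 * wP i
      rw [congrFun hwf]
      exact nP_tw i
    rw [nP_cP, nP_mP, e]
    refine le_antisymm ?_ ?_ <;> rw [M11Grp, Subgroup.closure_le]
    · rintro s (rfl | rfl | rfl)
      · exact inv_mem (Subgroup.subset_closure (Or.inl rfl))
      · exact Subgroup.subset_closure (Or.inr (Or.inl rfl))
      · exact mul_mem (Subgroup.subset_closure (Or.inr (Or.inl rfl)))
          (Subgroup.subset_closure (Or.inr (Or.inr rfl)))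
    · rintro s (rfl | rfl | rfl)
      · exact (Subgroup.inv_mem_iff _).1 (Subgroup.subset_closure (Or.inl rfl))
      · exact Subgroup.subset_closure (Or.inr (Or.inl rfl))
      · have h1 : mP ∈ Subgroup.closure {cP⁻¹, mP, mP * wP} :=
          Subgroup.subset_closure (Or.inr (Or.inl rfl))
        have h2 : mP * wP ∈ Subgroup.closure {cP⁻¹, mP, mP * wP} :=
          Subgroup.subset_closure (Or.inr (Or.inr rfl))
        exact ((Subgroup.closure {cP⁻¹, mP, mP * wP}).mul_mem_cancel_left h1).1 h2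
  · exact (word_false hcard (g := x * x * w) (ρ := ρ) (a := 1) (b := 8)
      (by simp only [map_mul, Equiv.Perm.coe_mul, hc, hm, hwf]; rfl) (by decide)).elim
  · exact (word_false hcard (g := x * w) (ρ := ρ) (a := 2) (b := 1)
      (by simp only [map_mul, Equiv.Perm.coe_mul, hc, hm, hwf]; rfl) (by decide)).elim
  · exact (word_false hcard (g := x * w * x * w * y) (ρ := ρ) (a := 2) (b := 3)
      (by simp only [map_mul, Equiv.Perm.coe_mul, hc, hm, hwf]; rfl) (by decide)).elim
  · exact (word_false hcard (g := x * x * w * y) (ρ := ρ) (a := 2) (b := 9)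
      (by simp only [map_mul, Equiv.Perm.coe_mul, hc, hm, hwf]; rfl) (by decide)).elim
  · exact (word_false hcard (g := x * y * w) (ρ := ρ) (a := 2) (b := 5)
      (by simp only [map_mul, Equiv.Perm.coe_mul, hc, hm, hwf]; rfl) (by decide)).elim
  · exact (word_false hcard (g := x * x * y * w) (ρ := ρ) (a := 2) (b := 4)
      (by simp only [map_mul, Equiv.Perm.coe_mul, hc, hm, hwf]; rfl) (by decide)).elim

omit hcard in
/-- Any two simple groups of order 7920 are isomorphic. -/
theorem iso_of_isM11 {H : Type v} [Group H] [Finite H] {K : Type u} [Group K] [Finite K]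
    (hK : Cfsg.IsM11 K) (hH : Cfsg.IsM11 H) : Nonempty (K ≃* H) := by
  obtain ⟨h1, c1⟩ := hK
  obtain ⟨h2, c2⟩ := hH
  obtain ⟨a⟩ := equiv_M11Grp c1
  obtain ⟨b⟩ := equiv_M11Grp c2
  exact ⟨a.trans b.symm⟩

end CfsgLib.Recog.OrderM11
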