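import Cfsg.Agent.Lib.Recog.SimsThreeLong

/-!
The theorem of Sims and Wong on primitive groups with a suborbit of length 3.
-/

set_option autoImplicit false

namespace CfsgLib.Recog.Sims

open Subgroup CfsgLib.Recog.TW

/-- A point stabiliser with an orbit of length 3 is one of five groups. -/
theorem stabilizer_three {G Ω : Type*} [Group G] [Finite G] [MulAction G Ω] [FaithfulSMul G Ω] [Finite Ω]
    (hprim : MulAction.IsPreprimitive G Ω) (a b : Ω)
    (h3 : Nat.card (MulAction.orbit (MulAction.stabilizer G a) b) = 3) :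
    Nonempty (MulAction.stabilizer G a ≃* Multiplicative (ZMod 3)) ∨
      Nonempty (MulAction.stabilizer G a ≃* Equiv.Perm (Fin 3)) ∨
      Nonempty (MulAction.stabilizer G a ≃* DihedralGroup 6) ∨
      Nonempty (MulAction.stabilizer G a ≃* Equiv.Perm (Fin 4)) ∨
      Nonempty (MulAction.stabilizer G a ≃* Equiv.Perm (Fin 4) × Multiplicative (ZMod 2)) := by
  obtain ⟨O, -, hout, hin⟩ := exists_orbital hprim a b 3 h3 (by norm_num)
  have hd : Deg O := ⟨hout, hin⟩
  by_cases hC : ∃ x y, O.E x y ∧ H G x y ≤ O.K x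
  · obtain ⟨x, y, hxy, hle⟩ := hC
    have := Fact.mk Nat.prime_three
    exact Or.inl ⟨mulEquivOfPrimeCardEq (hd.card_eq_three hxy hle a)
      (show Nat.card (Multiplicative (ZMod 3)) = 3 by simp)⟩
  push Not at hC
  have hc : Cubic O := ⟨hd, hC⟩
  by_cases ht : Tight O
  · obtain ⟨n, x, y, hn, hp, hA, hmin⟩ := hc.exists_crit ht a
    have hv := hc.vec_of_crit ht hn hp hA hmin
    obtain rfl : n = 1 := by
      by_contra hne
      exact hv.crit_adjacent hp hA hmin (by omega)
    obtain ⟨y', hadj, rfl⟩ := hp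
    obtain ⟨g, hg⟩ := O.vtrans x a
    have e := MulAction.stabilizerEquivStabilizer (G := G) hg.symm
    rcases hv.equiv_sym_four hadj hA hmin with f | f
    · exact Or.inr (Or.inr (Or.inr (Or.inl (f.map e.symm.trans))))
    · exact Or.inr (Or.inr (Or.inr (Or.inr (f.map e.symm.trans))))
  · rcases Nat.lt_or_ge (Nat.card (O.K a)) 2 with h | h
    · have := Nat.card_pos (α := O.K a)
      exact Or.inr (Or.inl (hc.equiv_perm_three a (by omega)))
    · exact Or.inr (Or.inr (Or.inl (hc.equiv_dihedral ht a (le_antisymm (hc.card_K_le_two ht a) h))))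

/-- A point stabiliser with an orbit of length 3 has order dividing 48. -/
theorem stabilizer_three_card {G Ω : Type*} [Group G] [Finite G] [MulAction G Ω] [FaithfulSMul G Ω]
    (hprim : MulAction.IsPreprimitive G Ω) (a b : Ω)
    (h3 : Nat.card (MulAction.orbit (MulAction.stabilizer G a) b) = 3) :
    ∃ k : ℕ, k ≤ 4 ∧ Nat.card (MulAction.stabilizer G a) = 2 ^ k * 3 := by
  have := hprim.toIsPretransitive
  have : Finite Ω := Finite.of_surjective (fun g : G => g • a) fun z => MulAction.exists_smul_eq G a z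
  rcases stabilizer_three hprim a b h3 with h | h | h | h | h <;> obtain ⟨e⟩ := h
  · exact ⟨0, by norm_num, (Nat.card_congr e.toEquiv).trans (by simp)⟩
  · exact ⟨1, by norm_num, (Nat.card_congr e.toEquiv).trans (by rw [Nat.card_perm, Nat.card_fin]; rfl)⟩
  · exact ⟨2, by norm_num, (Nat.card_congr e.toEquiv).trans (by rw [DihedralGroup.nat_card]; norm_num)⟩
  · exact ⟨3, by norm_num, (Nat.card_congr e.toEquiv).trans (by rw [Nat.card_perm, Nat.card_fin]; rfl)⟩
  · exact ⟨4, by norm_num, (Nat.card_congr e.toEquiv).trans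
      (by rw [Nat.card_prod, Nat.card_perm, Nat.card_fin]; simp; rfl)⟩

end CfsgLib.Recog.Sims
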