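import Mathlib
import Cfsg.Agent.Lib.Clifford.CoprimeTrace

/-! A coprime fixed-point-free representation in characteristic `p` gives one in characteristic 0. -/

namespace CfsgLib.Recog

open scoped Classical

variable {G : Type*} [Group G] [Finite G]

/-- Multiplicity of `x` in `a ⟨g⟩ b`. -/
noncomputable def cosetWeight (i : G × G × G) (x : G) : ℕ :=
  ((Finset.range (orderOf i.2.1)).filter fun j => i.1 * i.2.1 ^ j * i.2.2 = x).card

theorem sum_pow_eq_zero_of_fpf {p k : ℕ} [hp : Fact p.Prime] {ι : Type*} [Fintype ι] [DecidableEq ι]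
    (ρ : G →* (Matrix ι ι (ZMod p))ˣ) (σ : G →* (Matrix ι ι (ZMod (p ^ (k + 1))))ˣ)
    (hσ : ∀ g, CfsgLib.Clifford.CoprimeTrace.red p k ι (σ g : Matrix ι ι (ZMod (p ^ (k + 1)))) = (ρ g : Matrix ι ι (ZMod p)))
    (g : G) (hco : (orderOf g).Coprime p) (hfpf : ∀ v : ι → ZMod p, (ρ g : Matrix ι ι (ZMod p)).mulVec v = v → v = 0) :
    ∑ j ∈ Finset.range (orderOf g), (σ (g ^ j) : Matrix ι ι (ZMod (p ^ (k + 1)))) = 0 := by
  set o := orderOf g
  set M := ∑ j ∈ Finset.range o, (σ (g ^ j) : Matrix ι ι (ZMod (p ^ (k + 1)))) with hM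
  haveI : NeZero (p ^ (k + 1)) := ⟨pow_ne_zero _ hp.out.ne_zero⟩
  -- multiplying by g permutes the summands
  have hgM : (σ g : Matrix ι ι (ZMod (p ^ (k + 1)))) * M = M := by
    rw [hM, Finset.mul_sum]
    have h1 : ∑ j ∈ Finset.range (o + 1), (σ (g ^ j) : Matrix ι ι (ZMod (p ^ (k + 1)))) = 1 + ∑ j ∈ Finset.range o, (σ (g ^ (j + 1)) : Matrix ι ι (ZMod (p ^ (k + 1)))) := by
      rw [Finset.sum_range_succ', pow_zero g, map_one, Units.val_one]
      exact add_comm _ _
    rw [Finset.sum_range_succ, show g ^ o = 1 from pow_orderOf_eq_one g, map_one, Units.val_one] at h1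
    rw [add_left_cancel ((add_comm _ _).trans h1)]
    refine Finset.sum_congr rfl fun j _ => ?_
    rw [← Units.val_mul, ← map_mul, ← pow_succ' g j]
  have hpowM : ∀ j, (σ (g ^ j) : Matrix ι ι (ZMod (p ^ (k + 1)))) * M = M := by
    intro j
    induction j with
    | zero => simp
    | succ j ih => rw [pow_succ g j, map_mul, Units.val_mul, mul_assoc, hgM, ih]
  have hMM : M * M = o • M := by
    conv_lhs => arg 1; rw [hM]
    rw [Finset.sum_mul, Finset.sum_congr rfl (fun j _ => hpowM j), Finset.sum_const, Finset.card_range]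
  have hred : CfsgLib.Clifford.CoprimeTrace.red p k ι M = 0 := by
    have hfix : (ρ g : Matrix ι ι (ZMod p)) * CfsgLib.Clifford.CoprimeTrace.red p k ι M =
        CfsgLib.Clifford.CoprimeTrace.red p k ι M := by rw [← hσ, ← map_mul, hgM]
    ext a b
    refine congrFun (hfpf (fun a => CfsgLib.Clifford.CoprimeTrace.red p k ι M a b) ?_) a
    funext a
    exact congrFun (congrFun hfix a) b
  -- M is divisible by p, and a power of M is a unit times M
  have hpow : ∀ n : ℕ, M ^ (n + 1) = (o ^ n) • M := by
    intro n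
    induction n with
    | zero => simp
    | succ n ih => rw [pow_succ M, ih, smul_mul_assoc, hMM, smul_smul, ← pow_succ o]
  have hY : ∀ a b, ∃ y, M a b = (p : ZMod (p ^ (k + 1))) * y := by
    intro a b
    have hz : ZMod.castHom (CfsgLib.Clifford.CoprimeTrace.dvd_pow_succ p k) (ZMod p) (M a b) = 0 :=
      congrFun (congrFun hred a) b
    rw [← ZMod.natCast_zmod_val (M a b), map_natCast, ZMod.natCast_eq_zero_iff] at hz
    obtain ⟨c, hc⟩ := hz
    exact ⟨(c : ZMod _), by rw [← ZMod.natCast_zmod_val (M a b), hc, Nat.cast_mul]⟩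
  choose Y hY using hY
  have hMY : M = (p : ZMod (p ^ (k + 1))) • Matrix.of Y := by
    ext a b; rw [Matrix.smul_apply, smul_eq_mul]; exact hY a b
  have h0 : (o ^ k) • M = 0 := by
    rw [← hpow k, hMY, smul_pow, ← Nat.cast_pow, ZMod.natCast_self, zero_smul]
  have hu : IsUnit (((o ^ k : ℕ) : ℕ) : ZMod (p ^ (k + 1))) := by
    rw [ZMod.isUnit_iff_coprime]
    exact Nat.Coprime.pow _ _ hco
  rw [← Nat.cast_smul_eq_nsmul (ZMod (p ^ (k + 1)))] at h0
  exact (IsUnit.smul_eq_zero hu).mp h0

/-- The integral obstruction: `1` is no rational combination of the sums `a ⟨g⟩ b`. -/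
theorem not_span_of_fpf {p : ℕ} [hp : Fact p.Prime] (hG : (Nat.card G).Coprime p) {n : ℕ} (hn : 0 < n)
    (ρ : G →* (Matrix (Fin n) (Fin n) (ZMod p))ˣ)
    (hfpf : ∀ g : G, g ≠ 1 → ∀ v : Fin n → ZMod p, (ρ g : Matrix (Fin n) (Fin n) (ZMod p)).mulVec v = v → v = 0)
    [Fintype G] (z : G × G × G → ℤ) (hz : ∀ i, i.2.1 = 1 → z i = 0) (N : ℤ) (hN : N ≠ 0) :
    ¬ ∀ x : G, ∑ i, z i * (cosetWeight i x : ℤ) = if x = 1 then N else 0 := by
  intro h
  set k := N.natAbs
  obtain ⟨σ, hσ⟩ := CfsgLib.Clifford.CoprimeTrace.exists_lift p k (ι := Fin n) hG ρ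
  set R := Matrix (Fin n) (Fin n) (ZMod (p ^ (k + 1)))
  let S : G → R := fun x => (σ x : R)
  have key : ∀ i : G × G × G, i.2.1 ≠ 1 → ∑ x, (cosetWeight i x : ℤ) • S x = 0 := by
    intro i hi
    have hs := sum_pow_eq_zero_of_fpf ρ σ hσ i.2.1 (hG.coprime_dvd_left (orderOf_dvd_natCard _)) (hfpf _ hi)
    calc ∑ x, (cosetWeight i x : ℤ) • S x
        = ∑ j ∈ Finset.range (orderOf i.2.1), S (i.1 * i.2.1 ^ j * i.2.2) := by
          rw [← Finset.sum_fiberwise (Finset.range (orderOf i.2.1)) (fun j => i.1 * i.2.1 ^ j * i.2.2)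
            (fun j => S (i.1 * i.2.1 ^ j * i.2.2))]
          refine Finset.sum_congr rfl fun x _ => ?_
          rw [Finset.sum_congr rfl (fun j hj => by rw [(Finset.mem_filter.mp hj).2]),
            Finset.sum_const, natCast_zsmul]
          rfl
      _ = S i.1 * (∑ j ∈ Finset.range (orderOf i.2.1), S (i.2.1 ^ j)) * S i.2.2 := by
          rw [Finset.mul_sum, Finset.sum_mul]
          simp only [S, map_mul, Units.val_mul]
      _ = 0 := by
          simp only [S] at hs ⊢
          rw [hs, mul_zero, zero_mul]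
  have hsum : ∑ x, (∑ i, z i * (cosetWeight i x : ℤ)) • S x = 0 := by
    simp only [Finset.sum_smul, mul_smul]
    rw [Finset.sum_comm]
    refine Finset.sum_eq_zero fun i _ => ?_
    rw [← Finset.smul_sum]
    by_cases hi : i.2.1 = 1
    · rw [hz i hi, zero_smul]
    · rw [key i hi, smul_zero]
  simp only [h, ite_smul, zero_smul, Finset.sum_ite_eq', Finset.mem_univ, if_true, S, map_one, Units.val_one] at hsum
  have h00 := congrFun (congrFun hsum ⟨0, hn⟩) ⟨0, hn⟩
  rw [Matrix.smul_apply, Matrix.one_apply_eq, Matrix.zero_apply, zsmul_one, ZMod.intCast_zmod_eq_zero_iff_dvd] at h00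
  have h1 := Nat.le_of_dvd (Int.natAbs_pos.mpr hN) (Int.natCast_dvd.mp h00)
  have h2 : k < p ^ k := Nat.lt_pow_self hp.out.one_lt
  have h3 : p ^ k ≤ p ^ (k + 1) := Nat.pow_le_pow_right hp.out.pos (by omega)
  omega

/-- Descent: if `1` is a combination over `K` then an integral multiple is an integral one. -/
theorem exists_int_combination [Fintype G] {K : Type*} [Field K] [CharZero K] (c : G × G × G → K)
    (hc : ∀ i, i.2.1 = 1 → c i = 0)
    (h : ∀ x : G, ∑ i, c i * (cosetWeight i x : K) = if x = 1 then 1 else 0) :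
    ∃ (z : G × G × G → ℤ) (N : ℤ), N ≠ 0 ∧ (∀ i, i.2.1 = 1 → z i = 0) ∧
      ∀ x : G, ∑ i, z i * (cosetWeight i x : ℤ) = if x = 1 then N else 0 := by
  obtain ⟨f, hf⟩ := LinearMap.exists_leftInverse_of_injective (Algebra.linearMap ℚ K)
    (LinearMap.ker_eq_bot.mpr (algebraMap ℚ K).injective)
  have hf1 : f 1 = 1 := by
    have := LinearMap.congr_fun hf 1
    simpa using this
  obtain ⟨b, hb⟩ := IsLocalization.exist_integer_multiples (nonZeroDivisors ℤ) Finset.univ (fun i => f (c i))
  choose z hz using fun i => hb i (Finset.mem_univ i)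
  refine ⟨z, b, nonZeroDivisors.ne_zero b.2, fun i hi => ?_, fun x => ?_⟩
  · have := hz i
    rw [hc i hi, map_zero, smul_zero] at this
    exact Int.cast_eq_zero.mp this
  · apply Int.cast_injective (α := ℚ)
    have hx := congrArg f (h x)
    rw [map_sum] at hx
    have hterm : ∀ i, f (c i * (cosetWeight i x : K)) = f (c i) * (cosetWeight i x : ℚ) := fun i => by
      rw [mul_comm (c i), ← nsmul_eq_mul, map_nsmul, nsmul_eq_mul, mul_comm]
    simp only [hterm] at hx
    push_cast
    have hz' : ∀ i, (z i : ℚ) = ((b : ℤ) : ℚ) * f (c i) := fun i => by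
      have := hz i
      rw [zsmul_eq_mul] at this
      exact this
    simp only [hz', mul_assoc, ← Finset.mul_sum, hx]
    split_ifs with hx1
    · simp [hf1]
    · simp

theorem exists_irreducible_fpf (K : Type) [Field K] [CharZero K] {p : ℕ} [Fact p.Prime]
    (hG : (Nat.card G).Coprime p) {n : ℕ} (hn : 0 < n)
    (ρ : G →* (Matrix (Fin n) (Fin n) (ZMod p))ˣ)
    (hfpf : ∀ g : G, g ≠ 1 → ∀ v : Fin n → ZMod p, (ρ g : Matrix (Fin n) (Fin n) (ZMod p)).mulVec v = v → v = 0) :
    ∃ (m : ℕ) (τ : G →* GL (Fin m) K), 0 < m ∧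
      (∀ W : Submodule K (Fin m → K), (∀ g : G, ∀ w ∈ W, ((τ g : GL (Fin m) K) : Matrix (Fin m) (Fin m) K).mulVec w ∈ W) → W = ⊥ ∨ W = ⊤) ∧
      ∀ g : G, g ≠ 1 → ∀ v : Fin m → K, ((τ g : GL (Fin m) K) : Matrix (Fin m) (Fin m) K).mulVec v = v → v = 0 := by
  letI : Fintype G := Fintype.ofFinite G
  let δ : G → (MonoidAlgebra K G) := fun g => MonoidAlgebra.of K G g
  have hδ : ∀ g h, δ (g * h) = δ g * δ h := fun g h => map_mul (MonoidAlgebra.of K G) g h
  let hat : G → (MonoidAlgebra K G) := fun g => ∑ j ∈ Finset.range (orderOf g), δ (g ^ j)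
  let J : Submodule (MonoidAlgebra K G) (MonoidAlgebra K G) := Submodule.span (MonoidAlgebra K G) {x | ∃ g b : G, g ≠ 1 ∧ x = hat g * δ b}
  have hJ : J ≠ ⊤ := by
    intro htop
    have h1 : (1 : (MonoidAlgebra K G)) ∈ J := htop ▸ Submodule.mem_top
    let w : G × G × G → (MonoidAlgebra K G) := fun i => if i.2.1 = 1 then 0 else δ i.1 * hat i.2.1 * δ i.2.2
    have hleft : ∀ (r : (MonoidAlgebra K G)) (y : (MonoidAlgebra K G)), y ∈ Submodule.span K (Set.range w) → r * y ∈ Submodule.span K (Set.range w) := by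
      intro r y hy
      induction hy using Submodule.span_induction with
      | mem x hx =>
        obtain ⟨⟨a, g, b⟩, rfl⟩ := hx
        induction r using MonoidAlgebra.induction_on with
        | of g' =>
          refine Submodule.subset_span ⟨(g' * a, g, b), ?_⟩
          simp only [w]
          split_ifs
          · rw [mul_zero]
          · rw [hδ, mul_assoc, mul_assoc, mul_assoc]
        | add u v hu hv => rw [add_mul]; exact Submodule.add_mem _ hu hv
        | smul c u hu => rw [smul_mul_assoc]; exact Submodule.smul_mem _ c hu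
      | zero => rw [mul_zero]; exact Submodule.zero_mem _
      | add u v _ _ hu hv => rw [mul_add]; exact Submodule.add_mem _ hu hv
      | smul c u _ hu => rw [mul_smul_comm]; exact Submodule.smul_mem _ c hu
    have h2 : ∀ y ∈ J, y ∈ Submodule.span K (Set.range w) := by
      intro y hy
      induction hy using Submodule.span_induction with
      | mem x hx =>
        obtain ⟨g, b, hg, rfl⟩ := hx
        refine Submodule.subset_span ⟨(1, g, b), ?_⟩
        simp only [w, if_neg hg]
        rw [show δ 1 = 1 from map_one (MonoidAlgebra.of K G), one_mul]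
      | zero => exact Submodule.zero_mem _
      | add u v _ _ hu hv => exact Submodule.add_mem _ hu hv
      | smul c u _ hu => exact hleft c u hu
    obtain ⟨c, hc⟩ := (Submodule.mem_span_range_iff_exists_fun K).mp (h2 1 h1)
    obtain ⟨z, N, hN, hz0, hz⟩ := exists_int_combination (fun i => if i.2.1 = 1 then 0 else c i)
      (fun i hi => if_pos hi) (fun x => by
        have hx := congrArg (fun a : MonoidAlgebra K G => a.coeff x) hc
        try simp only [MonoidAlgebra.one_def] at hx
        rw [MonoidAlgebra.coeff_sum, Finset.sum_apply'] at hx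
        convert hx using 1
        · refine Finset.sum_congr rfl fun i _ => ?_
          simp only [w]
          split_ifs with hi
          · simp
          · simp only [hat, δ, Finset.mul_sum, Finset.sum_mul, ← map_mul, Finset.smul_sum]
            rw [MonoidAlgebra.coeff_sum, Finset.sum_apply']
            simp only [cosetWeight, ← Finset.sum_boole, Finset.mul_sum, MonoidAlgebra.of_apply]
            refine Finset.sum_congr rfl fun j _ => ?_
            simp [Finsupp.single_apply, eq_comm]
        · simp [MonoidAlgebra.one_def, Finsupp.single_apply, eq_comm])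
    exact not_span_of_fpf hG hn ρ hfpf z hz0 N hN hz
  obtain ⟨M, hM, hJM⟩ := (eq_top_or_exists_le_coatom J).resolve_left hJ
  haveI : IsSimpleModule (MonoidAlgebra K G) ((MonoidAlgebra K G) ⧸ M) := isSimpleModule_iff_isCoatom.mpr hM
  haveI : Nontrivial ((MonoidAlgebra K G) ⧸ M) := IsSimpleModule.nontrivial (MonoidAlgebra K G) _
  haveI : Module.Finite K (MonoidAlgebra K G) := Module.Finite.equiv (MonoidAlgebra.coeffLinearEquiv (R := K) (S := K) (M := G)).symm
  haveI : Module.Finite K ((MonoidAlgebra K G) ⧸ M) := Module.Finite.of_surjective (M.mkQ.restrictScalars K) M.mkQ_surjective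
  set m := Module.finrank K ((MonoidAlgebra K G) ⧸ M)
  let e : ((MonoidAlgebra K G) ⧸ M) ≃ₗ[K] (Fin m → K) := (Module.finBasis K ((MonoidAlgebra K G) ⧸ M)).equivFun
  let L : G → ((Fin m → K) →ₗ[K] (Fin m → K)) := fun g =>
    e.toLinearMap ∘ₗ (DistribSMul.toLinearMap K ((MonoidAlgebra K G) ⧸ M) (δ g)) ∘ₗ e.symm.toLinearMap
  have hL : ∀ g v, L g v = e (δ g • e.symm v) := fun g v => rfl
  let τ0 : G →* Matrix (Fin m) (Fin m) K :=
    { toFun := fun g => LinearMap.toMatrix' (L g)
      map_one' := by
        rw [← LinearMap.toMatrix'_id]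
        congr 1
        refine LinearMap.ext fun v => ?_
        rw [hL, show δ 1 = 1 from map_one (MonoidAlgebra.of K G), one_smul, LinearEquiv.apply_symm_apply]
        rfl
      map_mul' := fun g h => by
        rw [← LinearMap.toMatrix'_comp]
        congr 1
        refine LinearMap.ext fun v => ?_
        change L (g * h) v = L g (L h v)
        rw [hL, hL, hL, LinearEquiv.symm_apply_apply, hδ, mul_smul] }
  let τ : G →* GL (Fin m) K := τ0.toHomUnits
  have hτ : ∀ g v, ((τ g : GL (Fin m) K) : Matrix (Fin m) (Fin m) K).mulVec v = e (δ g • e.symm v) := fun g v => by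
    change (LinearMap.toMatrix' (L g)).mulVec v = _
    rw [LinearMap.toMatrix'_mulVec, hL]
  refine ⟨m, τ, Module.finrank_pos, ?_, ?_⟩
  · intro W hW
    let W' : Submodule (MonoidAlgebra K G) ((MonoidAlgebra K G) ⧸ M) :=
      { carrier := {x | e x ∈ W}
        zero_mem' := by simp
        add_mem' := fun {a b} ha hb => by
          simp only [Set.mem_setOf_eq, map_add] at ha hb ⊢; exact W.add_mem ha hb
        smul_mem' := fun r x hx => by
          simp only [Set.mem_setOf_eq] at hx ⊢
          induction r using MonoidAlgebra.induction_on with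
          | of g =>
            have := hW g (e x) hx
            rwa [hτ, LinearEquiv.symm_apply_apply] at this
          | add u v hu hv => rw [add_smul, map_add]; exact W.add_mem hu hv
          | smul c u hu => rw [smul_assoc, map_smul]; exact W.smul_mem c hu }
    rcases eq_bot_or_eq_top W' with h | h
    · left
      rw [Submodule.eq_bot_iff]
      intro w hw
      have : e.symm w ∈ W' := by change e (e.symm w) ∈ W; rwa [LinearEquiv.apply_symm_apply]
      rw [h, Submodule.mem_bot] at this
      simpa using congrArg e this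
    · right
      rw [Submodule.eq_top_iff']
      intro w
      have : e.symm w ∈ W' := h ▸ Submodule.mem_top
      have h2 : e (e.symm w) ∈ W := this
      rwa [LinearEquiv.apply_symm_apply] at h2
  · intro g hg v hv
    rw [hτ] at hv
    set x := e.symm v with hx
    have hgx : δ g • x = x := e.injective (by rw [hv, hx, LinearEquiv.apply_symm_apply])
    have hj : ∀ j : ℕ, δ (g ^ j) • x = x := by
      intro j
      induction j with
      | zero => rw [pow_zero, show δ 1 = 1 from map_one (MonoidAlgebra.of K G), one_smul]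
      | succ j ih => rw [pow_succ, hδ, mul_smul, hgx, ih]
    have h0 : hat g • x = 0 := by
      obtain ⟨a, ha⟩ : ∃ a : (MonoidAlgebra K G), M.mkQ a = x := M.mkQ_surjective x
      rw [← ha]
      clear ha
      rw [← map_smul, smul_eq_mul, Submodule.mkQ_apply, Submodule.Quotient.mk_eq_zero]
      apply hJM
      induction a using MonoidAlgebra.induction_on with
      | of b => exact Submodule.subset_span ⟨g, b, hg, rfl⟩
      | add u v hu hv => rw [mul_add]; exact J.add_mem hu hv
      | smul c u hu => rw [mul_smul_comm]; exact J.smul_of_tower_mem c hu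
    rw [Finset.sum_smul, Finset.sum_congr rfl (fun j _ => hj j), Finset.sum_const, Finset.card_range,
      ← Nat.cast_smul_eq_nsmul K, smul_eq_zero] at h0
    have hx0 : x = 0 := h0.resolve_left (Nat.cast_ne_zero.mpr (orderOf_pos g).ne')
    exact e.symm.injective (by rw [← hx, hx0, map_zero])

end CfsgLib.Recog
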