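import Cfsg.Agent.Lib.Solvable.UniqueSubgroup
import Cfsg.Agent.Lib.Transfer.UniqueOrderP
import Cfsg.Agent.S0519
import Mathlib.LinearAlgebra.FiniteDimensional.Basic
import Mathlib.Data.ZMod.Basic

/-!
A faithful irreducible `p`-group of linear maps is imprimitive on `p` blocks unless it is exceptional.
-/

set_option autoImplicit false

namespace CfsgLib.Recog.PGroupImprimitive

open Subgroup

theorem isCyclic_of_comm_unique {A : Type*} [Group A] [Finite A] {p : ℕ} [Fact p.Prime] (hA : IsPGroup p A)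
    (hc : ∀ x y : A, x * y = y * x) (huniq : ∀ H K : Subgroup A, Nat.card H = p → Nat.card K = p → H = K) :
    IsCyclic A := by
  rcases CfsgLib.Solvable.isCyclic_or_quaternion_of_unique hA huniq with h | ⟨-, n, ⟨e⟩⟩
  · exact h
  have hc' : ∀ x y : QuaternionGroup (2 ^ n), x * y = y * x := fun x y => by
    simpa using congrArg e (hc (e.symm x) (e.symm y))
  have h2 := hc' (QuaternionGroup.a 1) (QuaternionGroup.xa 0)
  simp only [QuaternionGroup.a_mul_xa, QuaternionGroup.xa_mul_a, zero_sub, zero_add, QuaternionGroup.xa.injEq] at h2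
  have h4 : ((2 : ℕ) : ZMod (2 * 2 ^ n)) = 0 := by
    rw [Nat.cast_two]; linear_combination (-1 : ZMod (2 * 2 ^ n)) * h2
  rw [ZMod.natCast_eq_zero_iff] at h4
  have hn : 2 ^ n = 1 := by
    have := Nat.le_of_dvd two_pos h4
    have := Nat.one_le_two_pow (n := n)
    omega
  rw [hn] at e
  haveI : IsCyclic (QuaternionGroup 1) := QuaternionGroup.quaternionGroup_one_isCyclic
  exact isCyclic_of_surjective e.symm.toMonoidHom e.symm.surjective

theorem eq_of_isCyclic {A : Type*} [Group A] [Finite A] [IsCyclic A] {p : ℕ} (hp : 0 < p) {H K : Subgroup A}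
    (hH : Nat.card H = p) (hK : Nat.card K = p) : H = K := by
  classical
  haveI := Fintype.ofFinite A
  have key : ∀ L : Subgroup A, Nat.card L = p → (L : Set A).toFinset = Finset.univ.filter fun x : A => x ^ p = 1 := by
    intro L hL
    refine Finset.eq_of_subset_of_card_le (fun x hx => ?_) ?_
    · rw [Set.mem_toFinset] at hx
      rw [Finset.mem_filter]
      exact ⟨Finset.mem_univ _, hL ▸ congrArg Subtype.val (pow_card_eq_one' (G := L) (x := ⟨x, hx⟩))⟩
    · refine (IsCyclic.card_pow_eq_one_le hp).trans (le_of_eq ?_)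
      rw [← hL, Set.toFinset_card, ← Nat.card_eq_fintype_card]
      rfl
  exact SetLike.coe_injective (Set.toFinset_inj.1 ((key H hH).trans (key K hK).symm))

variable {G : Type*} [Group G] [Finite G] {p : ℕ} [Fact p.Prime]

/-- A central subgroup of order `p` in a non-trivial `p`-group. -/
theorem exists_central (hG : IsPGroup p G) [Nontrivial G] : ∃ z : G, orderOf z = p ∧ z ∈ center G := by
  have hnt : Nontrivial (center G) := hG.center_nontrivial
  obtain ⟨k, hk⟩ := IsPGroup.iff_card.1 (hG.to_subgroup (center G))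
  have hk0 : k ≠ 0 := by
    rintro rfl
    rw [pow_zero] at hk
    exact absurd hk (Finite.one_lt_card (α := center G)).ne'
  obtain ⟨⟨z, hz⟩, ho⟩ := exists_prime_orderOf_dvd_card' (G := center G) p (hk ▸ dvd_pow_self p hk0)
  exact ⟨z, by rw [← ho, Subgroup.orderOf_mk], hz⟩

theorem exists_abelian_not_cyclic (hG : IsPGroup p G) (hnc : ¬ IsCyclic G)
    (hnq : ∀ n : ℕ, ¬ Nonempty (G ≃* QuaternionGroup n)) :
    ∃ B : Subgroup G, IsMulCommutative B ∧ ¬ IsCyclic B := by
  by_contra hno
  push Not at hno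
  haveI : Nontrivial G := by
    by_contra h
    rw [not_nontrivial_iff_subsingleton] at h
    exact hnc inferInstance
  obtain ⟨z, hz, hzc⟩ := exists_central hG
  have key : ∀ H : Subgroup G, Nat.card H = p → H = zpowers z := by
    intro H hH
    haveI : IsMulCommutative (H ⊔ zpowers z : Subgroup G) := by
      haveI : IsCyclic H := isCyclic_of_prime_card hH
      obtain ⟨⟨h0, hh0⟩, hgen⟩ := IsCyclic.exists_generator (α := H)
      have hH0 : H = zpowers h0 := eq_of_le_of_card_ge
        (fun x hx => by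
          obtain ⟨k, hk⟩ := mem_zpowers_iff.1 (hgen ⟨x, hx⟩)
          exact ⟨k, congrArg Subtype.val hk⟩) (card_le_of_le (zpowers_le.2 hh0))
      rw [hH0, zpowers_eq_closure, zpowers_eq_closure, ← Subgroup.closure_union]
      refine isMulCommutative_closure ?_
      rintro a (rfl | rfl) b (rfl | rfl) <;>
        first | rfl | exact (mem_center_iff.1 hzc _) | exact (mem_center_iff.1 hzc _).symm
    haveI := hno (H ⊔ zpowers z) inferInstance
    have h := eq_of_isCyclic (A := (H ⊔ zpowers z : Subgroup G)) (Fact.out : p.Prime).pos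
      (H := H.subgroupOf _) (K := (zpowers z).subgroupOf _)
      (by rw [Nat.card_congr (subgroupOfEquivOfLe le_sup_left).toEquiv, hH])
      (by rw [Nat.card_congr (subgroupOfEquivOfLe le_sup_right).toEquiv, Nat.card_zpowers, hz])
    rw [subgroupOf_inj, inf_eq_left.2 le_sup_left, inf_eq_left.2 le_sup_right] at h
    exact h
  rcases CfsgLib.Solvable.isCyclic_or_quaternion_of_unique hG fun H K hH hK => (key H hH).trans (key K hK).symm with
    h | ⟨-, n, hn⟩
  · exact hnc h
  · exact hnq _ hn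

theorem exists_normal_sq (hG : IsPGroup p G) (hnc : ¬ IsCyclic G)
    (hnq : ∀ n : ℕ, ¬ Nonempty (G ≃* QuaternionGroup n)) (hnd : ∀ n : ℕ, ¬ Nonempty (G ≃* DihedralGroup n))
    (hnsd : ¬ Cfsg.IsQuasiDihedral G) :
    ∃ E : Subgroup G, E.Normal ∧ IsMulCommutative E ∧ (∀ e ∈ E, e ^ p = 1) ∧ Nat.card E = p ^ 2 := by
  have hA : ∃ A : Subgroup G, A.Normal ∧ IsMulCommutative A ∧ ¬ IsCyclic A := by
    by_contra hno
    push Not at hno
    rcases Cfsg.Agent.S0519.result p hG hno (exists_abelian_not_cyclic hG hnc hnq) with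
      ⟨-, ⟨n, h⟩ | ⟨n, -, h⟩ | h⟩
    · exact hnq n h
    · exact hnd n h
    · exact hnsd h
  obtain ⟨A, hAn, hAc, hAnc⟩ := hA
  let Ω : Subgroup G :=
    { carrier := {x | x ∈ A ∧ x ^ p = 1}
      one_mem' := ⟨one_mem A, one_pow p⟩
      mul_mem' := fun {x y} hx hy => ⟨mul_mem hx.1 hy.1, by
        have hc : Commute x y := congrArg Subtype.val (hAc.is_comm.comm ⟨x, hx.1⟩ ⟨y, hy.1⟩)
        rw [hc.mul_pow, hx.2, hy.2, one_mul]⟩
      inv_mem' := fun {x} hx => ⟨inv_mem hx.1, by rw [inv_pow, hx.2, inv_one]⟩ }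
  haveI : Ω.Normal := ⟨fun x hx g => ⟨hAn.conj_mem x hx.1 g, by rw [conj_pow, hx.2, mul_one, mul_inv_cancel]⟩⟩
  have hcard : p ^ 2 ∣ Nat.card Ω := by
    obtain ⟨k, hk⟩ := IsPGroup.iff_card.1 (hG.to_subgroup Ω)
    by_contra hno
    refine hAnc (isCyclic_of_comm_unique (hG.to_subgroup A) (fun x y => hAc.is_comm.comm x y) ?_)
    have hk1 : k ≤ 1 := by
      by_contra h
      exact hno (hk ▸ pow_dvd_pow p (by omega))
    intro H K hH hK
    have key : ∀ L : Subgroup A, Nat.card L = p → L.map A.subtype = Ω := by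
      intro L hL
      refine eq_of_le_of_card_ge ?_ ?_
      · rintro _ ⟨l, hl, rfl⟩
        refine ⟨l.2, ?_⟩
        have h1 : (⟨l, hl⟩ : L) ^ p = 1 := hL ▸ pow_card_eq_one' (G := L) (x := ⟨l, hl⟩)
        exact congrArg (fun t : L => ((t : A) : G)) h1
      · rw [card_map_of_injective A.subtype_injective, hL, hk]
        exact (Nat.pow_le_pow_right (Fact.out : p.Prime).pos hk1).trans (pow_one p).le
    exact Subgroup.map_injective A.subtype_injective ((key H hH).trans (key K hK).symm)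
  obtain ⟨E, hEn, hEΩ, hEc⟩ := CfsgLib.Transfer.exists_normal_le_card hG Ω hcard
  exact ⟨E, hEn, ⟨⟨fun x y => Subtype.ext (congrArg Subtype.val
    (hAc.is_comm.comm ⟨x, (hEΩ x.2).1⟩ ⟨y, (hEΩ y.2).1⟩) :)⟩⟩, fun e he => (hEΩ he).2, hEc⟩

/-- A non-exceptional faithful irreducible `p`-group permutes `p` fixed spaces in a cycle. -/
theorem exists_blocks {q : ℕ} [Fact q.Prime] {V : Type*} [AddCommGroup V] [Module (ZMod q) V] [Finite V]
    [Nontrivial V] (hG : IsPGroup p G) (ρ : G →* (V ≃ₗ[ZMod q] V)) (hρ : Function.Injective ρ)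
    (hirr : ∀ W : Submodule (ZMod q) V, (∀ g : G, ∀ w ∈ W, ρ g w ∈ W) → W = ⊥ ∨ W = ⊤)
    (hnc : ¬ IsCyclic G) (hnq : ∀ n : ℕ, ¬ Nonempty (G ≃* QuaternionGroup n))
    (hnd : ∀ n : ℕ, ¬ Nonempty (G ≃* DihedralGroup n)) (hnsd : ¬ Cfsg.IsQuasiDihedral G) :
    ∃ (H : Subgroup G) (W : ZMod p → Submodule (ZMod q) V), H.index = p ∧
      iSup W = ⊤ ∧ iSupIndep W ∧
      (∀ h ∈ H, ∀ i, ∀ w ∈ W i, ρ h w ∈ W i) ∧
      (∀ i, ∃ h ∈ H, h ≠ 1 ∧ ∀ w ∈ W i, ρ h w = w) ∧
      ∀ g : G, g ∉ H → ∃ k : ZMod p, k ≠ 0 ∧ ∀ i, (W i).map (ρ g : V →ₗ[ZMod q] V) = W (i + k) := by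
  have hp : p.Prime := Fact.out
  haveI : Nontrivial G := by
    by_contra h
    rw [not_nontrivial_iff_subsingleton] at h
    exact hnc inferInstance
  haveI : NeZero p := ⟨hp.ne_zero⟩
  obtain ⟨E, hEn, hEc, hEp, hEcard⟩ := exists_normal_sq hG hnc hnq hnd hnsd
  -- fixed spaces
  let Fix : G → Submodule (ZMod q) V := fun g =>
    { carrier := {v | ρ g v = v}
      add_mem' := fun {a b} ha hb => by
        show ρ g (a + b) = a + b
        rw [map_add, ha, hb]
      zero_mem' := map_zero _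
      smul_mem' := fun c v hv => by
        show ρ g (c • v) = c • v
        rw [map_smul, hv] }
  have happ : ∀ (g h : G) (v : V), ρ (g * h) v = ρ g (ρ h v) := fun g h v => by rw [map_mul]; rfl
  have hone : ∀ v : V, ρ 1 v = v := fun v => by rw [map_one]; rfl
  have hFixBot : ∀ z ∈ center G, z ≠ 1 → Fix z = ⊥ := by
    intro z hz hz1
    refine (hirr (Fix z) fun g w hw => ?_).resolve_right fun htop => hz1 (hρ ?_)
    · show ρ z (ρ g w) = ρ g w
      rw [← happ, ← mem_center_iff.1 hz g, happ, hw]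
    · refine LinearEquiv.ext fun v => ?_
      rw [hone]
      exact (htop ▸ Submodule.mem_top : v ∈ Fix z)
  -- the coprimality
  have hqp : (p : ZMod q) ≠ 0 := by
    intro h
    rw [ZMod.natCast_eq_zero_iff] at h
    have hqp : q = p := (Nat.prime_dvd_prime_iff_eq (Fact.out : q.Prime) hp).1 h
    letI : MulAction G V :=
      { smul := fun g v => ρ g v
        one_smul := hone
        mul_smul := fun g h v => happ g h v }
    obtain ⟨z, hz, hzc⟩ := exists_central hG
    have hz1 : z ≠ 1 := fun e => hp.ne_one (by rw [← hz, e, orderOf_one])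
    obtain ⟨v, hv⟩ : ∃ v : V, v ≠ 0 := exists_ne 0
    have hdvd : p ∣ Nat.card V := by
      have h1 : addOrderOf v ∣ q := addOrderOf_dvd_of_nsmul_eq_zero (by
        rw [← Nat.cast_smul_eq_nsmul (ZMod q) q v, ZMod.natCast_self, zero_smul])
      rcases (Nat.dvd_prime (Fact.out : q.Prime)).1 h1 with h2 | h2
      · exact absurd (AddMonoid.addOrderOf_eq_one_iff.1 h2) hv
      · exact (hqp ▸ h2) ▸ addOrderOf_dvd_natCard v
    obtain ⟨w, hw, hw0⟩ := hG.exists_fixed_point_of_prime_dvd_card_of_fixed_point V hdvd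
      (a := (0 : V)) (fun g => map_zero (ρ g))
    have : w ∈ Fix z := hw z
    rw [hFixBot z hzc hz1, Submodule.mem_bot] at this
    exact hw0 this.symm
  -- `z` central in `E`
  obtain ⟨z, hzE, hz, hzc⟩ : ∃ z ∈ E, orderOf z = p ∧ z ∈ center G := by
    haveI := hEn
    obtain ⟨M, hMn, hME, hMc⟩ := CfsgLib.Transfer.exists_normal_le_card hG E (k := 1)
      (by rw [hEcard]; exact pow_dvd_pow p (by omega))
    rw [pow_one] at hMc
    obtain ⟨⟨z, hz⟩, ho⟩ := exists_prime_orderOf_dvd_card' (G := M) p hMc.symm.dvd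
    rw [Subgroup.orderOf_mk] at ho
    refine ⟨z, hME hz, ho, ?_⟩
    haveI := hMn
    letI : MulAction G M :=
      { smul := fun g m => ⟨g * m * g⁻¹, hMn.conj_mem m m.2 g⟩
        one_smul := fun m => Subtype.ext (by show (1 : G) * m * 1⁻¹ = m; simp)
        mul_smul := fun g h m => Subtype.ext (by show g * h * m * (g * h)⁻¹ = g * (h * m * h⁻¹) * g⁻¹; group) }
    obtain ⟨w, hw, hw1⟩ := hG.exists_fixed_point_of_prime_dvd_card_of_fixed_point M hMc.symm.dvd
      (a := (1 : M)) (fun g => Subtype.ext (by show g * 1 * g⁻¹ = 1; simp))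
    have hwc : (w : G) ∈ center G := mem_center_iff.2 fun g => by
      have : g * w * g⁻¹ = w := congrArg Subtype.val (hw g)
      rwa [mul_inv_eq_iff_eq_mul] at this
    have hM : M ≤ center G := by
      have : zpowers (w : G) = M := eq_of_le_of_card_ge (zpowers_le.2 w.2) (by
        rw [hMc, Nat.card_zpowers]
        rcases (Nat.dvd_prime hp).1 (hMc ▸ Subgroup.orderOf_dvd_natCard M w.2) with h | h
        · exact absurd (Subtype.ext (orderOf_eq_one_iff.1 h)).symm hw1
        · exact h.ge)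
      rw [← this]; exact zpowers_le.2 hwc
    exact hM hz
  have hz1 : z ≠ 1 := fun e => hp.ne_one (by rw [← hz, e, orderOf_one])
  obtain ⟨e0, he0, he0z⟩ : ∃ e0 ∈ E, e0 ∉ zpowers z := SetLike.not_le_iff_exists.1 fun h => by
    have h1 := card_le_of_le h
    rw [hEcard, Nat.card_zpowers, hz] at h1
    nlinarith [hp.two_le]
  have hEgen : E ≤ zpowers z ⊔ zpowers e0 := by
    have hle : zpowers z ⊔ zpowers e0 ≤ E := sup_le (zpowers_le.2 hzE) (zpowers_le.2 he0)
    obtain ⟨i, hi, hcard⟩ := (Nat.dvd_prime_pow hp).1 (hEcard ▸ card_dvd_of_le hle)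
    have hlt : i ≠ 0 ∧ i ≠ 1 := by
      refine ⟨fun h => ?_, fun h => ?_⟩
      · have h1 := card_le_of_le (le_sup_left : zpowers z ≤ zpowers z ⊔ zpowers e0)
        rw [hcard, h, pow_zero, Nat.card_zpowers, hz] at h1
        exact absurd h1 (by have := hp.two_le; omega)
      · rw [h, pow_one] at hcard
        have := eq_of_le_of_card_ge (le_sup_left : zpowers z ≤ zpowers z ⊔ zpowers e0)
          (by rw [hcard, Nat.card_zpowers, hz])
        exact he0z (this ▸ mem_sup_right (mem_zpowers e0))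
    refine (eq_of_le_of_card_ge hle ?_).ge
    rw [hcard, hEcard, show i = 2 by omega]
  -- lines
  let e : ZMod p → G := fun i => e0 * z ^ i.val
  have hzcomm : ∀ g : G, Commute z g := fun g => (mem_center_iff.1 hzc g).symm
  have hzp : ∀ n : ℕ, z ^ (n % p) = z ^ n := fun n => (pow_eq_pow_mod n (by rw [← hz, pow_orderOf_eq_one])).symm
  have hzpow : z ^ p = 1 := by rw [← hz, pow_orderOf_eq_one]
  have he_mul : ∀ i j : ZMod p, e (i + j) = e i * z ^ j.val := fun i j => by
    show e0 * z ^ (i + j).val = e0 * z ^ i.val * z ^ j.val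
    rw [mul_assoc, ← pow_add, ZMod.val_add, hzp]
  have he_ord : ∀ i, e i ^ p = 1 := fun i => by
    show (e0 * z ^ i.val) ^ p = 1
    rw [((hzcomm e0).symm.pow_right _).mul_pow, hEp e0 he0, one_mul, ← pow_mul, mul_comm, pow_mul, hzpow, one_pow]
  let W : ZMod p → Submodule (ZMod q) V := fun i => Fix (e i)
  have hzsum : ∀ j : ZMod p, j ≠ 0 → ∀ v : V, ∑ i : ZMod p, ρ (z ^ (i * j).val) v = 0 := by
    intro j hj v
    have hb : Function.Bijective fun i : ZMod p => i * j := Finite.injective_iff_bijective.1 (mul_left_injective₀ hj)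
    rw [hb.sum_comp (fun i => ρ (z ^ i.val) v)]
    have : ∑ i : ZMod p, ρ (z ^ i.val) v ∈ Fix z := by
      show ρ z _ = _
      rw [map_sum]
      refine Fintype.sum_equiv (Equiv.addRight 1) _ _ fun i => ?_
      rw [← happ, ← pow_succ', Equiv.coe_addRight, ZMod.val_add, hzp]
      congr 2
      haveI := Fact.mk hp.one_lt
      rw [ZMod.val_one]
    rwa [hFixBot z hzc hz1, Submodule.mem_bot] at this
  let P : ZMod p → V → V := fun i v => (p : ZMod q)⁻¹ • ∑ j : ZMod p, ρ (e i ^ j.val) v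
  have hPW : ∀ i v, P i v ∈ W i := fun i v => by
    refine Submodule.smul_mem _ _ ?_
    show ρ (e i) _ = _
    rw [map_sum]
    refine Fintype.sum_equiv (Equiv.addRight 1) _ _ fun j => ?_
    haveI := Fact.mk hp.one_lt
    rw [← happ, ← pow_succ', Equiv.coe_addRight, ZMod.val_add, ZMod.val_one]
    congr 2
    exact pow_eq_pow_mod _ (he_ord i)
  have hsum : ∀ v, ∑ i, P i v = v := by
    intro v
    simp only [P, ← Finset.smul_sum]
    rw [Finset.sum_comm, Finset.sum_eq_single (0 : ZMod p)]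
    · simp only [ZMod.val_zero, pow_zero, hone, Finset.sum_const, Finset.card_univ, ZMod.card]
      rw [← Nat.cast_smul_eq_nsmul (ZMod q), smul_smul, inv_mul_cancel₀ hqp, one_smul]
    · intro j _ hj
      have h1 : ∀ i : ZMod p, ρ (e i ^ j.val) v = ρ (e0 ^ j.val) (ρ (z ^ (i * j).val) v) := fun i => by
        rw [← happ]
        show ρ ((e0 * z ^ i.val) ^ j.val) v = _
        rw [((hzcomm e0).symm.pow_right _).mul_pow, ← pow_mul, ZMod.val_mul, hzp]
      simp only [h1, ← map_sum, hzsum j hj, map_zero]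
    · exact fun h => absurd (Finset.mem_univ _) h
  have hfix : ∀ i, ∀ w ∈ W i, ∀ n : ℕ, ρ (e i ^ n) w = w := fun i w hw n => by
    induction n with
    | zero => rw [pow_zero, hone]
    | succ n ih => rw [pow_succ, happ, hw, ih]
  have hPself : ∀ i, ∀ w ∈ W i, P i w = w := fun i w hw => by
    simp only [P, hfix i w hw, Finset.sum_const, Finset.card_univ, ZMod.card]
    rw [← Nat.cast_smul_eq_nsmul (ZMod q), smul_smul, inv_mul_cancel₀ hqp, one_smul]
  have hPother : ∀ i k, k ≠ i → ∀ w ∈ W k, P i w = 0 := fun i k hki w hw => by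
    have h1 : ∀ j : ZMod p, ρ (e i ^ j.val) w = ρ (z ^ (j * (i - k)).val) w := fun j => by
      rw [show e i = e k * z ^ (i - k).val by rw [← he_mul, add_sub_cancel],
        (hzcomm (e k)).symm.pow_right _ |>.mul_pow, ← (((hzcomm (e k)).pow_left _).pow_pow _ _).eq, happ,
        hfix k w hw, ← pow_mul, ZMod.val_mul, mul_comm (i - k).val, hzp]
    simp only [P, h1, hzsum _ (sub_ne_zero.2 hki.symm), smul_zero]
  -- action of `G`
  have hconj : ∀ g : G, ∃ k : ZMod p, g * e0 * g⁻¹ = e k := by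
    intro g
    have hgE : g * e0 * g⁻¹ ∈ E := hEn.conj_mem e0 he0 g
    obtain ⟨k, hk⟩ : ∃ k : ℕ, e0⁻¹ * (g * e0 * g⁻¹) = z ^ k := by
      haveI hEGn : (zpowers z).Normal := ⟨fun x hx g => by
        have : x ∈ center G := (zpowers_le.2 hzc) hx
        rwa [mem_center_iff.1 this g, mul_inv_cancel_right]⟩
      obtain ⟨a, ha, b, hb, hab⟩ := (Subgroup.mem_sup_of_normal_left.1 (hEgen hgE))
      obtain ⟨n, rfl⟩ := mem_zpowers_iff.1 hb
      let f := QuotientGroup.mk' (zpowers z)
      have hfa : f a = 1 := (QuotientGroup.eq_one_iff a).2 ha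
      have hfe : f (g * e0 * g⁻¹) = f e0 ^ n := by rw [← hab, map_mul, hfa, one_mul, map_zpow]
      -- a fixed point of a `p`-group on the line
      have hne : f e0 ≠ 1 := fun h => he0z ((QuotientGroup.eq_one_iff e0).1 h)
      have hne' : orderOf (f e0) = p := orderOf_eq_prime (by rw [← map_pow, hEp e0 he0, map_one]) hne
      have hn : (n : ZMod p) = 1 := by
        obtain ⟨m, hm⟩ := hG g
        have hit : ∀ j : ℕ, f (g ^ j) * f e0 * (f (g ^ j))⁻¹ = f e0 ^ (n ^ j : ℤ) := by
          intro j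
          induction j with
          | zero => simp
          | succ j ih =>
            rw [pow_succ' g, map_mul, mul_inv_rev, show f g * f (g ^ j) * f e0 * ((f (g ^ j))⁻¹ * (f g)⁻¹) =
              f g * (f (g ^ j) * f e0 * (f (g ^ j))⁻¹) * (f g)⁻¹ by group, ih, ← conj_zpow,
              ← map_inv, ← map_mul, ← map_mul, hfe, ← zpow_mul, pow_succ', mul_comm]
        have h1 := hit (p ^ m)
        rw [hm, map_one, one_mul, inv_one, mul_one] at h1
        have h2 : ((n ^ (p ^ m) : ℤ) : ZMod p) = 1 := by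
          have h3 := zpow_eq_zpow_iff_modEq.1 ((zpow_one (f e0)).trans h1)
          rw [hne', ← ZMod.intCast_eq_intCast_iff] at h3
          simpa using h3.symm
        rwa [Int.cast_pow, ZMod.pow_card_pow] at h2
      have : f (g * e0 * g⁻¹) = f e0 := by
        rw [hfe]
        conv_rhs => rw [← zpow_one (f e0)]
        rw [zpow_eq_zpow_iff_modEq, hne', ← ZMod.intCast_eq_intCast_iff, hn, Int.cast_one]
      have hmem : e0⁻¹ * (g * e0 * g⁻¹) ∈ zpowers z := by
        rw [← QuotientGroup.eq]; exact this.symm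
      rw [← mem_powers_iff_mem_zpowers] at hmem
      exact (Submonoid.mem_powers_iff _ _).1 hmem |>.imp fun _ h => h.symm
    refine ⟨(k : ZMod p), ?_⟩
    show _ = e0 * z ^ (k : ZMod p).val
    rw [ZMod.val_natCast, hzp, ← hk, mul_inv_cancel_left]
  choose χ hχ using hconj
  have hsh : ∀ g i, g * e i * g⁻¹ = e (i + χ g) := fun g i => by
    rw [add_comm, he_mul, ← hχ g]
    show g * (e0 * z ^ i.val) * g⁻¹ = _
    rw [← mul_assoc, mul_assoc (g * e0), ((hzcomm g⁻¹).pow_left _).eq, ← mul_assoc]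
  have hmap : ∀ g i, (W i).map (ρ g : V →ₗ[ZMod q] V) = W (i + χ g) := fun g i => by
    ext v
    show _ ↔ ρ (e (i + χ g)) v = v
    rw [← hsh]
    constructor
    · rintro ⟨w, hw, rfl⟩
      show ρ (g * e i * g⁻¹) (ρ g w) = ρ g w
      rw [← happ, inv_mul_cancel_right, happ, hw]
    · intro hv
      refine ⟨ρ g⁻¹ v, ?_, by show ρ g (ρ g⁻¹ v) = v; rw [← happ, mul_inv_cancel, hone]⟩
      show ρ (e i) (ρ g⁻¹ v) = ρ g⁻¹ v
      conv_rhs => rw [← hv]
      rw [← happ, ← happ]; group
  have he_inj : Function.Injective e := fun i j h => by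
    have h1 : z ^ i.val = z ^ j.val := mul_left_cancel h
    rw [pow_inj_mod, hz, Nat.mod_eq_of_lt i.val_lt, Nat.mod_eq_of_lt j.val_lt] at h1
    exact ZMod.val_injective p h1
  let f : G →* Multiplicative (ZMod p) := MonoidHom.mk' (fun g => Multiplicative.ofAdd (χ g)) fun g h => by
    refine congrArg Multiplicative.ofAdd (he_inj ?_ : χ (g * h) = χ g + χ h)
    rw [← hχ, add_comm, ← hsh, ← hχ]; group
  have hHne : f.ker ≠ ⊤ := by
    intro htop
    have hcen : ∀ i, e i ∈ center G := fun i => mem_center_iff.2 fun g => by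
      have h1 : f g = 1 := (htop ▸ mem_top g : g ∈ f.ker)
      have h2 : χ g = 0 := h1
      have := hsh g i
      rw [h2, add_zero, mul_inv_eq_iff_eq_mul] at this
      exact this
    obtain ⟨v, hv⟩ : ∃ v : V, v ≠ 0 := exists_ne 0
    refine hv ?_
    rw [← hsum v]
    refine Finset.sum_eq_zero fun i _ => ?_
    have hne : e i ≠ 1 := fun h => he0z (by
      rw [show e0 = (z ^ i.val)⁻¹ from eq_inv_of_mul_eq_one_left h]
      exact inv_mem (pow_mem (mem_zpowers z) _))
    have := hPW i v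
    rwa [show W i = ⊥ from hFixBot _ (hcen i) hne, Submodule.mem_bot] at this
  refine ⟨f.ker, W, ?_, ?_, ?_, ?_, ?_, ?_⟩
  · rw [Subgroup.index_ker]
    have hd : Nat.card f.range ∣ p := by
      have h1 := Subgroup.card_subgroup_dvd_card f.range
      rwa [Nat.card_congr Multiplicative.toAdd, Nat.card_zmod] at h1
    rcases (Nat.dvd_prime hp).1 hd with h | h
    · rw [Subgroup.card_eq_one, MonoidHom.range_eq_bot_iff] at h
      exact absurd (by rw [h, MonoidHom.ker_one]) hHne
    · exact h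
  · refine eq_top_iff.2 fun v _ => ?_
    rw [← hsum v]
    exact Submodule.sum_mem _ fun i _ => Submodule.mem_iSup_of_mem i (hPW i v)
  · intro i
    rw [disjoint_iff, Submodule.eq_bot_iff]
    rintro w ⟨hw1, hw2⟩
    rw [← hPself i w hw1]
    clear hw1
    induction hw2 using Submodule.iSup_induction' with
    | mem k x hx =>
      by_cases hki : k = i
      · subst hki
        simp only [ne_eq, not_true_eq_false, iSup_false, Submodule.mem_bot] at hx
        subst hx
        simp [P]
      · simp only [ne_eq, hki, not_false_eq_true, iSup_pos] at hx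
        exact hPother i k hki x hx
    | zero => simp [P]
    | add x y _ _ hx hy =>
      have hadd : P i (x + y) = P i x + P i y := by simp [P, Finset.sum_add_distrib, smul_add]
      rw [hadd, hx, hy, add_zero]
  · intro h hh i w hw
    have h2 : χ h = 0 := (MonoidHom.mem_ker.1 hh : f h = 1)
    have := hmap h i
    rw [h2, add_zero] at this
    exact this ▸ Submodule.mem_map_of_mem hw
  · intro i
    refine ⟨e i, ?_, fun h => he0z (by
      rw [show e0 = (z ^ i.val)⁻¹ from eq_inv_of_mul_eq_one_left h]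
      exact inv_mem (pow_mem (mem_zpowers z) _)), fun w hw => hw⟩
    show Multiplicative.ofAdd (χ (e i)) = 1
    have h0 : χ (e i) = 0 := he_inj <| by
      rw [← hχ, (show e 0 = e0 by show e0 * z ^ (0 : ZMod p).val = e0; rw [ZMod.val_zero, pow_zero, mul_one])]
      show e0 * z ^ i.val * e0 * (e0 * z ^ i.val)⁻¹ = e0
      rw [mul_assoc e0, ((hzcomm e0).pow_left _).eq, ← mul_assoc, mul_inv_rev]; group
    rw [h0, ofAdd_zero]
  · exact fun g hg => ⟨χ g, fun h => hg (by show Multiplicative.ofAdd (χ g) = 1; rw [h, ofAdd_zero]), hmap g⟩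

end CfsgLib.Recog.PGroupImprimitive
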