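import Cfsg.Agent.Lib.KnownC.PermCoxeter
import Cfsg.Agent.Lib.Recog.MoorePresentation

/-!
Recognising a symmetric group from two commuting involutions with symmetric centralisers.
-/

set_option autoImplicit false
set_option linter.unusedSimpArgs false
set_option linter.unusedSectionVars false
set_option linter.style.haveILetI false

namespace CfsgLib.Recog.SymTwoCentralizers

open Equiv

section Perm

variable {α : Type*} [DecidableEq α] [Fintype α]

theorem eq_or_disjoint_of_commute {p q r s : α} (hpq : p ≠ q) (hrs : r ≠ s)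
    (h : Commute (swap p q) (swap r s)) :
    swap p q = swap r s ∨ (p ≠ r ∧ p ≠ s ∧ q ≠ r ∧ q ≠ s) := by
  have key : ∀ {a b c : α}, a ≠ b → a ≠ c → Commute (swap a b) (swap a c) → b = c := by
    intro a b c hab hac hc
    by_contra hbc
    have := Equiv.congr_fun hc.eq a
    rw [Perm.mul_apply, Perm.mul_apply, swap_apply_left, swap_apply_left,
      swap_apply_of_ne_of_ne hac.symm (Ne.symm hbc), swap_apply_of_ne_of_ne hab.symm hbc] at this
    exact hbc this.symm
  by_cases h1 : p = r
  · subst h1; exact Or.inl (by rw [key hpq hrs h])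
  by_cases h2 : p = s
  · subst h2; rw [swap_comm r p] at h; exact Or.inl (by rw [key hpq hrs.symm h, swap_comm r p])
  by_cases h3 : q = r
  · subst h3; rw [swap_comm p q] at h; exact Or.inl (by rw [swap_comm p q, key hpq.symm hrs h])
  by_cases h4 : q = s
  · subst h4; rw [swap_comm p q, swap_comm r q] at h
    exact Or.inl (by rw [swap_comm p q, key hpq.symm hrs.symm h, swap_comm r q])
  exact Or.inr ⟨h1, h2, h3, h4⟩

theorem cube_of_not_commute {p q r s : α} (hpq : p ≠ q) (hrs : r ≠ s)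
    (h : ¬ Commute (swap p q) (swap r s)) : (swap p q * swap r s) ^ 3 = 1 := by
  have key : ∀ {a b c : α}, a ≠ b → a ≠ c → ¬ Commute (swap a b) (swap a c) →
      (swap a b * swap a c) ^ 3 = 1 := by
    intro a b c hab hac hn
    exact Moore.swap_cube hab hac (fun e => hn (e ▸ Commute.refl _))
  by_cases h1 : p = r
  · subst h1; exact key hpq hrs h
  by_cases h2 : p = s
  · subst h2; rw [swap_comm r p] at h ⊢; exact key hpq hrs.symm h
  by_cases h3 : q = r
  · subst h3; rw [swap_comm p q] at h ⊢; exact key hpq.symm hrs h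
  by_cases h4 : q = s
  · subst h4; rw [swap_comm p q, swap_comm r q] at h ⊢; exact key hpq.symm hrs.symm h
  exact absurd (Moore.swap_sq h1 h2 h3 h4) h

/-- A transposition commuting with two disjoint transpositions, each of which fails to commute
with `swap p q`, commutes with `swap p q` if it moves a point outside the other three. -/
theorem commute_of_path {p q v v' w w' c d : α} (hpq : p ≠ q) (hv : v ≠ v') (hw : w ≠ w')
    (hvw : v ≠ w ∧ v ≠ w' ∧ v' ≠ w ∧ v' ≠ w')
    (hnv : ¬ Commute (swap p q) (swap v v')) (hnw : ¬ Commute (swap p q) (swap w w'))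
    (hcd : c ≠ d) (hc : c ≠ p ∧ c ≠ q ∧ c ≠ v ∧ c ≠ v' ∧ c ≠ w ∧ c ≠ w')
    (hzv : Commute (swap c d) (swap v v')) (hzw : Commute (swap c d) (swap w w')) :
    Commute (swap c d) (swap p q) := by
  obtain ⟨cp, cq, cv, cv', cw, cw'⟩ := hc
  have dv : d ≠ v ∧ d ≠ v' := by
    rcases eq_or_disjoint_of_commute hcd hv hzv with e | ⟨_, _, h1, h2⟩
    · have := Equiv.congr_fun e c
      rw [swap_apply_left, swap_apply_of_ne_of_ne cv cv'] at this
      exact absurd this.symm hcd
    · exact ⟨h1, h2⟩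
  have dw : d ≠ w ∧ d ≠ w' := by
    rcases eq_or_disjoint_of_commute hcd hw hzw with e | ⟨_, _, h1, h2⟩
    · have := Equiv.congr_fun e c
      rw [swap_apply_left, swap_apply_of_ne_of_ne cw cw'] at this
      exact absurd this.symm hcd
    · exact ⟨h1, h2⟩
  have meet : ∀ {r s : α}, ¬ Commute (swap p q) (swap r s) → p = r ∨ p = s ∨ q = r ∨ q = s := by
    intro r s hn
    by_contra hc'
    push Not at hc'
    exact hn (Moore.swap_sq hc'.1 hc'.2.1 hc'.2.2.1 hc'.2.2.2)
  have hp : d ≠ p ∧ d ≠ q := by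
    obtain ⟨h1, h2, h3, h4⟩ := hvw
    rcases meet hnv with e | e | e | e <;> rcases meet hnw with e' | e' | e' | e' <;>
      subst_vars <;> first | exact ⟨dv.1, dw.1⟩ | exact ⟨dv.1, dw.2⟩ | exact ⟨dv.2, dw.1⟩ |
        exact ⟨dv.2, dw.2⟩ | exact ⟨dw.1, dv.1⟩ | exact ⟨dw.1, dv.2⟩ | exact ⟨dw.2, dv.1⟩ |
        exact ⟨dw.2, dv.2⟩ | exact absurd rfl h1 | exact absurd rfl h2 | exact absurd rfl h3 |
        exact absurd rfl h4
  exact Moore.swap_sq cp cq hp.1 hp.2

/-- A class of involutions fixing `a'` and `b'` with products of order at most `3` consists of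
transpositions. -/
theorem exists_swap {a' b' : α} (hcard : 9 ≤ Fintype.card α) (π : Perm α) (h2 : π * π = 1)
    (h1 : π ≠ 1) (ha : π a' = a') (hb : π b' = b')
    (hclass : ∀ g : Perm α, g a' = a' → g b' = b' →
      (π * (g * π * g⁻¹)) ^ 2 = 1 ∨ (π * (g * π * g⁻¹)) ^ 3 = 1) :
    ∃ c d, c ≠ d ∧ π = swap c d := by
  have hinv : ∀ x, π (π x) = x := fun x => by rw [← Perm.mul_apply, h2, Perm.one_apply]
  obtain ⟨a, hma⟩ : ∃ a, π a ≠ a := by
    by_contra h; push Not at h; exact h1 (Equiv.ext h)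
  obtain ⟨b, hab⟩ : ∃ b, π a = b := ⟨_, rfl⟩
  have hba : π b = a := hab ▸ hinv a
  have nab : a ≠ b := fun e => hma (e ▸ hab)
  refine ⟨a, b, nab, ?_⟩
  by_contra hne
  obtain ⟨c, nca, ncb, hmc⟩ : ∃ c, c ≠ a ∧ c ≠ b ∧ π c ≠ c := by
    by_contra h
    push Not at h
    refine hne (Equiv.ext fun x => ?_)
    rcases eq_or_ne x a with rfl | hxa
    · rw [hab, swap_apply_left]
    rcases eq_or_ne x b with rfl | hxb
    · rw [hba, swap_apply_right]
    rw [swap_apply_of_ne_of_ne hxa hxb, h x hxa hxb]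
  obtain ⟨d, hcd⟩ : ∃ d, π c = d := ⟨_, rfl⟩
  have hdc : π d = c := hcd ▸ hinv c
  have ncd : c ≠ d := fun e => hmc (e ▸ hcd)
  have nda : d ≠ a := fun e => ncb (by rw [← hdc, e, hab])
  have ndb : d ≠ b := fun e => nca (by rw [← hdc, e, hba])
  have nfix : ∀ {x y : α}, π x = y → x ≠ y → x ≠ a' ∧ x ≠ b' := fun {x y} hxy hne' =>
    ⟨fun e => hne' (by rw [← hxy, e, ha]), fun e => hne' (by rw [← hxy, e, hb])⟩
  obtain ⟨aa, ab⟩ := nfix hab nab
  obtain ⟨ba, bb⟩ := nfix hba nab.symm
  obtain ⟨ca, cb⟩ := nfix hcd ncd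
  obtain ⟨da, db⟩ := nfix hdc ncd.symm
  by_cases hfix : ∃ e, π e = e ∧ e ≠ a' ∧ e ≠ b'
  · obtain ⟨e, hee, ea, eb⟩ := hfix
    have nea : a ≠ e := fun h => nab (by rw [← hab, h, hee])
    have neb : b ≠ e := fun h => nab.symm (by rw [← hba, h, hee])
    have nec : c ≠ e := fun h => ncd (by rw [← hcd, h, hee])
    have ned : d ≠ e := fun h => ncd.symm (by rw [← hdc, h, hee])
    let g : Perm α := swap a b * swap b c * swap c d * swap d e
    have ga' : g a' = a' := by
      simp [g, swap_apply_of_ne_of_ne, aa.symm, ba.symm, ca.symm, da.symm, ea.symm]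
    have gb' : g b' = b' := by
      simp [g, swap_apply_of_ne_of_ne, ab.symm, bb.symm, cb.symm, db.symm, eb.symm]
    have g1 : g a = b := by simp [g, swap_apply_of_ne_of_ne, nab, nca.symm, nda.symm, nea]
    have g2 : g b = c := by
      simp [g, swap_apply_of_ne_of_ne, nab.symm, ncb.symm, ndb.symm, neb, nca, ncb]
    have g3 : g c = d := by simp [g, swap_apply_of_ne_of_ne, ncd, ncd.symm, nec, ndb, nda]
    have g4 : g d = e := by simp [g, swap_apply_of_ne_of_ne, ned.symm, nec.symm, neb.symm, nea.symm]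
    have g5 : g e = a := by simp [g, swap_apply_of_ne_of_ne]
    have i1 : g⁻¹ b = a := by rw [Perm.inv_eq_iff_eq]; exact g1.symm
    have i2 : g⁻¹ c = b := by rw [Perm.inv_eq_iff_eq]; exact g2.symm
    have i3 : g⁻¹ d = c := by rw [Perm.inv_eq_iff_eq]; exact g3.symm
    have i4 : g⁻¹ e = d := by rw [Perm.inv_eq_iff_eq]; exact g4.symm
    have i5 : g⁻¹ a = e := by rw [Perm.inv_eq_iff_eq]; exact g5.symm
    rcases hclass g ga' gb' with h | h <;> replace h := Equiv.congr_fun h b <;>
      simp only [pow_succ, pow_zero, one_mul, Perm.mul_apply, Perm.one_apply, i1, i2, i3, i4, i5,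
        hab, hba, hcd, hdc, hee, g1, g2, g3, g4, g5] at h
    · exact neb h.symm
    · exact ncb h
  · push Not at hfix
    have hsplit : ∀ (S : List α), S.length < 9 → ∃ x, x ∉ S := by
      intro S hS
      by_contra h
      push Not at h
      have h' := Finset.card_le_card (fun x _ => List.mem_toFinset.2 (h x) : Finset.univ ⊆ S.toFinset)
      have := S.toFinset_card_le
      rw [Finset.card_univ] at h'
      omega
    have hmove : ∀ x, x ≠ a' → x ≠ b' → π x ≠ x := fun x h h' e => h' (hfix x e h)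
    obtain ⟨e, he⟩ := hsplit [a', b', a, b, c, d] (by simp)
    simp only [List.mem_cons, List.not_mem_nil, or_false, not_or] at he
    obtain ⟨ea, eb, nea, neb, nec, ned⟩ := he
    obtain ⟨f, hef⟩ : ∃ f, π e = f := ⟨_, rfl⟩
    have hfe : π f = e := hef ▸ hinv e
    have nef : e ≠ f := fun h => hmove e ea eb (h ▸ hef)
    obtain ⟨fa, fb⟩ := nfix hfe nef.symm
    have nfa : f ≠ a := fun h => neb (by rw [← hfe, h, hab])
    have nfb : f ≠ b := fun h => nea (by rw [← hfe, h, hba])
    have nfc : f ≠ c := fun h => ned (by rw [← hfe, h, hcd])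
    have nfd : f ≠ d := fun h => nec (by rw [← hfe, h, hdc])
    obtain ⟨k, hk⟩ := hsplit [a', b', a, b, c, d, e, f] (by simp)
    simp only [List.mem_cons, List.not_mem_nil, or_false, not_or] at hk
    obtain ⟨ka, kb, nka, nkb, nkc, nkd, nke, nkf⟩ := hk
    obtain ⟨l, hkl⟩ : ∃ l, π k = l := ⟨_, rfl⟩
    have hlk : π l = k := hkl ▸ hinv k
    have nkl : k ≠ l := fun h => hmove k ka kb (h ▸ hkl)
    obtain ⟨la, lb⟩ := nfix hlk nkl.symm
    have nla : l ≠ a := fun h => nkb (by rw [← hlk, h, hab])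
    have nlb : l ≠ b := fun h => nka (by rw [← hlk, h, hba])
    have nlc : l ≠ c := fun h => nkd (by rw [← hlk, h, hcd])
    have nld : l ≠ d := fun h => nkc (by rw [← hlk, h, hdc])
    have nle : l ≠ e := fun h => nkf (by rw [← hlk, h, hef])
    have nlf : l ≠ f := fun h => nke (by rw [← hlk, h, hfe])
    let g : Perm α :=
      swap a b * swap b c * swap c d * swap d e * swap e f * swap f k * swap k l
    have ga' : g a' = a' := by
      simp [g, swap_apply_of_ne_of_ne, aa.symm, ba.symm, ca.symm, da.symm, Ne.symm ea, fa.symm,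
        Ne.symm ka, la.symm]
    have gb' : g b' = b' := by
      simp [g, swap_apply_of_ne_of_ne, ab.symm, bb.symm, cb.symm, db.symm, Ne.symm eb, fb.symm,
        Ne.symm kb, lb.symm]
    have g1 : g a = b := by
      simp [g, swap_apply_of_ne_of_ne,
        nab, nca, ncb, nda, ndb, ncd, nea, neb, nec, ned, nef, nfa, nfb, nfc, nfd, nka, nkb,
        nkc, nkd, nke, nkf, nla, nlb, nlc, nld, nle, nlf, nkl, Ne.symm nab, Ne.symm nca,
        Ne.symm ncb, Ne.symm nda, Ne.symm ndb, Ne.symm ncd, Ne.symm nea, Ne.symm neb, Ne.symm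
        nec, Ne.symm ned, Ne.symm nef, Ne.symm nfa, Ne.symm nfb, Ne.symm nfc, Ne.symm nfd,
        Ne.symm nka, Ne.symm nkb, Ne.symm nkc, Ne.symm nkd, Ne.symm nke, Ne.symm nkf, Ne.symm
        nla, Ne.symm nlb, Ne.symm nlc, Ne.symm nld, Ne.symm nle, Ne.symm nlf, Ne.symm nkl]
    have g2 : g b = c := by
      simp [g, swap_apply_of_ne_of_ne,
        nab, nca, ncb, nda, ndb, ncd, nea, neb, nec, ned, nef, nfa, nfb, nfc, nfd, nka, nkb,
        nkc, nkd, nke, nkf, nla, nlb, nlc, nld, nle, nlf, nkl, Ne.symm nab, Ne.symm nca,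
        Ne.symm ncb, Ne.symm nda, Ne.symm ndb, Ne.symm ncd, Ne.symm nea, Ne.symm neb, Ne.symm
        nec, Ne.symm ned, Ne.symm nef, Ne.symm nfa, Ne.symm nfb, Ne.symm nfc, Ne.symm nfd,
        Ne.symm nka, Ne.symm nkb, Ne.symm nkc, Ne.symm nkd, Ne.symm nke, Ne.symm nkf, Ne.symm
        nla, Ne.symm nlb, Ne.symm nlc, Ne.symm nld, Ne.symm nle, Ne.symm nlf, Ne.symm nkl]
    have g3 : g c = d := by
      simp [g, swap_apply_of_ne_of_ne,
        nab, nca, ncb, nda, ndb, ncd, nea, neb, nec, ned, nef, nfa, nfb, nfc, nfd, nka, nkb,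
        nkc, nkd, nke, nkf, nla, nlb, nlc, nld, nle, nlf, nkl, Ne.symm nab, Ne.symm nca,
        Ne.symm ncb, Ne.symm nda, Ne.symm ndb, Ne.symm ncd, Ne.symm nea, Ne.symm neb, Ne.symm
        nec, Ne.symm ned, Ne.symm nef, Ne.symm nfa, Ne.symm nfb, Ne.symm nfc, Ne.symm nfd,
        Ne.symm nka, Ne.symm nkb, Ne.symm nkc, Ne.symm nkd, Ne.symm nke, Ne.symm nkf, Ne.symm
        nla, Ne.symm nlb, Ne.symm nlc, Ne.symm nld, Ne.symm nle, Ne.symm nlf, Ne.symm nkl]
    have g4 : g d = e := by
      simp [g, swap_apply_of_ne_of_ne,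
        nab, nca, ncb, nda, ndb, ncd, nea, neb, nec, ned, nef, nfa, nfb, nfc, nfd, nka, nkb,
        nkc, nkd, nke, nkf, nla, nlb, nlc, nld, nle, nlf, nkl, Ne.symm nab, Ne.symm nca,
        Ne.symm ncb, Ne.symm nda, Ne.symm ndb, Ne.symm ncd, Ne.symm nea, Ne.symm neb, Ne.symm
        nec, Ne.symm ned, Ne.symm nef, Ne.symm nfa, Ne.symm nfb, Ne.symm nfc, Ne.symm nfd,
        Ne.symm nka, Ne.symm nkb, Ne.symm nkc, Ne.symm nkd, Ne.symm nke, Ne.symm nkf, Ne.symm
        nla, Ne.symm nlb, Ne.symm nlc, Ne.symm nld, Ne.symm nle, Ne.symm nlf, Ne.symm nkl]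
    have g5 : g e = f := by
      simp [g, swap_apply_of_ne_of_ne,
        nab, nca, ncb, nda, ndb, ncd, nea, neb, nec, ned, nef, nfa, nfb, nfc, nfd, nka, nkb,
        nkc, nkd, nke, nkf, nla, nlb, nlc, nld, nle, nlf, nkl, Ne.symm nab, Ne.symm nca,
        Ne.symm ncb, Ne.symm nda, Ne.symm ndb, Ne.symm ncd, Ne.symm nea, Ne.symm neb, Ne.symm
        nec, Ne.symm ned, Ne.symm nef, Ne.symm nfa, Ne.symm nfb, Ne.symm nfc, Ne.symm nfd,
        Ne.symm nka, Ne.symm nkb, Ne.symm nkc, Ne.symm nkd, Ne.symm nke, Ne.symm nkf, Ne.symm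
        nla, Ne.symm nlb, Ne.symm nlc, Ne.symm nld, Ne.symm nle, Ne.symm nlf, Ne.symm nkl]
    have g6 : g f = k := by
      simp [g, swap_apply_of_ne_of_ne,
        nab, nca, ncb, nda, ndb, ncd, nea, neb, nec, ned, nef, nfa, nfb, nfc, nfd, nka, nkb,
        nkc, nkd, nke, nkf, nla, nlb, nlc, nld, nle, nlf, nkl, Ne.symm nab, Ne.symm nca,
        Ne.symm ncb, Ne.symm nda, Ne.symm ndb, Ne.symm ncd, Ne.symm nea, Ne.symm neb, Ne.symm
        nec, Ne.symm ned, Ne.symm nef, Ne.symm nfa, Ne.symm nfb, Ne.symm nfc, Ne.symm nfd,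
        Ne.symm nka, Ne.symm nkb, Ne.symm nkc, Ne.symm nkd, Ne.symm nke, Ne.symm nkf, Ne.symm
        nla, Ne.symm nlb, Ne.symm nlc, Ne.symm nld, Ne.symm nle, Ne.symm nlf, Ne.symm nkl]
    have g7 : g k = l := by
      simp [g, swap_apply_of_ne_of_ne,
        nab, nca, ncb, nda, ndb, ncd, nea, neb, nec, ned, nef, nfa, nfb, nfc, nfd, nka, nkb,
        nkc, nkd, nke, nkf, nla, nlb, nlc, nld, nle, nlf, nkl, Ne.symm nab, Ne.symm nca,
        Ne.symm ncb, Ne.symm nda, Ne.symm ndb, Ne.symm ncd, Ne.symm nea, Ne.symm neb, Ne.symm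
        nec, Ne.symm ned, Ne.symm nef, Ne.symm nfa, Ne.symm nfb, Ne.symm nfc, Ne.symm nfd,
        Ne.symm nka, Ne.symm nkb, Ne.symm nkc, Ne.symm nkd, Ne.symm nke, Ne.symm nkf, Ne.symm
        nla, Ne.symm nlb, Ne.symm nlc, Ne.symm nld, Ne.symm nle, Ne.symm nlf, Ne.symm nkl]
    have g8 : g l = a := by
      simp [g, swap_apply_of_ne_of_ne,
        nab, nca, ncb, nda, ndb, ncd, nea, neb, nec, ned, nef, nfa, nfb, nfc, nfd, nka, nkb,
        nkc, nkd, nke, nkf, nla, nlb, nlc, nld, nle, nlf, nkl, Ne.symm nab, Ne.symm nca,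
        Ne.symm ncb, Ne.symm nda, Ne.symm ndb, Ne.symm ncd, Ne.symm nea, Ne.symm neb, Ne.symm
        nec, Ne.symm ned, Ne.symm nef, Ne.symm nfa, Ne.symm nfb, Ne.symm nfc, Ne.symm nfd,
        Ne.symm nka, Ne.symm nkb, Ne.symm nkc, Ne.symm nkd, Ne.symm nke, Ne.symm nkf, Ne.symm
        nla, Ne.symm nlb, Ne.symm nlc, Ne.symm nld, Ne.symm nle, Ne.symm nlf, Ne.symm nkl]
    have i1 : g⁻¹ b = a := by rw [Perm.inv_eq_iff_eq]; exact g1.symm
    have i2 : g⁻¹ c = b := by rw [Perm.inv_eq_iff_eq]; exact g2.symm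
    have i3 : g⁻¹ d = c := by rw [Perm.inv_eq_iff_eq]; exact g3.symm
    have i4 : g⁻¹ e = d := by rw [Perm.inv_eq_iff_eq]; exact g4.symm
    have i5 : g⁻¹ f = e := by rw [Perm.inv_eq_iff_eq]; exact g5.symm
    have i6 : g⁻¹ k = f := by rw [Perm.inv_eq_iff_eq]; exact g6.symm
    have i7 : g⁻¹ l = k := by rw [Perm.inv_eq_iff_eq]; exact g7.symm
    have i8 : g⁻¹ a = l := by rw [Perm.inv_eq_iff_eq]; exact g8.symm
    rcases hclass g ga' gb' with h | h <;> replace h := Equiv.congr_fun h b <;>
      simp only [pow_succ, pow_zero, one_mul, Perm.mul_apply, Perm.one_apply, i1, i2, i3, i4, i5,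
        i6, i7, i8, hab, hba, hcd, hdc, hef, hfe, hkl, hlk, g1, g2, g3, g4, g5, g6, g7, g8] at h
    · exact nfb h
    · exact nlb h

theorem eq_top_of_swaps {P : Subgroup (Perm α)} (o : α) (h : ∀ p, p ≠ o → swap o p ∈ P) :
    P = ⊤ := by
  rw [eq_top_iff, ← Perm.closure_isSwap, Subgroup.closure_le]
  rintro _ ⟨p, q, hpq, rfl⟩
  rcases eq_or_ne p o with rfl | hp
  · exact h q hpq.symm
  rcases eq_or_ne q o with rfl | hq
  · rw [swap_comm]; exact h p hp
  · have e := Moore.swap_conj_swap (a := p) (b := o) (c := q) (Ne.symm hpq) hq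
    rw [← e]
    exact mul_mem (mul_mem (swap_comm o p ▸ h p hp) (h q hq)) (swap_comm o p ▸ h p hp)

end Perm

/-- Sequences satisfying the type A relations give a homomorphism from the symmetric group. -/
theorem exists_hom {G : Type*} [Group G] {n : ℕ} (s : ℕ → G) (hsq : ∀ i, i < n → s i * s i = 1)
    (hbr : ∀ i, i + 1 < n → (s i * s (i + 1)) ^ 3 = 1)
    (hcm : ∀ i j, i + 2 ≤ j → j < n → Commute (s i) (s j)) :
    ∃ φ : Perm (Fin (n + 1)) →* G, (∀ i : Fin n, φ (swap i.castSucc i.succ) = s i) ∧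
      φ.range = Subgroup.closure (Set.range fun i : Fin n => s i) := by
  obtain ⟨cs, hcs⟩ := CfsgLib.KnownC.exists_coxeterSystem_perm n
  have hinv : ∀ i, i < n → (s i)⁻¹ = s i := fun i hi => inv_eq_of_mul_eq_one_right (hsq i hi)
  have hl : (CoxeterMatrix.A n).IsLiftable (fun i : Fin n => s i) := by
    intro i j
    show (s i * s j) ^ (if i = j then 1
      else (if (j : ℕ) + 1 = i ∨ (i : ℕ) + 1 = j then 3 else 2)) = 1
    by_cases hij : i = j
    · subst hij; rw [if_pos rfl, pow_one]; exact hsq i i.2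
    rw [if_neg hij]
    have hij' : (i : ℕ) ≠ j := fun e => hij (Fin.ext e)
    by_cases hadj : (j : ℕ) + 1 = i ∨ (i : ℕ) + 1 = j
    · rw [if_pos hadj]
      rcases hadj with e | e
      · have := hbr j (by omega)
        rw [e] at this
        calc (s i * s j) ^ 3 = ((s j * s i) ^ 3)⁻¹ := by
              rw [← inv_pow, mul_inv_rev, hinv _ i.2, hinv _ j.2]
          _ = 1 := by rw [this, inv_one]
      · have := hbr i (by omega); rwa [e] at this
    · rw [if_neg hadj]
      have hc : Commute (s i) (s j) := by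
        rcases Nat.lt_or_ge i j with hlt | hge
        · exact hcm i j (by omega) j.2
        · exact (hcm j i (by omega) i.2).symm
      rw [hc.mul_pow, pow_two, pow_two, hsq i i.2, hsq j j.2, one_mul]
  let φ := cs.lift ⟨_, hl⟩
  have hφ : ∀ i : Fin n, φ (swap i.castSucc i.succ) = s i := fun i => by
    rw [← hcs i]; exact cs.lift_apply_simple hl i
  refine ⟨φ, hφ, ?_⟩
  rw [MonoidHom.range_eq_map, ← cs.subgroup_closure_range_simple, MonoidHom.map_closure]
  congr 1
  rw [← Set.range_comp]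
  exact congrArg Set.range (funext fun i => by rw [Function.comp_apply, hcs i]; exact hφ i)

theorem injective_of_hom {G : Type*} [Group G] {n : ℕ} (hn : 4 ≤ n)
    (φ : Perm (Fin (n + 1)) →* G) (i : Fin n) (j : Fin n) (hij : (j : ℕ) = i + 1)
    (hne : φ (swap i.castSucc i.succ) ≠ φ (swap j.castSucc j.succ)) : Function.Injective φ := by
  rw [← MonoidHom.ker_eq_bot_iff]
  set N := φ.ker.subgroupOf (alternatingGroup (Fin (n + 1))) with hN
  haveI : N.Normal := Subgroup.Normal.subgroupOf inferInstance _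
  rcases alternatingGroup.normal_subgroup_eq_bot_or_eq_top (N := N) (by simp; omega) with h | h
  · rw [Subgroup.subgroupOf_eq_bot] at h
    rw [Subgroup.eq_bot_iff_forall]
    intro x hx
    by_contra hx1
    obtain ⟨a, ha⟩ : ∃ a, x a ≠ a := by
      by_contra hc; push Not at hc; exact hx1 (Equiv.ext hc)
    obtain ⟨c, hc⟩ : ∃ c, c ∉ ({a, x a} : Finset (Fin (n + 1))) := by
      by_contra hc
      push Not at hc
      have := Finset.card_le_card (fun y _ => hc y : (Finset.univ : Finset (Fin (n + 1))) ⊆ {a, x a})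
      have := (Finset.card_le_two (a := a) (b := x a))
      simp only [Finset.card_univ, Fintype.card_fin] at *
      omega
    simp only [Finset.mem_insert, Finset.mem_singleton, not_or] at hc
    set τ := swap (x a) c with hτ
    have hmem : x * (τ * x⁻¹ * τ⁻¹) ∈ φ.ker :=
      mul_mem hx ((inferInstance : φ.ker.Normal).conj_mem _ (inv_mem hx) τ)
    have heven : x * (τ * x⁻¹ * τ⁻¹) ∈ alternatingGroup (Fin (n + 1)) := by
      rw [Perm.mem_alternatingGroup]
      simp only [map_mul, map_inv]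
      rcases Int.units_eq_one_or (Perm.sign x) with e | e <;>
        rcases Int.units_eq_one_or (Perm.sign τ) with e' | e' <;> simp [e, e']
    have h1 := Subgroup.disjoint_def.1 h hmem heven
    have h2 : x * τ = τ * x := by
      have h1' : x * τ * x⁻¹ * τ⁻¹ = 1 := by rw [← h1]; group
      rwa [mul_inv_eq_one, mul_inv_eq_iff_eq_mul] at h1'
    have := Equiv.congr_fun h2 a
    rw [Perm.mul_apply, Perm.mul_apply, hτ, swap_apply_of_ne_of_ne (Ne.symm ha) (Ne.symm hc.1),
      swap_apply_left] at this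
    exact hc.2 this.symm
  · exfalso
    refine hne ?_
    have hev : swap i.castSucc i.succ * swap j.castSucc j.succ ∈ alternatingGroup (Fin (n + 1)) := by
      rw [Perm.mem_alternatingGroup, map_mul, Perm.sign_swap (Fin.castSucc_lt_succ).ne,
        Perm.sign_swap (Fin.castSucc_lt_succ).ne]
      rfl
    have hk := Subgroup.subgroupOf_eq_top.1 h hev
    rw [MonoidHom.mem_ker, map_mul, mul_eq_one_iff_eq_inv] at hk
    rw [hk, ← map_inv, swap_inv]

theorem main {G : Type*} [Group G] (m : ℕ) (hm : 9 ≤ m) (x y : G) (K J : Subgroup G)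
    (eK : Perm (Fin m) ≃* K) (eJ : Perm (Fin m) ≃* J)
    (hKx : ∀ g ∈ K, Commute x g) (hJy : ∀ g ∈ J, Commute y g)
    (hCy : ∀ g : G, Commute y g → g ∈ J ∨ y * g ∈ J) (hyJ : y ∉ J)
    {a b a' b' : Fin m} (hab : a ≠ b) (ha'b' : a' ≠ b')
    (hy : (eK (swap a b) : G) = y) (hx : (eJ (swap a' b') : G) = x)
    (hI : ∀ g : G, g ∈ K ⊓ J ↔ ∃ π : Perm (Fin m), π a = a ∧ π b = b ∧ (eK π : G) = g)
    (hI' : ∀ g : G, g ∈ K ⊓ J ↔ ∃ π : Perm (Fin m), π a' = a' ∧ π b' = b' ∧ (eJ π : G) = g) :
    Nonempty (↥(K ⊔ J) ≃* Perm (Fin (m + 2))) := by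
  classical
  haveI : NeZero m := ⟨by omega⟩
  let fK : Perm (Fin m) →* G := K.subtype.comp eK.toMonoidHom
  let fJ : Perm (Fin m) →* G := J.subtype.comp eJ.toMonoidHom
  have fKi : Function.Injective fK := K.subtype_injective.comp eK.injective
  have fJi : Function.Injective fJ := J.subtype_injective.comp eJ.injective
  have fKm : ∀ π, fK π ∈ K := fun π => (eK π).2
  have fJm : ∀ π, fJ π ∈ J := fun π => (eJ π).2
  change fK (swap a b) = y at hy
  change fJ (swap a' b') = x at hx
  -- the letters of `K`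
  obtain ⟨L, hL0, hL1, hLinj, hLsurj⟩ : ∃ L : ℕ → Fin m, L 0 = a ∧ L 1 = b ∧
      (∀ i j, i < m → j < m → L i = L j → i = j) ∧ ∀ p, ∃ i < m, L i = p := by
    let e₀ : Perm (Fin m) := swap (0 : Fin m) a
    let e : Perm (Fin m) := e₀.trans (swap (e₀ ⟨1, by omega⟩) b)
    have he0 : e ⟨0, by omega⟩ = a := by
      have h0 : (⟨0, by omega⟩ : Fin m) = 0 := rfl
      have h1 : e₀ ⟨1, by omega⟩ ≠ a := fun h => by
        have := e₀.injective (h.trans (swap_apply_left (0 : Fin m) a).symm)
        simp [Fin.ext_iff] at this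
      show swap _ b (e₀ ⟨0, _⟩) = a
      rw [h0, show e₀ 0 = a from swap_apply_left _ _, swap_apply_of_ne_of_ne h1.symm hab]
    refine ⟨fun i => if h : i < m then e ⟨i, h⟩ else a, ?_, ?_, ?_, fun p => ?_⟩
    · simp only [dif_pos (show 0 < m by omega)]; exact he0
    · simp only [dif_pos (show 1 < m by omega)]; exact swap_apply_left _ _
    · intro i j hi hj h
      simp only [dif_pos hi, dif_pos hj] at h
      simpa using e.injective h
    · exact ⟨(e.symm p).1, (e.symm p).2, by simp⟩
  have hLne : ∀ i j, i < m → j < m → i ≠ j → L i ≠ L j := fun i j hi hj h e => h (hLinj i j hi hj e)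
  let τ : ℕ → Perm (Fin m) := fun i => swap (L i) (L (i + 1))
  let T : ℕ → G := fun i => fK (τ i)
  have hT0 : T 0 = y := by simp only [T, τ, hL0, hL1]; exact hy
  -- members of the intersection are transpositions on the side of `J`
  have toJ : ∀ π : Perm (Fin m), π a = a → π b = b →
      ∃ π' : Perm (Fin m), π' a' = a' ∧ π' b' = b' ∧ fJ π' = fK π := fun π h1 h2 =>
    (hI' _).1 ((hI _).2 ⟨π, h1, h2, rfl⟩)
  have transJ : ∀ p q : Fin m, p ≠ q → p ≠ a → p ≠ b → q ≠ a → q ≠ b →
      ∃ c d, c ≠ d ∧ c ≠ a' ∧ c ≠ b' ∧ d ≠ a' ∧ d ≠ b' ∧ fJ (swap c d) = fK (swap p q) := by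
    intro p q hpq hpa hpb hqa hqb
    obtain ⟨π, hπa, hπb, hπ⟩ := toJ (swap p q) (swap_apply_of_ne_of_ne hpa.symm hqa.symm)
      (swap_apply_of_ne_of_ne hpb.symm hqb.symm)
    have h2 : π * π = 1 := fJi (by rw [map_mul, map_one, hπ, ← map_mul, swap_mul_self, map_one])
    have h1 : π ≠ 1 := fun e => hpq (by
      rw [e, map_one] at hπ
      exact swap_eq_refl_iff.1 (fKi (hπ.symm.trans (map_one fK).symm)))
    obtain ⟨c, d, hcd, rfl⟩ := exists_swap (by simpa using hm) π h2 h1 hπa hπb (fun g hga hgb => by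
      obtain ⟨g', -, -, hg'⟩ := (hI (fJ g)).1 ((hI' _).2 ⟨g, hga, hgb, rfl⟩)
      change fK g' = fJ g at hg'
      have e : fJ (π * (g * π * g⁻¹)) = fK (swap p q * swap (g' p) (g' q)) := by
        rw [map_mul, map_mul, map_mul, map_inv, hπ, ← hg', swap_apply_apply, map_mul, map_mul,
          map_mul, map_inv]
      have hne' : g' p ≠ g' q := g'.injective.ne hpq
      by_cases hc : Commute (swap p q) (swap (g' p) (g' q))
      · left
        apply fJi
        rw [map_pow, e, ← map_pow, hc.mul_pow, pow_two, pow_two, swap_mul_self, swap_mul_self,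
          one_mul, map_one, map_one]
      · right
        apply fJi
        rw [map_pow, e, ← map_pow, cube_of_not_commute hpq hne' hc, map_one, map_one])
    have fixed : ∀ z : Fin m, swap c d z = z → c ≠ z ∧ d ≠ z := fun z hz =>
      ⟨fun e => hcd (by rw [← e, swap_apply_left] at hz; exact hz.symm),
        fun e => hcd (by rw [← e, swap_apply_right] at hz; exact hz)⟩
    exact ⟨c, d, hcd, (fixed a' hπa).1, (fixed b' hπb).1, (fixed a' hπa).2, (fixed b' hπb).2, hπ⟩
  have hτout : ∀ i, 2 ≤ i → i + 1 < m → L i ≠ L (i + 1) ∧ L i ≠ a ∧ L i ≠ b ∧ L (i + 1) ≠ a ∧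
      L (i + 1) ≠ b := fun i h2 h3 => by
    rw [← hL0, ← hL1]
    refine ⟨?_, ?_, ?_, ?_, ?_⟩ <;> apply hLne <;> omega
  have hWex : ∀ i, 2 ≤ i → i + 1 < m → ∃ c d, c ≠ d ∧ c ≠ a' ∧ c ≠ b' ∧ d ≠ a' ∧ d ≠ b' ∧
      fJ (swap c d) = T i := fun i h2 h3 => by
    obtain ⟨h, h', h'', h3', h4'⟩ := hτout i h2 h3
    exact transJ _ _ h h' h'' h3' h4'
  -- relations inside `K`
  have hTcomm : ∀ i j, i + 2 ≤ j → j + 1 < m → Commute (τ i) (τ j) := fun i j h hj =>
    Moore.swap_sq (hLne _ _ (by omega) (by omega) (by omega)) (hLne _ _ (by omega) (by omega) (by omega))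
      (hLne _ _ (by omega) (by omega) (by omega)) (hLne _ _ (by omega) (by omega) (by omega))
  have hTcube : ∀ i, i + 2 < m → (τ i * τ (i + 1)) ^ 3 = 1 := fun i hi => by
    simp only [τ]
    rw [swap_comm (L i)]
    exact Moore.swap_cube (hLne _ _ (by omega) (by omega) (by omega))
      (hLne _ _ (by omega) (by omega) (by omega)) (hLne _ _ (by omega) (by omega) (by omega))
  have hTnc : ∀ i, i + 2 < m → ¬ Commute (τ i) (τ (i + 1)) := fun i hi hc => by
    rcases eq_or_disjoint_of_commute (hLne _ _ (by omega) (by omega) (by omega))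
      (hLne _ _ (by omega) (by omega) (by omega)) hc with e | ⟨-, -, h, -⟩
    · have := Equiv.congr_fun e (L i)
      rw [swap_apply_left, swap_apply_of_ne_of_ne (hLne _ _ (by omega) (by omega) (by omega))
        (hLne _ _ (by omega) (by omega) (by omega))] at this
      exact hLne _ _ (by omega) (by omega) (by omega) this
    · exact h rfl
  -- the new transposition
  obtain ⟨n, rfl⟩ : ∃ n, m = n + 3 := ⟨m - 3, by omega⟩
  obtain ⟨c, d, hcd, hca, hcb, hda, hdb, hW⟩ := hWex (n + 1) (by omega) (by omega)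
  obtain ⟨c', d', hcd', hca', hcb', hda', hdb', hW'⟩ := hWex n (by omega) (by omega)
  obtain ⟨q, qr, hqr, hqa, hqb, hqW, hq'⟩ : ∃ q qr, q ≠ qr ∧ q ≠ a' ∧ q ≠ b' ∧
      swap c d = swap q qr ∧ q ≠ c' ∧ q ≠ d' := by
    have hnc : ¬ Commute (swap c d) (swap c' d') := fun h => hTnc n (by omega) (by
      have := h.map fJ
      rw [hW, hW'] at this
      exact (show Commute (τ n) (τ (n + 1)) from fKi (by
        simp only [map_mul]; exact this.eq.symm)))
    by_cases h1 : c = c' ∨ c = d'
    · refine ⟨d, c, hcd.symm, hda, hdb, swap_comm c d, ?_, ?_⟩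
      · rintro rfl
        rcases h1 with h | h
        · exact hcd h
        · subst h; exact hnc (swap_comm d c ▸ Commute.refl _)
      · rintro rfl
        rcases h1 with h | h
        · subst h; exact hnc (Commute.refl _)
        · exact hcd h
    · push Not at h1
      exact ⟨c, d, hcd, hca, hcb, rfl, h1.1, h1.2⟩
  rw [hqW] at hW
  set u := fJ (swap q a') with hu
  have hu2 : u * u = 1 := by rw [hu, ← map_mul, swap_mul_self, map_one]
  have huT : ∀ i, 2 ≤ i → i < n + 1 → Commute (T i) u := by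
    intro i h2 h3
    obtain ⟨r, s, hrs, hra, -, hsa, -, hWi⟩ := hWex i h2 (by omega)
    have hqrs : q ≠ r ∧ q ≠ s := by
      rcases Nat.lt_or_ge i n with hlt | hge
      · have hc : Commute (swap q qr) (swap r s) := fJi.eq_iff.1 (by
          simp only [map_mul, hWi, hW]
          exact ((hTcomm i (n + 1) (by omega) (by omega)).map fK).eq.symm)
        rcases eq_or_disjoint_of_commute hqr hrs hc with e | ⟨h1, h2', -, -⟩
        · exfalso
          have e' : T i = T (n + 1) := by rw [← hWi, ← hW, e]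
          have := Equiv.congr_fun (fKi e') (L i)
          simp only [τ] at this
          rw [swap_apply_left, swap_apply_of_ne_of_ne (hLne _ _ (by omega) (by omega) (by omega))
            (hLne _ _ (by omega) (by omega) (by omega))] at this
          exact hLne _ _ (by omega) (by omega) (by omega) this.symm
        · exact ⟨h1, h2'⟩
      · obtain rfl : i = n := by omega
        have e := fJi (hWi.trans hW'.symm)
        have := Equiv.congr_fun e q
        rw [swap_apply_of_ne_of_ne hq'.1 hq'.2] at this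
        exact ⟨fun h => hrs (by subst h; rw [swap_apply_left] at this; exact this.symm),
          fun h => hrs (by subst h; rw [swap_apply_right] at this; exact this)⟩
    rw [← hWi, hu]
    exact (Moore.swap_sq hqrs.1 hqrs.2 hra.symm hsa.symm).symm.map fJ
  have huW : (T (n + 1) * u) ^ 3 = 1 := by
    rw [← hW, hu, ← map_mul, ← map_pow, swap_comm q qr, swap_comm qr q,
      Moore.swap_cube hqr hqa (fun e => by
        subst e
        have := hWex (n + 1) (by omega) (by omega)
        rcases eq_or_ne c q with h | h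
        · subst h
          have := Equiv.congr_fun hqW c
          rw [swap_apply_left, swap_apply_left] at this
          exact hda this
        · have := Equiv.congr_fun hqW c
          rw [swap_apply_left] at this
          rcases eq_or_ne c qr with h' | h'
          · exact hca h'
          · rw [swap_apply_of_ne_of_ne h h'] at this
            exact hcd this.symm), map_one]
  have hux : (u * x) ^ 3 = 1 := by
    rw [hu, ← hx, ← map_mul, ← map_pow, swap_comm q a', Moore.swap_cube hqa.symm ha'b' hqb,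
      map_one]
  have hu0 : Commute (T 0) u := hT0 ▸ hJy _ (fJm _)
  -- the main point
  have hu1 : Commute (T 1) u := by
    let π : Perm (Fin (n + 3)) := swap (L 0) (L 4) * swap (L 1) (L 5)
    set h := fK π with hh
    have ne : ∀ i j, i < 6 → j < 6 → i ≠ j → L i ≠ L j := fun i j hi hj =>
      hLne i j (by omega) (by omega)
    have p0 : π (L 0) = L 4 := by simp [π, swap_apply_of_ne_of_ne, ne]
    have p1 : π (L 1) = L 5 := by simp [π, swap_apply_of_ne_of_ne, ne]
    have p2 : π (L 2) = L 2 := by simp [π, swap_apply_of_ne_of_ne, ne]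
    have p3 : π (L 3) = L 3 := by simp [π, swap_apply_of_ne_of_ne, ne]
    have p4 : π (L 4) = L 0 := by simp [π, swap_apply_of_ne_of_ne, ne]
    have p5 : π (L 5) = L 1 := by simp [π, swap_apply_of_ne_of_ne, ne]
    have conjT : ∀ i, h * T i * h⁻¹ = fK (swap (π (L i)) (π (L (i + 1)))) := fun i => by
      simp only [hh, T, τ, swap_apply_apply, map_mul, map_inv]
    have c0 : h * y * h⁻¹ = T 4 := by rw [← hT0, conjT, p0, p1]
    have c4 : h * T 4 * h⁻¹ = y := by rw [conjT, p4, p5, ← hT0]
    have c2 : h * T 2 * h⁻¹ = T 2 := by rw [conjT, p2, p3]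
    have c1 : h * T 1 * h⁻¹ = fK (swap (L 5) (L 2)) := by rw [conjT, p1, p2]
    have cx : h * x * h⁻¹ = x := by rw [← (hKx h (fKm π)).eq, mul_inv_cancel_right]
    set u' := h * u * h⁻¹ with hu'
    have cc : ∀ {g : G}, Commute g u → Commute (h * g * h⁻¹) u' := fun hc =>
      (Commute.conj_iff h).2 hc
    have hyu' : Commute y u' := c4 ▸ cc (huT 4 (by omega) (by omega))
    have h4u' : Commute (T 4) u' := c0 ▸ cc (hT0 ▸ hu0)
    have h2u' : Commute (T 2) u' := c2 ▸ cc (huT 2 (by omega) (by omega))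
    have hu'2 : u' * u' = 1 := by rw [hu', conj_mul, hu2, mul_one, mul_inv_cancel]
    have hu'x : (u' * x) ^ 3 = 1 := by
      rw [← cx, hu', conj_mul, conj_pow, hux, mul_one, mul_inv_cancel]
    have hx2 : x * x = 1 := by rw [← hx, ← map_mul, swap_mul_self, map_one]
    have hbraid := Moore.braid_of hu'2 hx2 hu'x
    have hu'J : u' ∈ J := by
      refine (hCy u' hyu').resolve_right fun hyu => hyJ ?_
      have hxJ : x ∈ J := hx ▸ fJm _
      have hy2 : y * y = 1 := by rw [← hy, ← map_mul, swap_mul_self, map_one]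
      have hyx : Commute y x := hJy x hxJ
      have hA : (y * u') * x * (y * u') = u' * x * u' := by
        calc (y * u') * x * (y * u') = y * (u' * x * y) * u' := by simp only [mul_assoc]
          _ = y * (y * (u' * x)) * u' := by rw [((hyu'.mul_right hyx)).eq]
          _ = u' * x * u' := by rw [← mul_assoc y y, hy2, one_mul]
      have hB : x * (y * u') * x = y * (x * u' * x) := by
        rw [← mul_assoc x y, ← hyx.eq]; simp only [mul_assoc]
      have h3 : y * (u' * x * u') ∈ J := by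
        rw [hbraid, ← hB]; exact mul_mem (mul_mem hxJ hyu) hxJ
      have h4 : u' * x * u' ∈ J := hA ▸ mul_mem (mul_mem hyu hxJ) hyu
      have := mul_mem h3 (inv_mem h4)
      rwa [mul_inv_cancel_right] at this
    obtain ⟨z, hz⟩ : ∃ z, fJ z = u' := ⟨eJ.symm ⟨u', hu'J⟩, by simp [fJ]⟩
    have hz2 : z * z = 1 := fJi (by rw [map_mul, map_one, hz, hu'2])
    have hzx : z * swap a' b' * z = swap a' b' * z * swap a' b' :=
      fJi (by simp only [map_mul, hz, hx]; exact hbraid)
    have hzconj : z = swap ((swap a' b' * z) a') ((swap a' b' * z) b') := by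
      rw [swap_apply_apply]
      calc z = swap a' b' * (swap a' b' * z * swap a' b') * swap a' b' := by
            rw [← mul_assoc, ← mul_assoc, swap_mul_self, one_mul, mul_assoc, swap_mul_self, mul_one]
        _ = swap a' b' * (z * swap a' b' * z) * swap a' b' := by rw [hzx]
        _ = _ := by
            rw [mul_inv_rev, inv_eq_of_mul_eq_one_right hz2, swap_inv]; simp only [mul_assoc]
    set z₁ := (swap a' b' * z) a' with hz₁
    set z₂ := (swap a' b' * z) b' with hz₂
    have hz12 : z₁ ≠ z₂ := (swap a' b' * z).injective.ne ha'b'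
    -- one of the points moved by `z` is `a'` or `b'`
    obtain ⟨e, f, hef, hze, he⟩ : ∃ e f, e ≠ f ∧ z = swap e f ∧ (e = a' ∨ e = b') := by
      by_cases h1 : z₁ = a' ∨ z₁ = b'
      · exact ⟨z₁, z₂, hz12, hzconj, h1⟩
      by_cases h2 : z₂ = a' ∨ z₂ = b'
      · exact ⟨z₂, z₁, hz12.symm, hzconj.trans (swap_comm _ _), h2⟩
      exfalso
      push Not at h1 h2
      have hc : Commute z (swap a' b') := hzconj ▸ Moore.swap_sq h1.1 h1.2 h2.1 h2.2
      have e1 : z = swap a' b' := by
        have := hzx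
        rw [hc.eq, mul_assoc, hz2, mul_one, mul_assoc, hc.eq, ← mul_assoc, swap_mul_self,
          one_mul] at this
        exact this.symm
      have e2 : u' = h * x * h⁻¹ := by rw [← hz, e1, hx, cx]
      have e3 : swap q a' = swap a' b' := fJi (hx.symm ▸ mul_left_cancel (mul_right_cancel e2))
      have := Equiv.congr_fun e3 a'
      rw [swap_apply_right, swap_apply_left] at this
      exact hqb this
    have ne' : ∀ i, 2 ≤ i → i < 6 → L i ≠ a ∧ L i ≠ b := fun i h2 h6 => by
      rw [← hL0, ← hL1]; exact ⟨ne _ _ h6 (by omega) (by omega), ne _ _ h6 (by omega) (by omega)⟩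
    obtain ⟨v, v', hvv, hva, hvb, hva', hvb', hV⟩ := hWex 4 (by omega) (by omega)
    obtain ⟨w, w', hww, hwa, hwb, hwa', hwb', hWw⟩ := hWex 2 (by omega) (by omega)
    obtain ⟨p, p', hpp, hpa, hpb, hpa', hpb', hP⟩ := transJ (L 5) (L 2) (ne _ _ (by omega) (by omega)
      (by omega)) (ne' 5 (by omega) (by omega)).1 (ne' 5 (by omega) (by omega)).2
      (ne' 2 (by omega) (by omega)).1 (ne' 2 (by omega) (by omega)).2
    have nP : ∀ i j, i < 6 → j < 6 → i ≠ j →
        ((i = 2 ∧ j ≠ 5) ∨ (i = 5 ∧ j ≠ 2) ∨ (j = 2 ∧ i ≠ 5) ∨ (j = 5 ∧ i ≠ 2)) →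
        ∀ r r', fJ (swap r r') = fK (swap (L i) (L j)) → ¬ Commute (swap p p') (swap r r') := by
      intro i j hi hj hij hcase r r' hr hc
      have hK : Commute (swap (L 5) (L 2)) (swap (L i) (L j)) := fKi.eq_iff.1 (by
        simp only [map_mul, ← hP, ← hr]; exact (hc.map fJ).eq)
      rcases eq_or_disjoint_of_commute (ne _ _ (by omega) (by omega) (by omega)) (ne i j hi hj hij) hK
        with e | ⟨h1, h2, h3, h4⟩
      · have e5 := Equiv.congr_fun e (L 5)
        rw [swap_apply_left] at e5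
        rcases hcase with ⟨rfl, hj'⟩ | ⟨rfl, hj'⟩ | ⟨rfl, hi'⟩ | ⟨rfl, hi'⟩
        · rw [swap_apply_of_ne_of_ne (ne _ _ (by omega) (by omega) (by omega))
            (ne _ _ (by omega) hj (Ne.symm hj'))] at e5
          exact ne 2 5 (by omega) (by omega) (by omega) e5
        · rw [swap_apply_left] at e5
          exact ne 2 j (by omega) hj (Ne.symm hj') e5
        · rw [swap_apply_of_ne_of_ne (ne _ _ (by omega) hi (Ne.symm hi'))
            (ne _ _ (by omega) (by omega) (by omega))] at e5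
          exact ne 2 5 (by omega) (by omega) (by omega) e5
        · rw [swap_apply_right] at e5
          exact ne 2 i (by omega) hi (Ne.symm hi') e5
      · rcases hcase with ⟨rfl, -⟩ | ⟨rfl, -⟩ | ⟨rfl, -⟩ | ⟨rfl, -⟩ <;>
          first | exact h1 rfl | exact h2 rfl | exact h3 rfl | exact h4 rfl
    have hVW : v ≠ w ∧ v ≠ w' ∧ v' ≠ w ∧ v' ≠ w' := by
      have hc : Commute (swap v v') (swap w w') := fJi.eq_iff.1 (by
        simp only [map_mul, hV, hWw]
        exact ((hTcomm 2 4 (by omega) (by omega)).map fK).eq.symm)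
      refine (eq_or_disjoint_of_commute hvv hww hc).resolve_left fun e => ?_
      have e' : T 4 = T 2 := by rw [← hV, ← hWw, e]
      have := Equiv.congr_fun (fKi e') (L 4)
      simp only [τ] at this
      rw [swap_apply_left, swap_apply_of_ne_of_ne (ne _ _ (by omega) (by omega) (by omega))
        (ne _ _ (by omega) (by omega) (by omega))] at this
      exact ne 5 4 (by omega) (by omega) (by omega) this
    have toPerm : ∀ {r r' : Fin (n + 3)} {g : G}, fJ (swap r r') = g → Commute g u' →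
        Commute (swap e f) (swap r r') := by
      intro r r' g hr hc
      exact fJi.eq_iff.1 (by simp only [map_mul, ← hze, hz, hr]; exact hc.eq.symm)
    have hfin : Commute (swap e f) (swap p p') := by
      refine commute_of_path hpp hvv hww hVW
        (nP 4 5 (by omega) (by omega) (by omega) (by omega) v v' hV)
        (nP 2 3 (by omega) (by omega) (by omega) (by omega) w w' hWw) hef ?_
        (toPerm hV h4u') (toPerm hWw h2u')
      rcases he with rfl | rfl
      · exact ⟨hpa.symm, hpa'.symm, hva.symm, hva'.symm, hwa.symm, hwa'.symm⟩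
      · exact ⟨hpb.symm, hpb'.symm, hvb.symm, hvb'.symm, hwb.symm, hwb'.symm⟩
    have := hfin.map fJ
    rw [← hze, hz, hP, ← c1] at this
    exact (Commute.conj_iff h).1 this.symm
  -- assemble
  let s : ℕ → G := fun i => if i < n + 2 then T i else if i = n + 2 then u else x
  have sT : ∀ i, i < n + 2 → s i = T i := fun i hi => by simp only [s, if_pos hi]
  have su : s (n + 2) = u := by simp [s]
  have sx : s (n + 3) = x := by simp [s]
  have hx2 : x * x = 1 := by rw [← hx, ← map_mul, swap_mul_self, map_one]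
  obtain ⟨φ, hφ, hrange⟩ := exists_hom (n := n + 4) s
    (fun i hi => by
      rcases (show i < n + 2 ∨ i = n + 2 ∨ i = n + 3 by omega) with h | rfl | rfl
      · rw [sT i h]; simp only [T, ← map_mul, τ, swap_mul_self, map_one]
      · rw [su, hu2]
      · rw [sx, hx2])
    (fun i hi => by
      rcases (show i + 1 < n + 2 ∨ i = n + 1 ∨ i = n + 2 by omega) with h | rfl | rfl
      · rw [sT i (by omega), sT _ h]; simp only [T, ← map_mul, ← map_pow]
        rw [hTcube i (by omega), map_one]
      · rw [sT _ (by omega), su]; exact huW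
      · rw [su, sx]; exact hux)
    (fun i j hij hj => by
      rcases (show j < n + 2 ∨ j = n + 2 ∨ j = n + 3 by omega) with h | rfl | rfl
      · rw [sT i (by omega), sT j h]; exact (hTcomm i j hij (by omega)).map fK
      · rw [sT i (by omega), su]
        rcases (show i = 0 ∨ i = 1 ∨ 2 ≤ i by omega) with rfl | rfl | h
        · exact hu0
        · exact hu1
        · exact huT i h (by omega)
      · rw [sT i (by omega), sx]; exact (hKx _ (fKm _)).symm)
  have hinj : Function.Injective φ := by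
    refine injective_of_hom (n := n + 4) (by omega) φ ⟨0, by omega⟩ ⟨1, by omega⟩ rfl ?_
    rw [hφ, hφ, sT 0 (by omega), sT 1 (by omega)]
    intro e
    exact hTnc 0 (by omega) (fKi e ▸ Commute.refl _)
  have hR : φ.range = K ⊔ J := by
    rw [hrange]
    refine le_antisymm ((Subgroup.closure_le _).2 ?_) ?_
    · rintro _ ⟨i, rfl⟩
      show s i ∈ K ⊔ J
      rcases (show (i : ℕ) < n + 2 ∨ (i : ℕ) = n + 2 ∨ (i : ℕ) = n + 3 by omega) with h | h | h
      · rw [sT _ h]; exact Subgroup.mem_sup_left (fKm _)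
      · rw [h, su]; exact Subgroup.mem_sup_right (fJm _)
      · rw [h, sx, ← hx]; exact Subgroup.mem_sup_right (fJm _)
    set C := Subgroup.closure (Set.range fun i : Fin (n + 4) => s i)
    have hTC : ∀ i, i < n + 2 → T i ∈ C := fun i hi =>
      sT i hi ▸ Subgroup.subset_closure ⟨⟨i, by omega⟩, rfl⟩
    have hK : C.comap fK = ⊤ := by
      refine eq_top_of_swaps (L 0) fun p hp => ?_
      obtain ⟨i, hi, rfl⟩ := hLsurj p
      induction i with
      | zero => exact absurd rfl hp
      | succ i ih =>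
        rcases Nat.eq_zero_or_pos i with rfl | hi0
        · exact hTC 0 (by omega)
        · rw [← Moore.swap_conj_swap (a := L 0) (b := L i) (hLne _ _ hi (by omega) (by omega))
            (hLne _ _ hi (by omega) (by omega))]
          have h1 := ih (by omega) (hLne _ _ (by omega) (by omega) (by omega))
          exact mul_mem (mul_mem h1 (hTC i (by omega))) h1
    have hKC : ∀ π, fK π ∈ C := fun π => (hK ▸ Subgroup.mem_top π : π ∈ C.comap fK)
    have hxC : x ∈ C := sx ▸ Subgroup.subset_closure ⟨⟨n + 3, by omega⟩, rfl⟩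
    have huC : u ∈ C := su ▸ Subgroup.subset_closure ⟨⟨n + 2, by omega⟩, rfl⟩
    have hIC : ∀ r r', r ≠ a' → r ≠ b' → r' ≠ a' → r' ≠ b' → fJ (swap r r') ∈ C := by
      intro r r' h1 h2 h3 h4
      obtain ⟨g, -, -, hg⟩ := (hI (fJ (swap r r'))).1 ((hI' _).2 ⟨_,
        swap_apply_of_ne_of_ne h1.symm h3.symm, swap_apply_of_ne_of_ne h2.symm h4.symm, rfl⟩)
      exact hg ▸ hKC g
    have hJ : C.comap fJ = ⊤ := by
      refine eq_top_of_swaps a' fun p hp => ?_
      show fJ (swap a' p) ∈ C
      by_cases hpb : p = b'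
      · subst hpb; rwa [hx]
      by_cases hpq : p = q
      · subst hpq; rw [swap_comm]; exact huC
      have hu' : fJ (swap a' q) ∈ C := by rw [swap_comm]; exact huC
      rw [← Moore.swap_conj_swap (a := a') (b := q) hp hpq, map_mul, map_mul]
      exact mul_mem (mul_mem hu' (hIC q p hqa hqb hp hpb)) hu'
    refine sup_le (fun g hg => ?_) (fun g hg => ?_)
    · have := hKC (eK.symm ⟨g, hg⟩)
      simpa [fK] using this
    · have : eJ.symm ⟨g, hg⟩ ∈ C.comap fJ := hJ ▸ Subgroup.mem_top _
      simpa [fJ] using this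
  exact ⟨((MulEquiv.subgroupCongr hR.symm).trans (MonoidHom.ofInjective hinj).symm)⟩

end CfsgLib.Recog.SymTwoCentralizers
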