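import Cfsg.Agent.Lib.Recog.UThreeThreeCheckA
import Cfsg.Agent.Lib.Recog.UThreeThreeCheckB
import Cfsg.Agent.Lib.Recog.UThreeThreeCheckC
import Cfsg.Prelude.Def_Classical

/-! The element orders of `PSU(3,3)`. -/

set_option autoImplicit false

namespace CfsgLib.Recog.UThreeThree

open Matrix

local instance : Fact (Nat.Prime 3) := ⟨Nat.prime_three⟩

/-- Reduced elements. -/
def Red (c : C) : Prop := c.re < 3 ∧ c.im < 3

theorem red_row (a b c p q r : C) : Red (row a b c p q r) :=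
  ⟨Nat.mod_lt _ (by omega), Nat.mod_lt _ (by omega)⟩

theorem red_conjC (c : C) : Red (conjC c) := ⟨Nat.mod_lt _ (by omega), Nat.mod_lt _ (by omega)⟩

theorem dec_surj (v : V3) (hx : Red v.x) (hy : Red v.y) (hz : Red v.z) :
    ∃ k, k < 729 ∧ dec k = v := by
  obtain ⟨⟨a, b⟩, ⟨c, d⟩, ⟨e, f⟩⟩ := v
  obtain ⟨ha, hb⟩ := hx
  obtain ⟨hc, hd⟩ := hy
  obtain ⟨he, hf⟩ := hz
  simp only at ha hb hc hd he hf
  refine ⟨a + 3 * b + 9 * c + 27 * d + 81 * e + 243 * f, by omega, ?_⟩
  simp only [dec, V3.mk.injEq, C.mk.injEq]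
  omega

theorem units_mem (k : ℕ) (hk : k < 729) (h : dot (dec k) (dec k) = ⟨1, 0⟩) : k ∈ units := by
  have := List.all_eq_true.1 units_complete k (List.mem_range.2 hk)
  simp only [h, isC, beq_self_eq_true, Bool.and_self, Bool.not_true, Bool.false_or, List.contains_iff_mem] at this
  exact this

theorem okPair_all (j k : ℕ) (hj : j ∈ units) (hk : k ∈ units) : okPair j k = true := by
  have h : j ∈ units.take 84 ++ ((units.drop 84).take 84 ++ units.drop 168) := by
    have e : units.take 84 ++ ((units.drop 84).take 84 ++ units.drop 168) = units := by decide +kernel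
    rwa [e]
  rw [List.mem_append, List.mem_append] at h
  rcases h with h | h | h
  · exact List.all_eq_true.1 (List.all_eq_true.1 okPair_A j h) k hk
  · exact List.all_eq_true.1 (List.all_eq_true.1 okPair_B j h) k hk
  · exact List.all_eq_true.1 (List.all_eq_true.1 okPair_C j h) k hk

variable {F : Type*} [Field F] [CharP F 3] (i : F)

/-- A pair read in the field. -/
def phi (c : C) : F := (c.re : F) + (c.im : F) * i

/-- A matrix read over the field. -/
def toMat (m : M3) : Matrix (Fin 3) (Fin 3) F :=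
  !![phi i m.a, phi i m.b, phi i m.c; phi i m.d, phi i m.e, phi i m.f; phi i m.g, phi i m.h, phi i m.i]

omit i

theorem cast_mod (n : ℕ) : ((n % 3 : ℕ) : F) = n := (CharP.cast_eq_mod F 3 n).symm

theorem three_eq_zero : (3 : F) = 0 := by exact_mod_cast CharP.cast_eq_zero F 3

theorem cast_cube (n : ℕ) : (n : F) ^ 3 = n := by
  have := congrArg (ZMod.castHom (dvd_refl 3) F) (ZMod.pow_card (n : ZMod 3))
  rwa [map_pow, map_natCast] at this

variable {i : F} (hi : i * i = -1)
include hi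

theorem phi_row (a b c p q r : C) :
    phi i (row a b c p q r) = phi i a * phi i p + phi i b * phi i q + phi i c * phi i r := by
  simp only [phi, row, cast_mod, Nat.cast_add, Nat.cast_mul, Nat.cast_ofNat]
  linear_combination (-((a.im : F) * p.im + b.im * q.im + c.im * r.im)) * hi +
    ((a.im : F) * p.im + b.im * q.im + c.im * r.im) * (three_eq_zero (F := F))

theorem phi_mulC (u v : C) : phi i (mulC u v) = phi i u * phi i v := by
  simp only [phi, mulC, cast_mod, Nat.cast_add, Nat.cast_mul, Nat.cast_ofNat]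
  linear_combination (-((u.im : F) * v.im)) * hi + ((u.im : F) * v.im) * (three_eq_zero (F := F))

omit hi in
theorem phi_subC (u v : C) : phi i (subC u v) = phi i u - phi i v := by
  simp only [phi, subC, cast_mod, Nat.cast_add, Nat.cast_mul, Nat.cast_ofNat]
  linear_combination ((v.re : F) + v.im * i) * (three_eq_zero (F := F))

theorem phi_conjC (u : C) : phi i (conjC u) = phi i u ^ 3 := by
  simp only [phi, conjC, cast_mod, Nat.cast_mul, Nat.cast_ofNat]
  have h3 : i ^ 3 = -i := by linear_combination i * hi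
  have : ((u.re : F) + u.im * i) ^ 3 = (u.re : F) - u.im * i := by
    rw [add_pow_char, mul_pow, cast_cube, cast_cube, h3]; ring
  rw [this]
  linear_combination ((u.im : F) * i) * (three_eq_zero (F := F))

theorem toMat_mul (s t : M3) : toMat i (mul s t) = toMat i s * toMat i t := by
  ext r c
  fin_cases r <;> fin_cases c <;> simp [toMat, mul, Matrix.mul_apply, Fin.sum_univ_three, phi_row hi]

omit hi in
theorem isOne_spec (m : M3) (h : isOne m = true) : toMat i m = 1 := by
  simp only [isOne, isC, Bool.and_eq_true, beq_iff_eq] at h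
  ext r c
  fin_cases r <;> fin_cases c <;> simp [toMat, phi, h]

theorem toMat_pw (m : M3) (n : ℕ) : toMat i (pw m n) = toMat i m ^ n := by
  induction n with
  | zero => rw [pow_zero]; exact isOne_spec _ (by rfl)
  | succ n ih => rw [pow_succ, ← ih, ← toMat_mul hi]; rfl

theorem phi_inj {c d : C} (hc : Red c) (hd : Red d) (h : phi i c = phi i d) : c = d := by
  let f : ZMod 3 →+* F := ZMod.castHom (dvd_refl 3) F
  have hA : ∀ n : ℕ, f (n : ZMod 3) = (n : F) := fun n => map_natCast f n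
  have key : ∀ A B : ZMod 3, A ^ 2 + B ^ 2 = 0 → A = 0 ∧ B = 0 := by decide
  have h0 : f (((c.re : ZMod 3) - d.re) ^ 2 + ((c.im : ZMod 3) - d.im) ^ 2) = 0 := by
    simp only [map_add, map_pow, map_sub, hA]
    simp only [phi] at h
    linear_combination (((c.re : F) - d.re) - ((c.im : F) - d.im) * i) * h + ((c.im : F) - d.im) ^ 2 * hi
  obtain ⟨h1, h2⟩ := key _ _ ((map_eq_zero f).1 h0)
  rw [sub_eq_zero, ZMod.natCast_eq_natCast_iff', Nat.mod_eq_of_lt hc.1, Nat.mod_eq_of_lt hd.1] at h1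
  rw [sub_eq_zero, ZMod.natCast_eq_natCast_iff', Nat.mod_eq_of_lt hc.2, Nat.mod_eq_of_lt hd.2] at h2
  cases c; cases d; simp_all

theorem phi_eq_one {c : C} (hc : Red c) (h : phi i c = 1) : c = ⟨1, 0⟩ :=
  phi_inj hi hc ⟨by decide, by decide⟩ (by rw [h]; simp [phi])

theorem phi_eq_zero {c : C} (hc : Red c) (h : phi i c = 0) : c = ⟨0, 0⟩ :=
  phi_inj hi hc ⟨by decide, by decide⟩ (by rw [h]; simp [phi])

theorem exists_phi [Fintype F] (hF : Fintype.card F = 9) (x : F) : ∃ c, Red c ∧ phi i c = x := by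
  let g : ZMod 3 × ZMod 3 → F := fun p => phi i ⟨p.1.val, p.2.val⟩
  have hg : Function.Injective g := by
    intro p q h
    have := phi_inj hi ⟨ZMod.val_lt p.1, ZMod.val_lt p.2⟩ ⟨ZMod.val_lt q.1, ZMod.val_lt q.2⟩ h
    rw [C.mk.injEq] at this
    exact Prod.ext (ZMod.val_injective 3 this.1) (ZMod.val_injective 3 this.2)
  obtain ⟨p, hp⟩ := ((Fintype.bijective_iff_injective_and_card g).2 ⟨hg, by simp [hF]⟩).2 x
  exact ⟨⟨p.1.val, p.2.val⟩, ⟨ZMod.val_lt p.1, ZMod.val_lt p.2⟩, hp⟩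

theorem det_toMat (m : M3) : (toMat i m).det = phi i (detC m) := by
  simp only [detC, phi_row hi, phi_subC, phi_mulC hi]
  simp [toMat, Matrix.det_fin_three]
  ring

theorem mem_su (m : M3) (h : isSU m = true) :
    (toMat i m).det = 1 ∧ ∀ u v : Fin 3 → F,
      Cfsg.hermForm 3 F 3 (toMat i m *ᵥ u) (toMat i m *ᵥ v) = Cfsg.hermForm 3 F 3 u v := by
  simp only [isSU, Bool.and_eq_true] at h
  have e : ∀ (c : C) (r s : ℕ), isC c r s = true → c = ⟨r, s⟩ := by
    intro c r s hc
    simp only [isC, Bool.and_eq_true, beq_iff_eq] at hc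
    cases c; simp_all
  obtain ⟨⟨⟨⟨⟨⟨⟨⟨⟨hd, h00⟩, h01⟩, h02⟩, h10⟩, h11⟩, h12⟩, h20⟩, h21⟩, h22⟩ := h
  refine ⟨by rw [det_toMat hi, e _ _ _ hd]; simp [phi], ?_⟩
  replace h00 := congrArg (phi i) (e _ _ _ h00)
  replace h01 := congrArg (phi i) (e _ _ _ h01)
  replace h02 := congrArg (phi i) (e _ _ _ h02)
  replace h10 := congrArg (phi i) (e _ _ _ h10)
  replace h11 := congrArg (phi i) (e _ _ _ h11)
  replace h12 := congrArg (phi i) (e _ _ _ h12)
  replace h20 := congrArg (phi i) (e _ _ _ h20)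
  replace h21 := congrArg (phi i) (e _ _ _ h21)
  replace h22 := congrArg (phi i) (e _ _ _ h22)
  simp only [dot, phi_row hi, phi_conjC hi] at h00 h01 h02 h10 h11 h12 h20 h21 h22
  have o1 : phi i ⟨1, 0⟩ = 1 := by simp [phi]
  have o0 : phi i ⟨0, 0⟩ = 0 := by simp [phi]
  rw [o1] at h00 h11 h22
  rw [o0] at h01 h02 h10 h12 h20 h21
  intro u v
  simp [Cfsg.hermForm, toMat, Matrix.mulVec, dotProduct, Fin.sum_univ_three, add_pow_char, mul_pow]
  linear_combination (u 0 * v 0 ^ 3) * h00 + (u 0 * v 1 ^ 3) * h01 + (u 0 * v 2 ^ 3) * h02 +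
    (u 1 * v 0 ^ 3) * h10 + (u 1 * v 1 ^ 3) * h11 + (u 1 * v 2 ^ 3) * h12 +
    (u 2 * v 0 ^ 3) * h20 + (u 2 * v 1 ^ 3) * h21 + (u 2 * v 2 ^ 3) * h22

theorem cube_cube [Fintype F] (hF : Fintype.card F = 9) (x : F) : (x ^ 3) ^ 3 = x := by
  rw [← pow_mul]; simpa [hF] using FiniteField.pow_card x

theorem su_pow [Fintype F] (hF : Fintype.card F = 9) (A : Cfsg.SU 3 F 3) :
    A ^ 8 = 1 ∨ A ^ 12 = 1 ∨ A ^ 7 = 1 := by
  let M : Matrix (Fin 3) (Fin 3) F := ((A : Matrix.SpecialLinearGroup (Fin 3) F) : Matrix (Fin 3) (Fin 3) F)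
  have hgram : ∀ j k : Fin 3, M 0 j * M 0 k ^ 3 + M 1 j * M 1 k ^ 3 + M 2 j * M 2 k ^ 3 = if j = k then 1 else 0 := by
    intro j k
    have h : Cfsg.hermForm 3 F 3 (M *ᵥ Pi.single j 1) (M *ᵥ Pi.single k 1) =
        Cfsg.hermForm 3 F 3 (Pi.single j 1) (Pi.single k 1) := A.2 _ _
    simp [Cfsg.hermForm, Fin.sum_univ_three, Matrix.mulVec_single] at h
    rw [h]
    fin_cases j <;> fin_cases k <;> simp
  choose c hcr hc using fun (r s : Fin 3) => exists_phi hi hF (M r s)
  obtain ⟨j, hj, hju⟩ := dec_surj ⟨c 0 0, c 1 0, c 2 0⟩ (hcr _ _) (hcr _ _) (hcr _ _)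
  obtain ⟨k, hk, hkv⟩ := dec_surj ⟨c 0 1, c 1 1, c 2 1⟩ (hcr _ _) (hcr _ _) (hcr _ _)
  have hdot : ∀ a b : Fin 3, phi i (dot ⟨c 0 a, c 1 a, c 2 a⟩ ⟨c 0 b, c 1 b, c 2 b⟩) = if a = b then 1 else 0 := by
    intro a b
    simp only [dot, phi_row hi, phi_conjC hi, hc]
    exact hgram a b
  have hj' : j ∈ units := units_mem j hj (by rw [hju]; exact phi_eq_one hi (red_row ..) (by simpa using hdot 0 0))
  have hk' : k ∈ units := units_mem k hk (by rw [hkv]; exact phi_eq_one hi (red_row ..) (by simpa using hdot 1 1))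
  have h01 : dot ⟨c 0 0, c 1 0, c 2 0⟩ ⟨c 0 1, c 1 1, c 2 1⟩ = ⟨0, 0⟩ :=
    phi_eq_zero hi (red_row ..) (by simpa using hdot 0 1)
  have hok := okPair_all j k hj' hk'
  simp only [okPair, hju, hkv, h01, isC, beq_self_eq_true, Bool.and_self, if_true] at hok
  have hdet : M.det = 1 := (A : Matrix.SpecialLinearGroup (Fin 3) F).2
  let B : Matrix (Fin 3) (Fin 3) F := Matrix.of fun r s => M s r ^ 3
  have hBM : B * M = 1 := by
    ext r s
    have := hgram s r
    simp only [Matrix.mul_apply, Fin.sum_univ_three, B, Matrix.of_apply, Matrix.one_apply]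
    rw [show (if r = s then (1 : F) else 0) = if s = r then 1 else 0 by simp [eq_comm], ← this]
    ring
  have hMadj : M * M.adjugate = 1 := by rw [Matrix.mul_adjugate, hdet, one_smul]
  have hB : B = M.adjugate := left_inv_eq_right_inv hBM hMadj
  have hthird : ∀ r : Fin 3, M r 2 = M.adjugate 2 r ^ 3 := by
    intro r
    rw [← hB]
    exact (cube_cube hi hF _).symm
  have t0 : (M 1 0 * M 2 1 - M 1 1 * M 2 0) ^ 3 = M 0 2 := by
    rw [hthird 0, Matrix.adjugate_fin_three]; simp
  have t1 : (M 0 1 * M 2 0 - M 0 0 * M 2 1) ^ 3 = M 1 2 := by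
    rw [hthird 1, Matrix.adjugate_fin_three]; simp; ring
  have t2 : (M 0 0 * M 1 1 - M 0 1 * M 1 0) ^ 3 = M 2 2 := by
    rw [hthird 2, Matrix.adjugate_fin_three]; simp
  have hM : toMat i (complete ⟨c 0 0, c 1 0, c 2 0⟩ ⟨c 0 1, c 1 1, c 2 1⟩) = M := by
    simp only [toMat, complete, phi_conjC hi, phi_subC, phi_mulC hi, hc, t0, t1, t2]
    exact (Matrix.eta_fin_three M).symm
  have hpow : ∀ n : ℕ, M ^ n = 1 → A ^ n = 1 := by
    intro n h
    apply Subtype.ext
    apply Subtype.ext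
    rw [SubgroupClass.coe_pow, Matrix.SpecialLinearGroup.coe_pow]
    exact h
  simp only [good, Bool.or_eq_true] at hok
  rcases hok with (h | h) | h
  · left; apply hpow
    have := isOne_spec (i := i) _ h
    simp only [toMat_mul hi, hM] at this
    rw [← this]; simp only [pow_succ, pow_zero, one_mul, mul_assoc]
  · right; left; apply hpow
    have := isOne_spec (i := i) _ h
    simp only [toMat_mul hi, hM] at this
    rw [← this]; simp only [pow_succ, pow_zero, one_mul, mul_assoc]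
  · right; right; apply hpow
    have := isOne_spec (i := i) _ h
    simp only [toMat_mul hi, hM] at this
    rw [← this]; simp only [pow_succ, pow_zero, one_mul, mul_assoc]

/-- A checked matrix as an element of `SU(3,3)`. -/
def toSU (m : M3) (h : isSU m = true) : Cfsg.SU 3 F 3 :=
  ⟨⟨toMat i m, (mem_su hi m h).1⟩, (mem_su hi m h).2⟩

theorem mk_toSU_pow_ne_one (m : M3) (h : isSU m = true) (p : M3) (hp : isSU p = true) (n : ℕ)
    (hne : mul (pw m n) p ≠ mul p (pw m n)) :
    (QuotientGroup.mk (toSU hi m h) : Cfsg.PSU 3 F 3) ^ n ≠ 1 := by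
  intro h1
  rw [← QuotientGroup.mk_pow, QuotientGroup.eq_one_iff, Subgroup.mem_center_iff] at h1
  have h2 : toMat i p * toMat i m ^ n = toMat i m ^ n * toMat i p :=
    congrArg (fun X : Cfsg.SU 3 F 3 => ((X : Matrix.SpecialLinearGroup (Fin 3) F) : Matrix (Fin 3) (Fin 3) F))
      (h1 (toSU hi p hp))
  rw [← toMat_pw hi, ← toMat_mul hi, ← toMat_mul hi] at h2
  apply hne
  have e : ∀ r s : Fin 3, toMat i (mul p (pw m n)) r s = toMat i (mul (pw m n) p) r s := fun r s => by rw [h2]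
  have := @phi_inj F _ _ i hi
  simp only [mul] at e ⊢
  rw [M3.mk.injEq]
  exact ⟨(this (red_row ..) (red_row ..) (e 0 0)).symm, (this (red_row ..) (red_row ..) (e 0 1)).symm,
    (this (red_row ..) (red_row ..) (e 0 2)).symm, (this (red_row ..) (red_row ..) (e 1 0)).symm,
    (this (red_row ..) (red_row ..) (e 1 1)).symm, (this (red_row ..) (red_row ..) (e 1 2)).symm,
    (this (red_row ..) (red_row ..) (e 2 0)).symm, (this (red_row ..) (red_row ..) (e 2 1)).symm,
    (this (red_row ..) (red_row ..) (e 2 2)).symm⟩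

theorem mk_toSU_pow_eq_one (m : M3) (h : isSU m = true) (n : ℕ) (hn : isOne (pw m n) = true) :
    (QuotientGroup.mk (toSU hi m h) : Cfsg.PSU 3 F 3) ^ n = 1 := by
  have : toSU hi m h ^ n = 1 := by
    apply Subtype.ext
    apply Subtype.ext
    rw [SubgroupClass.coe_pow, Matrix.SpecialLinearGroup.coe_pow]
    exact ((toMat_pw hi m n).symm).trans (isOne_spec _ hn)
  rw [← QuotientGroup.mk_pow, this]; rfl

omit hi

/-- The element orders of `PSU(3,F)` when `F` has nine elements. -/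
theorem range_orderOf_psu {K : Type*} [Field K] [Fintype K] (hF : Fintype.card K = 9) :
    Set.range (orderOf : Cfsg.PSU 3 K 3 → ℕ) = {n | n ∈ [1, 2, 3, 4, 6, 8, 12] ∨ n = 7} := by
  haveI : CharP K 3 := charP_of_card_eq_prime_pow (f := 2) (by rw [hF]; norm_num)
  obtain ⟨i, hi⟩ : IsSquare (-1 : K) := FiniteField.isSquare_neg_one_iff.2 (by rw [hF]; norm_num)
  replace hi := hi.symm
  ext n
  constructor
  · rintro ⟨x, rfl⟩
    obtain ⟨A, rfl⟩ := QuotientGroup.mk_surjective x
    have hp := orderOf_pos (QuotientGroup.mk A : Cfsg.PSU 3 K 3)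
    rcases su_pow hi hF A with h | h | h <;>
      (have hd : orderOf (QuotientGroup.mk A : Cfsg.PSU 3 K 3) ∣ _ :=
        orderOf_dvd_of_pow_eq_one (by rw [← QuotientGroup.mk_pow, h]; rfl)) <;>
      have hl := Nat.le_of_dvd (by norm_num) hd <;>
      (interval_cases orderOf (QuotientGroup.mk A : Cfsg.PSU 3 K 3) <;> simp_all (config := { decide := true }))
  · have k7 : isSU m7 = true := by decide +kernel
    have k8 : isSU m8 = true := by decide +kernel
    have k12 : isSU m12 = true := by decide +kernel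
    have o7 : orderOf (QuotientGroup.mk (toSU hi m7 k7) : Cfsg.PSU 3 K 3) = 7 := by
      haveI : Fact (Nat.Prime 7) := ⟨by norm_num⟩
      refine orderOf_eq_prime (mk_toSU_pow_eq_one hi m7 k7 7 (by decide +kernel)) ?_
      simpa using mk_toSU_pow_ne_one hi m7 k7 m8 k8 1 (by decide +kernel)
    have o8 : orderOf (QuotientGroup.mk (toSU hi m8 k8) : Cfsg.PSU 3 K 3) = 8 :=
      orderOf_eq_prime_pow (p := 2) (n := 2) (mk_toSU_pow_ne_one hi m8 k8 m7 k7 4 (by decide +kernel))
        (mk_toSU_pow_eq_one hi m8 k8 8 (by decide +kernel))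
    have o12 : orderOf (QuotientGroup.mk (toSU hi m12 k12) : Cfsg.PSU 3 K 3) = 12 := by
      set x : Cfsg.PSU 3 K 3 := QuotientGroup.mk (toSU hi m12 k12) with hx
      have hd : orderOf x ∣ 12 := orderOf_dvd_of_pow_eq_one (mk_toSU_pow_eq_one hi m12 k12 12 (by decide +kernel))
      have h6 : x ^ 6 ≠ 1 := mk_toSU_pow_ne_one hi m12 k12 m7 k7 6 (by decide +kernel)
      have h4 : x ^ 4 ≠ 1 := mk_toSU_pow_ne_one hi m12 k12 m7 k7 4 (by decide +kernel)
      have a6 : ¬ orderOf x ∣ 6 := fun h => h6 (orderOf_dvd_iff_pow_eq_one.1 h)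
      have a4 : ¬ orderOf x ∣ 4 := fun h => h4 (orderOf_dvd_iff_pow_eq_one.1 h)
      have hl := Nat.le_of_dvd (by norm_num) hd
      have hp := orderOf_pos x
      interval_cases orderOf x <;> omega
    have key : ∀ (x : Cfsg.PSU 3 K 3) (d : ℕ), d ∣ orderOf x →
        orderOf x / d ∈ Set.range (orderOf : Cfsg.PSU 3 K 3 → ℕ) := by
      intro x d hd
      have hd0 : d ≠ 0 := ne_zero_of_dvd_ne_zero (orderOf_pos x).ne' hd
      exact ⟨x ^ d, by rw [orderOf_pow_of_dvd hd0 hd]⟩
    intro h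
    simp only [List.mem_cons, List.not_mem_nil, or_false, Set.mem_ofPred_eq] at h
    rcases h with (rfl | rfl | rfl | rfl | rfl | rfl | rfl) | rfl
    · exact ⟨1, orderOf_one⟩
    · have := key _ 4 (by rw [o8]; decide : 4 ∣ orderOf _)
      rw [o8] at this
      exact this
    · have := key _ 4 (by rw [o12]; decide : 4 ∣ orderOf _)
      rw [o12] at this
      exact this
    · have := key _ 2 (by rw [o8]; decide : 2 ∣ orderOf _)
      rw [o8] at this
      exact this
    · have := key _ 2 (by rw [o12]; decide : 2 ∣ orderOf _)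
      rw [o12] at this
      exact this
    · exact ⟨_, o8⟩
    · exact ⟨_, o12⟩
    · exact ⟨_, o7⟩

end CfsgLib.Recog.UThreeThree
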