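import Cfsg.Agent.Lib.Recog.JankoOneCheck
import Mathlib.GroupTheory.OrderOfElement
import Mathlib.Algebra.Group.Subgroup.Lattice

/-! The element orders of the first Janko group. -/

set_option autoImplicit false

namespace CfsgLib.Recog.JankoOne

theorem toMat_inj_of_beq {A M : M7} (h : A.beq M = true) : A.toMat = M.toMat := by rw [M7.eq_of_beq h]

theorem toMat_powAux (f : ℕ) : ∀ (acc g : M7) (n : ℕ), n < 2 ^ f →
    (M7.powAux f acc g n).toMat = acc.toMat * g.toMat ^ n := by
  induction f with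
  | zero => intro acc g n hn; simp at hn; subst hn; simp [M7.powAux]
  | succ f ih =>
    intro acc g n hn
    rw [M7.powAux]
    by_cases h0 : n = 0
    · simp [h0]
    rw [if_neg h0, ih _ _ _ (by omega), M7.toMat_mul, ← pow_two, ← pow_mul]
    have hn2 : n = n % 2 + 2 * (n / 2) := (Nat.mod_add_div n 2).symm
    conv_rhs => rw [hn2, pow_add, ← mul_assoc]
    rcases Nat.mod_two_eq_zero_or_one n with e | e <;> simp [e, M7.toMat_mul]

theorem toMat_powNat (g : M7) {n : ℕ} (hn : n < 64) : (g.powNat n).toMat = g.toMat ^ n := by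
  rw [M7.powNat, toMat_powAux 6 _ _ _ (by simpa using hn), oneM_toMat, one_mul]

/-- The first generator of `K`. -/
noncomputable def uA : GL (Fin 7) (ZMod 11) :=
  ⟨(M7.decode codeKA).toMat, (M7.decode codeKA).toMat,
    by
      have h := check_base
      simp only [Bool.and_eq_true] at h
      rw [← M7.toMat_mul, toMat_inj_of_beq h.1.1.1.1, oneM_toMat],
    by
      have h := check_base
      simp only [Bool.and_eq_true] at h
      rw [← M7.toMat_mul, toMat_inj_of_beq h.1.1.1.1, oneM_toMat]⟩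

theorem kB_cube : (M7.decode codeKB).toMat * ((M7.decode codeKB).toMat * (M7.decode codeKB).toMat) = 1 := by
  have h := check_base
  simp only [Bool.and_eq_true] at h
  rw [← M7.toMat_mul, ← M7.toMat_mul, toMat_inj_of_beq h.1.1.1.2, oneM_toMat]

/-- The second generator of `K`. -/
noncomputable def uB : GL (Fin 7) (ZMod 11) :=
  ⟨(M7.decode codeKB).toMat, (M7.decode codeKB).toMat * (M7.decode codeKB).toMat, kB_cube,
    by rw [mul_assoc]; exact kB_cube⟩

/-- The generator attached to a letter. -/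
noncomputable def uGen (l : ℕ) : GL (Fin 7) (ZMod 11) := if l = 1 then uA else uB

/-- An element of `K` as a unit. -/
noncomputable def uEl (i : ℕ) : GL (Fin 7) (ZMod 11) := ((kWord i).map uGen).prod

theorem kStep_spec {i l : ℕ} (hi : i < 660) :
    kStep i l < 660 ∧ (kEl i).toMat * (uGen l).val = (kEl (kStep i l)).toMat := by
  have h := List.all_eq_true.mp check_succ i (List.mem_range.mpr hi)
  simp only [Bool.and_eq_true, decide_eq_true_eq] at h
  unfold kStep uGen
  by_cases hl : l = 1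
  · simp only [if_pos hl]
    exact ⟨h.1.1.1, by rw [← toMat_inj_of_beq h.1.2, M7.toMat_mul]; rfl⟩
  · simp only [if_neg hl]
    exact ⟨h.1.1.2, by rw [← toMat_inj_of_beq h.2, M7.toMat_mul]; rfl⟩

theorem kFold_spec (w : List ℕ) : ∀ {i : ℕ}, i < 660 →
    kFold i w < 660 ∧ (kEl i).toMat * ((w.map uGen).prod).val = (kEl (kFold i w)).toMat := by
  induction w with
  | nil => intro i hi; exact ⟨hi, by simp [kFold]⟩
  | cons l w ih =>
    intro i hi
    obtain ⟨h1, h2⟩ := kStep_spec (l := l) hi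
    obtain ⟨h3, h4⟩ := ih h1
    refine ⟨h3, ?_⟩
    rw [List.map_cons, List.prod_cons, Units.val_mul, ← mul_assoc, h2]
    exact h4

theorem uEl_val {i : ℕ} (hi : i < 660) : (uEl i).val = (kEl i).toMat := by
  have hw := List.all_eq_true.mp check_word i (List.mem_range.mpr hi)
  simp only [Bool.and_eq_true, decide_eq_true_eq] at hw
  have h := (kFold_spec (kWord i) (i := 0) (by norm_num)).2
  rw [hw.1, show kEl 0 = oneM from rfl, oneM_toMat, one_mul] at h
  exact h

/-- Products inside `K`. -/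
theorem uEl_mul {i j : ℕ} (hi : i < 660) : kFold i (kWord j) < 660 ∧ uEl (kFold i (kWord j)) = uEl i * uEl j := by
  obtain ⟨h1, h2⟩ := kFold_spec (kWord j) hi
  refine ⟨h1, Units.ext ?_⟩
  rw [uEl_val h1, ← h2, Units.val_mul, uEl_val hi]
  rfl

theorem janko_mem_cases {g : GL (Fin 7) (ZMod 11)} (hg : g ∈ Cfsg.Spor.J1) :
    ∃ k j, k < 660 ∧ j < 266 ∧ g.val = (kEl k).toMat * (rEl j).toMat := by
  have hb := check_base
  simp only [Bool.and_eq_true] at hb
  have hX : (Cfsg.Spor.jankoX) ^ 7 = 1 := Units.ext (by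
    rw [Units.val_pow_eq_pow_val, show Cfsg.Spor.jankoX.val = (M7.decode codeX).toMat from codeX_eq.symm,
      ← toMat_powNat _ (by norm_num), toMat_inj_of_beq hb.1.1.2, oneM_toMat]; rfl)
  have hY : (Cfsg.Spor.jankoY) ^ 5 = 1 := Units.ext (by
    rw [Units.val_pow_eq_pow_val, show Cfsg.Spor.jankoY.val = (M7.decode codeY).toMat from codeY_eq.symm,
      ← toMat_powNat _ (by norm_num), toMat_inj_of_beq hb.1.2, oneM_toMat]; rfl)
  let P : GL (Fin 7) (ZMod 11) → Prop := fun g => ∃ k j, k < 660 ∧ j < 266 ∧ g.val = (kEl k).toMat * (rEl j).toMat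
  have hstep : ∀ s ∈ ({Cfsg.Spor.jankoX, Cfsg.Spor.jankoY} : Set (GL (Fin 7) (ZMod 11))), ∀ g, P g → P (g * s) := by
    rintro s hs g ⟨k, j, hk, hj, hg⟩
    have h := List.all_eq_true.mp check_table j (List.mem_range.mpr hj)
    simp only [Bool.and_eq_true, decide_eq_true_eq] at h
    rcases hs with rfl | rfl
    · obtain ⟨h1, h2⟩ := uEl_mul (j := tXTree.get 256 j % 1000) hk
      refine ⟨_, _, h1, h.1.1.1.1.1, ?_⟩
      rw [Units.val_mul, hg, ← uEl_val h1, h2, Units.val_mul, uEl_val hk, uEl_val h.1.1.1.1.2, mul_assoc, mul_assoc,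
        ← M7.toMat_mul (kEl (tXTree.get 256 j % 1000)), ← toMat_inj_of_beq h.1.2, M7.toMat_mul, codeX_eq]
      rfl
    · obtain ⟨h1, h2⟩ := uEl_mul (j := tYTree.get 256 j % 1000) hk
      refine ⟨_, _, h1, h.1.1.1.2, ?_⟩
      rw [Units.val_mul, hg, ← uEl_val h1, h2, Units.val_mul, uEl_val hk, uEl_val h.1.1.2, mul_assoc, mul_assoc,
        ← M7.toMat_mul (kEl (tYTree.get 256 j % 1000)), ← toMat_inj_of_beq h.2, M7.toMat_mul, codeY_eq]
      rfl
  have hpow : ∀ s ∈ ({Cfsg.Spor.jankoX, Cfsg.Spor.jankoY} : Set (GL (Fin 7) (ZMod 11))), ∀ (n : ℕ) g, P g → P (g * s ^ n) := by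
    intro s hs n
    induction n with
    | zero => intro g hg; simpa using hg
    | succ n ih => intro g hg; rw [pow_succ, ← mul_assoc]; exact hstep s hs _ (ih g hg)
  show P g
  induction hg using Subgroup.closure_induction_right with
  | one => exact ⟨0, 0, by norm_num, by norm_num, by rw [toMat_inj_of_beq hb.2, show kEl 0 = oneM from rfl, oneM_toMat]; simp⟩
  | mul_right g _ s hs ih => exact hstep s hs g ih
  | mul_inv_cancel g _ s hs ih =>
    rcases hs with rfl | rfl
    · rw [show Cfsg.Spor.jankoX⁻¹ = Cfsg.Spor.jankoX ^ 6 from inv_eq_of_mul_eq_one_right (by rw [← pow_succ']; exact hX)]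
      exact hpow _ (Or.inl rfl) 6 g ih
    · rw [show Cfsg.Spor.jankoY⁻¹ = Cfsg.Spor.jankoY ^ 4 from inv_eq_of_mul_eq_one_right (by rw [← pow_succ']; exact hY)]
      exact hpow _ (Or.inr rfl) 4 g ih

theorem janko_pow_eq_one {g : GL (Fin 7) (ZMod 11)} (hg : g ∈ Cfsg.Spor.J1) :
    ∃ n ∈ allowedOrders, g ^ n = 1 := by
  obtain ⟨k, j, hk, hj, hg⟩ := janko_mem_cases hg
  have hc := List.all_eq_true.mp check_cert j (List.mem_range.mpr hj)
  simp only [Bool.and_eq_true, decide_eq_true_eq] at hc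
  set d := certTree.get 256 j / 1000000
  set k3 := certTree.get 256 j / 1000 % 1000
  set k' := certTree.get 256 j % 1000
  obtain ⟨⟨⟨hd, hk3⟩, hk'⟩, hr⟩ := hc
  have hr := toMat_inj_of_beq hr
  rw [M7.toMat_mul, M7.toMat_mul] at hr
  obtain ⟨hA, eA⟩ := uEl_mul (j := k') hk
  set A := kFold k (kWord k')
  obtain ⟨hm, em⟩ := uEl_mul (j := A) hk3
  set m := kFold k3 (kWord A)
  have hD := List.all_eq_true.mp check_double d (List.mem_range.mpr hd)
  simp only [checkDouble, Bool.and_eq_true] at hD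
  obtain ⟨⟨hhs, hrs⟩, horb⟩ := hD
  have ho := List.all_eq_true.mp horb m (List.mem_range.mpr hm)
  simp only [Bool.and_eq_true, decide_eq_true_eq] at ho
  obtain ⟨⟨hn, hi⟩, hfold⟩ := ho
  set hs := hLists.getD d []
  set rs := repLists.getD d []
  set ni := (orbTrees.getD d (.leaf 0)).get 512 m
  have he : hs.getD (ni % 1000) 0 ∈ hs := by
    rw [List.getD_eq_getElem _ _ hi]; exact List.getElem_mem hi
  have hre : rs.getD (ni / 1000) 0 ∈ rs := by
    rw [List.getD_eq_getElem _ _ hn]; exact List.getElem_mem hn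
  have h1 := List.all_eq_true.mp hhs _ he
  have h2 := List.all_eq_true.mp hrs _ hre
  simp only [Bool.and_eq_true, decide_eq_true_eq] at h1 h2
  set h := hs.getD (ni % 1000) 0 / 1000
  set h' := hs.getD (ni % 1000) 0 % 1000
  set rep := rs.getD (ni / 1000) 0 / 100
  set n := rs.getD (ni / 1000) 0 % 100
  obtain ⟨⟨hh, hh'⟩, hhd⟩ := h1
  obtain ⟨⟨hrep, hnA⟩, hpow⟩ := h2
  have hn64 : n < 64 := by
    simp only [allowedOrders, List.mem_cons, List.not_mem_nil, or_false] at hnA
    omega
  refine ⟨n, hnA, ?_⟩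
  have hhd := toMat_inj_of_beq hhd
  rw [M7.toMat_mul, M7.toMat_mul] at hhd
  have hpow := toMat_inj_of_beq hpow
  rw [toMat_powNat _ hn64, oneM_toMat, M7.toMat_mul] at hpow
  have hmove : uEl h' * uEl m = uEl rep * uEl h := by
    rw [← (uEl_mul (j := m) hh').2, ← (uEl_mul (j := h) hrep).2, hfold]
  have hmove' : (kEl h').toMat * (uEl m).val = (kEl rep).toMat * (kEl h).toMat := by
    rw [← uEl_val hh', ← uEl_val hrep, ← uEl_val hh, ← Units.val_mul, hmove, Units.val_mul]
  -- g is conjugate to the representative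
  let Dm := (dEl d).toMat
  have hg' : (uEl A)⁻¹.val * g.val * (uEl A).val = Dm * (uEl m).val := by
    rw [hg, hr, eA, em, eA, mul_inv_rev, Units.val_mul, Units.val_mul, Units.val_mul, ← uEl_val hk, ← uEl_val hk', ← uEl_val hk3]
    simp [mul_assoc, Dm]
  have hconj : (uEl h).val * (Dm * (uEl m).val) = Dm * (kEl rep).toMat * (uEl h).val := by
    rw [← mul_assoc, uEl_val hh, hhd, mul_assoc, hmove', ← mul_assoc]
  set z := uEl h * (uEl A)⁻¹ with hz
  have hzg : z.val * g.val = Dm * (kEl rep).toMat * z.val := by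
    have e : g.val = (uEl A).val * (Dm * (uEl m).val) * (uEl A)⁻¹.val := by
      rw [← hg']; simp [mul_assoc]
    rw [hz, Units.val_mul, e]
    simp only [mul_assoc, Units.inv_mul_cancel_left]
    rw [← mul_assoc Dm, ← mul_assoc (uEl h).val, hconj]
    simp [mul_assoc]
  have hsemi : SemiconjBy z.val g.val (Dm * (kEl rep).toMat) := hzg
  have hp := (hsemi.pow_right n).eq
  rw [show Dm * (kEl rep).toMat = (dEl d).toMat * (kEl rep).toMat from rfl, hpow, one_mul] at hp
  apply Units.ext
  rw [Units.val_pow_eq_pow_val, Units.val_one]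
  calc g.val ^ n = z⁻¹.val * (z.val * g.val ^ n) := by rw [← mul_assoc, Units.inv_mul, one_mul]
    _ = 1 := by rw [hp, Units.inv_mul]

/-- The element orders of `J₁`. -/
theorem jankoOne_range : Set.range (orderOf : Cfsg.Spor.J1 → ℕ) = {1, 2, 3, 5, 6, 7, 10, 11, 15, 19} := by
  ext n
  constructor
  · rintro ⟨g, rfl⟩
    obtain ⟨m, hm, hgm⟩ := janko_pow_eq_one g.2
    have hd : orderOf g ∣ m := orderOf_dvd_of_pow_eq_one (Subtype.ext hgm)
    simp only [allowedOrders, List.mem_cons, List.not_mem_nil, or_false] at hm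
    have hle : orderOf g ≤ m := Nat.le_of_dvd (by omega) hd
    generalize orderOf g = o at hd hle
    rcases hm with rfl | rfl | rfl | rfl | rfl | rfl | rfl | rfl | rfl | rfl <;> interval_cases o <;>
      first
        | (exfalso; revert hd; decide)
        | simp
  · intro hn
    have hw := check_witness
    have heval : ∀ w : List ℕ, ∃ g ∈ Cfsg.Spor.J1, g.val = (wordEval w).toMat := by
      intro w
      induction w with
      | nil => exact ⟨1, one_mem _, oneM_toMat.symm⟩
      | cons l w ih =>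
        obtain ⟨g, hg, hv⟩ := ih
        by_cases hl : l = 1
        · exact ⟨Cfsg.Spor.jankoX * g, mul_mem (Subgroup.subset_closure (by simp)) hg, by
            rw [wordEval, if_pos hl, M7.toMat_mul, codeX_eq, Units.val_mul, hv]; rfl⟩
        · exact ⟨Cfsg.Spor.jankoY * g, mul_mem (Subgroup.subset_closure (by simp)) hg, by
            rw [wordEval, if_neg hl, M7.toMat_mul, codeY_eq, Units.val_mul, hv]; rfl⟩
    have htop : ∀ e ∈ witnessList, e % 100 < 64 → ∃ x : Cfsg.Spor.J1, orderOf x = e % 100 := by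
      intro e he hlt
      have h := List.all_eq_true.mp hw e he
      simp only [Bool.and_eq_true, decide_eq_true_eq] at h
      obtain ⟨g, hg, hv⟩ := heval (digitsThree 22 (e / 100))
      refine ⟨⟨g, hg⟩, (orderOf_eq_iff h.1.1).mpr ⟨Subtype.ext (Units.ext ?_), fun i hi hi0 hi1 => ?_⟩⟩
      · rw [Subgroup.coe_pow, Units.val_pow_eq_pow_val, hv, ← toMat_powNat _ hlt, toMat_inj_of_beq h.1.2, oneM_toMat]; rfl
      · have h3 := List.all_eq_true.mp h.2 i (List.mem_range.mpr hi)
        simp only [Bool.or_eq_true, decide_eq_true_eq] at h3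
        have hne := h3.resolve_left (by omega)
        have hval := congrArg (fun x : Cfsg.Spor.J1 => x.1.val) hi1
        simp only [Subgroup.coe_pow, Units.val_pow_eq_pow_val, hv, OneMemClass.coe_one, Units.val_one] at hval
        rw [← toMat_powNat _ (by omega)] at hval
        exact hne hval
    suffices h : ∃ x : Cfsg.Spor.J1, n ∣ orderOf x by
      obtain ⟨x, hx⟩ := h
      haveI : Finite Cfsg.Spor.J1 := inferInstance
      exact ⟨x ^ (orderOf x / n), orderOf_pow_orderOf_div (orderOf_pos x).ne' hx⟩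
    have hcase : ∃ e ∈ witnessList, e % 100 < 64 ∧ n ∣ e % 100 := by
      simp only [Set.mem_insert_iff, Set.mem_singleton_iff] at hn
      rcases hn with rfl | rfl | rfl | rfl | rfl | rfl | rfl | rfl | rfl | rfl <;> decide
    obtain ⟨e, he, hlt, hd⟩ := hcase
    obtain ⟨x, hx⟩ := htop e he hlt
    exact ⟨x, hx ▸ hd⟩

end CfsgLib.Recog.JankoOne
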