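import Mathlib.GroupTheory.Perm.Basic
import Mathlib.GroupTheory.GroupAction.Defs
import Mathlib.GroupTheory.OrderOfElement
import Mathlib.Algebra.Group.Subgroup.Finite
import Mathlib.SetTheory.Cardinal.Finite
import Mathlib.GroupTheory.Index
import Mathlib.Tactic.Group

/-! Certificates for stabiliser chains of generated permutation groups. -/

set_option autoImplicit false

namespace CfsgLib.Recog.PermChain

variable {α : Type*} [DecidableEq α] [Fintype α]

/-- One level of a stabiliser chain. -/
theorem level {S : Set (Equiv.Perm α)} {H : Subgroup (Equiv.Perm α)} (b : α) (R : List (Equiv.Perm α))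
    (hH : H ≤ Subgroup.closure S) (hHb : ∀ h ∈ H, h b = b) (hR : ∀ r ∈ R, r ∈ Subgroup.closure S)
    (h1 : (1 : Equiv.Perm α) ∈ R) (hnd : (R.map fun r => r b).Nodup)
    (hclosed : ∀ g ∈ S, ∀ r ∈ R, ∃ r' ∈ R, r'⁻¹ * (g * r) ∈ H) :
    Subgroup.closure S ⊓ MulAction.stabilizer (Equiv.Perm α) b = H ∧
      Nat.card (Subgroup.closure S) = R.length * Nat.card H := by
  have hinj : ∀ r ∈ R, ∀ r' ∈ R, r b = r' b → r = r' := fun r hr r' hr' h =>
    List.inj_on_of_nodup_map hnd hr hr' h
  have key : ∀ x ∈ Subgroup.closure S, ∃ r ∈ R, r⁻¹ * x ∈ H := by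
    intro x hx
    rw [← Subgroup.mem_toSubmonoid, Subgroup.closure_toSubmonoid_of_finite] at hx
    induction hx using Submonoid.closure_induction_left with
    | one => exact ⟨1, h1, by simp⟩
    | mul_left g hg y _ ih =>
      obtain ⟨r, hr, h⟩ := ih
      obtain ⟨r', hr', h'⟩ := hclosed g hg r hr
      refine ⟨r', hr', ?_⟩
      have : r'⁻¹ * (g * y) = (r'⁻¹ * (g * r)) * (r⁻¹ * y) := by group
      rw [this]
      exact H.mul_mem h' h
  constructor
  · refine le_antisymm ?_ (le_inf hH fun h hh => hHb h hh)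
    rintro x ⟨hx, hxb⟩
    obtain ⟨r, hr, h⟩ := key x hx
    have h0 : r⁻¹ (x b) = b := hHb _ h
    rw [show x b = b from hxb] at h0
    have hrb : r b = b := by
      conv_lhs => rw [← h0]
      simp
    have e : r = 1 := hinj r hr 1 h1 (by simpa using hrb)
    simpa [e] using h
  · have hR' : R.Nodup := List.Nodup.of_map _ hnd
    let f : Fin R.length × H → Subgroup.closure S := fun p =>
      ⟨R.get p.1 * p.2.1, mul_mem (hR _ (R.get_mem p.1)) (hH p.2.2)⟩
    have hf : Function.Bijective f := by
      constructor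
      · rintro ⟨i, h, hh⟩ ⟨j, k, hk⟩ e
        have e' : R.get i * h = R.get j * k := congrArg Subtype.val e
        have eb := congrArg (fun p : Equiv.Perm α => p b) e'
        simp only [Equiv.Perm.mul_apply, hHb h hh, hHb k hk] at eb
        have eij : i = j := hR'.injective_get (hinj _ (R.get_mem i) _ (R.get_mem j) eb)
        subst eij
        simp only [mul_right_inj] at e'
        subst e'
        rfl
      · rintro ⟨x, hx⟩
        obtain ⟨r, hr, h⟩ := key x hx
        obtain ⟨i, hi⟩ := List.mem_iff_get.1 hr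
        exact ⟨⟨i, ⟨_, h⟩⟩, Subtype.ext (show R.get i * _ = x by rw [hi]; exact mul_inv_cancel_left r x)⟩
    rw [← Nat.card_eq_of_bijective f hf, Nat.card_prod, Nat.card_eq_fintype_card, Fintype.card_fin]

end CfsgLib.Recog.PermChain
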