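import Mathlib.GroupTheory.SemidirectProduct
import Mathlib.GroupTheory.OrderOfElement
import Mathlib.Algebra.GroupWithZero.Action.Basic
import Mathlib.Algebra.Module.Pi
import Mathlib.Algebra.BigOperators.Pi
import Mathlib.SetTheory.Cardinal.Finite

/-! The element orders of `A ⋊ C` with `A` of prime exponent, and large groups with the same set of orders. -/

namespace CfsgLib.Recog

open scoped Pointwise

variable {C A : Type*} [Group C] [AddCommGroup A] [DistribMulAction C A]

/-- The action of `C` on `Multiplicative A`. -/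
def mulAutOfAction (C A : Type*) [Group C] [AddCommGroup A] [DistribMulAction C A] :
    C →* MulAut (Multiplicative A) where
  toFun g :=
    { toFun := fun a => Multiplicative.ofAdd (g • a.toAdd)
      invFun := fun a => Multiplicative.ofAdd (g⁻¹ • a.toAdd)
      left_inv := fun a => by simp
      right_inv := fun a => by simp
      map_mul' := fun a b => by simp }
  map_one' := by ext a; simp
  map_mul' g h := by ext a; simp [mul_smul]

theorem semidirect_pow (x : Multiplicative A ⋊[mulAutOfAction C A] C) (n : ℕ) :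
    (x ^ n).right = x.right ^ n ∧
      (x ^ n).left.toAdd = ∑ i ∈ Finset.range n, x.right ^ i • x.left.toAdd := by
  induction n with
  | zero => simp
  | succ n ih =>
    refine ⟨by rw [pow_succ, SemidirectProduct.mul_right, ih.1, pow_succ], ?_⟩
    rw [pow_succ, SemidirectProduct.mul_left, toAdd_mul, ih.2, Finset.sum_range_succ, ih.1]
    rfl

/-- `(a, g)` has the order of `g` or `r` times it, according to the norm of `a` under `g`. -/
theorem orderOf_semidirect [Finite C] {r : ℕ} (hr : r.Prime) (hexp : ∀ a : A, r • a = 0)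
    (x : Multiplicative A ⋊[mulAutOfAction C A] C) :
    ((∑ i ∈ Finset.range (orderOf x.right), x.right ^ i • x.left.toAdd) = 0 ∧ orderOf x = orderOf x.right) ∨
    ((∑ i ∈ Finset.range (orderOf x.right), x.right ^ i • x.left.toAdd) ≠ 0 ∧
      orderOf x = r * orderOf x.right) := by
  set d := orderOf x.right with hd
  have hd0 : 0 < d := orderOf_pos _
  have hdvd : ∀ n, x ^ n = 1 → d ∣ n := fun n hn =>
    orderOf_dvd_of_pow_eq_one (by rw [← (semidirect_pow x n).1, hn]; rfl)
  have hr1 : (x ^ d).right = 1 := by rw [(semidirect_pow x d).1]; exact pow_orderOf_eq_one _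
  have h1 : orderOf x = d * orderOf (x ^ d) := by
    apply Nat.dvd_antisymm
    · refine orderOf_dvd_of_pow_eq_one ?_
      rw [pow_mul, pow_orderOf_eq_one]
    · obtain ⟨e, he⟩ := hdvd _ (pow_orderOf_eq_one x)
      rw [he]
      refine Nat.mul_dvd_mul_left d (orderOf_dvd_of_pow_eq_one ?_)
      rw [← pow_mul, ← he, pow_orderOf_eq_one]
  have hx : x ^ d = SemidirectProduct.inl (x ^ d).left := SemidirectProduct.ext (by simp) (by simp [hr1])
  by_cases h : ∑ i ∈ Finset.range d, x.right ^ i • x.left.toAdd = 0
  · refine Or.inl ⟨h, ?_⟩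
    have : x ^ d = 1 := SemidirectProduct.ext (Multiplicative.toAdd.injective (by
      rw [(semidirect_pow x d).2, h]; rfl)) hr1
    rw [h1, this, orderOf_one, mul_one]
  · refine Or.inr ⟨h, ?_⟩
    rw [h1, mul_comm]
    congr 1
    rw [hx, orderOf_injective _ SemidirectProduct.inl_injective]
    haveI := Fact.mk hr
    refine orderOf_eq_prime (Multiplicative.toAdd.injective (by rw [toAdd_pow, hexp]; rfl)) fun e => h ?_
    rw [← (semidirect_pow x d).2, e]; rfl

/-- Taking powers of `A` gives groups of unbounded order with a constant set of element orders. -/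
theorem exists_large_semidirect (C A : Type) [Group C] [Finite C] [AddCommGroup A] [Finite A] [Nontrivial A]
    [DistribMulAction C A] {r : ℕ} (hr : r.Prime) (hexp : ∀ a : A, r • a = 0) (N : ℕ) :
    ∃ (H : Type) (_ : Group H) (_ : Fintype H), N < Fintype.card H ∧
      Set.range (orderOf : H → ℕ) = {n | ∃ g : C, n = orderOf g ∨
        (n = r * orderOf g ∧ ∃ a : A, ∑ i ∈ Finset.range (orderOf g), g ^ i • a ≠ 0)} := by
  let B := Fin (N + 1) → A
  let H := Multiplicative B ⋊[mulAutOfAction C B] C
  have hexp' : ∀ b : B, r • b = 0 := fun b => funext fun i => hexp (b i)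
  haveI : Finite (Multiplicative B) := Finite.of_equiv B Multiplicative.ofAdd
  haveI : Finite H := Finite.of_equiv _ SemidirectProduct.equivProd.symm
  refine ⟨H, inferInstance, Fintype.ofFinite H, ?_, ?_⟩
  · have h1 : N + 1 < Nat.card B := by
      rw [Nat.card_pi, Finset.prod_const, Finset.card_univ, Fintype.card_fin]
      exact Nat.lt_pow_self Finite.one_lt_card
    have h2 : Nat.card H = Nat.card B * Nat.card C := SemidirectProduct.card
    have h3 : Nat.card B ≤ Nat.card H := h2 ▸ Nat.le_mul_of_pos_right _ Nat.card_pos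
    rw [@Fintype.card_eq_nat_card H (Fintype.ofFinite H)]
    omega
  · ext n
    constructor
    · rintro ⟨x, rfl⟩
      refine ⟨x.right, ?_⟩
      rcases orderOf_semidirect hr hexp' x with ⟨-, h⟩ | ⟨hne, h⟩
      · exact Or.inl h
      · refine Or.inr ⟨h, ?_⟩
        obtain ⟨i, hi⟩ := Function.ne_iff.mp hne
        refine ⟨Multiplicative.toAdd x.left i, fun e => hi ?_⟩
        rw [Finset.sum_apply]
        exact e
    · rintro ⟨g, rfl | ⟨rfl, a, ha⟩⟩
      · exact ⟨SemidirectProduct.inr g, orderOf_injective _ SemidirectProduct.inr_injective g⟩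
      · refine ⟨⟨Multiplicative.ofAdd (fun _ => a), g⟩, ?_⟩
        rcases orderOf_semidirect hr hexp' (⟨Multiplicative.ofAdd (fun _ => a), g⟩ : H) with ⟨h0, -⟩ | ⟨-, h⟩
        · exact absurd ((Finset.sum_apply (0 : Fin (N + 1)) _ _).symm.trans (congrFun h0 0)) ha
        · exact h

end CfsgLib.Recog

namespace CfsgLib.Recog

/-- The order of `(a, g)` is the order of `g` times the additive order of the norm of `a`. -/
theorem orderOf_semidirect_norm {C A : Type*} [Group C] [Finite C] [AddCommGroup A] [DistribMulAction C A]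
    (x : Multiplicative A ⋊[mulAutOfAction C A] C) :
    orderOf x = orderOf x.right *
      addOrderOf (∑ i ∈ Finset.range (orderOf x.right), x.right ^ i • x.left.toAdd) := by
  set d := orderOf x.right with hd
  have hdvd : ∀ n, x ^ n = 1 → d ∣ n := fun n hn =>
    orderOf_dvd_of_pow_eq_one (by rw [← (semidirect_pow x n).1, hn]; rfl)
  have hr1 : (x ^ d).right = 1 := by rw [(semidirect_pow x d).1]; exact pow_orderOf_eq_one _
  have hx : x ^ d = SemidirectProduct.inl (x ^ d).left := SemidirectProduct.ext (by simp) (by simp [hr1])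
  have hord : orderOf (x ^ d) = addOrderOf (∑ i ∈ Finset.range d, x.right ^ i • x.left.toAdd) := by
    rw [hx, orderOf_injective _ SemidirectProduct.inl_injective, ← (semidirect_pow x d).2]
    exact orderOf_ofAdd_eq_addOrderOf (Multiplicative.toAdd (x ^ d).left)
  rw [← hord]
  apply Nat.dvd_antisymm
  · refine orderOf_dvd_of_pow_eq_one ?_
    rw [pow_mul, pow_orderOf_eq_one]
  · obtain ⟨e, he⟩ := hdvd _ (pow_orderOf_eq_one x)
    rw [he]
    refine Nat.mul_dvd_mul_left d (orderOf_dvd_of_pow_eq_one ?_)
    rw [← pow_mul, ← he, pow_orderOf_eq_one]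

end CfsgLib.Recog
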