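import Cfsg.Agent.Lib.Recog.OrderM11Block
import Cfsg.Agent.Lib.BlockB.DefectZero
import Cfsg.Agent.Lib.Block.DegreeAux

/-!
# Simple groups of order 7920: the prime 5

An element of order 5 is self-centralizing, with normalizer of order 20.
-/

set_option autoImplicit false
set_option linter.unusedSectionVars false

namespace CfsgLib.Recog.OrderM11

set_option synthInstance.maxSize 512 in
theorem five_divisor : ∀ n < 397, n ∣ 396 → n % 5 = 1 → 1 < n →
    n = 6 ∨ n = 11 ∨ n = 36 ∨ n = 66 ∨ n = 396 := by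
  decide +kernel

open Cfsg CfsgLib.Char
open scoped ComplexConjugate _root_.Classical

universe u

variable {G : Type u} [Group G] [Finite G] [IsSimpleGroup G] (hcard : Nat.card G = 7920)
include hcard

/-- The trivial character. -/
theorem one_deg : charDegree (fun _ : G => (1 : ℂ)) = 1 := by simp [charDegree]

theorem BlockEleven.degree_list [Fintype (IrrCharacter G)] {x : G} {t : Fin 3 → IrrCharacter G}
    {u ψ ψ' : IrrCharacter G} (B : BlockEleven x t u ψ ψ') (χ : IrrCharacter G) :
    ((χ : G → ℂ) = (fun _ => 1) ∧ charDegree (χ : G → ℂ) = 1) ∨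
      charDegree (χ : G → ℂ) ∈ [10, 45, 16, 11, 22, 33, 44, 55, 66, 88] := by
  rcases B.rest χ with h | ⟨i, h⟩ | h | h | h | ⟨h, -⟩
  · exact Or.inl ⟨h, by rw [h]; exact one_deg hcard⟩
  · exact Or.inr (by simp [h, B.deg_t])
  · exact Or.inr (by simp [h, B.deg_u])
  · exact Or.inr (by simp [h, B.deg_ψ])
  · exact Or.inr (by simp [h, B.deg_ψ'])
  · obtain ⟨hd, hl, -⟩ := degree_facts hcard χ
    have hmem := degree_mem hcard hd hl
    simp only [List.mem_cons, List.not_mem_nil, or_false] at hmem ⊢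
    exact Or.inr (by omega)

theorem BlockEleven.sum_mul_x [Fintype (IrrCharacter G)] {x : G} {t : Fin 3 → IrrCharacter G}
    {u ψ ψ' : IrrCharacter G} (B : BlockEleven x t u ψ ψ') (f : IrrCharacter G → ℂ) :
    ∑ χ : IrrCharacter G, f χ * conj ((χ : G → ℂ) x) =
      f ⟨fun _ => 1, isIrrCharacter_one⟩ - (f (t 0) + f (t 1) + f (t 2)) + f u +
        f ψ * conj ((ψ : G → ℂ) x) + f ψ' * conj ((ψ' : G → ℂ) x) := by
  set one : IrrCharacter G := ⟨fun _ => 1, isIrrCharacter_one⟩
  have hd1 : charDegree (one : G → ℂ) = 1 := one_deg hcard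
  set W := (Finset.univ : Finset (Fin 3)).image t
  set V := insert one (insert u (insert ψ (insert ψ' W)))
  have hW : ∀ χ ∈ W, charDegree (χ : G → ℂ) = 10 := fun χ hχ => by
    obtain ⟨i, -, rfl⟩ := Finset.mem_image.1 hχ
    exact B.deg_t i
  have h3 : ψ' ∉ W := fun h => by simpa [B.deg_ψ'] using hW _ h
  have h2 : ψ ∉ insert ψ' W := by
    rw [Finset.mem_insert, not_or]
    exact ⟨B.ne, fun h => by simpa [B.deg_ψ] using hW _ h⟩
  have h1 : u ∉ insert ψ (insert ψ' W) := by
    simp only [Finset.mem_insert, not_or]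
    refine ⟨fun h => ?_, fun h => ?_, fun h => by simpa [B.deg_u] using hW _ h⟩
    · simpa [B.deg_u, B.deg_ψ] using congrArg (fun χ : IrrCharacter G => charDegree (χ : G → ℂ)) h
    · simpa [B.deg_u, B.deg_ψ'] using congrArg (fun χ : IrrCharacter G => charDegree (χ : G → ℂ)) h
  have h0 : one ∉ insert u (insert ψ (insert ψ' W)) := by
    simp only [Finset.mem_insert, not_or]
    refine ⟨fun h => ?_, fun h => ?_, fun h => ?_, fun h => by simpa [hd1] using hW _ h⟩
    · rw [h, B.deg_u] at hd1; norm_num at hd1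
    · rw [h, B.deg_ψ] at hd1; norm_num at hd1
    · rw [h, B.deg_ψ'] at hd1; norm_num at hd1
  rw [← Finset.sum_subset (Finset.subset_univ V) fun χ _ hχ => by
    rcases B.rest χ with h | ⟨i, h⟩ | h | h | h | ⟨-, h⟩
    · exact absurd (Finset.mem_insert.2 (Or.inl (Subtype.ext h))) hχ
    · exact absurd (by simp [V, W, h]) hχ
    · exact absurd (by simp [V, h]) hχ
    · exact absurd (by simp [V, h]) hχ
    · exact absurd (by simp [V, h]) hχ
    · rw [h, map_zero, mul_zero]]
  rw [Finset.sum_insert h0, Finset.sum_insert h1, Finset.sum_insert h2, Finset.sum_insert h3,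
    Finset.sum_image fun i _ j _ h => B.inj h, Fin.sum_univ_three, B.val_u, B.val_t 0, B.val_t 1,
    B.val_t 2]
  simp only [one, map_one, map_neg]
  ring

theorem BlockEleven.psi_sum [Fintype (IrrCharacter G)] {x : G} {t : Fin 3 → IrrCharacter G}
    {u ψ ψ' : IrrCharacter G} (B : BlockEleven x t u ψ ψ') :
    (ψ : G → ℂ) x + (ψ' : G → ℂ) x = -1 := by
  have := Fintype.ofFinite G
  have hx1 : (1 : G) ≠ x := fun h => by simpa [← h] using B.order
  have h := column_orthogonality (1 : G) x
  rw [if_neg fun h => hx1 (isConj_one_right.1 h).symm, B.sum_mul_x hcard] at h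
  simp only [← CfsgLib.BlockB.irr_degree_cast, B.deg_t, B.deg_u, B.deg_ψ, B.deg_ψ'] at h
  push_cast at h
  have h' : conj ((ψ : G → ℂ) x + (ψ' : G → ℂ) x) = -1 := by
    rw [map_add]; linear_combination h / 16
  have := congrArg conj h'
  simpa using this

/-- The products of two conjugates of a regular element in the class of `x`. -/
theorem BlockEleven.products [Fintype G] [Fintype (IrrCharacter G)] {x : G}
    {t : Fin 3 → IrrCharacter G} {u ψ ψ' : IrrCharacter G} (B : BlockEleven x t u ψ ψ') {g : G}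
    (hg : ¬ 11 ∣ orderOf g) :
    ((Finset.univ.filter fun s : G => IsConj (g * (s * g * s⁻¹)) x).card : ℂ) =
      720 - 72 * ((t 0 : G → ℂ) g ^ 2 + (t 1 : G → ℂ) g ^ 2 + (t 2 : G → ℂ) g ^ 2) +
        16 * (u : G → ℂ) g ^ 2 - 45 * (ψ : G → ℂ) g ^ 2 := by
  have hc : Nat.card (ConjClasses.mk x).carrier = 720 := by
    have h := natCard_carrier_mul_centralizer x
    rw [centralizer_eleven hcard B.order, Nat.card_zpowers, B.order, hcard] at h
    omega
  have hs : conj ((ψ : G → ℂ) x) + conj ((ψ' : G → ℂ) x) = -1 := by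
    rw [← map_add, B.psi_sum hcard]; simp
  rw [card_products, hc]
  have e : ∀ χ : IrrCharacter G,
      (χ : G → ℂ) g * (χ : G → ℂ) g * conj ((χ : G → ℂ) x) / (χ : G → ℂ) 1 =
        ((χ : G → ℂ) g * (χ : G → ℂ) g / (χ : G → ℂ) 1) * conj ((χ : G → ℂ) x) := fun χ => by ring
  rw [Finset.sum_congr rfl fun χ _ => e χ, B.sum_mul_x hcard, (B.regular g hg).2]
  simp only [← CfsgLib.BlockB.irr_degree_cast, B.deg_t, B.deg_u, B.deg_ψ, B.deg_ψ']
  push_cast
  linear_combination (45 * (ψ : G → ℂ) g ^ 2) * hs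

/-- Products of two involutions are never of order 11. -/
theorem products_involution [Fintype G] {x z : G} (hx : orderOf x = 11) (hz : orderOf z = 2) :
    (Finset.univ.filter fun s : G => IsConj (z * (s * z * s⁻¹)) x).card = 0 := by
  rw [Finset.card_eq_zero, Finset.filter_eq_empty_iff]
  intro s _ hs
  have : Fact (Nat.Prime 11) := ⟨by norm_num⟩
  set w := z * (s * z * s⁻¹) with hw
  have hwo : orderOf w = 11 := by
    obtain ⟨c, hc⟩ := isConj_iff.1 hs
    rw [← hx, ← hc]
    exact ((MulAut.conj c).orderOf_eq w).symm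
  have hzz : z * z = 1 := by rw [← pow_two, ← hz]; exact pow_orderOf_eq_one _
  have hinv : z * w * z⁻¹ = w⁻¹ := by
    rw [inv_eq_of_mul_eq_one_right hzz, hw, mul_inv_rev, mul_inv_rev, mul_inv_rev, inv_inv,
      inv_eq_of_mul_eq_one_right hzz]
    calc z * (z * (s * z * s⁻¹)) * z = (z * z) * (s * z * s⁻¹) * z := by group
      _ = s * (z * s⁻¹) * z := by rw [hzz]; group
  have hzN : z ∈ Subgroup.normalizer ((Subgroup.zpowers w : Subgroup G) : Set G) := by
    refine Subgroup.mem_normalizer_iff.2 fun h => ⟨fun hh => ?_, fun hh => ?_⟩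
    · obtain ⟨k, rfl⟩ := Subgroup.mem_zpowers_iff.1 hh
      rw [← conj_zpow, hinv]
      exact Subgroup.zpow_mem _ (Subgroup.inv_mem _ (Subgroup.mem_zpowers w)) k
    · obtain ⟨k, hk⟩ := Subgroup.mem_zpowers_iff.1 hh
      have : h = (z * w * z⁻¹) ^ k := by
        rw [conj_zpow, hk, inv_eq_of_mul_eq_one_right hzz]
        calc h = (z * z) * h * (z * z) := by rw [hzz]; group
          _ = _ := by group
      rw [this, hinv]
      exact Subgroup.zpow_mem _ (Subgroup.inv_mem _ (Subgroup.mem_zpowers w)) k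
  obtain ⟨P, hP⟩ := CfsgLib.Block.SelfCentralPrime.exists_sylow_eq hwo
    (centralizer_eleven hcard hwo)
  have hN := CfsgLib.Block.SelfCentralPrime.natCard_normalizer hwo (centralizer_eleven hcard hwo)
  obtain ⟨hPc, hCc, hrel⟩ := eleven hcard P
  have hCP : Subgroup.centralizer ((P : Subgroup G) : Set G) = (P : Subgroup G) := by
    rw [hP, Subgroup.zpowers_eq_closure, Subgroup.centralizer_closure,
      centralizer_eleven hcard hwo, ← Subgroup.zpowers_eq_closure]
  rw [hCP, hP] at hrel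
  rw [hrel] at hN
  have hd := Subgroup.orderOf_dvd_natCard _ hzN
  rw [hN, hz] at hd
  norm_num at hd

/-- Centralizer of the Sylow 5-subgroup and automizer. -/
theorem five (P : Sylow 5 G) :
    Nat.card (P : Subgroup G) = 5 ∧
      Nat.card (Subgroup.centralizer ((P : Subgroup G) : Set G)) = 5 ∧
      (Subgroup.centralizer ((P : Subgroup G) : Set G)).relIndex
        (Subgroup.normalizer ((P : Subgroup G) : Set G)) = 4 := by
  have : Fact (Nat.Prime 5) := ⟨by norm_num⟩
  have := Fintype.ofFinite G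
  have := Fintype.ofFinite (IrrCharacter G)
  obtain ⟨x, t, u, ψ, ψ', B⟩ := exists_blockEleven hcard
  obtain ⟨hP, n, e, C, hC, hrel, h5, he, he1, hmul, hn, hn1, hfac, hclause⟩ :=
    sylow_data hcard (p := 5) (by norm_num) (by norm_num) P
  refine ⟨hP, ?_⟩
  rw [← hC, hrel]
  have he' : e = 2 ∨ e = 4 := by
    have h10 := Nat.le_of_dvd (by norm_num) he
    interval_cases e <;> first | (norm_num at he; done) | norm_num
  rcases he' with rfl | rfl
  · exfalso
    obtain ⟨M, hM⟩ := CfsgLib.BlockB.exists_isPModular (p := 5) (by norm_num)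
    obtain ⟨a, -, hrows, -⟩ := exists_rowsAt hM P hP hrel le_rfl (by norm_num)
    obtain ⟨S, hS⟩ := hrows 1
    have hdeg := hS.degree
    rw [← Finset.add_sum_erase _ _ hS.one_mem, hS.one_eq] at hdeg
    have hc2 : (S.erase ⟨fun _ => 1, isIrrCharacter_one⟩).card = 2 := by
      rw [Finset.card_erase_of_mem hS.one_mem, hS.card]
    obtain ⟨v, w, hvw, hset⟩ := Finset.card_eq_two.1 hc2
    rw [hset, Finset.sum_pair hvw, one_deg hcard] at hdeg
    have hfact : ∀ r ∈ ({v, w} : Finset (IrrCharacter G)),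
        (a r 1 = 1 ∨ a r 1 = -1) ∧
        (a r 1 * (charDegree (r : G → ℂ) : ℤ) % 5 = 4 ∨
          a r 1 * (charDegree (r : G → ℂ) : ℤ) % 5 = 2) ∧
        charDegree (r : G → ℂ) ∈ [10, 45, 16, 11, 22, 33, 44, 55, 66, 88] := by
      intro r hr
      rw [← hset] at hr
      have hm := Finset.mem_of_mem_erase hr
      refine ⟨hS.sign r hm, ?_, ?_⟩
      · rcases hS.shape r hm with ⟨-, h, -⟩ | ⟨-, -, h⟩ <;> rw [Int.ModEq] at h <;> omega
      · rcases B.degree_list hcard r with ⟨h, -⟩ | h
        · exact absurd (Subtype.ext h) (Finset.mem_erase.1 hr).1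
        · exact h
    obtain ⟨hv1, hv5, hv⟩ := hfact v (by simp)
    obtain ⟨hw1, hw5, hw⟩ := hfact w (by simp)
    simp only [List.mem_cons, List.not_mem_nil, or_false] at hv hw
    rcases hv1 with h1 | h1 <;> rcases hw1 with h2 | h2 <;> rw [h1] at hv5 hdeg <;>
      rw [h2] at hw5 hdeg <;> omega
  · obtain ⟨c, rfl⟩ := h5
    have hmul' : n * c = 396 := by nlinarith
    have hn5 : n = 6 ∨ n = 11 ∨ n = 36 ∨ n = 66 ∨ n = 396 := by
      exact five_divisor n (Nat.lt_succ_of_le (Nat.le_of_dvd (by norm_num) ⟨c, hmul'.symm⟩))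
        ⟨c, hmul'.symm⟩ hn hn1
    obtain ⟨y₀, hy₀⟩ := exists_prime_orderOf_dvd_card' (G := (P : Subgroup G)) 5 hP.symm.dvd
    rw [← Subgroup.orderOf_coe] at hy₀
    have hy1 : (y₀ : G) ≠ 1 := fun h => by simp [h] at hy₀
    have hgen : Subgroup.zpowers (y₀ : G) ≤ (P : Subgroup G) := Subgroup.zpowers_le.2 y₀.2
    have heven : ¬ 2 ∣ c := by
      intro h2
      obtain ⟨⟨z, hzC⟩, hz⟩ := exists_prime_orderOf_dvd_card'
        (G := Subgroup.centralizer ((P : Subgroup G) : Set G)) 2
        (hC ▸ dvd_mul_of_dvd_right h2 5)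
      rw [Subgroup.orderOf_mk] at hz
      have hyz : Commute (y₀ : G) z := Subgroup.mem_centralizer_iff.1 hzC y₀ y₀.2
      have hzz : z * z = 1 := by rw [← pow_two, ← hz]; exact pow_orderOf_eq_one _
      have h11 : ¬ 11 ∣ orderOf z := by rw [hz]; norm_num
      have hp5 : (5 : ℕ) ^ (Nat.card G).factorization 5 = 5 := by
        rw [← P.card_eq_multiplicity, hP]
      have key : ∀ χ : IrrCharacter G, 5 ∣ charDegree (χ : G → ℂ) →
          ∃ m : ℤ, (χ : G → ℂ) z = m ∧ -(charDegree (χ : G → ℂ) : ℤ) ≤ m ∧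
            m ≤ (charDegree (χ : G → ℂ) : ℤ) ∧
            ((χ : G → ℂ) ≠ (fun _ => 1) → m ≠ (charDegree (χ : G → ℂ) : ℤ)) ∧
            (10 : ℤ) ∣ (charDegree (χ : G → ℂ) : ℤ) + m := by
        intro χ hd
        obtain ⟨m, hm⟩ := CfsgLib.Transfer.exists_int_char_involution (irr_isCharacter χ.2) hzz
        have hb := CfsgLib.Block.norm_char_le_degree (irr_isCharacter χ.2) z
        rw [hm, Complex.norm_intCast] at hb
        have hb' : |m| ≤ (charDegree (χ : G → ℂ) : ℤ) := by exact_mod_cast hb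
        obtain ⟨k, hk⟩ := exists_pair_eq (p := 5) hy₀ hz hyz (irr_isCharacter χ.2) (α := 0) (β := 0)
          (fun v hv hv1 => CfsgLib.BlockB.irr_apply_eq_zero_of_defect_zero χ
            (by rw [hp5]; exact hd) (by
              have h := Subgroup.orderOf_dvd_natCard _ hv
              rw [Nat.card_zpowers, hy₀, Nat.dvd_prime (by norm_num)] at h
              rcases h with h | h
              · exact absurd (orderOf_eq_one_iff.1 h) hv1
              · rw [h]))
          (fun v hv hv1 => CfsgLib.BlockB.irr_apply_eq_zero_of_defect_zero χ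
            (by rw [hp5]; exact hd) (by
              have h := Subgroup.orderOf_dvd_natCard _ hv
              rw [Nat.card_zpowers, hy₀, Nat.dvd_prime (by norm_num)] at h
              have h5' : orderOf v = 5 := h.resolve_left fun h => hv1 (orderOf_eq_one_iff.1 h)
              obtain ⟨j, rfl⟩ := Subgroup.mem_zpowers_iff.1 hv
              rw [(hyz.zpow_left j).orderOf_mul_eq_mul_orderOf_of_coprime
                (by rw [h5', hz]; norm_num), h5']
              exact dvd_mul_right 5 _))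
        refine ⟨m, hm, (abs_le.1 hb').1, (abs_le.1 hb').2, fun hne he => ?_, ⟨k, ?_⟩⟩
        · refine CfsgLib.Transfer.irr_apply_ne_apply_one χ hne
            (fun h : z = 1 => by simp [h] at hz) ?_
          rw [hm, he, Int.cast_natCast, CfsgLib.BlockB.irr_degree_cast]
        · rw [hm, ← CfsgLib.BlockB.irr_degree_cast] at hk
          push_cast at hk
          have : ((charDegree (χ : G → ℂ) : ℤ) : ℂ) + (m : ℂ) = ((10 * (k : ℤ) : ℤ) : ℂ) := by
            push_cast; linear_combination hk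
          exact_mod_cast this
      have hne : ∀ χ : IrrCharacter G, charDegree (χ : G → ℂ) ≠ 1 → (χ : G → ℂ) ≠ fun _ => 1 :=
        fun χ h h' => h (by rw [h']; exact one_deg hcard)
      obtain ⟨a0, ha0, la0, ua0, fa0, da0⟩ := key (t 0) (by rw [B.deg_t]; norm_num)
      obtain ⟨a1, ha1, la1, ua1, fa1, da1⟩ := key (t 1) (by rw [B.deg_t]; norm_num)
      obtain ⟨a2, ha2, la2, ua2, fa2, da2⟩ := key (t 2) (by rw [B.deg_t]; norm_num)
      obtain ⟨b, hb, lb, ub, fb, db⟩ := key u (by rw [B.deg_u]; norm_num)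
      have fa0 := fa0 (hne _ (by rw [B.deg_t]; norm_num))
      have fa1 := fa1 (hne _ (by rw [B.deg_t]; norm_num))
      have fa2 := fa2 (hne _ (by rw [B.deg_t]; norm_num))
      have fb := fb (hne _ (by rw [B.deg_u]; norm_num))
      rw [B.deg_t] at la0 ua0 fa0 da0 la1 ua1 fa1 da1 la2 ua2 fa2 da2
      rw [B.deg_u] at lb ub fb db
      have hreg := (B.regular z h11).1
      have hprod := B.products hcard h11
      rw [products_involution hcard B.order hz] at hprod
      rw [ha0, ha1, ha2, hb] at hreg hprod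
      have hψ : (ψ : G → ℂ) z = ((1 + b - a0 - a1 - a2 : ℤ) : ℂ) := by
        push_cast; linear_combination hreg
      rw [hψ] at hprod
      have hz0 : (720 : ℤ) - 72 * (a0 ^ 2 + a1 ^ 2 + a2 ^ 2) + 16 * b ^ 2 -
          45 * (1 + b - a0 - a1 - a2) ^ 2 = 0 := by
        have h : (((720 : ℤ) - 72 * (a0 ^ 2 + a1 ^ 2 + a2 ^ 2) + 16 * b ^ 2 -
            45 * (1 + b - a0 - a1 - a2) ^ 2 : ℤ) : ℂ) = 0 := by
          push_cast at hprod ⊢; exact hprod.symm
        exact_mod_cast h
      have ea : ∀ a : ℤ, -((10 : ℕ) : ℤ) ≤ a → a ≤ ((10 : ℕ) : ℤ) → a ≠ ((10 : ℕ) : ℤ) →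
          (10 : ℤ) ∣ ((10 : ℕ) : ℤ) + a → a = 0 ∨ a = -10 := fun a h1 h2 h3 h4 => by omega
      have eb : b = -45 ∨ b = -35 ∨ b = -25 ∨ b = -15 ∨ b = -5 ∨ b = 5 ∨ b = 15 ∨ b = 25 ∨
          b = 35 := by omega
      rcases ea a0 la0 ua0 fa0 da0 with rfl | rfl <;>
        rcases ea a1 la1 ua1 fa1 da1 with rfl | rfl <;>
          rcases ea a2 la2 ua2 fa2 da2 with rfl | rfl <;>
            rcases eb with rfl | rfl | rfl | rfl | rfl | rfl | rfl | rfl | rfl <;>
              norm_num at hz0
    rcases hn5 with rfl | rfl | rfl | rfl | rfl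
    · exfalso
      have h := Nat.le_of_dvd (by norm_num) ((hclause rfl).resolve_right (by norm_num))
      nlinarith
    · exact absurd ⟨18, by omega⟩ heven
    · exfalso
      refine not_eleven_dvd_centralizer hcard hy1 (by rw [hy₀]; norm_num) ?_
      refine dvd_trans ?_ (Subgroup.card_dvd_of_le
        (Subgroup.centralizer_le (Set.singleton_subset_iff.2 y₀.2)))
      rw [← hC]
      exact ⟨5, by omega⟩
    · exact absurd ⟨3, by omega⟩ heven
    · exact ⟨by omega, rfl⟩

theorem centralizer_five {y : G} (hy : orderOf y = 5) :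
    Subgroup.centralizer ({y} : Set G) = Subgroup.zpowers y := by
  have : Fact (Nat.Prime 5) := ⟨by norm_num⟩
  have hy1 : y ≠ 1 := fun h => by simp [h] at hy
  let P : Sylow 5 G := Sylow.ofCard (Subgroup.zpowers y) (by
    rw [Nat.card_zpowers, hy, hcard]
    have h1 : (7920 : ℕ).factorization 5 = 1 := by
      rw [Nat.factorization_def _ (by norm_num : Nat.Prime 5)]
      have e : (7920 : ℕ) = 5 ^ 1 * 1584 := by norm_num
      rw [e, padicValNat.mul (by norm_num) (by norm_num), padicValNat.prime_pow,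
        padicValNat.eq_zero_of_not_dvd (by norm_num)]
    rw [h1, pow_one])
  obtain ⟨hP, hC, -⟩ := five hcard P
  exact CfsgLib.Transfer.centralizer_singleton_eq (P : Subgroup G) hP hC y
    (Subgroup.mem_zpowers y) hy1

end CfsgLib.Recog.OrderM11
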