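import Cfsg.Agent.Lib.Recog.OrderM11Degrees
import Cfsg.Agent.Lib.Char.Integral

/-!
# Simple groups of order 7920: centralizers of involutions and of 3-elements
-/

set_option autoImplicit false
set_option linter.unusedSectionVars false

namespace CfsgLib.Recog.OrderM11

open Cfsg CfsgLib.Char
open scoped ComplexConjugate _root_.Classical

/-- The arithmetic of the character values at an involution. -/
theorem involution_arith {a b c e f g h i : ℤ} {C : ℕ} (pa : 2 ∣ a) (pb : 2 ∣ b) (pc : 2 ∣ c)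
    (pe : 2 ∣ e + 1) (pf : 2 ∣ f) (pg : 2 ∣ g + 1) (hsum : a + b + c - e + f = 1)
    (hh : h = 1 + 2 * f + g) (hi : i = -e - h)
    (heq : 720 - 72 * (a ^ 2 + b ^ 2 + c ^ 2) + 16 * e ^ 2 - 45 * f ^ 2 = 0)
    (hC : (C : ℤ) = 1 + (a ^ 2 + b ^ 2 + c ^ 2) + e ^ 2 + 2 * f ^ 2 + g ^ 2 + h ^ 2 + i ^ 2)
    (hdvd : C ∣ 144) : C = 48 := by
  obtain ⟨a, rfl⟩ := pa
  obtain ⟨b, rfl⟩ := pb
  obtain ⟨c, rfl⟩ := pc
  obtain ⟨f, rfl⟩ := pf
  obtain ⟨e', he'⟩ := pe
  obtain ⟨g', hg'⟩ := pg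
  obtain rfl : e = 2 * e' - 1 := by omega
  obtain rfl : g = 2 * g' - 1 := by omega
  subst hh hi
  have hle : C ≤ 144 := Nat.le_of_dvd (by norm_num) hdvd
  have hle' : (C : ℤ) ≤ 144 := by exact_mod_cast hle
  have q1 := sq_nonneg (2 * a)
  have q2 := sq_nonneg (2 * b)
  have q3 := sq_nonneg (2 * c)
  have q4 := sq_nonneg (2 * e' - 1)
  have q5 := sq_nonneg (2 * f)
  have q6 := sq_nonneg (2 * g' - 1)
  have q7 := sq_nonneg (1 + 2 * (2 * f) + (2 * g' - 1))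
  have q8 := sq_nonneg (-(2 * e' - 1) - (1 + 2 * (2 * f) + (2 * g' - 1)))
  have be := abs_le_of_sq_le_sq' (show (2 * e' - 1) ^ 2 ≤ 12 ^ 2 by linarith) (by norm_num)
  have bf := abs_le_of_sq_le_sq' (show (2 * f) ^ 2 ≤ 9 ^ 2 by linarith) (by norm_num)
  have bg := abs_le_of_sq_le_sq' (show (2 * g' - 1) ^ 2 ≤ 12 ^ 2 by linarith) (by norm_num)
  have he1 : -5 ≤ e' ∧ e' ≤ 6 := by omega
  have hf1 : -4 ≤ f ∧ f ≤ 4 := by omega
  have hg1 : -5 ≤ g' ∧ g' ≤ 6 := by omega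
  have hcs : (a + b + c) ^ 2 ≤ 3 * (a ^ 2 + b ^ 2 + c ^ 2) := by
    nlinarith [sq_nonneg (a - b), sq_nonneg (b - c), sq_nonneg (a - c)]
  have hpar : (2 : ℤ) ∣ a ^ 2 + b ^ 2 + c ^ 2 - (a + b + c) := by
    have e : a ^ 2 + b ^ 2 + c ^ 2 - (a + b + c) = a * (a - 1) + b * (b - 1) + c * (c - 1) := by ring
    rw [e]
    exact dvd_add (dvd_add (Int.even_mul_pred_self a).two_dvd (Int.even_mul_pred_self b).two_dvd)
      (Int.even_mul_pred_self c).two_dvd
  have hX : (2 * a) ^ 2 + (2 * b) ^ 2 + (2 * c) ^ 2 = 4 * (a ^ 2 + b ^ 2 + c ^ 2) := by ring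
  rw [hX] at heq hC
  have hT : 2 * (a + b + c) - (2 * e' - 1) + 2 * f = 1 := by linarith
  obtain ⟨T, hT'⟩ : ∃ T, T = a + b + c := ⟨_, rfl⟩
  obtain ⟨X, hX'⟩ : ∃ X, X = a ^ 2 + b ^ 2 + c ^ 2 := ⟨_, rfl⟩
  rw [← hX'] at heq hC hcs hpar
  rw [← hT'] at hT hcs hpar
  obtain rfl : T = e' - f := by omega
  have key : e' = -1 ∧ f = 0 ∧ X = 3 := by
    obtain ⟨e1, e2⟩ := he1
    obtain ⟨f1, f2⟩ := hf1
    interval_cases e' <;> interval_cases f <;> norm_num at heq hcs <;> omega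
  obtain ⟨rfl, rfl, rfl⟩ := key
  obtain ⟨g1, g2⟩ := hg1
  interval_cases g' <;> norm_num at hC <;>
    first
      | omega
      | (exfalso; norm_num [show C = _ from by exact_mod_cast hC] at hdvd)

/-- The arithmetic of the character values at a real 3-element. -/
theorem three_arith {a b c f g h : ℤ} {C : ℕ} (pa : 3 ∣ a - 1) (pb : 3 ∣ b - 1) (pc : 3 ∣ c - 1)
    (pf : 3 ∣ f - 1) (pg : 3 ∣ g + 1) (hsum : a + b + c + f = 1)
    (hh : h = 1 + 2 * f + g)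
    (hge : 0 ≤ 720 - 72 * (a ^ 2 + b ^ 2 + c ^ 2) - 45 * f ^ 2)
    (hC : (C : ℤ) = 1 + (a ^ 2 + b ^ 2 + c ^ 2) + 2 * f ^ 2 + g ^ 2 + 2 * h ^ 2)
    (hdvd : C ∣ 144) (h9 : 9 ∣ C) : C = 18 := by
  obtain ⟨a', ha⟩ := pa
  obtain ⟨b', hb⟩ := pb
  obtain ⟨c', hc⟩ := pc
  obtain ⟨f', hf⟩ := pf
  obtain ⟨g', hg⟩ := pg
  obtain rfl : a = 3 * a' + 1 := by omega
  obtain rfl : b = 3 * b' + 1 := by omega
  obtain rfl : c = 3 * c' + 1 := by omega
  obtain rfl : f = 3 * f' + 1 := by omega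
  obtain rfl : g = 3 * g' - 1 := by omega
  subst hh
  have hle : C ≤ 144 := Nat.le_of_dvd (by norm_num) hdvd
  have hle' : (C : ℤ) ≤ 144 := by exact_mod_cast hle
  have q1 := sq_nonneg (3 * a' + 1)
  have q2 := sq_nonneg (3 * b' + 1)
  have q3 := sq_nonneg (3 * c' + 1)
  have q4 := sq_nonneg (3 * f' + 1)
  have q5 := sq_nonneg (1 + 2 * (3 * f' + 1) + (3 * g' - 1))
  have q6 := sq_nonneg (3 * g' - 1)
  have ba := abs_lt_of_sq_lt_sq' (show (3 * a' + 1) ^ 2 < 4 ^ 2 by linarith) (by norm_num)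
  have bb := abs_lt_of_sq_lt_sq' (show (3 * b' + 1) ^ 2 < 4 ^ 2 by linarith) (by norm_num)
  have bc := abs_lt_of_sq_lt_sq' (show (3 * c' + 1) ^ 2 < 4 ^ 2 by linarith) (by norm_num)
  have bf := abs_le_of_sq_le_sq' (show (3 * f' + 1) ^ 2 ≤ 4 ^ 2 by linarith) (by norm_num)
  have bg := abs_le_of_sq_le_sq' (show (3 * g' - 1) ^ 2 ≤ 12 ^ 2 by linarith) (by norm_num)
  have ha1 : -1 ≤ a' ∧ a' ≤ 0 := by omega
  have hb1 : -1 ≤ b' ∧ b' ≤ 0 := by omega
  have hc1 : -1 ≤ c' ∧ c' ≤ 0 := by omega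
  have hf1 : -1 ≤ f' ∧ f' ≤ 1 := by omega
  have hg1 : -3 ≤ g' ∧ g' ≤ 4 := by omega
  obtain ⟨a1, a2⟩ := ha1
  obtain ⟨b1, b2⟩ := hb1
  obtain ⟨c1, c2⟩ := hc1
  obtain ⟨f1, f2⟩ := hf1
  obtain ⟨g1, g2⟩ := hg1
  interval_cases a' <;> interval_cases b' <;> interval_cases c' <;> interval_cases f' <;>
    (try norm_num at hsum) <;> (try norm_num at hge) <;>
    interval_cases g' <;> norm_num at hC <;>
    first
      | omega
      | (exfalso; norm_num [show C = _ from by exact_mod_cast hC] at hdvd)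
      | (exfalso; norm_num [show C = _ from by exact_mod_cast hC] at h9)

universe u

variable {G : Type u} [Group G] [Finite G] [IsSimpleGroup G] (hcard : Nat.card G = 7920)
include hcard

/-- The relations between integer character values at a regular element. -/
theorem Table.int_relations [Fintype G] [Fintype (IrrCharacter G)] {x : G}
    {c : Fin 10 → IrrCharacter G} (T : Table x c) {g : G} (hg1 : g ≠ 1) (h5 : ¬ 5 ∣ orderOf g)
    (h11 : ¬ 11 ∣ orderOf g) {v : Fin 10 → ℤ} (hv : ∀ i, (c i : G → ℂ) g = v i) :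
    v 1 + v 2 + v 3 - v 4 + v 5 = 1 ∧ v 8 = 1 + 2 * v 5 + v 7 ∧ v 9 = -v 4 - v 8 ∧
      (Nat.card (Subgroup.centralizer ({g} : Set G)) : ℤ) =
        1 + (v 1 ^ 2 + v 2 ^ 2 + v 3 ^ 2) + v 4 ^ 2 + 2 * v 5 ^ 2 + v 7 ^ 2 + v 8 ^ 2 + v 9 ^ 2 ∧
      ((Finset.univ.filter fun s : G => IsConj (g * (s * g * s⁻¹)) x).card : ℤ) =
        720 - 72 * (v 1 ^ 2 + v 2 ^ 2 + v 3 ^ 2) + 16 * v 4 ^ 2 - 45 * v 5 ^ 2 := by
  have hB := T.block
  obtain ⟨r1, r2⟩ := hB.regular g h11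
  have r1' : (c 1 : G → ℂ) g + (c 2 : G → ℂ) g + (c 3 : G → ℂ) g - (c 4 : G → ℂ) g +
      (c 5 : G → ℂ) g = 1 := r1
  rw [hv 1, hv 2, hv 3, hv 4, hv 5] at r1'
  have e1 : v 1 + v 2 + v 3 - v 4 + v 5 = 1 := by exact_mod_cast r1'
  rw [hv 6, hv 5] at r2
  have e2 : v 6 = v 5 := by exact_mod_cast r2
  have r3 := T.rel5 g h5
  rw [hv 8, hv 5, hv 6, hv 7] at r3
  have e3 : v 8 = 1 + v 5 + v 6 + v 7 := by exact_mod_cast r3
  have e0 : v 0 = 1 := by
    have h := hv 0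
    simp only [T.one] at h
    exact_mod_cast h.symm
  have o1 := column_orthogonality g 1
  rw [if_neg fun h => hg1 (isConj_one_left.1 h), T.sum_eq] at o1
  simp only [← CfsgLib.BlockB.irr_degree_cast, T.deg, hv, Complex.conj_natCast] at o1
  simp only [Matrix.cons_val, Nat.cast_ofNat, Nat.cast_one, mul_one] at o1
  have e4 : v 0 + v 1 * 10 + v 2 * 10 + v 3 * 10 + v 4 * 45 + v 5 * 16 + v 6 * 16 + v 7 * 11 +
      v 8 * 44 + v 9 * 55 = 0 := by
    have h : ((v 0 + v 1 * 10 + v 2 * 10 + v 3 * 10 + v 4 * 45 + v 5 * 16 + v 6 * 16 + v 7 * 11 +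
      v 8 * 44 + v 9 * 55 : ℤ) : ℂ) = 0 := by push_cast; linear_combination o1
    exact_mod_cast h
  have o2 := column_orthogonality g g
  rw [if_pos (IsConj.refl _), T.sum_eq] at o2
  simp only [hv, map_intCast] at o2
  have e5 : v 0 * v 0 + v 1 * v 1 + v 2 * v 2 + v 3 * v 3 + v 4 * v 4 + v 5 * v 5 + v 6 * v 6 +
      v 7 * v 7 + v 8 * v 8 + v 9 * v 9 = (Nat.card (Subgroup.centralizer ({g} : Set G)) : ℤ) := by
    exact_mod_cast o2
  refine ⟨e1, by omega, by omega, ?_, ?_⟩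
  · rw [← e5, e2, e0]; ring
  · have p := hB.products hcard h11
    have p' : ((Finset.univ.filter fun s : G => IsConj (g * (s * g * s⁻¹)) x).card : ℂ) =
        720 - 72 * ((c 1 : G → ℂ) g ^ 2 + (c 2 : G → ℂ) g ^ 2 + (c 3 : G → ℂ) g ^ 2) +
          16 * (c 4 : G → ℂ) g ^ 2 - 45 * (c 5 : G → ℂ) g ^ 2 := p
    rw [hv 1, hv 2, hv 3, hv 4, hv 5] at p'
    exact_mod_cast p'

theorem coprime_centralizer {g : G} (hg : g ≠ 1) (h5 : orderOf g ≠ 5) (h11 : orderOf g ≠ 11) :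
    Nat.card (Subgroup.centralizer ({g} : Set G)) ∣ 144 := by
  have hd : Nat.card (Subgroup.centralizer ({g} : Set G)) ∣ 144 * 55 :=
    (Subgroup.card_subgroup_dvd_card _).trans (dvd_of_eq (hcard.trans (by norm_num)))
  refine Nat.Coprime.dvd_of_dvd_mul_right ?_ hd
  rw [show (55 : ℕ) = 5 * 11 by norm_num, Nat.coprime_mul_iff_right]
  refine ⟨Nat.Coprime.symm ((Nat.Prime.coprime_iff_not_dvd (by norm_num)).2 fun h => ?_),
    Nat.Coprime.symm ((Nat.Prime.coprime_iff_not_dvd (by norm_num)).2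
      (not_eleven_dvd_centralizer hcard hg h11))⟩
  have : Fact (Nat.Prime 5) := ⟨by norm_num⟩
  obtain ⟨⟨y, hyg⟩, hy⟩ := exists_prime_orderOf_dvd_card' 5 h
  rw [Subgroup.orderOf_mk] at hy
  have hg' : g ∈ Subgroup.centralizer ({y} : Set G) :=
    Subgroup.mem_centralizer_singleton_iff.2 (Subgroup.mem_centralizer_singleton_iff.1 hyg).symm
  rw [centralizer_five hcard hy] at hg'
  have hd := Subgroup.orderOf_dvd_natCard _ hg'
  rw [Nat.card_zpowers, hy] at hd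
  rcases (Nat.dvd_prime (by norm_num : Nat.Prime 5)).1 hd with h1 | h1
  · exact hg (orderOf_eq_one_iff.1 h1)
  · exact h5 h1

/-- Involution centralizers have order 48. -/
theorem card_centralizer_involution {z : G} (hz : orderOf z = 2) :
    Nat.card (Subgroup.centralizer ({z} : Set G)) = 48 := by
  have := Fintype.ofFinite G
  have := Fintype.ofFinite (IrrCharacter G)
  obtain ⟨x, c, T⟩ := exists_table hcard
  have hz1 : z ≠ 1 := fun h => by simp [h] at hz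
  have hzz : z * z = 1 := by rw [← pow_two, ← hz]; exact pow_orderOf_eq_one _
  have hex : ∀ i, ∃ m : ℤ, (c i : G → ℂ) z = m ∧
      (2 : ℤ) ∣ (charDegree (c i : G → ℂ) : ℤ) + m := by
    intro i
    obtain ⟨m, hm⟩ := CfsgLib.Transfer.exists_int_char_involution (irr_isCharacter (c i).2) hzz
    have := Fintype.ofFinite (Subgroup.zpowers z)
    obtain ⟨k, hk⟩ := exists_sum_comp_eq (irr_isCharacter (c i).2) (Subgroup.zpowers z).subtype
    have huniv : (Finset.univ : Finset (Subgroup.zpowers z)) = {1, ⟨z, Subgroup.mem_zpowers z⟩} := by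
      refine (Finset.eq_univ_of_card _ ?_).symm
      rw [Finset.card_pair fun h => hz1 (congrArg Subtype.val h).symm, ← Nat.card_eq_fintype_card,
        Nat.card_zpowers, hz]
    rw [Nat.card_zpowers, hz, huniv, Finset.sum_pair fun h => hz1 (congrArg Subtype.val h).symm]
      at hk
    simp only [map_one, Subgroup.coe_subtype, ← CfsgLib.BlockB.irr_degree_cast, hm] at hk
    refine ⟨m, hm, k, ?_⟩
    exact_mod_cast hk
  choose v hv hpar using hex
  obtain ⟨r1, r2, r3, r4, r5⟩ := T.int_relations hcard hz1 (by rw [hz]; norm_num)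
    (by rw [hz]; norm_num) hv
  rw [products_involution hcard T.order hz] at r5
  have p := hpar 1
  have p2 := hpar 2
  have p3 := hpar 3
  have p4 := hpar 4
  have p5 := hpar 5
  have p7 := hpar 7
  simp only [T.deg, Matrix.cons_val] at p p2 p3 p4 p5 p7
  exact involution_arith (a := v 1) (b := v 2) (c := v 3) (e := v 4) (f := v 5) (g := v 7)
    (by omega) (by omega) (by omega) (by omega) (by omega) (by omega) r1 r2 r3
    (by exact_mod_cast r5.symm) r4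
    (coprime_centralizer hcard hz1 (by rw [hz]; norm_num) (by rw [hz]; norm_num))

end CfsgLib.Recog.OrderM11
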