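import Cfsg.Agent.Lib.Recog.OrderM11Unique
import Cfsg.Agent.Lib.Recog.OrderM11Local
import Cfsg.Agent.Lib.Transfer.SimpleCount
import Cfsg.Agent.Lib.Coprime.Sylow
import Cfsg.Agent.Lib.Invol.Basic
import Cfsg.Agent.Lib.Golay.Mathieu
import Mathlib.Tactic

/-!
# Recognition of M11 by its order and numerical data

A group of order 7920 with self-centralizing elements of order 11 and 144 Sylow 11-subgroups is
simple; in a simple group of order 7920 every number of elements of a given order is 1 or a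
multiple of 55, 720 or 1584.
-/

set_option autoImplicit false
set_option linter.unusedSectionVars false

namespace CfsgLib.Recog.OrderM11Data

open Cfsg Subgroup
open CfsgLib.Recog.OrderM11 (iso_of_isM11 coprime_centralizer centralizer_five centralizer_eleven)

universe u

variable {G : Type u} [Group G] [Finite G]

theorem eq_bot_of_not_dvd {x : G} (hx : orderOf x = 11)
    (hC : Nat.card (centralizer ({x} : Set G)) = 11) {N : Subgroup G} [N.Normal]
    (hdvd : Nat.card N ∣ 720) (h11 : ¬ 11 ∣ Nat.card N) : N = ⊥ := by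
  classical
  by_contra hN
  have h11p : Fact (Nat.Prime 11) := ⟨by norm_num⟩
  have hne : Nat.card N ≠ 1 := fun h => hN (card_eq_one.1 h)
  set r := (Nat.card N).minFac
  have : Fact r.Prime := ⟨Nat.minFac_prime hne⟩
  set A := zpowers x
  have hA : Nat.card A = 11 := by rw [Nat.card_zpowers, hx]
  have hsol : Group.IsSolvable A := inferInstance
  obtain ⟨P, hP⟩ := CfsgLib.Coprime.exists_invariant_sylow (A := A) (G := N)
    (by rw [normalizer_eq_top]; exact le_top)
    (by rw [hA]; exact (Nat.Prime.coprime_iff_not_dvd h11p.out).2 h11) (Or.inl hsol) r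
  set R := (P : Subgroup N).map N.subtype
  have hR : Nat.card R = Nat.card (P : Subgroup N) :=
    card_map_of_injective N.subtype_injective
  let : MulAction A R := MulAction.compHom R ((normalizerMonoidHom R).comp (Subgroup.inclusion hP))
  have hA' : IsPGroup 11 A := IsPGroup.of_card (n := 1) (by rw [hA, pow_one])
  have hfix : MulAction.fixedPoints A R = {1} := by
    ext a
    refine ⟨fun ha => ?_, fun ha => ?_⟩
    · have h1 : x * (a : G) * x⁻¹ = a := congrArg Subtype.val (ha ⟨x, mem_zpowers x⟩)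
      have hmem : (a : G) ∈ centralizer ({x} : Set G) :=
        mem_centralizer_singleton_iff.2 (mul_inv_eq_iff_eq_mul.1 h1).symm
      have h2 := orderOf_dvd_natCard _ hmem
      rw [hC] at h2
      rcases (Nat.dvd_prime h11p.out).1 h2 with h3 | h3
      · exact Subtype.ext (orderOf_eq_one_iff.1 h3)
      · have h4 := (orderOf_dvd_natCard _ a.2).trans
          ((hR ▸ (P : Subgroup N).card_subgroup_dvd_card))
        exact (h11 (h3 ▸ h4)).elim
    · rw [Set.mem_singleton_iff.1 ha]
      intro b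
      apply Subtype.ext
      show (b : G) * 1 * (b : G)⁻¹ = 1
      group
  have hmod := hA'.card_modEq_card_fixedPoints R
  rw [hfix, Nat.card_eq_fintype_card (α := ({1} : Set R)), Set.card_singleton] at hmod
  have hR1 : Nat.card R ≠ 1 := by
    rw [hR]
    intro h
    have := P.dvd_card_of_dvd_card (Nat.minFac_dvd _)
    rw [h] at this
    exact (Fact.out : r.Prime).one_lt.ne' (Nat.dvd_one.1 this)
  have hdR : Nat.card R ∣ 720 :=
    (hR ▸ (P : Subgroup N).card_subgroup_dvd_card).trans hdvd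
  obtain ⟨k, hk⟩ := IsPGroup.iff_card.1 P.2
  have hall : ∀ m ∈ Nat.divisors 720, m % 11 = 1 → m = 1 ∨ m = 12 ∨ m = 45 ∨ m = 144 := by
    decide +kernel
  rcases hall _ (Nat.mem_divisors.2 ⟨hdR, by norm_num⟩) hmod with h | h | h | h
  · exact hR1 h
  all_goals
    rw [hR, hk] at h
    have h3 : 3 ∣ r ^ k := by rw [h]; norm_num
    have hr3 := (Nat.prime_dvd_prime_iff_eq (by norm_num) (Fact.out : r.Prime)).1
      ((by norm_num : Nat.Prime 3).dvd_of_dvd_pow h3)
  · have h2 : 2 ∣ r ^ k := by rw [h]; norm_num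
    rw [← hr3] at h2
    exact absurd ((by norm_num : Nat.Prime 2).dvd_of_dvd_pow h2) (by norm_num)
  · have h2 : 5 ∣ r ^ k := by rw [h]; norm_num
    rw [← hr3] at h2
    exact absurd ((by norm_num : Nat.Prime 5).dvd_of_dvd_pow h2) (by norm_num)
  · have h2 : 2 ∣ r ^ k := by rw [h]; norm_num
    rw [← hr3] at h2
    exact absurd ((by norm_num : Nat.Prime 2).dvd_of_dvd_pow h2) (by norm_num)

theorem simple_of_eleven (hcard : Nat.card G = 7920)
    (hC : ∀ x : G, orderOf x = 11 → Nat.card (centralizer ({x} : Set G)) = 11)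
    (hn : Nat.card (Sylow 11 G) = 144) : IsSimpleGroup G := by
  classical
  have h11p : Fact (Nat.Prime 11) := ⟨by norm_num⟩
  have hnt : Nontrivial G := Finite.one_lt_card_iff_nontrivial.1 (by omega)
  obtain ⟨x, hx⟩ := exists_prime_orderOf_dvd_card' (G := G) 11 (by rw [hcard]; norm_num)
  have hsmall : ∀ N : Subgroup G, N.Normal → ¬ 11 ∣ Nat.card N → N = ⊥ := by
    intro N _ h11
    refine eq_bot_of_not_dvd hx (hC x hx) ?_ h11
    refine Nat.Coprime.dvd_of_dvd_mul_right (k := Nat.card N) (n := 11) ?_ ?_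
    · exact ((Nat.Prime.coprime_iff_not_dvd h11p.out).2 h11).symm
    · have h := N.card_subgroup_dvd_card
      rw [hcard] at h
      exact h
  refine ⟨fun N hN => ?_⟩
  by_cases h11 : 11 ∣ Nat.card N
  swap
  · exact Or.inl (hsmall N hN h11)
  have h121 : ¬ 11 ^ 2 ∣ Nat.card G := by rw [hcard]; norm_num
  have hP : ∀ P : Sylow 11 G, Nat.card (P : Subgroup G) = 11 := fun P =>
    CfsgLib.Transfer.card_sylow_eq_prime P (by rw [hcard]; norm_num) h121
  have hmem : ∀ g : G, orderOf g = 11 → g ∈ N := by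
    intro g hg
    obtain ⟨⟨y, hyN⟩, hy⟩ := exists_prime_orderOf_dvd_card' (G := N) 11 h11
    rw [orderOf_mk] at hy
    obtain ⟨P, hgP⟩ := (IsPGroup.of_card (p := 11) (n := 1) (G := zpowers g)
      (by rw [Nat.card_zpowers, hg, pow_one])).exists_le_sylow
    obtain ⟨Q, hyQ⟩ := (IsPGroup.of_card (p := 11) (n := 1) (G := zpowers y)
      (by rw [Nat.card_zpowers, hy, pow_one])).exists_le_sylow
    have hQN : (Q : Subgroup G) ≤ N := by
      rw [← eq_of_le_of_card_ge hyQ (by rw [hP, Nat.card_zpowers, hy])]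
      exact zpowers_le.2 hyN
    obtain ⟨c, rfl⟩ := MulAction.exists_smul_eq G Q P
    have h1 : g ∈ (Q : Subgroup G).map (MulAut.conj c).toMonoidHom := hgP (mem_zpowers g)
    obtain ⟨q, hq, rfl⟩ := h1
    exact hN.conj_mem q (hQN hq) c
  obtain ⟨P⟩ : Nonempty (Sylow 11 N) := inferInstance
  have h121N : ¬ 11 ^ 2 ∣ Nat.card N := fun h => h121 (h.trans N.card_subgroup_dvd_card)
  have hcnt : Nat.card {g : N // orderOf g = 11} = Nat.card {g : G // orderOf g = 11} := by
    refine Nat.card_congr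
      { toFun := fun g => ⟨(g.1 : G), by rw [orderOf_coe]; exact g.2⟩
        invFun := fun g => ⟨⟨g.1, hmem g.1 g.2⟩, by rw [orderOf_mk]; exact g.2⟩
        left_inv := fun g => rfl
        right_inv := fun g => rfl }
  obtain ⟨P₀⟩ : Nonempty (Sylow 11 G) := inferInstance
  have hPN : Nat.card (P : Subgroup N) = 11 :=
    CfsgLib.Transfer.card_sylow_eq_prime P h11 h121N
  rw [CfsgLib.Transfer.card_orderOf_eq_prime P hPN,
    CfsgLib.Transfer.card_orderOf_eq_prime P₀ (hP P₀), hn] at hcnt
  have hn' : Nat.card (Sylow 11 N) = 144 := by omega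
  have hidx : 144 * Nat.card (normalizer ((P : Subgroup N) : Set N)) = Nat.card N := by
    rw [← hn', P.card_eq_index_normalizer]
    exact Subgroup.index_mul_card _
  have hk : Nat.card (normalizer ((P : Subgroup N) : Set N)) ∣ 55 := by
    have h := N.card_subgroup_dvd_card
    rw [hcard, ← hidx] at h
    exact Nat.dvd_of_mul_dvd_mul_left (by norm_num : 0 < 144) (h : _ ∣ 144 * 55)
  have hk' : 11 ∣ Nat.card (normalizer ((P : Subgroup N) : Set N)) := by
    have := Subgroup.card_dvd_of_le (le_normalizer (H := (P : Subgroup N)))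
    rwa [hPN] at this
  have hcases : ∀ m ∈ Nat.divisors 55, 11 ∣ m → m = 11 ∨ m = 55 := by decide +kernel
  rcases hcases _ (Nat.mem_divisors.2 ⟨hk, by norm_num⟩) hk' with h | h
  swap
  · exact Or.inr (eq_top_of_card_eq _ (by rw [← hidx, h, hcard]))
  exfalso
  have heq : normalizer ((P : Subgroup N) : Set N) = P :=
    (eq_of_le_of_card_ge le_normalizer (by rw [hPN, h])).symm
  have hcomm : ∀ a ∈ (P : Subgroup N), ∀ b ∈ (P : Subgroup N), a * b = b * a := by
    have : IsCyclic (P : Subgroup N) := isCyclic_of_prime_card hPN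
    intro a ha b hb
    exact congrArg Subtype.val (IsCyclic.commGroup.mul_comm (⟨a, ha⟩ : (P : Subgroup N)) ⟨b, hb⟩)
  have hle : normalizer ((P : Subgroup N) : Set N) ≤ centralizer ((P : Subgroup N) : Set N) := by
    rw [heq]
    exact fun a ha b hb => hcomm b hb a ha
  have hcompl := MonoidHom.ker_transferSylow_isComplement' P hle
  set K := (MonoidHom.transferSylow P hle).ker
  have hK : Nat.card K = 144 := by
    have h1 := hcompl.card_mul_card
    rw [hPN, ← hidx, h] at h1
    omega
  have hin : ∀ g : N, g ^ 144 = 1 → g ∈ K := by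
    intro g hg
    refine MonoidHom.mem_ker.2 ?_
    have h1 : (MonoidHom.transferSylow P hle g) ^ 144 = 1 := by rw [← map_pow, hg, map_one]
    have h2 : (MonoidHom.transferSylow P hle g) ^ Nat.card (P : Subgroup N) = 1 := pow_card_eq_one'
    rw [hPN] at h2
    simpa using pow_gcd_eq_one.2 ⟨h1, h2⟩
  have hKG : (K.map N.subtype).Normal := ⟨by
    rintro _ ⟨g, hg, rfl⟩ c
    refine ⟨⟨c * (g : G) * c⁻¹, hN.conj_mem g g.2 c⟩, hin _ (Subtype.ext ?_), rfl⟩
    have h1 : g ^ 144 = 1 := by
      rw [← hK]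
      exact congrArg Subtype.val (pow_card_eq_one' (x := (⟨g, hg⟩ : K)))
    show (c * (g : G) * c⁻¹) ^ 144 = 1
    rw [conj_pow, ← SubmonoidClass.coe_pow, h1]
    simp⟩
  have hKc : Nat.card (K.map N.subtype) = 144 := by
    rw [card_map_of_injective N.subtype_injective, hK]
  have := hsmall _ hKG (by rw [hKc]; norm_num)
  rw [this, card_bot] at hKc
  omega

theorem iso_M11 (hcard : Nat.card G = 7920)
    (hC : ∀ x : G, orderOf x = 11 → Nat.card (centralizer ({x} : Set G)) = 11)
    (hn : Nat.card (Sylow 11 G) = 144) : Nonempty (G ≃* ↥Spor.M11) :=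
  iso_of_isM11 ⟨simple_of_eleven hcard hC hn, hcard⟩
    ⟨CfsgLib.Golay.isSimple_sporM11, CfsgLib.Golay.card_sporM11⟩

/-- A conjugation invariant set all whose class sizes are multiples of `d`. -/
theorem dvd_card_of_classes {d : ℕ} {p : G → Prop} (hp : ∀ a b, IsConj a b → p a → p b)
    (h : ∀ a, p a → d ∣ Nat.card {t : G // IsConj a t}) : d ∣ Nat.card {t : G // p t} := by
  classical
  have := Fintype.ofFinite G
  rw [Nat.card_eq_fintype_card, Fintype.card_subtype,
    Finset.card_eq_sum_card_fiberwise (f := ConjClasses.mk)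
      (t := (Finset.univ.filter p).image ConjClasses.mk)
      (fun a ha => Finset.mem_image_of_mem _ ha)]
  refine Finset.dvd_sum fun c hc => ?_
  obtain ⟨a, ha, rfl⟩ := Finset.mem_image.1 hc
  have hpa : p a := (Finset.mem_filter.1 ha).2
  have e : ((Finset.univ.filter p).filter fun b => ConjClasses.mk b = ConjClasses.mk a) =
      Finset.univ.filter fun b => IsConj a b := by
    ext b
    simp only [Finset.mem_filter, Finset.mem_univ, true_and, ConjClasses.mk_eq_mk_iff_isConj]
    exact ⟨fun h => h.2.symm, fun h => ⟨hp a b h hpa, h.symm⟩⟩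
  rw [e, ← Fintype.card_subtype, ← Nat.card_eq_fintype_card]
  exact h a hpa

section Simple

variable [IsSimpleGroup G] (hcard : Nat.card G = 7920)
include hcard

theorem centralizer_cases {a : G} (ha : a ≠ 1) :
    (orderOf a = 11 ∧ Nat.card (centralizer ({a} : Set G)) = 11) ∨
    (orderOf a = 5 ∧ Nat.card (centralizer ({a} : Set G)) = 5) ∨
    (orderOf a ≠ 5 ∧ orderOf a ≠ 11 ∧ Nat.card (centralizer ({a} : Set G)) ∣ 144) := by
  by_cases h11 : orderOf a = 11
  · exact Or.inl ⟨h11, by rw [centralizer_eleven hcard h11, Nat.card_zpowers, h11]⟩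
  by_cases h5 : orderOf a = 5
  · exact Or.inr (Or.inl ⟨h5, by rw [centralizer_five hcard h5, Nat.card_zpowers, h5]⟩)
  exact Or.inr (Or.inr ⟨h5, h11, coprime_centralizer hcard ha h5 h11⟩)

theorem class_dvd {a : G} (ha : a ≠ 1) :
    (orderOf a = 11 → 720 ∣ Nat.card {t : G // IsConj a t}) ∧
    (orderOf a = 5 → 1584 ∣ Nat.card {t : G // IsConj a t}) ∧
    (orderOf a ≠ 5 → orderOf a ≠ 11 → 55 ∣ Nat.card {t : G // IsConj a t}) := by
  have hm := CfsgLib.Invol.card_class_mul_card_centralizer a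
  rw [hcard] at hm
  rcases centralizer_cases hcard ha with ⟨ho, hc⟩ | ⟨ho, hc⟩ | ⟨h5, h11, hc⟩
  · refine ⟨fun _ => ?_, fun h => by omega, fun _ h => absurd ho h⟩
    rw [hc] at hm
    omega
  · refine ⟨fun h => by omega, fun _ => ?_, fun h _ => absurd ho h⟩
    rw [hc] at hm
    omega
  · refine ⟨fun h => absurd h h11, fun h => absurd h h5, fun _ _ => ?_⟩
    obtain ⟨k, hk⟩ := hc
    refine ⟨k, Nat.eq_of_mul_eq_mul_right
      (Nat.card_pos (α := centralizer ({a} : Set G))) ?_⟩
    rw [hm, show (7920 : ℕ) = 55 * 144 by norm_num, hk]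
    ring

theorem count_shape (n : ℕ) :
    Nat.card {g : G // orderOf g = n} = 1 ∨ 55 ∣ Nat.card {g : G // orderOf g = n} ∨
      720 ∣ Nat.card {g : G // orderOf g = n} ∨ 1584 ∣ Nat.card {g : G // orderOf g = n} := by
  have hconj : ∀ a b : G, IsConj a b → orderOf a = n → orderOf b = n := by
    intro a b hab ha
    obtain ⟨c, rfl⟩ := isConj_iff.1 hab
    rw [← MulAut.conj_apply, MulEquiv.orderOf_eq, ha]
  by_cases h1 : n = 1
  · refine Or.inl (Nat.card_eq_one_iff_unique.2 ⟨⟨fun a b => Subtype.ext ?_⟩, ⟨⟨1, by simp [h1]⟩⟩⟩)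
    rw [orderOf_eq_one_iff.1 (a.2.trans h1), orderOf_eq_one_iff.1 (b.2.trans h1)]
  have hne : ∀ a : G, orderOf a = n → a ≠ 1 := fun a ha h => h1 (by rw [← ha, h, orderOf_one])
  right
  by_cases h11 : n = 11
  · exact Or.inr (Or.inl (dvd_card_of_classes hconj fun a ha =>
      (class_dvd hcard (hne a ha)).1 (ha.trans h11)))
  by_cases h5 : n = 5
  · exact Or.inr (Or.inr (dvd_card_of_classes hconj fun a ha =>
      (class_dvd hcard (hne a ha)).2.1 (ha.trans h5)))
  · exact Or.inl (dvd_card_of_classes hconj fun a ha =>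
      (class_dvd hcard (hne a ha)).2.2 (fun h => h5 (ha.symm.trans h))
        (fun h => h11 (ha.symm.trans h)))

end Simple

theorem card_sylow_eleven (hcard : Nat.card G = 7920)
    (h : Nat.card {g : G // orderOf g = 11} = 1 ∨ 55 ∣ Nat.card {g : G // orderOf g = 11} ∨
      720 ∣ Nat.card {g : G // orderOf g = 11} ∨ 1584 ∣ Nat.card {g : G // orderOf g = 11}) :
    Nat.card (Sylow 11 G) = 144 := by
  have h11p : Fact (Nat.Prime 11) := ⟨by norm_num⟩
  obtain ⟨P⟩ : Nonempty (Sylow 11 G) := inferInstance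
  have hP := CfsgLib.Transfer.card_sylow_eq_prime P (by rw [hcard]; norm_num)
    (by rw [hcard]; norm_num)
  rw [CfsgLib.Transfer.card_orderOf_eq_prime P hP] at h
  have hd : Nat.card (Sylow 11 G) ∣ 720 := by
    have h1 := P.card_dvd_index
    have h2 := (P : Subgroup G).index_mul_card
    rw [hP, hcard] at h2
    rwa [show (P : Subgroup G).index = 720 by omega] at h1
  have hm : Nat.card (Sylow 11 G) % 11 = 1 := card_sylow_modEq_one 11 G
  have hall : ∀ m ∈ Nat.divisors 720, m % 11 = 1 → m * (11 - 1) = 1 ∨ 55 ∣ m * (11 - 1) ∨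
      720 ∣ m * (11 - 1) ∨ 1584 ∣ m * (11 - 1) → m = 144 := by decide +kernel
  exact hall _ (Nat.mem_divisors.2 ⟨hd, by norm_num⟩) hm h

theorem card_sylow_five (hcard : Nat.card G = 7920)
    (h : Nat.card {g : G // orderOf g = 5} = 1 ∨ 55 ∣ Nat.card {g : G // orderOf g = 5} ∨
      720 ∣ Nat.card {g : G // orderOf g = 5} ∨ 1584 ∣ Nat.card {g : G // orderOf g = 5}) :
    Nat.card (Sylow 5 G) = 396 := by
  have h5p : Fact (Nat.Prime 5) := ⟨by norm_num⟩
  obtain ⟨P⟩ : Nonempty (Sylow 5 G) := inferInstance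
  have hP := CfsgLib.Transfer.card_sylow_eq_prime P (by rw [hcard]; norm_num)
    (by rw [hcard]; norm_num)
  rw [CfsgLib.Transfer.card_orderOf_eq_prime P hP] at h
  have hd : Nat.card (Sylow 5 G) ∣ 1584 := by
    have h1 := P.card_dvd_index
    have h2 := (P : Subgroup G).index_mul_card
    rw [hP, hcard] at h2
    rwa [show (P : Subgroup G).index = 1584 by omega] at h1
  have hm : Nat.card (Sylow 5 G) % 5 = 1 := card_sylow_modEq_one 5 G
  have hall : ∀ m ∈ Nat.divisors 1584, m % 5 = 1 → m * (5 - 1) = 1 ∨ 55 ∣ m * (5 - 1) ∨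
      720 ∣ m * (5 - 1) ∨ 1584 ∣ m * (5 - 1) → m = 396 := by decide +kernel
  exact hall _ (Nat.mem_divisors.2 ⟨hd, by norm_num⟩) hm h

end CfsgLib.Recog.OrderM11Data
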