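import Mathlib.GroupTheory.Sylow
import Mathlib.GroupTheory.SpecificGroups.Cyclic
import Mathlib.GroupTheory.Nilpotent
import Mathlib.Algebra.Order.BigOperators.Group.Finset
import Mathlib.Algebra.BigOperators.Intervals
import Mathlib.Data.Rat.Cast.Order
import Mathlib.Tactic.Linarith
import Mathlib.Tactic.FieldSimp
import Mathlib.Tactic.Ring

/-!
A finite group is never covered by the centres of non-abelian Sylow subgroups; self-normalizing
`p`-subgroups are Sylow subgroups.
-/

set_option autoImplicit false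

namespace CfsgLib.Recog

open Subgroup

variable {G : Type*} [Group G] [Finite G]

theorem sum_primes_inv_sq_le (N : ℕ) (hN : 1 ≤ N) :
    ∑ m ∈ Finset.Icc 2 N, ((1 : ℚ) / m ^ 2) ≤ 1 - 1 / (N : ℚ) := by
  induction N, hN using Nat.le_induction with
  | base => simp
  | succ n hn ih =>
    rw [Finset.sum_Icc_succ_top (by omega)]
    refine le_trans (add_le_add_left ih _) ?_
    have h0 : (0 : ℚ) < n := by exact_mod_cast hn
    push_cast
    rw [← sub_nonneg]
    have e : 1 - 1 / ((n : ℚ) + 1) - (1 - 1 / (n : ℚ) + 1 / ((n : ℚ) + 1) ^ 2) =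
        1 / ((n : ℚ) * ((n : ℚ) + 1) ^ 2) := by field_simp; ring
    rw [e]; positivity

theorem sq_mul_card_center_le {p : ℕ} (hp : p.Prime) {P : Type*} [Group P] [Finite P]
    (h : IsPGroup p P) (hna : ¬ IsMulCommutative P) :
    p ^ 2 * Nat.card (center P) ≤ Nat.card P := by
  have : Fact p.Prime := ⟨hp⟩
  obtain ⟨n, hn⟩ := IsPGroup.iff_card.mp (h.to_quotient (center P))
  rcases Nat.lt_or_ge n 2 with hlt | hge
  · exfalso
    have hcyc : IsCyclic (P ⧸ center P) := by
      rcases Nat.lt_or_ge n 1 with h0 | h1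
      · have : Subsingleton (P ⧸ center P) := by
          rw [← Finite.card_le_one_iff_subsingleton, hn, Nat.lt_one_iff.mp h0, pow_zero]
        infer_instance
      · have : n = 1 := by omega
        rw [this, pow_one] at hn
        exact isCyclic_of_prime_card hn
    exact hna ((QuotientGroup.mk' (center P)).isMulCommutative_of_isCyclic_of_ker_le_center
      (by rw [QuotientGroup.ker_mk']))
  · rw [Subgroup.card_eq_card_quotient_mul_card_subgroup (center P), hn]
    exact Nat.mul_le_mul_right _ (Nat.pow_le_pow_right hp.pos hge)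

theorem sylow_of_self_normalizing {p : ℕ} [Fact p.Prime] {Q : Subgroup G} (hQ : IsPGroup p Q)
    (hn : normalizer (Q : Set G) ≤ Q) : ∃ P : Sylow p G, (P : Subgroup G) = Q := by
  obtain ⟨P, hP⟩ := hQ.exists_le_sylow
  refine ⟨P, ?_⟩
  by_contra hne
  have hlt : Q < P := lt_of_le_of_ne hP (Ne.symm hne)
  have : Group.IsNilpotent P := P.2.isNilpotent
  have hc := Group.normalizerCondition_of_isNilpotent (G := P) (Q.subgroupOf P)
    (lt_top_iff_ne_top.mpr fun e => hlt.not_ge (subgroupOf_eq_top.mp e))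
  obtain ⟨x, hx, hxn⟩ := SetLike.exists_of_lt hc
  apply hxn
  rw [mem_subgroupOf]
  refine hn (mem_normalizer_iff.mpr fun y => ?_)
  have hx' := mem_normalizer_iff.mp hx
  constructor
  · intro hy
    simpa [mem_subgroupOf] using (hx' ⟨y, hP hy⟩).mp (by simpa [mem_subgroupOf] using hy)
  · intro hy
    have hyP : y ∈ P := by
      have h' : (x : G)⁻¹ * ((x : G) * y * (x : G)⁻¹) * x ∈ (P : Subgroup G) :=
        mul_mem (mul_mem (inv_mem x.2) (hP hy)) x.2
      show y ∈ (P : Subgroup G)
      simpa [mul_assoc] using h'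
    simpa [mem_subgroupOf] using (hx' ⟨y, hyP⟩).mpr (by simpa [mem_subgroupOf] using hy)

/-- A non-trivial finite group is not covered by the centres of non-abelian Sylow subgroups. -/
theorem not_covered_by_sylow_centers [Nontrivial G]
    (h : ∀ x : G, x ≠ 1 → ∃ (p : ℕ) (P : Sylow p G), p.Prime ∧ ¬ IsMulCommutative P ∧
      x ∈ P ∧ ∀ y ∈ P, x * y = y * x) : False := by
  classical
  have : Fintype G := Fintype.ofFinite G
  set T := Fintype.card G
  have hT : 1 < T := Fintype.one_lt_card
  let S : ℕ → Finset G := fun p => Finset.univ.filter fun x => x ≠ 1 ∧ ∃ P : Sylow p G,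
    p.Prime ∧ ¬ IsMulCommutative P ∧ x ∈ P ∧ ∀ y ∈ P, x * y = y * x
  have hcov : Finset.univ.erase (1 : G) ⊆ (Finset.Icc 2 T).biUnion S := by
    intro x hx
    rw [Finset.mem_erase] at hx
    obtain ⟨p, P, hp, hna, hxP, hc⟩ := h x hx.1
    have : Fact p.Prime := ⟨hp⟩
    have hdvd : p ∣ T := by
      have h1 : orderOf (⟨x, hxP⟩ : P) ≠ 1 := fun e => hx.1 (congrArg Subtype.val (orderOf_eq_one_iff.mp e))
      obtain ⟨k, hk⟩ := IsPGroup.iff_orderOf.mp P.2 ⟨x, hxP⟩
      rw [hk] at h1
      have h2 : orderOf x = p ^ k := by rw [← hk, Subgroup.orderOf_mk]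
      have h3 : k ≠ 0 := fun e => h1 (by rw [e, pow_zero])
      exact (dvd_pow_self p h3).trans (h2 ▸ orderOf_dvd_card)
    refine Finset.mem_biUnion.mpr ⟨p, Finset.mem_Icc.mpr ⟨hp.two_le, Nat.le_of_dvd (by omega) hdvd⟩, ?_⟩
    simpa [S] using ⟨hx.1, hp, P, hna, hxP, hc⟩
  have hS : ∀ p : ℕ, ((S p).card : ℚ) ≤ (T : ℚ) * (1 / (p : ℚ) ^ 2) := by
    intro p
    by_cases hex : ∃ P : Sylow p G, p.Prime ∧ ¬ IsMulCommutative P
    swap
    · have : S p = ∅ := by
        refine Finset.filter_eq_empty_iff.mpr fun x _ hx => ?_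
        obtain ⟨-, P, hp, hna, -⟩ := hx
        exact hex ⟨P, hp, hna⟩
      rw [this]; simp; positivity
    obtain ⟨P₀, hp, hna₀⟩ := hex
    have : Fact p.Prime := ⟨hp⟩
    have : Fintype (Sylow p G) := Fintype.ofFinite _
    let C : Sylow p G → Finset G := fun P =>
      Finset.univ.filter fun x => x ∈ P ∧ ∀ y ∈ P, x * y = y * x
    have hsub : S p ⊆ (Finset.univ : Finset (Sylow p G)).biUnion C := by
      intro x hx
      simp only [S, Finset.mem_filter, Finset.mem_univ, true_and] at hx
      obtain ⟨-, P, -, -, hxP, hc⟩ := hx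
      refine Finset.mem_biUnion.mpr ⟨P, Finset.mem_univ _, ?_⟩
      simpa [C] using ⟨hxP, hc⟩
    have hC : ∀ P : Sylow p G, p ^ 2 * (C P).card ≤ Nat.card P₀ := by
      intro P
      have hcard : (C P).card = Nat.card (center P) := by
        rw [← Fintype.card_coe, ← Nat.card_eq_fintype_card]
        refine Nat.card_congr ?_
        exact
        { toFun := fun x => ⟨⟨x.1, (Finset.mem_filter.mp x.2).2.1⟩,
            mem_center_iff.mpr fun y => Subtype.ext ((Finset.mem_filter.mp x.2).2.2 y y.2).symm⟩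
          invFun := fun z => ⟨z.1.1, Finset.mem_filter.mpr ⟨Finset.mem_univ _, z.1.2, fun y hy =>
            (congrArg Subtype.val (mem_center_iff.mp z.2 ⟨y, hy⟩)).symm⟩⟩
          left_inv := fun x => rfl
          right_inv := fun z => rfl }
      have e := Sylow.equiv P₀ P
      rw [hcard, Nat.card_congr e.toEquiv]
      refine sq_mul_card_center_le hp P.2 fun hc => hna₀ ⟨⟨fun a b => e.injective ?_⟩⟩
      rw [map_mul, map_mul]; exact mul_comm' _ _
    have h1 : (S p).card * p ^ 2 ≤ T := by
      calc (S p).card * p ^ 2 ≤ (∑ P : Sylow p G, (C P).card) * p ^ 2 :=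
            Nat.mul_le_mul_right _ ((Finset.card_le_card hsub).trans Finset.card_biUnion_le)
        _ = ∑ P : Sylow p G, p ^ 2 * (C P).card := by rw [Finset.sum_mul]; simp [mul_comm]
        _ ≤ ∑ _P : Sylow p G, Nat.card P₀ := Finset.sum_le_sum fun P _ => hC P
        _ = Nat.card (Sylow p G) * Nat.card P₀ := by
            rw [Finset.sum_const, Finset.card_univ, Nat.card_eq_fintype_card (α := Sylow p G), smul_eq_mul]
        _ ≤ T := by
            refine Nat.le_of_dvd (by omega) ?_
            have := Nat.mul_dvd_mul_right P₀.card_dvd_index (Nat.card P₀)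
            rw [index_mul_card] at this
            rwa [Nat.card_eq_fintype_card (α := G)] at this
    rw [mul_one_div, le_div_iff₀ (by have := hp.pos; positivity)]
    exact_mod_cast h1
  -- the inequality is strict
  have key : ((T - 1 : ℕ) : ℚ) < (T : ℚ) * (1 - 1 / (T : ℚ)) := by
    have hc : T - 1 ≤ ∑ p ∈ Finset.Icc 2 T, (S p).card := by
      have := (Finset.card_le_card hcov).trans Finset.card_biUnion_le
      rwa [Finset.card_erase_of_mem (Finset.mem_univ _), Finset.card_univ] at this
    obtain ⟨T', hT'⟩ : ∃ T', T = T' + 1 := ⟨T - 1, by omega⟩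
    have hlast : (S T).card = 0 := by
      rw [Finset.card_eq_zero]
      refine Finset.filter_eq_empty_iff.mpr fun x _ hx => ?_
      obtain ⟨-, P, hp, hna, -⟩ := hx
      have : Fact T.Prime := ⟨hp⟩
      have hd : Nat.card P ∣ T := by
        show _ ∣ Fintype.card G
        rw [← Nat.card_eq_fintype_card (α := G)]; exact card_subgroup_dvd_card _
      have : IsCyclic P := by
        rcases (Nat.dvd_prime hp).mp hd with e | e
        · have : Subsingleton P := (Nat.card_eq_one_iff_unique.mp e).1
          infer_instance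
        · exact isCyclic_of_prime_card e
      exact hna inferInstance
    have hle : ((T - 1 : ℕ) : ℚ) ≤ (T : ℚ) * ∑ p ∈ Finset.Icc 2 T', (1 / (p : ℚ) ^ 2) := by
      rw [hT', Finset.sum_Icc_succ_top (by omega), ← hT', hlast, add_zero] at hc
      refine (Nat.cast_le.mpr hc).trans ?_
      push_cast
      rw [Finset.mul_sum]
      exact Finset.sum_le_sum fun p _ => hS p
    refine hle.trans_lt (mul_lt_mul_of_pos_left ?_ (by positivity))
    refine (sum_primes_inv_sq_le T' (by omega)).trans_lt ?_
    have h1 : (0 : ℚ) < T' := by exact_mod_cast (show 0 < T' by omega)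
    have h2 : (T' : ℚ) < T := by rw [hT']; push_cast; linarith
    have := one_div_lt_one_div_of_lt h1 h2
    linarith
  rw [Nat.cast_sub hT.le, Nat.cast_one] at key
  have : (T : ℚ) ≠ 0 := by positivity
  apply lt_irrefl ((T : ℚ) - 1)
  calc (T : ℚ) - 1 < (T : ℚ) * (1 - 1 / (T : ℚ)) := key
    _ = (T : ℚ) - 1 := by field_simp

end CfsgLib.Recog
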