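import Cfsg.Agent.S3707
import Mathlib

/-!
# Marggraff: primitive groups with a Jordan set smaller than half of the points

A primitive group with a Jordan set of size `d`, `1 < d` and `2 * d < n`, contains a three-cycle.
-/

set_option autoImplicit false
open scoped Pointwise
open MulAction Finset

set_option linter.unusedSectionVars false
set_option linter.unusedSimpArgs false
set_option linter.unusedVariables false

namespace CfsgLib.Recog.Marggraff

section Design

variable {Ω : Type*} [Fintype Ω] [DecidableEq Ω] {B : Finset Ω → Finset Ω} {t b : ℕ}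

theorem tits_bound (hsub : ∀ A, A ⊆ B A) (hb : ∀ A : Finset Ω, A.card = t → (B A).card = b)
    (heq : ∀ A A' : Finset Ω, A.card = t → A'.card = t → A' ⊆ B A → B A' = B A)
    {U T : Finset Ω} (hTU : T ⊆ U) (hT : T.card = t + 1)
    (hU : ∀ A : Finset Ω, A.card = t → A ⊆ U → B A ⊆ U)
    (hno : ∀ A : Finset Ω, A.card = t → ¬ T ⊆ B A) :
    (t + 1) * (b - t + 1) ≤ U.card := by
  let E : Ω → Finset Ω := fun x => B (T.erase x) \ T.erase x
  have hc : ∀ x ∈ T, (T.erase x).card = t := fun x hx => by rw [card_erase_of_mem hx]; omega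
  have hE : ∀ x ∈ T, ∀ z ∈ E x, z ∉ T := by
    intro x hx z hz hzT
    simp only [E, mem_sdiff, mem_erase, not_and_or, not_not] at hz
    obtain ⟨hzB, hzx | hz'⟩ := hz
    · subst hzx
      exact hno _ (hc z hx) fun w hw => if h : w = z then h ▸ hzB else hsub _ (mem_erase.mpr ⟨h, hw⟩)
    · exact hz' hzT
  have hdisj : (T : Set Ω).PairwiseDisjoint E := by
    intro x hx y hy hxy
    rw [Function.onFun, Finset.disjoint_left]
    intro z hzx hzy
    have hzT := hE x hx z hzx
    simp only [E, mem_sdiff] at hzx hzy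
    set A := insert z ((T.erase x).erase y) with hA
    have hAc : A.card = t := by
      rw [hA, card_insert_of_notMem (fun h => hzT (mem_of_mem_erase (mem_of_mem_erase h))),
        card_erase_of_mem (mem_erase.mpr ⟨Ne.symm hxy, hy⟩), hc x hx]
      have : 1 < T.card := one_lt_card.mpr ⟨x, hx, y, hy, hxy⟩
      omega
    have h1 : B A = B (T.erase x) := heq _ _ (hc x hx) hAc (insert_subset_iff.mpr ⟨hzx.1,
      fun w hw => hsub _ (mem_of_mem_erase hw)⟩)
    have h2 : B A = B (T.erase y) := heq _ _ (hc y hy) hAc (insert_subset_iff.mpr ⟨hzy.1,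
      fun w hw => hsub _ (mem_erase.mpr ⟨(mem_erase.mp hw).1, mem_of_mem_erase (mem_of_mem_erase hw)⟩)⟩)
    refine hno _ (hc x hx) fun w hw => ?_
    by_cases h : w = x
    · subst h
      rw [← h1, h2]
      exact hsub _ (mem_erase.mpr ⟨hxy, hw⟩)
    · exact hsub _ (mem_erase.mpr ⟨h, hw⟩)
  have hcard : (T.biUnion E).card = (t + 1) * (b - t) := by
    rw [card_biUnion hdisj, sum_congr rfl (fun x hx => show (E x).card = b - t by
      simp only [E]; rw [card_sdiff_of_subset (hsub _), hb _ (hc x hx), hc x hx]), sum_const, hT, smul_eq_mul]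
  have hd : Disjoint T (T.biUnion E) := Finset.disjoint_left.mpr fun z hz h => by
    obtain ⟨x, hx, hzx⟩ := mem_biUnion.mp h
    exact hE x hx z hzx hz
  have hle : (T ∪ T.biUnion E).card ≤ U.card := card_le_card (union_subset hTU (biUnion_subset.mpr
    fun x hx => sdiff_subset.trans (hU _ (hc x hx) ((erase_subset _ _).trans hTU))))
  rw [card_union_of_disjoint hd, hcard, hT] at hle
  linarith

theorem sub_bound (hsub : ∀ A, A ⊆ B A) (hb : ∀ A : Finset Ω, A.card = t → (B A).card = b)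
    (heq : ∀ A A' : Finset Ω, A.card = t → A'.card = t → A' ⊆ B A → B A' = B A)
    {P S : Finset Ω} {x : Ω} (hP : P.card + 2 = t) (hPS : Disjoint P S) (hxP : x ∉ P) (hxS : x ∉ S)
    (hcl : ∀ a ∈ S, ∀ c ∈ S, a ≠ c → B (insert a (insert c P)) ⊆ P ∪ S) :
    P.card + 1 + S.card * (b - t + 1) ≤ Fintype.card Ω := by
  have hnP : ∀ a ∈ S, a ∉ P := fun a ha h => Finset.disjoint_left.mp hPS h ha
  have h3 : ∀ p q, p ∉ P → q ∉ P → p ≠ q → (insert p (insert q P)).card = t := fun p q hp hq hpq => by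
    rw [card_insert_of_notMem (by simp [hp, hpq]), card_insert_of_notMem hq]; omega
  let T : Ω → Finset Ω := fun a => insert a (insert x P)
  let E : Ω → Finset Ω := fun a => B (T a) \ T a
  have hTc : ∀ a ∈ S, (T a).card = t := fun a ha => h3 a x (hnP a ha) hxP fun h => hxS (h ▸ ha)
  have hPT : ∀ a, P ⊆ B (T a) := fun a => ((subset_insert _ _).trans (subset_insert _ _)).trans (hsub _)
  have haT : ∀ a, a ∈ B (T a) := fun a => hsub _ (mem_insert_self _ _)
  have hxT : ∀ a, x ∈ B (T a) := fun a => hsub _ (mem_insert_of_mem (mem_insert_self _ _))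
  have hnot : ∀ a ∈ S, ∀ c ∈ S, a ≠ c → c ∉ B (T a) := by
    intro a ha c hc hac h
    have := heq _ _ (hTc a ha) (h3 a c (hnP a ha) (hnP c hc) hac)
      (insert_subset_iff.mpr ⟨haT a, insert_subset_iff.mpr ⟨h, hPT a⟩⟩)
    have hx := hcl a ha c hc hac (this.symm ▸ hxT a)
    simp [hxP, hxS] at hx
  have hE : ∀ a ∈ S, ∀ z ∈ E a, z ∉ P ∧ z ≠ x ∧ z ∉ S := by
    intro a ha z hz
    simp only [E, T, mem_sdiff, mem_insert, not_or] at hz
    exact ⟨hz.2.2.2, hz.2.2.1, fun hzS => hnot a ha z hzS (Ne.symm hz.2.1) hz.1⟩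
  have hdisj : (S : Set Ω).PairwiseDisjoint E := by
    intro a ha c hc hac
    rw [Function.onFun, Finset.disjoint_left]
    intro z hza hzc
    obtain ⟨hzP, hzx, -⟩ := hE a ha z hza
    have hza' := (mem_sdiff.mp hza).1
    have hzc' := (mem_sdiff.mp hzc).1
    have h1 := heq _ _ (hTc a ha) (h3 z x hzP hxP hzx)
      (insert_subset_iff.mpr ⟨hza', insert_subset_iff.mpr ⟨hxT a, hPT a⟩⟩)
    have h2 := heq _ _ (hTc c hc) (h3 z x hzP hxP hzx)
      (insert_subset_iff.mpr ⟨hzc', insert_subset_iff.mpr ⟨hxT c, hPT c⟩⟩)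
    exact hnot a ha c hc hac (h1 ▸ h2.symm ▸ haT c)
  have hcard : (S.biUnion E).card = S.card * (b - t) := by
    rw [card_biUnion hdisj, sum_congr rfl (fun a ha => show (E a).card = b - t by
      simp only [E]; rw [card_sdiff_of_subset (hsub _), hb _ (hTc a ha), hTc a ha]), sum_const, smul_eq_mul]
  have hd : Disjoint (insert x (P ∪ S)) (S.biUnion E) := Finset.disjoint_left.mpr fun z hz h => by
    obtain ⟨a, ha, hza⟩ := mem_biUnion.mp h
    obtain ⟨h1, h2, h3⟩ := hE a ha z hza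
    simp [h1, h2, h3] at hz
  have hle := card_le_univ (insert x (P ∪ S) ∪ S.biUnion E)
  rw [card_union_of_disjoint hd, hcard, card_insert_of_notMem (by simp [hxP, hxS]),
    card_union_of_disjoint hPS] at hle
  linarith

/-- An involutive map has invariant sets of every even size up to the number of moved points. -/
theorem exists_invariant_pairs (i : Ω → Ω) (hi : ∀ x, i (i x) = x) :
    ∀ m, 2 * m ≤ (univ.filter fun x => i x ≠ x).card →
      ∃ P : Finset Ω, P ⊆ (univ.filter fun x => i x ≠ x) ∧ P.card = 2 * m ∧ ∀ x ∈ P, i x ∈ P := by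
  intro m
  induction m with
  | zero => exact fun _ => ⟨∅, empty_subset _, rfl, by simp⟩
  | succ m ih =>
    intro h
    obtain ⟨P, hP, hc, hinv⟩ := ih (by omega)
    obtain ⟨x, hx, hxP⟩ := exists_mem_notMem_of_card_lt_card (s := P) (t := univ.filter fun x => i x ≠ x) (by omega)
    have hx' : i x ≠ x := (mem_filter.mp hx).2
    have hix : i x ∉ P := fun h => hxP (hi x ▸ hinv _ h)
    refine ⟨insert x (insert (i x) P), ?_, ?_, ?_⟩
    · refine insert_subset_iff.mpr ⟨hx, insert_subset_iff.mpr ⟨?_, hP⟩⟩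
      exact mem_filter.mpr ⟨mem_univ _, by rw [hi]; exact Ne.symm hx'⟩
    · rw [card_insert_of_notMem (by simp [hxP, Ne.symm hx']), card_insert_of_notMem hix]; omega
    · simp only [mem_insert]
      rintro y (rfl | rfl | hy)
      · simp
      · simp [hi]
      · exact Or.inr (Or.inr (hinv y hy))

/-- A permutation whose support meets the support of a conjugate in one point. -/
theorem threeCycle_commutator {g h : Equiv.Perm Ω} {c : Ω}
    (hI : g.support ∩ h.support = {c}) : (g * h * g⁻¹ * h⁻¹).IsThreeCycle := by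
  have hcg : g c ≠ c := Equiv.Perm.mem_support.1 (Finset.mem_inter.1 (hI ▸ Finset.mem_singleton_self c)).1
  have hch : h c ≠ c := Equiv.Perm.mem_support.1 (Finset.mem_inter.1 (hI ▸ Finset.mem_singleton_self c)).2
  have hboth : ∀ x, g x ≠ x → h x ≠ x → x = c := fun x h1 h2 => Finset.mem_singleton.1
    (hI ▸ Finset.mem_inter.2 ⟨Equiv.Perm.mem_support.2 h1, Equiv.Perm.mem_support.2 h2⟩)
  have ginv : ∀ x, g (g⁻¹ x) = x := fun x => by rw [← Equiv.Perm.mul_apply, mul_inv_cancel, Equiv.Perm.one_apply]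
  have hinv : ∀ x, h (h⁻¹ x) = x := fun x => by rw [← Equiv.Perm.mul_apply, mul_inv_cancel, Equiv.Perm.one_apply]
  have gi : ∀ x, g⁻¹ (g x) = x := fun x => by rw [← Equiv.Perm.mul_apply, inv_mul_cancel, Equiv.Perm.one_apply]
  have hi : ∀ x, h⁻¹ (h x) = x := fun x => by rw [← Equiv.Perm.mul_apply, inv_mul_cancel, Equiv.Perm.one_apply]
  have hugc : g (g c) ≠ g c := fun e => hcg (g.injective e)
  have hwhc : h (h c) ≠ h c := fun e => hch (h.injective e)
  have hu : h (g c) = g c := by_contra fun e => hcg (hboth _ hugc e)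
  have hw : g (h c) = h c := by_contra fun e => hch (hboth _ e hwhc)
  have huw : g c ≠ h c := fun e => hwhc (by rw [← e, hu])
  obtain ⟨C, hC⟩ : ∃ C, C = g * h * g⁻¹ * h⁻¹ := ⟨_, rfl⟩
  have happ : ∀ x, C x = g (h (g⁻¹ (h⁻¹ x))) := fun x => by
    rw [hC, Equiv.Perm.mul_apply, Equiv.Perm.mul_apply, Equiv.Perm.mul_apply]
  rw [← hC]
  have h1 : C c = g c := by
    have e1 : g (h⁻¹ c) = h⁻¹ c := by
      by_contra e
      have := hboth _ e (by rw [hinv]; intro e'; exact hch (by conv_lhs => rw [e', hinv]))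
      exact hch (by conv_lhs => rw [← this, hinv])
    have e2 : g⁻¹ (h⁻¹ c) = h⁻¹ c := by conv_lhs => rw [← e1, gi]
    rw [happ, e2, hinv]
  have h2 : C (g c) = h c := by
    have e2 : h⁻¹ (g c) = g c := by conv_lhs => rw [← hu, hi]
    rw [happ, e2, gi, hw]
  have h3 : C (h c) = c := by
    rw [happ, hi]
    have e1 : h (g⁻¹ c) = g⁻¹ c := by
      by_contra e
      have := hboth _ (by rw [ginv]; intro e'; exact hcg (by conv_lhs => rw [e', ginv])) e
      exact hcg (by conv_lhs => rw [← this, ginv])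
    rw [e1, ginv]
  have h4 : ∀ x, x ≠ c → x ≠ g c → x ≠ h c → C x = x := by
    intro x hx1 hx2 hx3
    rw [happ]
    by_cases hgx : g x = x
    · have hg' : g (h⁻¹ x) = h⁻¹ x := by
        by_cases hhx : h x = x
        · rw [show h⁻¹ x = x by conv_lhs => rw [← hhx, hi], hgx]
        · by_contra e
          have := hboth _ e (by rw [hinv]; intro e'; exact hhx (by conv_lhs => rw [e', hinv]))
          exact hx3 (by rw [← this, hinv])
      rw [show g⁻¹ (h⁻¹ x) = h⁻¹ x by conv_lhs => rw [← hg', gi], hinv, hgx]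
    · have hhx : h x = x := by_contra fun e => hx1 (hboth x hgx e)
      have e1 : h⁻¹ x = x := by conv_lhs => rw [← hhx, hi]
      have e2 : h (g⁻¹ x) = g⁻¹ x := by
        by_contra e
        have := hboth _ (by rw [ginv]; intro e'; exact hgx (by conv_lhs => rw [e', ginv])) e
        exact hx2 (by rw [← this, ginv])
      rw [e1, e2, ginv]
  have hsupp : C.support = {c, g c, h c} := by
    ext x
    simp only [Equiv.Perm.mem_support, Finset.mem_insert, Finset.mem_singleton]
    constructor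
    · intro hx
      by_contra hc'
      simp only [not_or] at hc'
      exact hx (h4 x hc'.1 hc'.2.1 hc'.2.2)
    · rintro (rfl | rfl | rfl)
      · rw [h1]; exact hcg
      · rw [h2]; exact huw.symm
      · rw [h3]; exact hch.symm
  rw [← card_support_eq_three_iff, hsupp, Finset.card_insert_of_notMem (by simp [hcg.symm, hch.symm]),
    Finset.card_pair huw]

end Design

section Group

variable {G Ω : Type*} [Group G] [MulAction G Ω] [Fintype Ω] [DecidableEq Ω]

theorem exists_smul_map {t : ℕ} (ht : IsMultiplyPretransitive G Ω t) (htn : t ≤ Fintype.card Ω)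
    {s : Finset Ω} (hs : s.card ≤ t) (f : ↥s → Ω) (hf : Function.Injective f) :
    ∃ g : G, ∀ x : ↥s, g • (x : Ω) = f x := by
  have htn' : t ≤ Nat.card Ω := by rwa [Nat.card_eq_fintype_card]
  have := MulAction.isMultiplyPretransitive_of_le (G := G) (α := Ω) hs htn'
  let a : Fin s.card ↪ Ω := s.equivFin.symm.toEmbedding.trans (Function.Embedding.subtype _)
  let c : Fin s.card ↪ Ω := s.equivFin.symm.toEmbedding.trans ⟨f, hf⟩
  obtain ⟨g, hg⟩ := exists_smul_eq G a c
  refine ⟨g, fun x => ?_⟩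
  have := congrArg (fun e : Fin s.card ↪ Ω => e (s.equivFin x)) hg
  simpa [a, c] using this

/-- Multiple transitivity turns a permutation of small support into a three-cycle. -/
theorem threeCycle_of_small_support [FaithfulSMul G Ω] {t : ℕ} (ht : IsMultiplyPretransitive G Ω t)
    (htn : t ≤ Fintype.card Ω) {g : G} (hg : g ≠ 1)
    (hm : (MulAction.toPerm g : Equiv.Perm Ω).support.card ≤ t)
    (h2 : 2 * (MulAction.toPerm g : Equiv.Perm Ω).support.card ≤ Fintype.card Ω + 1) :
    ∃ x : G, (MulAction.toPerm x : Equiv.Perm Ω).IsThreeCycle := by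
  set s := (MulAction.toPerm g : Equiv.Perm Ω).support with hs
  have hne : (MulAction.toPerm g : Equiv.Perm Ω) ≠ 1 := fun e =>
    hg (FaithfulSMul.eq_of_smul_eq_smul fun x : Ω => by
      have := Equiv.Perm.congr_fun e x
      simpa using this)
  obtain ⟨c, hc⟩ : s.Nonempty := Finset.nonempty_iff_ne_empty.mpr fun e => hne (Equiv.Perm.support_eq_empty_iff.mp e)
  have hle : (s.erase c).card ≤ sᶜ.card := by
    rw [card_erase_of_mem hc, card_compl]; omega
  obtain ⟨e⟩ : Nonempty (↥(s.erase c) ↪ ↥(sᶜ)) := Function.Embedding.nonempty_of_card_le (by simpa only [Fintype.card_coe] using hle)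
  let f : ↥s → Ω := fun x => if h : (x : Ω) = c then c else (e ⟨x, mem_erase.mpr ⟨h, x.2⟩⟩ : Ω)
  have hfout : ∀ x : ↥s, (x : Ω) ≠ c → f x ∉ s := fun x h => by
    simp only [f, dif_neg h]
    exact mem_compl.mp (e _).2
  have hf : Function.Injective f := by
    intro x y h
    by_cases hx : (x : Ω) = c <;> by_cases hy : (y : Ω) = c
    · exact Subtype.ext (hx.trans hy.symm)
    · exact absurd (h ▸ (show f x ∈ s by simp [f, hx, hc])) (hfout y hy)
    · exact absurd (h.symm ▸ (show f y ∈ s by simp [f, hy, hc])) (hfout x hx)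
    · simp only [f, dif_neg hx, dif_neg hy] at h
      have h' := e.injective (Subtype.ext h)
      exact Subtype.ext (Subtype.ext_iff.mp h' :)
  obtain ⟨h, hh⟩ := exists_smul_map ht htn hm f hf
  refine ⟨g * (h * g * h⁻¹) * g⁻¹ * (h * g * h⁻¹)⁻¹, ?_⟩
  have e' : (MulAction.toPerm (g * (h * g * h⁻¹) * g⁻¹ * (h * g * h⁻¹)⁻¹) : Equiv.Perm Ω) =
      MulAction.toPerm g * MulAction.toPerm (h * g * h⁻¹) * (MulAction.toPerm g)⁻¹ *
        (MulAction.toPerm (h * g * h⁻¹))⁻¹ := by
    simp only [← MulAction.toPermHom_apply, map_mul, map_inv]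
  rw [e']
  refine threeCycle_commutator (c := c) ?_
  ext z
  simp only [mem_inter, mem_singleton, Equiv.Perm.mem_support, MulAction.toPerm_apply, mul_smul]
  constructor
  · rintro ⟨hz, hz'⟩
    have hzs : h⁻¹ • z ∈ s := Equiv.Perm.mem_support.mpr fun e => hz' (by
      rw [MulAction.toPerm_apply] at e; rw [e, smul_inv_smul])
    by_contra hzc
    have hfz : f ⟨_, hzs⟩ = z := by rw [← hh ⟨_, hzs⟩]; simp
    by_cases hw : h⁻¹ • z = c
    · simp [f, hw] at hfz; exact hzc hfz.symm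
    · exact hfout ⟨_, hzs⟩ hw (hfz.symm ▸ Equiv.Perm.mem_support.mpr hz)
  · rintro rfl
    have hhc : h • z = z := by simpa [f] using hh ⟨z, hc⟩
    have hgz : g • z ≠ z := Equiv.Perm.mem_support.mp hc
    refine ⟨hgz, ?_⟩
    rw [inv_smul_eq_iff.mpr hhc.symm]
    exact fun e => hgz (smul_left_cancel h (e.trans hhc.symm))

section Closure

variable (G) in
/-- Intersection of the translates of `F` containing `A`. -/
noncomputable def cl (F A : Finset Ω) : Finset Ω := by
  classical exact univ.filter fun z => ∀ g : G, A ⊆ g • F → z ∈ g • F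

variable {F : Finset Ω} {t : ℕ}

theorem mem_cl {A : Finset Ω} {z : Ω} : z ∈ cl G F A ↔ ∀ g : G, A ⊆ g • F → z ∈ g • F := by
  simp [cl]

theorem subset_cl (A : Finset Ω) : A ⊆ cl G F A := fun _ hz => mem_cl.mpr fun _ hg => hg hz

theorem cl_subset {A : Finset Ω} (h : A ⊆ F) : cl G F A ⊆ F := fun z hz => by
  have := mem_cl.mp hz 1
  rw [one_smul] at this
  exact this h

theorem cl_smul (h : G) (A : Finset Ω) : cl G F (h • A) = h • cl G F A := by
  ext z
  rw [← inv_smul_mem_iff, mem_cl, mem_cl]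
  constructor
  · intro hz g hg
    have := hz (h * g) (by rw [mul_smul]; exact smul_finset_subset_smul_finset_iff.mpr hg)
    rw [mul_smul, ← inv_smul_mem_iff] at this
    exact this
  · intro hz g hg
    have := hz (h⁻¹ * g) (by rw [mul_smul, ← smul_finset_subset_iff]; exact hg)
    rwa [mul_smul, smul_mem_smul_finset_iff] at this

theorem exists_smul_finset (ht : IsMultiplyPretransitive G Ω t) (htn : t ≤ Fintype.card Ω)
    {A A' : Finset Ω} (hA : A.card ≤ t) (h : A.card = A'.card) : ∃ g : G, g • A = A' := by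
  let e := Finset.equivOfCardEq h
  obtain ⟨g, hg⟩ := exists_smul_map ht htn hA (fun x => (e x : Ω)) (Subtype.val_injective.comp e.injective)
  refine ⟨g, eq_of_subset_of_card_le ?_ (by rw [card_smul_finset, h])⟩
  intro z hz
  obtain ⟨x, hx, rfl⟩ := mem_smul_finset.mp hz
  rw [hg ⟨x, hx⟩]
  exact (e _).2

theorem exists_translate (ht : IsMultiplyPretransitive G Ω t) (htn : t ≤ Fintype.card Ω)
    {A : Finset Ω} (hA : A.card ≤ t) (hAF : A.card ≤ F.card) : ∃ g : G, A ⊆ g • F := by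
  obtain ⟨A', hA', hc⟩ := exists_subset_card_eq hAF
  obtain ⟨g, hg⟩ := exists_smul_finset ht htn (A := A') (A' := A) (hc.le.trans hA) hc
  exact ⟨g, hg ▸ smul_finset_subset_smul_finset hA'⟩

theorem cl_eq_of_subset (ht : IsMultiplyPretransitive G Ω t) (htn : t ≤ Fintype.card Ω)
    {A A' : Finset Ω} (hA : A.card = t) (hA' : A'.card = t) (h : A' ⊆ cl G F A) :
    cl G F A' = cl G F A := by
  obtain ⟨g, hg⟩ := exists_smul_finset ht htn hA.le (hA.trans hA'.symm)
  refine eq_of_subset_of_card_le (fun z hz => mem_cl.mpr fun k hk => mem_cl.mp hz k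
    fun w hw => mem_cl.mp (h hw) k hk) ?_
  rw [← hg, cl_smul, card_smul_finset]

theorem cl_card_eq (ht : IsMultiplyPretransitive G Ω t) (htn : t ≤ Fintype.card Ω)
    {A A' : Finset Ω} (hA : A.card = t) (hA' : A'.card = t) :
    (cl G F A').card = (cl G F A).card := by
  obtain ⟨g, hg⟩ := exists_smul_finset ht htn hA.le (hA.trans hA'.symm)
  rw [← hg, cl_smul, card_smul_finset]

/-- The pointwise stabiliser of `A` is transitive outside the closure of `A`. -/
theorem fix_transitive (hF : ∀ x ∉ F, ∀ y ∉ F, ∃ g : G, (∀ z ∈ F, g • z = z) ∧ g • x = y)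
    {A : Finset Ω} (hsmall : 2 * F.card < Fintype.card Ω + A.card) {x y : Ω}
    (hx : x ∉ cl G F A) (hy : y ∉ cl G F A) :
    ∃ g : G, (∀ a ∈ A, g • a = a) ∧ g • x = y := by
  rw [mem_cl] at hx hy
  push Not at hx hy
  obtain ⟨g₁, hA₁, hx₁⟩ := hx
  obtain ⟨g₂, hA₂, hy₂⟩ := hy
  obtain ⟨z, hz⟩ : ((g₁ • F) ∪ (g₂ • F))ᶜ.Nonempty := by
    rw [← card_pos, card_compl]
    have h1 := card_union_add_card_inter (g₁ • F) (g₂ • F)
    have h2 := card_le_card (subset_inter hA₁ hA₂)
    rw [card_smul_finset, card_smul_finset] at h1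
    omega
  simp only [mem_compl, mem_union, not_or] at hz
  have key : ∀ (g : G) (u v : Ω), u ∉ g • F → v ∉ g • F → ∃ k : G, (∀ a ∈ g • F, k • a = a) ∧ k • u = v := by
    intro g u v hu hv
    rw [← inv_smul_mem_iff] at hu hv
    obtain ⟨k, hk, huv⟩ := hF _ hu _ hv
    refine ⟨g * k * g⁻¹, fun a ha => ?_, by rw [mul_smul, mul_smul, huv, smul_inv_smul]⟩
    rw [← inv_smul_mem_iff] at ha
    rw [mul_smul, mul_smul, hk _ ha, smul_inv_smul]
  obtain ⟨k₁, hk₁, e₁⟩ := key g₁ x z hx₁ hz.1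
  obtain ⟨k₂, hk₂, e₂⟩ := key g₂ z y hz.2 hy₂
  exact ⟨k₂ * k₁, fun a ha => by rw [mul_smul, hk₁ a (hA₁ ha), hk₂ a (hA₂ ha)],
    by rw [mul_smul, e₁, e₂]⟩

theorem succ_transitive (ht : IsMultiplyPretransitive G Ω t) (htn : t < Fintype.card Ω)
    (h : ∀ A : Finset Ω, A.card = t → ∀ x ∉ A, ∀ y ∉ A, ∃ g : G, (∀ a ∈ A, g • a = a) ∧ g • x = y) :
    IsMultiplyPretransitive G Ω (t + 1) := by
  refine ⟨fun a c => ?_⟩
  obtain ⟨g, hg⟩ := exists_smul_eq G (Fin.castSuccEmb.trans a) (Fin.castSuccEmb.trans c)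
  have hg' : ∀ i : Fin t, g • a i.castSucc = c i.castSucc := fun i =>
    congrArg (fun e : Fin t ↪ Ω => e i) hg
  let A := univ.map (Fin.castSuccEmb.trans c)
  have hnot : ∀ u : Fin (t + 1) ↪ Ω, ∀ i : Fin t, u i.castSucc ≠ u (Fin.last t) :=
    fun u i e => i.castSucc_lt_last.ne (u.injective e)
  obtain ⟨k, hk, hkl⟩ := h A (by simp [A]) (g • a (Fin.last t))
    (by simp only [A, mem_map, mem_univ, true_and, not_exists]
        intro i e
        exact hnot a i (smul_left_cancel g ((hg' i).trans e)))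
    (c (Fin.last t))
    (by simp only [A, mem_map, mem_univ, true_and, not_exists]
        exact fun i e => hnot c i e)
  refine ⟨k * g, Function.Embedding.ext fun i => ?_⟩
  show (k * g) • a i = c i
  induction i using Fin.lastCases with
  | last => rw [mul_smul, hkl]
  | cast j => rw [mul_smul, hg' j]; exact hk _ (mem_map.mpr ⟨j, mem_univ _, rfl⟩)

/-- The key step: without three-cycles the degree of transitivity keeps growing. -/
theorem step [FaithfulSMul G Ω] (hno : ∀ x : G, ¬ (MulAction.toPerm x : Equiv.Perm Ω).IsThreeCycle)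
    {d : ℕ} (hd : 2 ≤ d) (hn : Fintype.card Ω = 2 * d + 1) (hFc : F.card = d + 1)
    (hF : ∀ x ∉ F, ∀ y ∉ F, ∃ g : G, (∀ z ∈ F, g • z = z) ∧ g • x = y)
    (ht4 : 4 ≤ t) (htn : t < Fintype.card Ω) (ht : IsMultiplyPretransitive G Ω t) :
    IsMultiplyPretransitive G Ω (t + 1) := by
  classical
  have hmoved : ∀ g : G, g ≠ 1 →
      t < (MulAction.toPerm g : Equiv.Perm Ω).support.card ∨
        Fintype.card Ω + 1 < 2 * (MulAction.toPerm g : Equiv.Perm Ω).support.card := by
    intro g hg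
    by_contra h
    push Not at h
    obtain ⟨x, hx⟩ := threeCycle_of_small_support ht htn.le hg h.1 h.2
    exact hno x hx
  obtain ⟨x₁, hx₁, y₁, hy₁, hxy₁⟩ := (one_lt_card (s := Fᶜ)).mp (by rw [card_compl]; omega)
  have hKsupp : ∀ k : G, (∀ z ∈ F, k • z = z) → (MulAction.toPerm k : Equiv.Perm Ω).support.card ≤ d := by
    intro k hk
    have : (MulAction.toPerm k : Equiv.Perm Ω).support ⊆ Fᶜ := fun z hz =>
      mem_compl.mpr fun hzF => Equiv.Perm.mem_support.mp hz (hk z hzF)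
    have := card_le_card this
    rw [card_compl] at this
    omega
  have htd : t < d := by
    obtain ⟨k, hk, hk1⟩ := hF x₁ (mem_compl.mp hx₁) y₁ (mem_compl.mp hy₁)
    have := hKsupp k hk
    rcases hmoved k (fun e => hxy₁ (by rw [← hk1, e, one_smul])) with h | h <;> omega
  have htn' := htn.le
  obtain ⟨A₀, hA₀F, hA₀⟩ := exists_subset_card_eq (s := F) (n := t) (by omega)
  set b := (cl G F A₀).card with hbdef
  have hb : ∀ A : Finset Ω, A.card = t → (cl G F A).card = b := fun A hA => cl_card_eq ht htn' hA₀ hA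
  have heq : ∀ A A' : Finset Ω, A.card = t → A'.card = t → A' ⊆ cl G F A → cl G F A' = cl G F A :=
    fun A A' h h' => cl_eq_of_subset ht htn' h h'
  by_cases hbt : b = t
  · refine succ_transitive ht htn fun A hA x hx y hy => ?_
    have e : cl G F A = A := (eq_of_subset_of_card_le (subset_cl A) (by rw [hb A hA, hbt, hA])).symm
    exact fix_transitive hF (by omega) (e.symm ▸ hx) (e.symm ▸ hy)
  exfalso
  have htb : t < b := lt_of_le_of_ne (hA₀ ▸ card_le_card (subset_cl A₀)) (Ne.symm hbt)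
  obtain ⟨x₀, hx₀⟩ : ∃ x₀, x₀ ∉ F := ⟨x₁, mem_compl.mp hx₁⟩
  obtain ⟨P₀, hP₀F, hP₀⟩ := exists_subset_card_eq (s := F) (n := t - 2) (by omega)
  by_cases hb2 : t + 2 ≤ b
  · have hS : (F \ P₀).card = d + 3 - t := by rw [card_sdiff_of_subset hP₀F]; omega
    have hsb := sub_bound subset_cl hb heq (P := P₀) (S := F \ P₀) (x := x₀) (by omega) disjoint_sdiff
      (fun h => hx₀ (hP₀F h)) (fun h => hx₀ (mem_sdiff.mp h).1) (fun a ha c hc _ => by
        rw [union_sdiff_of_subset hP₀F]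
        exact cl_subset (insert_subset_iff.mpr ⟨(mem_sdiff.mp ha).1,
          insert_subset_iff.mpr ⟨(mem_sdiff.mp hc).1, hP₀F⟩⟩))
    have h3 : (d + 3 - t) * 3 ≤ (F \ P₀).card * (b - t + 1) := hS ▸ Nat.mul_le_mul_left _ (by omega)
    have h2t : d + 7 ≤ 2 * t := by omega
    by_cases hT : ∃ T ⊆ F, T.card = t + 1 ∧ ∀ A : Finset Ω, A.card = t → ¬ T ⊆ cl G F A
    · obtain ⟨T, hTF, hTc, hT'⟩ := hT
      have := tits_bound subset_cl hb heq hTF hTc (fun A _ h => cl_subset h) hT'
      have : (t + 1) * 3 ≤ (t + 1) * (b - t + 1) := Nat.mul_le_mul_left _ (by omega)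
      omega
    push Not at hT
    have hclF : cl G F A₀ = F := by
      refine (cl_subset hA₀F).antisymm fun y hy => ?_
      by_cases hyA : y ∈ A₀
      · exact subset_cl _ hyA
      obtain ⟨A, hAc, hA⟩ := hT (insert y A₀) (insert_subset_iff.mpr ⟨hy, hA₀F⟩)
        (by rw [card_insert_of_notMem hyA, hA₀])
      rw [heq A A₀ hAc hA₀ ((subset_insert _ _).trans hA)]
      exact hA (mem_insert_self _ _)
    have hbd : b = d + 1 := by rw [hbdef, hclF, hFc]
    have := tits_bound subset_cl hb heq (subset_univ (insert x₀ A₀))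
      (by rw [card_insert_of_notMem fun h => hx₀ (hA₀F h), hA₀]) (fun A _ _ => subset_univ _)
      (fun A hA h => hx₀ (by
        rw [← hclF, heq A A₀ hA hA₀ ((subset_insert _ _).trans h)]
        exact h (mem_insert_self _ _)))
    rw [card_univ, hbd, hn] at this
    obtain ⟨j, rfl⟩ : ∃ j, d = t + j := ⟨d - t, by omega⟩
    rw [show t + j + 1 - t + 1 = j + 2 by omega] at this
    nlinarith
  -- blocks have exactly one point more than `t`
  have hb1 : b = t + 1 := by omega
  obtain ⟨z, hzF, hzP⟩ := exists_mem_notMem_of_card_lt_card (s := P₀) (t := F) (by omega)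
  set A := insert x₀ (insert z P₀) with hAdef
  have hx₀P : x₀ ∉ insert z P₀ := fun h => hx₀ (insert_subset_iff.mpr ⟨hzF, hP₀F⟩ h)
  have hAc : A.card = t := by
    rw [hAdef, card_insert_of_notMem hx₀P, card_insert_of_notMem hzP]; omega
  obtain ⟨y, hy⟩ := card_eq_one.mp (show (cl G F A \ A).card = 1 by
    rw [card_sdiff_of_subset (subset_cl _), hb A hAc, hAc, hb1]; omega)
  have hyA : y ∈ cl G F A ∧ y ∉ A := mem_sdiff.mp (hy ▸ mem_singleton_self y)
  have hyzP : y ∉ insert z P₀ := fun h => hyA.2 (mem_insert_of_mem h)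
  have hA' : (insert y (insert z P₀)).card = t := by
    rw [card_insert_of_notMem hyzP, card_insert_of_notMem hzP]; omega
  have hclA' := heq A _ hAc hA' (insert_subset_iff.mpr ⟨hyA.1, (subset_insert _ _).trans (subset_cl A)⟩)
  have hyF : y ∉ F := fun h => hx₀ (cl_subset (A := insert y (insert z P₀))
    (insert_subset_iff.mpr ⟨h, insert_subset_iff.mpr ⟨hzF, hP₀F⟩⟩)
    (hclA'.symm ▸ subset_cl A (mem_insert_self _ _)))
  obtain ⟨g, hgF, hgxy⟩ := hF x₀ hx₀ y hyF
  have hgA : g • A = insert y (insert z P₀) := by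
    rw [hAdef, smul_finset_insert, hgxy]
    congr 1
    exact eq_of_subset_of_card_le (fun w hw => by
      obtain ⟨u, hu, rfl⟩ := mem_smul_finset.mp hw
      rwa [hgF u (insert_subset_iff.mpr ⟨hzF, hP₀F⟩ hu)]) (by rw [card_smul_finset])
  have hgB : g • cl G F A = cl G F A := by rw [← cl_smul, hgA, hclA']
  have hgyx : g • y = x₀ := by
    have h1 : g • y ∈ cl G F A := hgB ▸ smul_mem_smul_finset hyA.1
    have h2 : g • y ∉ insert z P₀ := fun h => by
      have h' := hgF _ (insert_subset_iff.mpr ⟨hzF, hP₀F⟩ h)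
      exact hyzP ((smul_left_cancel g h') ▸ h)
    have h3 : g • y ≠ y := fun e => hyA.2 (by
      rw [show y = x₀ from smul_left_cancel g (e.trans hgxy.symm)]
      exact mem_insert_self _ _)
    by_contra h4
    have h5 : g • y ∈ cl G F A \ A :=
      mem_sdiff.mpr ⟨h1, by rw [hAdef, mem_insert]; exact not_or.mpr ⟨h4, h2⟩⟩
    rw [hy, mem_singleton] at h5
    exact h3 h5
  have hxy : x₀ ≠ y := fun e => hyA.2 (e ▸ mem_insert_self _ _)
  have hpow : ∀ k : ℕ, g ^ (2 * k + 1) • x₀ = y := fun k => by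
    induction k with
    | zero => simpa using hgxy
    | succ k ih => rw [show 2 * (k + 1) + 1 = (2 * k + 1) + 1 + 1 by omega, pow_succ', mul_smul, pow_succ',
        mul_smul, ih, hgyx, hgxy]
  have : Finite G := Finite.of_injective (MulAction.toPermHom G Ω) MulAction.toPerm_injective
  obtain ⟨l, hl⟩ : ∃ l, orderOf g = 2 * l := by
    rcases Nat.even_or_odd' (orderOf g) with ⟨l, h | h⟩
    · exact ⟨l, h⟩
    · have := hpow l
      rw [← h, pow_orderOf_eq_one, one_smul] at this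
      exact absurd this hxy
  set i := g ^ l with hidef
  have hlpos : 0 < l := by have := orderOf_pos g; omega
  have hi2 : ∀ w : Ω, i • i • w = w := fun w => by
    rw [← mul_smul, hidef, ← pow_add, ← two_mul, ← hl, pow_orderOf_eq_one, one_smul]
  have hi1 : i ≠ 1 := fun e => by
    have := Nat.le_of_dvd hlpos (orderOf_dvd_of_pow_eq_one e)
    omega
  have hiF : ∀ w ∈ F, i • w = w := fun w hw => by
    have : ∀ k : ℕ, g ^ k • w = w := fun k => by
      induction k with
      | zero => simp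
      | succ k ih => rw [pow_succ, mul_smul, hgF w hw, ih]
    exact this l
  set Mv := univ.filter fun w : Ω => i • w ≠ w with hMvdef
  have hMv : t < Mv.card := by
    have e : (MulAction.toPerm i : Equiv.Perm Ω).support = Mv := by ext w; simp [Mv]
    have := hKsupp i hiF
    rcases hmoved i hi1 with h | h <;> rw [e] at * <;> omega
  obtain ⟨P₁, hP₁, hP₁c, hP₁i⟩ := exists_invariant_pairs (fun w => i • w) hi2 ((t - 2) / 2)
    (show 2 * ((t - 2) / 2) ≤ Mv.card by omega)
  -- at most one fixed point completes `P₁`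
  obtain ⟨R, hRF, hRc⟩ := exists_subset_card_eq (s := F) (n := (t - 2) % 2) (by omega)
  have hP₁R : Disjoint P₁ R := Finset.disjoint_left.mpr fun w hw hwR =>
    (mem_filter.mp (hP₁ hw)).2 (hiF w (hRF hwR))
  set P := P₁ ∪ R with hPdef
  have hPc : P.card + 2 = t := by rw [hPdef, card_union_of_disjoint hP₁R, hP₁c, hRc]; omega
  have hPi : ∀ w ∈ P, i • w ∈ P := by
    intro w hw
    rcases mem_union.mp hw with h | h
    · exact mem_union_left _ (hP₁i w h)
    · exact mem_union_right _ ((hiF w (hRF h)).symm ▸ h)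
  set S := (univ.filter fun w : Ω => i • w = w) \ P with hSdef
  have hSc : d ≤ S.card := by
    have h1 : F \ R ⊆ S := fun w hw => by
      rw [mem_sdiff] at hw
      refine mem_sdiff.mpr ⟨mem_filter.mpr ⟨mem_univ _, hiF w hw.1⟩, fun h => ?_⟩
      rcases mem_union.mp h with h | h
      · exact (mem_filter.mp (hP₁ h)).2 (hiF w hw.1)
      · exact hw.2 h
    have := card_le_card h1
    rw [card_sdiff_of_subset hRF] at this
    omega
  obtain ⟨x, hxM, hxP₁⟩ := exists_mem_notMem_of_card_lt_card (s := P₁) (t := Mv) (by omega)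
  have hxm : i • x ≠ x := (mem_filter.mp hxM).2
  have hxP : x ∉ P := fun h => (mem_union.mp h).elim hxP₁ fun h => hxm (hiF x (hRF h))
  have hsb := sub_bound subset_cl hb heq (P := P) (S := S) (x := x) hPc disjoint_sdiff hxP
    (fun h => hxm (mem_filter.mp (mem_sdiff.mp h).1).2) (fun a ha c hc hac => by
      obtain ⟨hai, haP⟩ := mem_sdiff.mp ha
      obtain ⟨hci, hcP⟩ := mem_sdiff.mp hc
      set Q := insert a (insert c P) with hQ
      have hai' : i • a = a := (mem_filter.mp hai).2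
      have hci' : i • c = c := (mem_filter.mp hci).2
      have hQi : ∀ w ∈ Q, i • w ∈ Q := fun w hw => by
        simp only [Q, mem_insert] at hw ⊢
        rcases hw with rfl | rfl | hw
        · exact Or.inl hai'
        · exact Or.inr (Or.inl hci')
        · exact Or.inr (Or.inr (hPi w hw))
      have hiQ : i • Q = Q := eq_of_subset_of_card_le (fun w hw => by
        obtain ⟨u, hu, rfl⟩ := mem_smul_finset.mp hw
        exact hQi u hu) (by rw [card_smul_finset])
      have hQc : Q.card = t := by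
        rw [hQ, card_insert_of_notMem (by simp [hac, haP]), card_insert_of_notMem hcP]; omega
      have hiB : i • cl G F Q = cl G F Q := by rw [← cl_smul, hiQ]
      intro w hw
      by_cases hwP : w ∈ P
      · exact mem_union_left _ hwP
      refine mem_union_right _ (mem_sdiff.mpr ⟨mem_filter.mpr ⟨mem_univ _, ?_⟩, hwP⟩)
      by_cases hwQ : w ∈ Q
      · simp only [Q, mem_insert] at hwQ
        rcases hwQ with rfl | rfl | h
        · exact hai'
        · exact hci'
        · exact absurd h hwP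
      obtain ⟨v, hv⟩ := card_eq_one.mp (show (cl G F Q \ Q).card = 1 by
        rw [card_sdiff_of_subset (subset_cl _), hb Q hQc, hQc, hb1]; omega)
      have h1 : w = v := mem_singleton.mp (hv ▸ mem_sdiff.mpr ⟨hw, hwQ⟩)
      have h2 : i • w = v := mem_singleton.mp (hv ▸ mem_sdiff.mpr
        ⟨hiB ▸ smul_mem_smul_finset hw, fun h => hwQ (hi2 w ▸ hQi _ h)⟩)
      rw [h2, h1])
  rw [show b - t + 1 = 2 by omega, hn] at hsb
  omega

end Closure

universe u v

/-- **Marggraff.** A primitive group with a Jordan set smaller than half of the points has a three-cycle. -/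
theorem exists_threeCycle (n : ℕ) : ∀ {G : Type u} {Ω : Type v} [Group G] [MulAction G Ω] [FaithfulSMul G Ω]
    [Fintype Ω] [DecidableEq Ω], Fintype.card Ω = n → IsPreprimitive G Ω → ∀ Γ : Set Ω, 1 < Γ.ncard →
    2 * Γ.ncard < n → (∀ x ∈ Γ, ∀ y ∈ Γ, ∃ g : G, (∀ z ∉ Γ, g • z = z) ∧ g • x = y) →
    ∃ g : G, (MulAction.toPerm g : Equiv.Perm Ω).IsThreeCycle := by
  induction n using Nat.strong_induction_on with
  | _ n ih =>
    intro G Ω _ _ _ _ _ hn hprim Γ h1 h2 htr
    classical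
    have : Finite G := Finite.of_injective (MulAction.toPermHom G Ω) MulAction.toPerm_injective
    have hN : Nat.card Ω = n := by rw [Nat.card_eq_fintype_card, hn]
    have h3 := Cfsg.Agent.S3707.result hprim Γ h1 (by omega) htr
    obtain ⟨α, hα⟩ : ∃ α, α ∉ Γ := by
      by_contra h
      push Not at h
      rw [Set.eq_univ_of_forall h, Set.ncard_univ] at h2
      omega
    have htr' : IsPretransitive G Ω := hprim.toIsPretransitive
    set X := SubMulAction.ofStabilizer G α with hX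
    let _ : Fintype ↥X := Fintype.ofFinite _
    have hXc : Fintype.card ↥X = n - 1 := by
      rw [← Nat.card_eq_fintype_card]
      have : Nat.card {z : Ω // z ≠ α} = n - 1 := by
        rw [Nat.card_eq_fintype_card, Fintype.card_subtype_compl, Fintype.card_subtype_eq, hn]
      exact this
    have h2X : IsMultiplyPretransitive (stabilizer G α) ↥X 2 :=
      (SubMulAction.ofStabilizer.isMultiplyPretransitive (n := 2)).mp h3
    have hprimX : IsPreprimitive (stabilizer G α) ↥X := isPreprimitive_of_is_two_pretransitive h2X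
    have : FaithfulSMul (stabilizer G α) ↥X := ⟨fun {g k} h => Subtype.ext (FaithfulSMul.eq_of_smul_eq_smul
      fun z : Ω => by
        by_cases hz : z = α
        · subst hz; exact (mem_stabilizer_iff.mp g.2).trans (mem_stabilizer_iff.mp k.2).symm
        · exact congrArg Subtype.val (h ⟨z, hz⟩))⟩
    set Γ' : Set ↥X := Subtype.val ⁻¹' Γ with hΓ'
    have hΓ'c : Γ'.ncard = Γ.ncard :=
      Set.ncard_preimage_of_injective_subset_range Subtype.val_injective
        (fun z hz => ⟨⟨z, fun e => hα (e ▸ hz : α ∈ Γ)⟩, rfl⟩)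
    have htrX : ∀ x ∈ Γ', ∀ y ∈ Γ', ∃ g : stabilizer G α, (∀ z ∉ Γ', g • z = z) ∧ g • x = y := by
      intro x hx y hy
      obtain ⟨g, hg, hxy⟩ := htr _ hx _ hy
      exact ⟨⟨g, hg α hα⟩, fun z hz => Subtype.ext (hg _ hz), Subtype.ext hxy⟩
    by_cases hlarge : 2 * Γ.ncard + 2 ≤ n
    · obtain ⟨g, hg⟩ := ih (n - 1) (by omega) (G := ↥(stabilizer G α)) (Ω := ↥X) hXc hprimX Γ' (hΓ'c ▸ h1)
        (by omega) htrX
      refine ⟨g, ?_⟩
      rw [← card_support_eq_three_iff] at hg ⊢
      rw [← hg, ← Finset.card_map ⟨(Subtype.val : ↥X → Ω), Subtype.val_injective⟩]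
      congr 1
      ext z
      simp only [Equiv.Perm.mem_support, MulAction.toPerm_apply, Finset.mem_map, Function.Embedding.coeFn_mk]
      constructor
      · intro hz
        have hzα : z ≠ α := fun e => hz (e ▸ g.2)
        exact ⟨⟨z, hzα⟩, fun e => hz (congrArg Subtype.val e), rfl⟩
      · rintro ⟨w, hw, rfl⟩ e
        exact hw (Subtype.ext e)
    · by_contra hno
      push Not at hno
      set d := Γ.ncard with hd
      have hn' : Fintype.card Ω = 2 * d + 1 := by omega
      have h3X : IsMultiplyPretransitive (stabilizer G α) ↥X 3 :=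
        Cfsg.Agent.S3707.result hprimX Γ' (hΓ'c ▸ h1)
          (by rw [Nat.card_eq_fintype_card, hXc, hΓ'c]; omega) htrX
      have h4 : IsMultiplyPretransitive G Ω 4 :=
        (SubMulAction.ofStabilizer.isMultiplyPretransitive (n := 3)).mpr h3X
      set F : Finset Ω := Γᶜ.toFinset with hFdef
      have hFc : F.card = d + 1 := by
        rw [hFdef, ← Set.ncard_eq_toFinset_card']
        have := Set.ncard_add_ncard_compl Γ
        omega
      have hF : ∀ x ∉ F, ∀ y ∉ F, ∃ g : G, (∀ z ∈ F, g • z = z) ∧ g • x = y := by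
        intro x hx y hy
        obtain ⟨g, hg, hxy⟩ := htr x (by simpa [F] using hx) y (by simpa [F] using hy)
        exact ⟨g, fun z hz => hg z (by simpa [F] using hz), hxy⟩
      have h5 : 5 ≤ n := by omega
      have hall : ∀ t, 4 ≤ t → t ≤ Fintype.card Ω → IsMultiplyPretransitive G Ω t := by
        intro t ht
        induction t, ht using Nat.le_induction with
        | base => exact fun _ => h4
        | succ t ht iht => exact fun htn => step hno (by omega) hn' hFc hF ht htn (iht (by omega))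
      obtain ⟨a, b, c, hab, hac, hbc⟩ := (Fintype.two_lt_card_iff (α := Ω)).mp (by omega)
      let σ : Equiv.Perm Ω := Equiv.swap a b * Equiv.swap a c
      obtain ⟨g, hg⟩ := exists_smul_map (hall _ (by omega) le_rfl) le_rfl (s := (univ : Finset Ω))
        (le_of_eq card_univ) (fun x => σ x) (σ.injective.comp Subtype.val_injective)
      refine hno g ?_
      rw [show (MulAction.toPerm g : Equiv.Perm Ω) = σ from Equiv.ext fun x => hg ⟨x, mem_univ x⟩]
      exact Equiv.Perm.isThreeCycle_swap_mul_swap_same hab hac hbc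

end Group

/-- A subgroup with a three-cycle that is normalised by the even permutations contains all of them. -/
theorem alternating_le_of_normalised {S : Type*} [Fintype S] [DecidableEq S] (H : Subgroup (Equiv.Perm S))
    (hH : ∀ τ : Equiv.Perm S, Equiv.Perm.sign τ = 1 → ∀ h ∈ H, τ * h * τ⁻¹ ∈ H)
    {a b c : S} (hab : a ≠ b) (hac : a ≠ c) (hbc : b ≠ c) (hρ : Equiv.swap a b * Equiv.swap a c ∈ H) :
    alternatingGroup S ≤ H := by
  rw [← Equiv.Perm.closure_three_cycles_eq_alternating, Subgroup.closure_le]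
  intro σ hσ
  set ρ := Equiv.swap a b * Equiv.swap a c with hρdef
  have hρ3 : ρ.IsThreeCycle := Equiv.Perm.isThreeCycle_swap_mul_swap_same hab hac hbc
  obtain ⟨τ, hτ⟩ := isConj_iff.mp (Equiv.Perm.isConj_iff_cycleType_eq.mpr
    (show ρ.cycleType = σ.cycleType by rw [hρ3, (show σ.IsThreeCycle from hσ)]))
  rcases Int.units_eq_one_or (Equiv.Perm.sign τ) with h | h
  · exact hτ ▸ hH τ h ρ hρ
  · have h' : Equiv.Perm.sign (τ * Equiv.swap b c) = 1 := by
      rw [map_mul, h, Equiv.Perm.sign_swap hbc]; rfl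
    have := hH _ h' ρ⁻¹ (H.inv_mem hρ)
    have e : Equiv.swap b c * ρ⁻¹ * (Equiv.swap b c)⁻¹ = ρ := by
      rw [hρdef, mul_inv_rev, Equiv.swap_inv, Equiv.swap_inv,
        show Equiv.swap b c * (Equiv.swap a c * Equiv.swap a b) * (Equiv.swap b c)⁻¹ =
          (Equiv.swap b c * Equiv.swap a c * (Equiv.swap b c)⁻¹) *
            (Equiv.swap b c * Equiv.swap a b * (Equiv.swap b c)⁻¹) by group,
        ← Equiv.swap_apply_apply, ← Equiv.swap_apply_apply, Equiv.swap_apply_of_ne_of_ne hab hac,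
        Equiv.swap_apply_right, Equiv.swap_apply_left]
    rw [show τ * Equiv.swap b c * ρ⁻¹ * (τ * Equiv.swap b c)⁻¹ =
      τ * (Equiv.swap b c * ρ⁻¹ * (Equiv.swap b c)⁻¹) * τ⁻¹ by simp [mul_assoc], e, hτ] at this
    exact this

theorem commutator_cycle {S : Type*} [DecidableEq S] {x y u v : S} (hxy : x ≠ y) (hxu : x ≠ u) (hxv : x ≠ v)
    (hyu : y ≠ u) (hyv : y ≠ v) (huv : u ≠ v) :
    Equiv.swap y v * Equiv.swap y u * (Equiv.swap x u * Equiv.swap x v) = Equiv.swap u y * Equiv.swap u x := by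
  refine Equiv.ext fun z => ?_
  rw [Equiv.Perm.mul_apply, Equiv.Perm.mul_apply, Equiv.Perm.mul_apply, Equiv.Perm.mul_apply]
  by_cases h1 : z = x
  · simp [h1, Equiv.swap_apply_of_ne_of_ne, hxy, hxy.symm, hxu, hxu.symm, hxv, hxv.symm, hyu, hyu.symm, hyv, hyv.symm, huv, huv.symm]
  by_cases h2 : z = y
  · simp [h2, Equiv.swap_apply_of_ne_of_ne, hxy, hxy.symm, hxu, hxu.symm, hxv, hxv.symm, hyu, hyu.symm, hyv, hyv.symm, huv, huv.symm]
  by_cases h3 : z = u
  · simp [h3, Equiv.swap_apply_of_ne_of_ne, hxy, hxy.symm, hxu, hxu.symm, hxv, hxv.symm, hyu, hyu.symm, hyv, hyv.symm, huv, huv.symm]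
  by_cases h4 : z = v
  · simp [h4, Equiv.swap_apply_of_ne_of_ne, hxy, hxy.symm, hxu, hxu.symm, hxv, hxv.symm, hyu, hyu.symm, hyv, hyv.symm, huv, huv.symm]
  · simp [h1, h2, h3, h4, Equiv.swap_apply_of_ne_of_ne]

section Quasi

variable {G Ω : Type*} [Group G] [MulAction G Ω] [FaithfulSMul G Ω] [Fintype Ω] [DecidableEq Ω]

/-- Marggraff's theorem for primitive groups, in terms of even permutations. -/
theorem even_exists_of_primitive (hprim : IsPreprimitive G Ω) (Γ : Set Ω) (h1 : 1 < Γ.ncard)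
    (h2 : 2 * Γ.ncard < Fintype.card Ω)
    (htr : ∀ x ∈ Γ, ∀ y ∈ Γ, ∃ g : G, (∀ z ∉ Γ, g • z = z) ∧ g • x = y)
    (σ : Equiv.Perm Ω) (hσ : Equiv.Perm.sign σ = 1) : ∃ g : G, MulAction.toPerm g = σ := by
  obtain ⟨g, hg⟩ := exists_threeCycle _ rfl hprim Γ h1 h2 htr
  let P := (MulAction.toPermHom G Ω).range
  have : IsPreprimitive P Ω :=
    IsPreprimitive.of_surjective
      (φ := (MulAction.toPermHom G Ω).rangeRestrict) (f := (⟨id, fun _ _ => rfl⟩ :
        Ω →ₑ[((MulAction.toPermHom G Ω).rangeRestrict : G → P)] Ω)) Function.surjective_id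
  exact Equiv.Perm.alternatingGroup_le_of_isPreprimitive_of_isThreeCycle_mem this hg ⟨g, rfl⟩
    (Equiv.Perm.mem_alternatingGroup.mpr hσ)

/-- A quasiprimitive group with a Jordan set smaller than half of the points is primitive. -/
theorem isPreprimitive_of_quasiprimitive
    (hqp : ∀ N : Subgroup G, N.Normal → N ≠ ⊥ → IsPretransitive ↥N Ω)
    (Γ : Set Ω) (h1 : 1 < Γ.ncard) (h2 : 2 * Γ.ncard < Fintype.card Ω)
    (htr : ∀ x ∈ Γ, ∀ y ∈ Γ, ∃ g : G, (∀ z ∉ Γ, g • z = z) ∧ g • x = y) :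
    IsPreprimitive G Ω := by
  classical
  obtain ⟨x₁, y₁, hx₁, hy₁, hxy₁⟩ := (Set.one_lt_ncard_iff (s := Γ)).mp h1
  obtain ⟨k₀, hk₀, hk₀x⟩ := htr x₁ hx₁ y₁ hy₁
  have : Nontrivial Ω := ⟨⟨x₁, y₁, hxy₁⟩⟩
  have : IsPretransitive G Ω := by
    have := hqp ⊤ inferInstance (fun h => by
      have : k₀ = 1 := Subgroup.mem_bot.mp (h ▸ Subgroup.mem_top k₀)
      exact hxy₁ (by rw [← hk₀x, this, one_smul]))
    exact ⟨fun a b => (this.exists_smul_eq a b).elim fun g hg => ⟨g.1, hg⟩⟩
  have : Finite G := Finite.of_injective (MulAction.toPermHom G Ω) MulAction.toPerm_injective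
  obtain ⟨x₀, hx₀⟩ : ∃ x₀, x₀ ∉ Γ := by
    by_contra h
    push Not at h
    rw [Set.eq_univ_of_forall h, Set.ncard_univ, Nat.card_eq_fintype_card] at h2
    omega
  rw [← isCoatom_stabilizer_iff_preprimitive G x₀]
  obtain h | ⟨M, hM, hle⟩ := IsCoatomic.eq_top_or_exists_le_coatom (stabilizer G x₀)
  · obtain ⟨g, hg⟩ := exists_smul_eq G x₀ x₁
    have : g ∈ stabilizer G x₀ := h ▸ Subgroup.mem_top g
    exact absurd hx₁ (hg ▸ (mem_stabilizer_iff.mp this).symm ▸ hx₀)
  rcases eq_or_lt_of_le hle with h | hlt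
  · exact h ▸ hM
  exfalso
  choose sec hsec using fun w : Ω => exists_smul_eq G x₀ w
  let π : Ω → G ⧸ M := fun w => (sec w : G ⧸ M)
  have hπg : ∀ g : G, π (g • x₀) = (g : G ⧸ M) := fun g => QuotientGroup.eq.mpr
    (hle (show (sec (g • x₀))⁻¹ * g ∈ stabilizer G x₀ by
      rw [mem_stabilizer_iff, mul_smul, inv_smul_eq_iff, hsec]))
  have hπ : ∀ (g : G) (w : Ω), π (g • w) = g • π w := fun g w => by
    conv_lhs => rw [← hsec w, ← mul_smul, hπg]
    rfl
  have hπs : Function.Surjective π := fun b => QuotientGroup.induction_on b fun g => ⟨g • x₀, hπg g⟩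
  set b₀ : G ⧸ M := ((1 : G) : G ⧸ M) with hb₀def
  have hπ0 : π x₀ = b₀ := by simpa using hπg 1
  have hMne : M ≠ ⊤ := hM.1
  have hker : M.normalCore = ⊥ := by
    by_contra hne
    have := hqp _ M.normalCore_normal hne
    refine hMne (eq_top_iff.mpr fun g _ => ?_)
    obtain ⟨⟨m, hm⟩, hmx⟩ := exists_smul_eq (↥M.normalCore) x₀ (g • x₀)
    have h' : m⁻¹ * g ∈ M := hle (by
      rw [mem_stabilizer_iff, mul_smul, inv_smul_eq_iff]; exact hmx.symm)
    simpa using M.mul_mem (M.normalCore_le hm) h'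
  have : FaithfulSMul G (G ⧸ M) := ⟨fun {g k} h => by
    have : g⁻¹ * k ∈ (MulAction.toPermHom G (G ⧸ M)).ker := by
      rw [MonoidHom.mem_ker]
      ext z
      simp [mul_smul, ← h z]
    rw [← Subgroup.normalCore_eq_ker, hker, Subgroup.mem_bot] at this
    exact inv_mul_eq_one.mp this⟩
  let _ : Fintype (G ⧸ M) := Fintype.ofFinite _
  have hsingle : ¬ ∀ w ∈ Γ, π w = π x₁ := by
    intro h
    have : k₀ = 1 := FaithfulSMul.eq_of_smul_eq_smul fun b : G ⧸ M => by
      obtain ⟨w, rfl⟩ := hπs b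
      rw [one_smul]
      by_cases hw : w ∈ Γ
      · rw [h w hw, ← hπ, hk₀x, h y₁ hy₁]
      · rw [← hπ, hk₀ w hw]
    exact hxy₁ (by rw [← hk₀x, this, one_smul])
  have hsat : ∀ w z, π w = π z → z ∈ Γ → w ∈ Γ := by
    intro w z e hz
    by_contra hw
    refine hsingle fun y hy => ?_
    have : ∀ y ∈ Γ, π y = π w := fun y hy => by
      obtain ⟨k, hk, hky⟩ := htr z hz y hy
      rw [← hky, hπ, ← e, ← hπ, hk w hw]
    rw [this y hy, this x₁ hx₁]
  set Γ' := π '' Γ with hΓ'
  have hmemΓ' : ∀ w, π w ∈ Γ' ↔ w ∈ Γ := fun w =>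
    ⟨fun ⟨z, hz, e⟩ => hsat w z e.symm hz, fun h => ⟨w, h, rfl⟩⟩
  have h1' : 1 < Γ'.ncard := by
    push Not at hsingle
    obtain ⟨w, hw, hne⟩ := hsingle
    exact (Set.one_lt_ncard_iff (s := Γ')).mpr ⟨π w, π x₁, ⟨w, hw, rfl⟩, ⟨x₁, hx₁, rfl⟩, hne⟩
  let s : (G ⧸ M) → ℕ := fun b => (univ.filter fun w => π w = b).card
  have hs : ∀ b, s b = s b₀ := fun b => by
    obtain ⟨g, rfl⟩ : ∃ g : G, (g : G ⧸ M) = b := QuotientGroup.mk_surjective b
    refine Finset.card_bij' (fun w _ => g⁻¹ • w) (fun w _ => g • w) ?_ ?_ (fun w _ => smul_inv_smul g w)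
      (fun w _ => inv_smul_smul g w)
    · intro w hw
      simp only [mem_filter, mem_univ, true_and] at hw ⊢
      rw [hπ, hw]
      simp [hb₀def]
    · intro w hw
      simp only [mem_filter, mem_univ, true_and] at hw ⊢
      rw [hπ, hw]
      simp [hb₀def]
  have hn : Fintype.card Ω = Fintype.card (G ⧸ M) * s b₀ := by
    rw [← card_univ, Finset.card_eq_sum_card_fiberwise (f := π) (t := univ) (fun _ _ => mem_univ _),
      sum_congr rfl (fun b _ => hs b), sum_const, smul_eq_mul, card_univ]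
  have hd : Γ.ncard = Γ'.ncard * s b₀ := by
    rw [Set.ncard_eq_toFinset_card', Set.ncard_eq_toFinset_card',
      Finset.card_eq_sum_card_fiberwise (f := π) (t := Γ'.toFinset) (fun w hw => Set.mem_toFinset.mpr
        ((hmemΓ' w).mpr (Set.mem_toFinset.mp hw))),
      ← smul_eq_mul, ← sum_const]
    refine sum_congr rfl fun b hb => ?_
    rw [← hs b]
    congr 1
    ext w
    simp only [mem_filter, Set.mem_toFinset, mem_univ, true_and, and_iff_right_iff_imp]
    rintro rfl
    exact (hmemΓ' w).mp (Set.mem_toFinset.mp hb)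
  have h2' : 2 * Γ'.ncard < Fintype.card (G ⧸ M) := by
    rw [hn, hd, ← mul_assoc] at h2
    exact Nat.lt_of_mul_lt_mul_right h2
  have htr' : ∀ x ∈ Γ', ∀ y ∈ Γ', ∃ g : G, (∀ z ∉ Γ', g • z = z) ∧ g • x = y := by
    rintro _ ⟨x, hx, rfl⟩ _ ⟨y, hy, rfl⟩
    obtain ⟨g, hg, hxy⟩ := htr x hx y hy
    refine ⟨g, fun z hz => ?_, by rw [← hπ, hxy]⟩
    obtain ⟨w, rfl⟩ := hπs z
    rw [← hπ, hg w fun h => hz ((hmemΓ' w).mpr h)]
  have hstab : stabilizer G b₀ = M := by rw [hb₀def]; exact MulAction.stabilizer_quotient M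
  have hprim' : IsPreprimitive G (G ⧸ M) := by
    obtain ⟨g, hg⟩ : ∃ g, g ∉ M := by
      by_contra h
      push Not at h
      exact hMne (eq_top_iff.mpr fun g _ => h g)
    have : Nontrivial (G ⧸ M) := ⟨⟨(g : G ⧸ M), b₀, fun e => hg (by simpa [hb₀def] using QuotientGroup.eq.mp e.symm)⟩⟩
    rw [← isCoatom_stabilizer_iff_preprimitive G b₀, hstab]
    exact hM
  have hev := even_exists_of_primitive hprim' Γ' h1' h2' htr'
  -- the elements fixing the fibre over `b₀` pointwise
  let N := (fixingSubgroup G {w : Ω | π w = b₀}).map (MulAction.toPermHom G (G ⧸ M))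
  let H : Subgroup (Equiv.Perm {z : G ⧸ M // z ≠ b₀}) := N.comap Equiv.Perm.ofSubtype
  have hnorm : ∀ τ : Equiv.Perm {z : G ⧸ M // z ≠ b₀}, Equiv.Perm.sign τ = 1 → ∀ h ∈ H, τ * h * τ⁻¹ ∈ H := by
    intro τ hτ h hh
    obtain ⟨c, hc⟩ := hev (Equiv.Perm.ofSubtype τ) (by rw [Equiv.Perm.sign_ofSubtype, hτ])
    obtain ⟨f, hf, hf'⟩ := Subgroup.mem_map.mp hh
    have hcb : c⁻¹ • b₀ = b₀ := by
      rw [inv_smul_eq_iff]
      have := Equiv.Perm.congr_fun hc b₀
      rw [MulAction.toPerm_apply, Equiv.Perm.ofSubtype_apply_of_not_mem τ (by simp)] at this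
      exact this.symm
    refine Subgroup.mem_map.mpr ⟨c * f * c⁻¹, (mem_fixingSubgroup_iff G).mpr fun w hw => ?_, ?_⟩
    · rw [mul_smul, mul_smul, (mem_fixingSubgroup_iff G).mp hf (c⁻¹ • w)
        (show π (c⁻¹ • w) = b₀ by rw [hπ, hw, hcb]), smul_inv_smul]
    · rw [map_mul, map_mul, map_inv, hf', MulAction.toPermHom_apply, hc, map_mul, map_mul, map_inv]
  -- a three-cycle in `H`
  obtain ⟨x, y, hx, hy, hxy, k, hk, hkx⟩ : ∃ x y, x ∈ Γ' ∧ y ∈ Γ' ∧ x ≠ y ∧
      ∃ k : G, (∀ w ∉ Γ, k • w = w) ∧ k • x = y := by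
    obtain ⟨x, y, hx, hy, hxy⟩ := (Set.one_lt_ncard_iff (s := Γ')).mp h1'
    obtain ⟨a, ha, rfl⟩ := hx
    obtain ⟨c, hc, rfl⟩ := hy
    obtain ⟨k, hk, hkc⟩ := htr a ha c hc
    exact ⟨_, _, ⟨a, ha, rfl⟩, ⟨c, hc, rfl⟩, hxy, k, hk, by rw [← hπ, hkc]⟩
  have hb₀ : b₀ ∉ Γ' := hπ0 ▸ fun h => hx₀ ((hmemΓ' x₀).mp h)
  obtain ⟨u, hu, v, hv, huv⟩ := (one_lt_card (s := (univ.erase b₀) \ Γ'.toFinset)).mp (by
    have := le_card_sdiff Γ'.toFinset (univ.erase b₀)
    rw [card_erase_of_mem (mem_univ _), card_univ, ← Set.ncard_eq_toFinset_card'] at this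
    omega)
  simp only [mem_sdiff, mem_erase, mem_univ, and_true, Set.mem_toFinset] at hu hv
  have hxu : x ≠ u := fun e => hu.2 (e ▸ hx)
  have hxv : x ≠ v := fun e => hv.2 (e ▸ hx)
  have hyu : y ≠ u := fun e => hu.2 (e ▸ hy)
  have hyv : y ≠ v := fun e => hv.2 (e ▸ hy)
  have hxb : x ≠ b₀ := fun e => hb₀ (e ▸ hx)
  have hyb : y ≠ b₀ := fun e => hb₀ (e ▸ hy)
  set σ := Equiv.swap x v * Equiv.swap x u with hσ
  obtain ⟨c, hc⟩ := hev σ (Equiv.Perm.isThreeCycle_swap_mul_swap_same hxv hxu (Ne.symm huv)).sign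
  have hcb : c • b₀ = b₀ := by
    have := Equiv.Perm.congr_fun hc b₀
    rw [MulAction.toPerm_apply] at this
    rw [this]
    simp [σ, Equiv.swap_apply_of_ne_of_ne, Ne.symm hxb, Ne.symm hu.1, Ne.symm hv.1]
  have hkmem : k ∈ fixingSubgroup G {w : Ω | π w = b₀} :=
    (mem_fixingSubgroup_iff G).mpr fun w hw => hk w fun h => hb₀ (hw ▸ (hmemΓ' w).mpr h)
  have hkfix : ∀ z, z ∉ Γ' → k • z = z := fun z hz => by
    obtain ⟨w, rfl⟩ := hπs z
    rw [← hπ, hk w fun h => hz ((hmemΓ' w).mpr h)]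
  have hmem : k * (c * k⁻¹ * c⁻¹) ∈ fixingSubgroup G {w : Ω | π w = b₀} := by
    refine mul_mem hkmem ((mem_fixingSubgroup_iff G).mpr fun w hw => ?_)
    rw [mul_smul, mul_smul, (mem_fixingSubgroup_iff G).mp (inv_mem hkmem) (c⁻¹ • w)
      (show π (c⁻¹ • w) = b₀ by rw [hπ, hw, inv_smul_eq_iff, hcb]), smul_inv_smul]
  set ρ : Equiv.Perm {z : G ⧸ M // z ≠ b₀} :=
    Equiv.swap ⟨u, hu.1⟩ ⟨y, hyb⟩ * Equiv.swap ⟨u, hu.1⟩ ⟨x, hxb⟩ with hρ
  have hρH : ρ ∈ H := by
    refine Subgroup.mem_map.mpr ⟨_, hmem, ?_⟩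
    have hconj : ∀ (p : Equiv.Perm (G ⧸ M)) (a b : G ⧸ M),
        p * Equiv.swap a b * p⁻¹ = Equiv.swap (p a) (p b) := fun p a b => by
      rw [Equiv.swap_apply_apply]
    set K' : Equiv.Perm (G ⧸ M) := MulAction.toPermHom G (G ⧸ M) k with hK'
    rw [map_mul, map_mul, map_mul, map_inv, map_inv, MulAction.toPermHom_apply G _ c, hc, hρ,
      map_mul, Equiv.Perm.ofSubtype_swap_eq, Equiv.Perm.ofSubtype_swap_eq]
    calc K' * (σ * K'⁻¹ * σ⁻¹) = (K' * Equiv.swap x v * K'⁻¹) * (K' * Equiv.swap x u * K'⁻¹) * σ⁻¹ := by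
          rw [hσ]; group
      _ = Equiv.swap y v * Equiv.swap y u * (Equiv.swap x u * Equiv.swap x v) := by
          rw [hconj, hconj, hσ, mul_inv_rev, Equiv.swap_inv, Equiv.swap_inv]
          simp [K', hkx, hkfix v hv.2, hkfix u hu.2]
      _ = Equiv.swap u y * Equiv.swap u x :=
          commutator_cycle hxy hxu hxv hyu hyv huv
  have halt := alternating_le_of_normalised H hnorm (a := ⟨u, hu.1⟩) (b := ⟨y, hyb⟩) (c := ⟨x, hxb⟩)
    (fun e => hyu (congrArg Subtype.val e).symm) (fun e => hxu (congrArg Subtype.val e).symm)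
    (fun e => hxy (congrArg Subtype.val e).symm) hρH
  let A := (alternatingGroup (G ⧸ M)).comap (MulAction.toPermHom G (G ⧸ M))
  have hAne : A ≠ ⊥ := fun h => by
    have hcA : c ∈ A := Subgroup.mem_comap.mpr (by
      rw [MulAction.toPermHom_apply, hc]
      exact (Equiv.Perm.isThreeCycle_swap_mul_swap_same hxv hxu (Ne.symm huv)).mem_alternatingGroup)
    rw [h, Subgroup.mem_bot] at hcA
    have := Equiv.Perm.congr_fun hc x
    simp [hcA, σ, Equiv.swap_apply_of_ne_of_ne, hxu, Ne.symm hxu, huv] at this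
  have := hqp A (Subgroup.Normal.comap inferInstance _) hAne
  obtain ⟨m, hm, hmx⟩ : ∃ m ∈ M, m • x₀ ≠ x₀ := by
    obtain ⟨m, hm, hmS⟩ := SetLike.exists_of_lt hlt
    exact ⟨m, hm, hmS⟩
  obtain ⟨⟨a, ha⟩, hax⟩ := exists_smul_eq (↥A) x₀ (m • x₀)
  have hax' : a • x₀ = m • x₀ := hax
  have hab : a • b₀ = b₀ := by
    rw [← hπ0, ← hπ, hax', hπ0, hπg, hb₀def, QuotientGroup.eq]
    simpa using hm
  have hpres : ∀ z, (MulAction.toPerm a : Equiv.Perm (G ⧸ M)) z ≠ b₀ ↔ z ≠ b₀ := fun z =>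
    not_congr ⟨fun e => smul_left_cancel a (e.trans hab.symm), fun e => by rw [e]; exact hab⟩
  let τ : Equiv.Perm {z : G ⧸ M // z ≠ b₀} :=
    Equiv.Perm.subtypePerm (p := fun z => z ≠ b₀) (MulAction.toPerm a : Equiv.Perm (G ⧸ M)) hpres
  have hτ : Equiv.Perm.ofSubtype τ = (MulAction.toPerm a : Equiv.Perm (G ⧸ M)) := by
    refine Equiv.ext fun z => ?_
    by_cases hz : z = b₀
    · rw [Equiv.Perm.ofSubtype_apply_of_not_mem τ (by simpa using hz), hz]; exact hab.symm
    · rw [Equiv.Perm.ofSubtype_apply_of_mem τ hz]; rfl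
  have hsign : Equiv.Perm.sign τ = 1 := by
    rw [← Equiv.Perm.sign_ofSubtype, hτ]
    exact Equiv.Perm.mem_alternatingGroup.mp ha
  obtain ⟨f, hf, hfa⟩ := Subgroup.mem_map.mp (halt (Equiv.Perm.mem_alternatingGroup.mpr hsign))
  have hfe : f = a := MulAction.toPerm_injective (hfa.trans hτ)
  rw [← hfe, (mem_fixingSubgroup_iff G).mp hf x₀ hπ0] at hax'
  exact hmx hax'.symm

/-- A quasiprimitive group with a Jordan set smaller than half of the points induces all even permutations. -/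
theorem even_exists_of_quasiprimitive
    (hqp : ∀ N : Subgroup G, N.Normal → N ≠ ⊥ → IsPretransitive ↥N Ω)
    (Γ : Set Ω) (h1 : 1 < Γ.ncard) (h2 : 2 * Γ.ncard < Fintype.card Ω)
    (htr : ∀ x ∈ Γ, ∀ y ∈ Γ, ∃ g : G, (∀ z ∉ Γ, g • z = z) ∧ g • x = y)
    (σ : Equiv.Perm Ω) (hσ : Equiv.Perm.sign σ = 1) : ∃ g : G, MulAction.toPerm g = σ :=
  even_exists_of_primitive (isPreprimitive_of_quasiprimitive hqp Γ h1 h2 htr) Γ h1 h2 htr σ hσ

end Quasi

end CfsgLib.Recog.Marggraff
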