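import Mathlib.GroupTheory.GroupAction.Primitive
import Mathlib.GroupTheory.GroupAction.MultipleTransitivity
import Mathlib.GroupTheory.SpecificGroups.Cyclic
import Mathlib.GroupTheory.Perm.Cycle.Type
import Mathlib.Algebra.CharP.Algebra
import Mathlib.Algebra.CharP.Lemmas
import Mathlib.Algebra.MonoidAlgebra.Basic
import Mathlib.Data.ZMod.Basic
import Mathlib.Algebra.IsPrimePow
import Mathlib.Tactic.Group

/-!
Schur's theorem: a primitive group with a regular cyclic subgroup of non-prime-power order is 2-transitive.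
-/

set_option autoImplicit false

namespace CfsgLib.Recog.SchurCyclic

open MulAction Finset

variable {G Ω C : Type*} [Group G] [MulAction G Ω] [CommGroup C] [Finite C]
  (φ : C →* G) (a : Ω) (hbij : Function.Bijective fun c : C => φ c • a)

/-- `Rel c c'`: the points labelled `c`, `c'` are in one orbit of the stabiliser. -/
def Rel (c c' : C) : Prop := ∃ h ∈ stabilizer G a, h • (φ c • a) = φ c' • a

/-- Functions constant on the orbits of the stabiliser. -/
def Inv {R : Type*} (v : C → R) : Prop := ∀ c c', Rel φ a c c' → v c = v c'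

include hbij

theorem translate {h : G} {d d' c c' : C} (hd : h • (φ d • a) = φ d' • a) (hc : h • (φ c • a) = φ c' • a) :
    Rel φ a (d⁻¹ * c) (d'⁻¹ * c') := by
  refine ⟨φ d'⁻¹ * h * φ d, ?_, ?_⟩
  · rw [mem_stabilizer_iff, mul_smul, mul_smul, hd, ← mul_smul, ← map_mul, inv_mul_cancel, map_one, one_smul]
  · have e : φ d • φ (d⁻¹ * c) • a = φ c • a := by rw [← mul_smul, ← map_mul, mul_inv_cancel_left]
    rw [mul_smul, mul_smul, e, hc, ← mul_smul, ← map_mul]

theorem exists_moved (h : G) (c : C) : ∃ c' : C, h • (φ c • a) = φ c' • a :=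
  (hbij.2 (h • (φ c • a))).imp fun _ e => e.symm

theorem inv_mul {R : Type*} [Semiring R] (x y : MonoidAlgebra R C)
    (hx : Inv φ a fun c => x.coeff c) (hy : Inv φ a fun c => y.coeff c) :
    Inv φ a fun c => (x * y).coeff c := by
  classical
  haveI := Fintype.ofFinite C
  have key : ∀ c : C, (x * y).coeff c = ∑ d : C, x.coeff d * y.coeff (d⁻¹ * c) := fun c => by
    rw [MonoidAlgebra.coeff_mul_antidiag x y c (univ.image fun d : C => (d, d⁻¹ * c)) (fun {p} => by
      simp only [mem_image, mem_univ, true_and]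
      exact ⟨by rintro ⟨d, rfl⟩; simp, fun h => ⟨p.1, by rw [← h]; simp⟩⟩),
      Finset.sum_image fun _ _ _ _ e => congrArg Prod.fst e]
  rintro c c' ⟨h, hh, hc⟩
  simp only [key]
  choose σ hσ using exists_moved φ a hbij h
  have hinj : Function.Injective σ := fun d e he => hbij.1 (smul_left_cancel h (by rw [hσ, hσ, he]))
  rw [← (Finite.injective_iff_bijective.1 hinj).sum_comp (fun d => x.coeff d * y.coeff (d⁻¹ * c'))]
  refine sum_congr rfl fun d _ => ?_
  exact congrArg₂ (· * ·) (hx d (σ d) ⟨h, hh, hσ d⟩) (hy _ _ (translate φ a hbij (hσ d) hc))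

theorem inv_one {R : Type*} [Semiring R] : Inv φ a fun c => (1 : MonoidAlgebra R C).coeff c := by
  classical
  rintro c c' ⟨h, hh, hc⟩
  have : c = 1 ↔ c' = 1 := by
    constructor <;> intro e <;> apply hbij.1 <;> simp only [map_one, one_smul]
    · rw [e, map_one, one_smul, mem_stabilizer_iff.1 hh] at hc; exact hc.symm
    · rw [e, map_one, one_smul] at hc
      exact smul_left_cancel h (hc.trans (mem_stabilizer_iff.1 hh).symm)
  simp [MonoidAlgebra.one_def, Finsupp.single_apply, eq_comm, this]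

theorem inv_pow {R : Type*} [Semiring R] (x : MonoidAlgebra R C)
    (hx : Inv φ a fun c => x.coeff c) (n : ℕ) : Inv φ a fun c => (x ^ n).coeff c := by
  induction n with
  | zero => rw [pow_zero]; exact inv_one φ a hbij
  | succ n ih => rw [pow_succ]; exact inv_mul φ a hbij _ _ ih hx

/-- The block of a subgroup that is a union of orbits of the stabiliser is trivial or everything. -/
theorem subgroup_trivial (hco : IsCoatom (stabilizer G a)) (R : Subgroup C)
    (hR : ∀ c c', Rel φ a c c' → c ∈ R → c' ∈ R) : R = ⊥ ∨ R = ⊤ := by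
  let U : Subgroup G :=
    { carrier := {g | ∃ r ∈ R, g • a = φ r • a}
      one_mem' := ⟨1, one_mem R, by rw [map_one]⟩
      mul_mem' := by
        rintro g g' ⟨r, hr, hg⟩ ⟨r', hr', hg'⟩
        obtain ⟨s, hs⟩ := exists_moved φ a hbij (φ r⁻¹ * g) r'
        have hst : φ r⁻¹ * g ∈ stabilizer G a := by
          rw [mem_stabilizer_iff, mul_smul, hg, ← mul_smul, ← map_mul, inv_mul_cancel, map_one, one_smul]
        refine ⟨r * s, mul_mem hr (hR _ _ ⟨_, hst, hs⟩ hr'), ?_⟩
        rw [mul_smul, hg', map_mul, mul_smul (φ r), ← hs, mul_smul, map_inv, smul_inv_smul]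
      inv_mem' := by
        rintro g ⟨r, hr, hg⟩
        have hst : φ r⁻¹ * g ∈ stabilizer G a := by
          rw [mem_stabilizer_iff, mul_smul, hg, ← mul_smul, ← map_mul, inv_mul_cancel, map_one, one_smul]
        obtain ⟨s, hs⟩ := exists_moved φ a hbij (φ r⁻¹ * g)⁻¹ r⁻¹
        refine ⟨s, hR _ _ ⟨_, inv_mem hst, hs⟩ (inv_mem hr), ?_⟩
        rw [← hs, ← mul_smul, map_inv]
        group }
  have hle : stabilizer G a ≤ U := fun g hg => ⟨1, one_mem R, by rw [map_one, one_smul]; exact hg⟩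
  rcases hco.le_iff.1 hle with h | h
  · right
    refine eq_top_iff.2 fun c _ => ?_
    obtain ⟨r, hr, e⟩ : φ c ∈ U := h ▸ Subgroup.mem_top _
    exact hbij.1 e ▸ hr
  · left
    refine (Subgroup.eq_bot_iff_forall R).2 fun r hr => hbij.1 ?_
    have h1 : φ r ∈ stabilizer G a := h ▸ ⟨r, hr, rfl⟩
    simpa using h1

theorem invariant_set (hco : IsCoatom (stabilizer G a)) (S : Set C)
    (hS : ∀ c c', Rel φ a c c' → c ∈ S → c' ∈ S) : S ⊆ {1} ∨ Subgroup.closure S = ⊤ := by
  refine (subgroup_trivial φ a hbij hco (Subgroup.closure S) ?_).imp (fun h s hs => ?_) id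
  · intro c c' hrel hc
    obtain ⟨h, hh, hcc⟩ := hrel
    have key : ∀ x ∈ Submonoid.closure S, ∀ h ∈ stabilizer G a, ∀ x', h • (φ x • a) = φ x' • a →
        x' ∈ Submonoid.closure S := by
      intro x hx
      induction hx using Submonoid.closure_induction_right with
      | one =>
        intro h hh x' e
        have : x' = 1 := hbij.1 (by
          rw [map_one, one_smul, mem_stabilizer_iff.1 hh] at e
          simpa using e.symm)
        rw [this]; exact one_mem _
      | mul_right x hx s hs ih =>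
        intro h hh x' e
        obtain ⟨y, hy⟩ := exists_moved φ a hbij h x
        have h1 := translate φ a hbij hy e
        rw [inv_mul_cancel_left] at h1
        have := mul_mem (ih h hh y hy) (Submonoid.subset_closure (hS _ _ h1 hs))
        rwa [mul_inv_cancel_left] at this
    rw [← Subgroup.mem_toSubmonoid, Subgroup.closure_toSubmonoid_of_finite] at hc ⊢
    exact key c hc h hh c' hcc
  · have := Subgroup.subset_closure (k := S) hs
    rw [h] at this
    exact this

/-- An orbit avoiding the subgroup of order `p` is a union of its cosets. -/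
theorem union_of_cosets (hco : IsCoatom (stabilizer G a)) {p : ℕ} (hp : p.Prime) (E : Subgroup C)
    (hE : Nat.card E = p) (hEx : ∀ x : C, x ^ p = 1 → x ∈ E) (hproper : ∃ c : C, ∀ d : C, d ^ p ≠ c)
    (T : Set C) (hT : ∀ c c', Rel φ a c c' → c ∈ T → c' ∈ T) {t : C} (ht : t ∈ T) (htE : t ∉ E)
    {e : C} (he : e ∈ E) : t * e ∈ T := by
  classical
  haveI := Fintype.ofFinite C
  haveI := Fact.mk hp
  haveI : CharP (MonoidAlgebra (ZMod p) C) p :=
    charP_of_injective_ringHom (f := MonoidAlgebra.singleOneRingHom) (fun x y h => by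
      simpa [MonoidAlgebra.singleOneRingHom] using congrArg (fun z => z.coeff 1) h) p
  let F := univ.filter fun c : C => c ∈ T
  let x : MonoidAlgebra (ZMod p) C := ∑ c ∈ F, MonoidAlgebra.single c 1
  have hxc : ∀ c, x.coeff c = if c ∈ T then 1 else 0 := fun c => by
    simp [x, F, MonoidAlgebra.coeff_sum, Finsupp.single_apply]
  have hx : Inv φ a fun c => x.coeff c := fun c c' h => by
    simp only [hxc]
    have h' : Rel φ a c' c := by
      obtain ⟨g, hg, e⟩ := h
      exact ⟨g⁻¹, inv_mem hg, inv_smul_eq_iff.2 e.symm⟩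
    exact if_congr ⟨hT _ _ h, hT _ _ h'⟩ rfl rfl
  have hpow : ∀ c, (x ^ p).coeff c = ((F.filter fun d => d ^ p = c).card : ZMod p) := fun c => by
    rw [sum_pow_char]
    simp [MonoidAlgebra.single_pow, MonoidAlgebra.coeff_sum, Finsupp.single_apply, Finset.sum_ite]
  let S : Set C := {c | (x ^ p).coeff c ≠ 0}
  have hS : ∀ c c', Rel φ a c c' → c ∈ S → c' ∈ S := fun c c' h hc => by
    have := inv_pow φ a hbij x hx p c c' h
    simpa [S, ← this] using hc
  have hS1 : S ⊆ {1} := by
    refine (invariant_set φ a hbij hco S hS).resolve_right fun htop => ?_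
    obtain ⟨c, hc⟩ := hproper
    have hle : Subgroup.closure S ≤ (powMonoidHom p : C →* C).range := by
      rw [Subgroup.closure_le]
      intro d hd
      by_contra hno
      refine hd ?_
      rw [hpow, show (F.filter fun z => z ^ p = d).card = 0 from Finset.card_eq_zero.2 (Finset.filter_eq_empty_iff.2 fun y _ e => hno ⟨y, e⟩), Nat.cast_zero]
    obtain ⟨d, hd⟩ := hle (htop ▸ Subgroup.mem_top c)
    exact hc d hd
  have h1 : t ^ p ≠ 1 := fun h => htE (hEx t h)
  have h2 : (x ^ p).coeff (t ^ p) = 0 := by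
    by_contra h; exact h1 (hS1 h)
  rw [hpow, ZMod.natCast_eq_zero_iff] at h2
  let A := F.filter fun d => d ^ p = t ^ p
  let B := (univ.filter fun d : C => d ∈ E).image fun d => t * d
  have hAB : A ⊆ B := fun d hd => by
    simp only [A, mem_filter] at hd
    exact mem_image.2 ⟨t⁻¹ * d, mem_filter.2 ⟨mem_univ _, hEx _ (by rw [mul_pow, _root_.inv_pow, hd.2, inv_mul_cancel])⟩,
      mul_inv_cancel_left _ _⟩
  have hB : B.card = p := by
    rw [card_image_of_injective _ (mul_right_injective t), ← hE, Nat.card_eq_fintype_card,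
      Fintype.card_subtype]
  have hA : 0 < A.card := card_pos.2 ⟨t, mem_filter.2 ⟨mem_filter.2 ⟨mem_univ _, ht⟩, rfl⟩⟩
  have hAeq : A = B := eq_of_subset_of_card_le hAB (hB ▸ Nat.le_of_dvd hA h2)
  have : t * e ∈ A := hAeq ▸ mem_image.2 ⟨e, mem_filter.2 ⟨mem_univ _, he⟩, rfl⟩
  exact (mem_filter.1 (mem_filter.1 this).1).2

theorem orbit_eq (hco : IsCoatom (stabilizer G a)) {p q : ℕ} (hp : p.Prime) (hq : q.Prime) (hne : p ≠ q)
    (P Q : Subgroup C) (hP : Nat.card P = p) (hQ : Nat.card Q = q) (hPx : ∀ x : C, x ^ p = 1 → x ∈ P)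
    (hQx : ∀ x : C, x ^ q = 1 → x ∈ Q) (hPc : ∃ c : C, ∀ d : C, d ^ p ≠ c) (hQc : ∃ c : C, ∀ d : C, d ^ q ≠ c)
    {u v : C} (hu : u ∈ P) (hu1 : u ≠ 1) (hv : v ∈ Q) (hv1 : v ≠ 1) (c : C) (hc : c ≠ 1) :
    Rel φ a c (u * v) := by
  classical
  have hdis : P ⊓ Q = ⊥ :=
    Subgroup.inf_eq_bot_of_coprime (by rw [hP, hQ]; exact (Nat.coprime_primes hp hq).2 hne)
  have hd : ∀ {x}, x ∈ P → x ∈ Q → x = 1 := fun {x} h1 h2 => by
    have : x ∈ P ⊓ Q := ⟨h1, h2⟩
    rwa [hdis, Subgroup.mem_bot] at this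
  let T : Set C := {d | Rel φ a c d}
  have hT : ∀ d d', Rel φ a d d' → d ∈ T → d' ∈ T := by
    rintro d d' ⟨g, hg, e⟩ ⟨g', hg', e'⟩
    exact ⟨g * g', mul_mem hg hg', by rw [mul_smul, e', e]⟩
  have hcT : c ∈ T := ⟨1, one_mem _, one_smul _ _⟩
  have h1T : (1 : C) ∉ T := by
    rintro ⟨g, hg, e⟩
    refine hc (hbij.1 ?_)
    simp only [map_one, one_smul] at e ⊢
    exact smul_left_cancel g (e.trans (mem_stabilizer_iff.1 hg).symm)
  have sP := fun {t : C} => union_of_cosets φ a hbij hco hp P hP hPx hPc T hT (t := t)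
  have sQ := fun {t : C} => union_of_cosets φ a hbij hco hq Q hQ hQx hQc T hT (t := t)
  let W := P ⊔ Q
  by_cases hW : ∃ t ∈ T, t ∈ W
  · obtain ⟨t, ht, htW⟩ := hW
    rw [Subgroup.mem_sup] at htW
    obtain ⟨x, hx, y, hy, rfl⟩ := htW
    have hne' : x ≠ 1 ∨ y ≠ 1 := by
      by_contra h; push Not at h; exact h1T (by simpa [h.1, h.2] using ht)
    -- reach a point with both coordinates non-trivial, then move each coordinate
    obtain ⟨x', hx', y', hy', hx1, hy1, hT'⟩ : ∃ x' ∈ P, ∃ y' ∈ Q, x' ≠ 1 ∧ y' ≠ 1 ∧ x' * y' ∈ T := by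
      by_cases hx1 : x = 1
      · subst hx1
        have hy1 := hne'.resolve_left (by simp)
        rw [one_mul] at ht
        exact ⟨u, hu, y, hy, hu1, hy1, by rw [mul_comm]; exact sP ht (fun h => hy1 (hd h hy)) hu⟩
      by_cases hy1 : y = 1
      · subst hy1
        rw [mul_one] at ht
        exact ⟨x, hx, v, hv, hx1, hv1, sQ ht (fun h => hx1 (hd hx h)) hv⟩
      exact ⟨x, hx, y, hy, hx1, hy1, ht⟩
    have hnP : x' * y' ∉ P := fun h => hy1 (hd (by simpa using mul_mem (inv_mem hx') h) hy')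
    have e1 : u * y' ∈ T := by
      have := sP hT' hnP (mul_mem (inv_mem hx') hu)
      convert this using 1
      rw [mul_assoc, mul_comm y', ← mul_assoc, ← mul_assoc, mul_inv_cancel, one_mul]
    have e2 : u * v ∈ T := by
      have := sQ e1 (fun h => hu1 (hd hu (by simpa [mul_assoc] using mul_mem h (inv_mem hy')))) (mul_mem (inv_mem hy') hv)
      convert this using 1
      rw [mul_assoc, mul_inv_cancel_left]
    exact e2
  · push Not at hW
    exfalso
    let R : Subgroup C :=
      { carrier := {r | ∀ t, t ∈ T ↔ t * r ∈ T}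
        one_mem' := fun t => by rw [mul_one]
        mul_mem' := fun {r s} hr hs t => by rw [hr, hs, mul_assoc]
        inv_mem' := fun {r} hr t => by rw [hr (t * r⁻¹), inv_mul_cancel_right] }
    have hRrel : ∀ r r', Rel φ a r r' → r ∈ R → r' ∈ R := by
      rintro r r' ⟨h, hh, hr⟩ hmem
      choose σ hσ using exists_moved φ a hbij h
      have hinj : Function.Injective σ := fun d e he => hbij.1 (smul_left_cancel h (by rw [hσ, hσ, he]))
      have hsurj := (Finite.injective_iff_bijective.1 hinj).2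
      have hmove : ∀ d, d ∈ T ↔ σ d ∈ T := fun d =>
        ⟨hT _ _ ⟨h, hh, hσ d⟩, hT _ _ ⟨h⁻¹, inv_mem hh, inv_smul_eq_iff.2 (hσ d).symm⟩⟩
      have hmove' : ∀ d, r⁻¹ * d ∈ T ↔ r'⁻¹ * σ d ∈ T := fun d =>
        ⟨hT _ _ (translate φ a hbij hr (hσ d)), fun hm => by
          obtain ⟨g, hg, e⟩ := translate φ a hbij hr (hσ d)
          exact hT _ _ ⟨g⁻¹, inv_mem hg, inv_smul_eq_iff.2 e.symm⟩ hm⟩
      intro t
      obtain ⟨d, hd⟩ := hsurj (t * r')
      have h1 := hmove' d
      have h2 := hmove d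
      rw [hd, mul_comm t, inv_mul_cancel_left] at h1
      rw [hd] at h2
      rw [← h1, ← h2, hmem, mul_comm _ r, mul_inv_cancel_left]
    have huR : ∀ e ∈ P, e ∈ R := fun e he t => by
      refine ⟨fun ht => sP ht (fun h => hW t ht (Subgroup.mem_sup_left h)) he, fun ht => ?_⟩
      have := sP ht (fun h => hW _ ht (Subgroup.mem_sup_left h)) (inv_mem he)
      rwa [mul_inv_cancel_right] at this
    rcases subgroup_trivial φ a hbij hco R hRrel with h | h
    · exact hu1 (Subgroup.mem_bot.1 (h ▸ huR u hu))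
    · exact h1T (by
        have := ((h ▸ Subgroup.mem_top c⁻¹ : c⁻¹ ∈ R) c).1 hcT
        rwa [mul_inv_cancel] at this)

/-- Schur: a primitive group with a regular cyclic subgroup of composite non-prime-power order is 2-transitive. -/
theorem two_transitive [IsCyclic C] (hprim : IsPreprimitive G Ω) (hn : 2 ≤ Nat.card C) (hnp : ¬ IsPrimePow (Nat.card C)) :
    IsMultiplyPretransitive G Ω 2 := by
  classical
  haveI := Fintype.ofFinite C
  haveI : Nontrivial Ω := by
    haveI : Nontrivial C := Finite.one_lt_card_iff_nontrivial.1 hn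
    exact (hbij.1).nontrivial
  haveI := hprim.toIsPretransitive
  have hco : IsCoatom (stabilizer G a) := (isCoatom_stabilizer_iff_preprimitive G a).2 hprim
  obtain ⟨p, hp, hpd⟩ := Nat.exists_prime_and_dvd (show Nat.card C ≠ 1 by omega)
  obtain ⟨q, hq, hqd, hne⟩ : ∃ q : ℕ, q.Prime ∧ q ∣ Nat.card C ∧ p ≠ q := by
    by_contra hc
    push Not at hc
    refine hnp ⟨p, (Nat.card C).factorization p, hp.prime, ?_, ?_⟩
    · exact hp.factorization_pos_of_dvd (by omega) hpd
    · exact (Nat.eq_prime_pow_of_unique_prime_dvd (by omega) fun {d} hd hdd => (hc d hd hdd).symm).symm ▸ by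
        rw [Nat.Prime.factorization_pow hp]; simp
  have mk : ∀ r : ℕ, r.Prime → r ∣ Nat.card C → ∃ E : Subgroup C, Nat.card E = r ∧
      (∀ x : C, x ^ r = 1 → x ∈ E) ∧ (∃ c : C, ∀ d : C, d ^ r ≠ c) ∧ ∃ u ∈ E, u ≠ 1 := by
    intro r hr hrd
    haveI := Fact.mk hr
    obtain ⟨u, hu⟩ := exists_prime_orderOf_dvd_card' r hrd
    have hu1 : u ≠ 1 := fun e => hr.ne_one (by rw [← hu, e, orderOf_one])
    have hsub : (Subgroup.zpowers u : Set C) = {x | x ^ r = 1} := by
      refine Set.eq_of_subset_of_ncard_le ?_ ?_ (Set.toFinite _)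
      · rintro x hx
        obtain ⟨k, rfl⟩ := Subgroup.mem_zpowers_iff.1 hx
        show (u ^ k) ^ r = 1
        rw [← zpow_natCast, ← zpow_mul, mul_comm, zpow_mul, zpow_natCast, ← hu, pow_orderOf_eq_one, one_zpow]
      · rw [← Nat.card_coe_set_eq (Subgroup.zpowers u : Set C), Set.ncard_eq_toFinset_card']
        refine le_trans ?_ (le_of_eq (Eq.symm ((Nat.card_zpowers u).trans hu)))
        refine le_trans (le_of_eq ?_) (IsCyclic.card_pow_eq_one_le (α := C) hr.pos)
        congr 1; ext; simp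
    refine ⟨Subgroup.zpowers u, by rw [Nat.card_zpowers, hu], fun x hx => ?_, ?_, u, Subgroup.mem_zpowers u, hu1⟩
    · exact (Set.ext_iff.1 hsub x).2 hx
    · by_contra hc
      push Not at hc
      have : Function.Injective fun d : C => d ^ r := Finite.injective_iff_surjective.2 hc
      exact hu1 (this (by simp only [one_pow, ← hu, pow_orderOf_eq_one]))
  obtain ⟨P, hP, hPx, hPc, u, hu, hu1⟩ := mk p hp hpd
  obtain ⟨Q, hQ, hQx, hQc, v, hv, hv1⟩ := mk q hq hqd
  have horb := orbit_eq φ a hbij hco hp hq hne P Q hP hQ hPx hQx hPc hQc hu hu1 hv hv1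
  rw [is_two_pretransitive_iff]
  intro x₁ y₁ x₂ y₂ hx hy
  obtain ⟨g₁, hg₁⟩ := exists_smul_eq G x₁ a
  obtain ⟨g₂, hg₂⟩ := exists_smul_eq G x₂ a
  obtain ⟨c₁, hc₁⟩ := hbij.2 (g₁ • y₁)
  obtain ⟨c₂, hc₂⟩ := hbij.2 (g₂ • y₂)
  have n1 : c₁ ≠ 1 := fun e => hx (smul_left_cancel g₁ (by rw [hg₁, ← hc₁, e]; simp))
  have n2 : c₂ ≠ 1 := fun e => hy (smul_left_cancel g₂ (by rw [hg₂, ← hc₂, e]; simp))
  obtain ⟨k₁, hk₁, e₁⟩ := horb c₁ n1
  obtain ⟨k₂, hk₂, e₂⟩ := horb c₂ n2
  refine ⟨g₂⁻¹ * k₂⁻¹ * k₁ * g₁, ?_, ?_⟩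
  · rw [mul_smul, mul_smul, mul_smul, hg₁, mem_stabilizer_iff.1 hk₁,
      mem_stabilizer_iff.1 (inv_mem hk₂), ← hg₂, inv_smul_smul]
  · simp only [mul_smul, ← hc₁]
    rw [e₁, ← e₂, inv_smul_smul]
    exact inv_smul_eq_iff.2 hc₂

end CfsgLib.Recog.SchurCyclic
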