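import Cfsg.Agent.Lib.Recog.Derange
import Mathlib.GroupTheory.GroupAction.MultipleTransitivity
import Mathlib.Algebra.Group.Conj

/-!
Derangements of groups with a regular abelian normal subgroup.
-/

set_option autoImplicit false

namespace CfsgLib.Recog

open MulAction Subgroup

variable {G Ω : Type*} [Group G] [MulAction G Ω] {N : Subgroup G}

theorem regular_derangement (hs : ∀ a : Ω, stabilizer N a = ⊥) {v : G} (hv : v ∈ N) (h1 : v ≠ 1)
    (ω : Ω) : v • ω ≠ ω := by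
  intro h
  have : (⟨v, hv⟩ : N) ∈ stabilizer N ω := h
  rw [hs, Subgroup.mem_bot] at this
  exact h1 (congrArg Subtype.val this)

variable [IsPretransitive N Ω] [Finite G] (hN : N.Normal)
  (hs : ∀ a : Ω, stabilizer N a = ⊥)

include hN hs

/-- If every non-trivial element fixes at most one point, all derangements lie in `N`. -/
theorem derangement_mem_of_frobenius [Finite Ω]
    (hfix : ∀ g : G, g ≠ 1 → ∀ a b : Ω, g • a = a → g • b = b → a = b) (α : Ω)
    {g : G} (hg : ∀ ω : Ω, g • ω ≠ ω) : g ∈ N := by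
  obtain ⟨⟨n, hn⟩, hna⟩ := exists_smul_eq N α (g • α)
  rw [Subgroup.mk_smul] at hna
  set h := n⁻¹ * g with hh
  have hα : h • α = α := by rw [hh, mul_smul, ← hna, inv_smul_smul]
  by_cases h1 : h = 1
  · rw [inv_mul_eq_one.mp h1] at hn; exact hn
  exfalso
  let f : N → N := fun w => ⟨(w : G) * (h * (w : G)⁻¹ * h⁻¹),
    mul_mem w.2 (hN.conj_mem _ (inv_mem w.2) h)⟩
  have hf : Function.Injective f := by
    intro a b hab
    have e := congrArg Subtype.val hab
    simp only [f] at e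
    have hc : h * ((b : G)⁻¹ * a) = ((b : G)⁻¹ * a) * h := by
      have e' : (b : G)⁻¹ * ((a : G) * (h * (a : G)⁻¹ * h⁻¹)) = h * (b : G)⁻¹ * h⁻¹ := by
        rw [e]; group
      calc h * ((b : G)⁻¹ * a) = (h * (b : G)⁻¹ * h⁻¹) * h * a := by group
        _ = ((b : G)⁻¹ * ((a : G) * (h * (a : G)⁻¹ * h⁻¹))) * h * a := by rw [e']
        _ = ((b : G)⁻¹ * a) * h := by group
    have := hfix h h1 α (((b : G)⁻¹ * a) • α) hα (by rw [← mul_smul, hc, mul_smul, hα])
    have hm : (b⁻¹ * a : N) ∈ stabilizer N α := this.symm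
    rw [hs, Subgroup.mem_bot, inv_mul_eq_one] at hm
    exact hm.symm
  obtain ⟨w, hw⟩ := (Finite.injective_iff_surjective.mp hf) ⟨n, hn⟩
  have e : (w : G) * (h * (w : G)⁻¹ * h⁻¹) = n := congrArg Subtype.val hw
  apply hg ((w : G) • α)
  have hg' : g = n * h := by rw [hh, mul_inv_cancel_left]
  rw [← mul_smul, hg', ← e,
    show (w : G) * (h * (w : G)⁻¹ * h⁻¹) * h * w = w * h by group, mul_smul, hα]

/-- If some non-trivial element fixes two points there is a derangement outside `N`. -/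
theorem exists_derangement_not_mem [IsMulCommutative N] {g : G} (hg : g ≠ 1) {a b : Ω}
    (hab : a ≠ b) (ha : g • a = a) (hb : g • b = b) :
    ∃ x : G, x ∉ N ∧ ∀ ω : Ω, x • ω ≠ ω := by
  obtain ⟨⟨v, hv⟩, hva⟩ := exists_smul_eq N a b
  rw [Subgroup.mk_smul] at hva
  have hgv : g * v * g⁻¹ = v := by
    have hm : (⟨v⁻¹ * (g * v * g⁻¹), mul_mem (inv_mem hv) (hN.conj_mem v hv g)⟩ : N)
        ∈ stabilizer N a := by
      show (v⁻¹ * (g * v * g⁻¹)) • a = a
      rw [mul_smul, mul_smul, mul_smul, show g⁻¹ • a = a by rw [inv_smul_eq_iff, ha], hva, hb, ← hva,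
        inv_smul_smul]
    rw [hs, Subgroup.mem_bot] at hm
    have := congrArg Subtype.val hm
    exact (inv_mul_eq_one.mp this).symm
  let f : N → N := fun w => ⟨(w : G) * (g * (w : G)⁻¹ * g⁻¹),
    mul_mem w.2 (hN.conj_mem _ (inv_mem w.2) g)⟩
  have hni : ¬ Function.Injective f := by
    intro hf
    have : f ⟨v, hv⟩ = f 1 := by
      apply Subtype.ext
      have h1 : g * v⁻¹ * g⁻¹ = v⁻¹ := by
        calc g * v⁻¹ * g⁻¹ = (g * v * g⁻¹)⁻¹ := by group
          _ = v⁻¹ := by rw [hgv]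
      simp only [f, h1, mul_inv_cancel, Subgroup.coe_one, inv_one, mul_one]
    have h1 : v = 1 := congrArg Subtype.val (hf this)
    rw [h1, one_smul] at hva
    exact hab hva
  rw [Finite.injective_iff_surjective] at hni
  obtain ⟨u, hu⟩ : ∃ u, ∀ w, f w ≠ u := by
    simpa [Function.Surjective] using hni
  refine ⟨u * g, fun hmem => ?_, fun ω hω => ?_⟩
  · have hg' : g ∈ N := by simpa using mul_mem (inv_mem u.2) hmem
    exact regular_derangement hs hg' hg a ha
  · obtain ⟨w, rfl⟩ := exists_smul_eq N a ω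
    refine hu w (Subtype.ext ?_)
    have h' : ((u : G) * g * w) • a = (w : G) • a := by rw [mul_smul]; exact hω
    have hm : (w⁻¹ * u * ⟨g * (w : G) * g⁻¹, hN.conj_mem _ w.2 g⟩ : N) ∈ stabilizer N a := by
      show ((w : G)⁻¹ * u * (g * w * g⁻¹)) • a = a
      rw [show (w : G)⁻¹ * u * (g * w * g⁻¹) = (w : G)⁻¹ * (((u : G) * g * w) * g⁻¹) by group,
        mul_smul, mul_smul, show g⁻¹ • a = a by rw [inv_smul_eq_iff, ha], h', inv_smul_smul]
    rw [hs, Subgroup.mem_bot] at hm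
    have e : (w : G)⁻¹ * u * (g * w * g⁻¹) = 1 := congrArg Subtype.val hm
    show (w : G) * (g * (w : G)⁻¹ * g⁻¹) = u
    calc (w : G) * (g * (w : G)⁻¹ * g⁻¹)
        = (w : G) * (((w : G)⁻¹ * u * (g * w * g⁻¹)) * (g * w * g⁻¹)⁻¹) := by rw [e]; group
      _ = u := by group

omit [Finite G] in
/-- If the non-trivial elements of `N` are all conjugate, `G` is 2-transitive. -/
theorem two_transitive_of_conj [IsMulCommutative N] (α : Ω)
    (hconj : ∀ v ∈ N, ∀ w ∈ N, v ≠ 1 → w ≠ 1 → IsConj v w) : IsMultiplyPretransitive G Ω 2 := by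
  have : IsPretransitive G Ω := ⟨fun x y => by
    obtain ⟨⟨n, hn⟩, h⟩ := exists_smul_eq N x y; exact ⟨n, h⟩⟩
  refine CfsgLib.Perm.isTwoPretransitive_of_stabilizer α fun x y hx hy => ?_
  obtain ⟨⟨v, hv⟩, hvx⟩ := exists_smul_eq N α x
  obtain ⟨⟨w, hw⟩, hwy⟩ := exists_smul_eq N α y
  rw [Subgroup.mk_smul] at hvx hwy
  obtain ⟨c, hc⟩ := isConj_iff.mp (hconj v hv w hw
    (fun h => hx (by rw [← hvx, h, one_smul])) (fun h => hy (by rw [← hwy, h, one_smul])))
  obtain ⟨⟨n, hn⟩, hna⟩ := exists_smul_eq N α (c • α)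
  rw [Subgroup.mk_smul] at hna
  refine ⟨n⁻¹ * c, by rw [mul_smul, ← hna, inv_smul_smul], ?_⟩
  have hnw : n⁻¹ * w = w * n⁻¹ :=
    congrArg Subtype.val (mul_comm' (⟨n⁻¹, inv_mem hn⟩ : N) ⟨w, hw⟩)
  have e : n⁻¹ * c * v = w * (n⁻¹ * c) := by
    rw [← mul_assoc w, ← hnw, ← hc]; group
  rw [← hvx, ← mul_smul, e, mul_smul, mul_smul, ← hna, inv_smul_smul, hwy]

omit [IsPretransitive N Ω] hN in
/-- In the Frobenius case the centralizer of `v ∈ N ∖ 1` is `N`. -/
theorem centralizer_eq_of_frobenius [IsMulCommutative N] [IsPretransitive N Ω]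
    (hfix : ∀ g : G, g ≠ 1 → ∀ a b : Ω, g • a = a → g • b = b → a = b) (α : Ω)
    {v : G} (hv : v ∈ N) (h1 : v ≠ 1) : centralizer ({v} : Set G) = N := by
  refine le_antisymm (fun g hg => ?_) (fun g hg => ?_)
  · rw [mem_centralizer_singleton_iff] at hg
    obtain ⟨⟨n, hn⟩, hna⟩ := exists_smul_eq N α (g • α)
    rw [Subgroup.mk_smul] at hna
    have hα : (n⁻¹ * g) • α = α := by rw [mul_smul, ← hna, inv_smul_smul]
    by_cases hh : n⁻¹ * g = 1
    · rwa [← inv_mul_eq_one.mp hh]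
    exfalso
    have hnv : n⁻¹ * v = v * n⁻¹ :=
      congrArg Subtype.val (mul_comm' (⟨n⁻¹, inv_mem hn⟩ : N) ⟨v, hv⟩)
    have hc : n⁻¹ * g * v = v * (n⁻¹ * g) := by
      rw [mul_assoc, hg, ← mul_assoc, hnv, mul_assoc]
    have := hfix _ hh α (v • α) hα (by rw [← mul_smul, hc, mul_smul, hα])
    exact regular_derangement hs hv h1 α this.symm
  · rw [mem_centralizer_singleton_iff]
    exact congrArg Subtype.val (mul_comm' (⟨g, hg⟩ : N) ⟨v, hv⟩)

end CfsgLib.Recog
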