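import Mathlib

/-!
The element orders of the alternating group of degree five.
-/

set_option autoImplicit false

namespace CfsgLib.Recog

theorem altFive_pow : ∀ g : alternatingGroup (Fin 5), g ^ 2 = 1 ∨ g ^ 3 = 1 ∨ g ^ 5 = 1 := by
  decide +kernel

theorem altFive_witness (p : ℕ) (hp : p = 2 ∨ p = 3 ∨ p = 5) :
    ∃ g : alternatingGroup (Fin 5), orderOf g = p := by
  have h2 : ∃ g : alternatingGroup (Fin 5), g ^ 2 = 1 ∧ g ≠ 1 := by decide +kernel
  have h3 : ∃ g : alternatingGroup (Fin 5), g ^ 3 = 1 ∧ g ≠ 1 := by decide +kernel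
  have h5 : ∃ g : alternatingGroup (Fin 5), g ^ 5 = 1 ∧ g ≠ 1 := by decide +kernel
  rcases hp with rfl | rfl | rfl
  · obtain ⟨g, a, b⟩ := h2
    exact ⟨g, haveI := Fact.mk Nat.prime_two; orderOf_eq_prime a b⟩
  · obtain ⟨g, a, b⟩ := h3
    exact ⟨g, haveI := Fact.mk Nat.prime_three; orderOf_eq_prime a b⟩
  · obtain ⟨g, a, b⟩ := h5
    exact ⟨g, haveI := Fact.mk Nat.prime_five; orderOf_eq_prime a b⟩

theorem altFive_range : Set.range (orderOf : alternatingGroup (Fin 5) → ℕ) = {1, 2, 3, 5} := by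
  ext n
  simp only [Set.mem_range, Set.mem_insert_iff, Set.mem_singleton_iff]
  constructor
  · rintro ⟨g, rfl⟩
    rcases altFive_pow g with h | h | h
    · rcases (Nat.dvd_prime Nat.prime_two).mp (orderOf_dvd_of_pow_eq_one h) with e | e <;> omega
    · rcases (Nat.dvd_prime Nat.prime_three).mp (orderOf_dvd_of_pow_eq_one h) with e | e <;> omega
    · rcases (Nat.dvd_prime Nat.prime_five).mp (orderOf_dvd_of_pow_eq_one h) with e | e <;> omega
  · rintro (rfl | h)
    · exact ⟨1, orderOf_one⟩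
    · exact altFive_witness n h

end CfsgLib.Recog
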