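import Mathlib.GroupTheory.SemidirectProduct
import Mathlib.GroupTheory.OrderOfElement
import Mathlib.GroupTheory.Perm.Cycle.Type
import Mathlib.Algebra.Group.TransferInstance
import Mathlib.Algebra.CharP.Basic
import Mathlib.LinearAlgebra.Matrix.GeneralLinearGroup.Defs
import Mathlib.Data.Fintype.Pi
import Mathlib.Data.Finite.Prod
import Mathlib.Tactic.Ring

/-!
Groups of unbounded order with the prime graph (or spectrum) of a given group, built as
semidirect products with a module.
-/

set_option autoImplicit false

namespace CfsgLib.Recog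

open scoped Matrix

universe u v

/-- A finite group is isomorphic to one living in `Type`. -/
theorem exists_small_model (G : Type u) [Group G] [Finite G] :
    ∃ (H : Type) (_ : Group H) (_ : Fintype H), Nonempty (G ≃* H) := by
  have : Small.{0} G := Countable.toSmall G
  have : Fintype G := Fintype.ofFinite G
  exact ⟨Shrink.{0} G, inferInstance, Fintype.ofEquiv G (equivShrink G),
    ⟨(equivShrink G).symm.mulEquiv.symm⟩⟩

/-- The action of a subgroup of `GL` on `k`-tuples of vectors, written multiplicatively. -/
def tupleAut {F : Type v} [CommRing F] {ι : Type} [Fintype ι] [DecidableEq ι] {G : Type u} [Group G]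
    (ρ : G →* GL ι F) (k : ℕ) : G →* MulAut (Multiplicative (Fin k → ι → F)) where
  toFun g :=
    { toFun := fun w => Multiplicative.ofAdd fun i => (ρ g : Matrix ι ι F) *ᵥ w.toAdd i
      invFun := fun w => Multiplicative.ofAdd fun i => (ρ g⁻¹ : Matrix ι ι F) *ᵥ w.toAdd i
      left_inv := fun w => by
        apply Multiplicative.toAdd.injective
        funext i
        simp [Matrix.mulVec_mulVec]
      right_inv := fun w => by
        apply Multiplicative.toAdd.injective
        funext i
        simp [Matrix.mulVec_mulVec]
      map_mul' := fun w z => by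
        apply Multiplicative.toAdd.injective
        funext i
        simp [Matrix.mulVec_add] }
  map_one' := by
    ext w i
    simp
  map_mul' g h := by
    ext w i
    simp [Matrix.mulVec_mulVec]

/-- Arbitrarily large groups with the prime graph of a group `G` of even order having a
representation in characteristic `2` in which only elements of those odd prime orders `r` fix a non-zero
vector for which `G` has elements of order `2 r`. -/
theorem unbounded_primeGraph' {F : Type v} [Field F] [Finite F] [CharP F 2] {ι : Type} [Fintype ι]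
    [DecidableEq ι] [Nonempty ι] {G : Type u} [Group G] [Finite G] (ρ : G →* GL ι F)
    (heven : 2 ∣ Nat.card G)
    (hfix : ∀ g : G, ∀ r : ℕ, r.Prime → r ≠ 2 → orderOf g = r →
      (∃ x : G, orderOf x = 2 * r) ∨
        ∀ v : ι → F, (ρ g : Matrix ι ι F) *ᵥ v = v → v = 0) (N : ℕ) :
    ∃ (H : Type) (_ : Group H) (_ : Fintype H), N < Fintype.card H ∧
      (∀ r : ℕ, r.Prime → (r ∣ Nat.card G ↔ r ∣ Nat.card H)) ∧
      ∀ r s : ℕ, r.Prime → s.Prime → r ≠ s →
        ((∃ x : G, orderOf x = r * s) ↔ (∃ y : H, orderOf y = r * s)) := by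
  let A := Multiplicative (Fin N → ι → F)
  let φ : G →* MulAut A := tupleAut ρ N
  have hA2 : ∀ a : A, a ^ 2 = 1 := fun a => by
    apply Multiplicative.toAdd.injective
    funext i j
    show 2 • (a.toAdd i j) = 0
    rw [two_nsmul, CharTwo.add_self_eq_zero]
  have : Finite (A ⋊[φ] G) := Finite.of_equiv _ SemidirectProduct.equivProd.symm
  obtain ⟨H, hg, hf, ⟨e⟩⟩ := exists_small_model (A ⋊[φ] G)
  refine ⟨H, hg, hf, ?_, ?_, ?_⟩
  · rw [← Nat.card_eq_fintype_card, ← Nat.card_congr e.toEquiv, SemidirectProduct.card]
    have h1 : 2 ≤ Nat.card F := Finite.one_lt_card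
    have h2 : 2 ^ N ≤ Nat.card A := by
      rw [show Nat.card A = Nat.card (Fin N → ι → F) from Nat.card_congr Multiplicative.toAdd,
        Nat.card_fun, Nat.card_fun, Nat.card_fin]
      refine Nat.pow_le_pow_left ?_ N
      exact h1.trans (Nat.le_self_pow (Finite.card_pos).ne' _)
    calc N < 2 ^ N := Nat.lt_two_pow_self
      _ ≤ Nat.card A * Nat.card G := h2.trans (Nat.le_mul_of_pos_right _ Nat.card_pos)
  · intro r hr
    rw [← Nat.card_congr e.toEquiv, SemidirectProduct.card]
    refine ⟨fun h => h.mul_left _, fun h => ?_⟩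
    rcases hr.dvd_mul.mp h with hA | hG
    · have : Fact r.Prime := ⟨hr⟩
      obtain ⟨a, ha⟩ := exists_prime_orderOf_dvd_card' r hA
      have : r = 2 := (Nat.prime_dvd_prime_iff_eq hr Nat.prime_two).mp
        (ha ▸ orderOf_dvd_of_pow_eq_one (hA2 a))
      exact this ▸ heven
    · exact hG
  · intro r s hr hs hrs
    have key : ∀ r s : ℕ, r.Prime → s.Prime → r ≠ s → s ≠ 2 →
        (∃ y : A ⋊[φ] G, orderOf y = r * s) → ∃ x : G, orderOf x = r * s := by
      intro r s hr hs hrs hs2
      rintro ⟨y, hy⟩
      set g := y.right with hgdef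
      have hg1 : orderOf g ∣ r * s := hy ▸ orderOf_map_dvd SemidirectProduct.rightHom y
      have hg2 : r * s ∣ 2 * orderOf g := by
        rw [← hy, mul_comm]
        apply orderOf_dvd_of_pow_eq_one
        rw [pow_mul]
        have hr' : (y ^ orderOf g).right = 1 := by
          show SemidirectProduct.rightHom (y ^ orderOf g) = 1
          rw [map_pow]
          exact pow_orderOf_eq_one g
        have hl : y ^ orderOf g = SemidirectProduct.inl (y ^ orderOf g).left := by
          ext
          · simp
          · simp [hr']
        rw [hl, ← map_pow, hA2, map_one]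
      by_cases hdvd : r * s ∣ orderOf g
      · exact ⟨g, Nat.dvd_antisymm hg1 hdvd⟩
      have hodd_s : Nat.Coprime s 2 := (Nat.coprime_primes hs Nat.prime_two).mpr hs2
      have hsg : s ∣ orderOf g := hodd_s.dvd_of_dvd_mul_left ((dvd_mul_left s r).trans hg2)
      have hr2 : r = 2 := by
        by_contra h2
        exact hdvd (((Nat.coprime_primes hr hs).mpr hrs).mul_dvd_of_dvd_of_dvd
          (((Nat.coprime_primes hr Nat.prime_two).mpr h2).dvd_of_dvd_mul_left
            ((dvd_mul_right r s).trans hg2)) hsg)
      have hog : orderOf g = s := by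
        subst hr2
        obtain ⟨c, hc⟩ := hsg
        have hc2 : c ∣ 2 := by
          rw [hc, mul_comm 2 s] at hg1
          exact (mul_dvd_mul_iff_left hs.ne_zero).mp hg1
        rcases (Nat.dvd_prime Nat.prime_two).mp hc2 with rfl | rfl
        · simpa using hc
        · exact absurd (dvd_of_eq (by rw [hc, mul_comm])) hdvd
      rcases hfix g s hs hs2 hog with hx | hfpf
      · rwa [hr2]
      exfalso
      have hne : y ^ s ≠ 1 := fun h => by
        have h1 := orderOf_dvd_of_pow_eq_one h
        rw [hy] at h1
        have h2 := Nat.le_of_dvd hs.pos h1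
        have h3 := hr.two_le
        nlinarith [hs.pos]
      have hright : (y ^ s).right = 1 := by
        show SemidirectProduct.rightHom (y ^ s) = 1
        rw [map_pow, ← hog]
        exact pow_orderOf_eq_one g
      have hcomm : φ g (y ^ s).left = (y ^ s).left := by
        have h1 := congrArg SemidirectProduct.left (pow_mul_comm' y s)
        simp only [SemidirectProduct.mul_left, hright, map_one, MulAut.one_apply] at h1
        rw [← hgdef, mul_comm (y ^ s).left y.left] at h1
        exact (mul_left_cancel h1).symm
      apply hne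
      ext i j
      · refine congrFun (hfpf ((y ^ s).left.toAdd i) ?_) j
        exact congrFun (congrArg Multiplicative.toAdd hcomm) i
      · simp [hright]
    constructor
    · rintro ⟨x, hx⟩
      exact ⟨e (SemidirectProduct.inr x), by
        rw [MulEquiv.orderOf_eq, orderOf_injective _ SemidirectProduct.inr_injective, hx]⟩
    · rintro ⟨y, hy⟩
      have hy' : orderOf (e.symm y) = r * s := by rw [MulEquiv.orderOf_eq, hy]
      by_cases hs2 : s = 2
      · obtain ⟨x, hx⟩ := key s r hs hr hrs.symm (fun h => hrs (h.trans hs2.symm))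
          ⟨e.symm y, by rw [hy', mul_comm]⟩
        exact ⟨x, by rw [hx, mul_comm]⟩
      · exact key r s hr hs hrs hs2 ⟨e.symm y, hy'⟩

/-- Arbitrarily large groups with the prime graph of a group `G` of even order having a
representation in characteristic `2` in which no element of odd prime order fixes a non-zero
vector. -/
theorem unbounded_primeGraph {F : Type v} [Field F] [Finite F] [CharP F 2] {ι : Type} [Fintype ι]
    [DecidableEq ι] [Nonempty ι] {G : Type u} [Group G] [Finite G] (ρ : G →* GL ι F)
    (heven : 2 ∣ Nat.card G)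
    (hfpf : ∀ g : G, ∀ r : ℕ, r.Prime → r ≠ 2 → orderOf g = r →
      ∀ v : ι → F, (ρ g : Matrix ι ι F) *ᵥ v = v → v = 0) (N : ℕ) :
    ∃ (H : Type) (_ : Group H) (_ : Fintype H), N < Fintype.card H ∧
      (∀ r : ℕ, r.Prime → (r ∣ Nat.card G ↔ r ∣ Nat.card H)) ∧
      ∀ r s : ℕ, r.Prime → s.Prime → r ≠ s →
        ((∃ x : G, orderOf x = r * s) ↔ (∃ y : H, orderOf y = r * s)) :=
  unbounded_primeGraph' ρ heven (fun g r hr hr2 hg => Or.inr (hfpf g r hr hr2 hg)) N

end CfsgLib.Recog
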