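import Mathlib
import Cfsg.Agent.Lib.Recog.PrimeGraphModule

/-!
The prime graph of `SL(2, F)` in characteristic `2`, and the natural module.
-/

set_option autoImplicit false

namespace CfsgLib.Recog

open Matrix
open scoped MatrixGroups

variable {F : Type*} [Field F]

theorem sl2_eq_one_of_fixes [CharP F 2] {g : Matrix.SpecialLinearGroup (Fin 2) F} {n : ℕ}
    (hn : Odd n) (hgn : g ^ n = 1) {v : Fin 2 → F} (hv : v ≠ 0)
    (hfix : (g : Matrix (Fin 2) (Fin 2) F) *ᵥ v = v) : g = 1 := by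
  have h2 : (2 : F) = 0 := CharTwo.two_eq_zero
  have hd : ((g : Matrix (Fin 2) (Fin 2) F) - 1).det = 0 :=
    Matrix.exists_mulVec_eq_zero_iff.mp ⟨v, hv, by simp [Matrix.sub_mulVec, hfix]⟩
  have hdet := g.2
  rw [Matrix.det_fin_two] at hd hdet
  simp only [Matrix.sub_apply, Matrix.one_apply, if_true, one_ne_zero, zero_ne_one, if_false,
    sub_zero] at hd
  have htr : g.1 0 0 + g.1 1 1 = 0 := by linear_combination hdet - hd + h2
  have hg2 : g ^ 2 = 1 := by
    apply Subtype.ext
    rw [pow_two, Matrix.SpecialLinearGroup.coe_mul, Matrix.SpecialLinearGroup.coe_one]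
    ext i j
    fin_cases i <;> fin_cases j <;> simp [Matrix.mul_apply, Fin.sum_univ_two]
    · linear_combination (g.1 0 0) * htr - hdet - h2
    · linear_combination (g.1 0 1) * htr
    · linear_combination (g.1 1 0) * htr
    · linear_combination (g.1 1 1) * htr - hdet - h2
  have := pow_gcd_eq_one.mpr ⟨hg2, hgn⟩
  rwa [show Nat.gcd 2 n = 1 from Nat.coprime_two_left.mpr hn, pow_one] at this

/-- A transvection. -/
def sl2Trans (F : Type*) [Field F] : Matrix.SpecialLinearGroup (Fin 2) F :=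
  ⟨!![1, 1; 0, 1], by simp [Matrix.det_fin_two]⟩

theorem orderOf_sl2Trans [CharP F 2] : orderOf (sl2Trans F) = 2 := by
  apply orderOf_eq_prime
  · apply Subtype.ext
    rw [pow_two, Matrix.SpecialLinearGroup.coe_mul, Matrix.SpecialLinearGroup.coe_one]
    ext i j
    fin_cases i <;> fin_cases j <;>
      simp [sl2Trans, Matrix.mul_apply, Fin.sum_univ_two, CharTwo.add_self_eq_zero]
  · intro h
    simpa [sl2Trans] using congrFun (congrFun (congrArg Subtype.val h) 0) 1

theorem unbounded_sl2_primeGraph [Finite F] [CharP F 2] (N : ℕ) :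
    ∃ (H : Type) (_ : Group H) (_ : Fintype H), N < Fintype.card H ∧
      (∀ r : ℕ, r.Prime → (r ∣ Nat.card (Matrix.SpecialLinearGroup (Fin 2) F) ↔ r ∣ Nat.card H)) ∧
      ∀ r s : ℕ, r.Prime → s.Prime → r ≠ s →
        ((∃ x : Matrix.SpecialLinearGroup (Fin 2) F, orderOf x = r * s) ↔
          (∃ y : H, orderOf y = r * s)) := by
  refine unbounded_primeGraph Matrix.SpecialLinearGroup.toGL
    (by have := orderOf_dvd_natCard (sl2Trans F); rwa [orderOf_sl2Trans] at this) ?_ N
  intro g r hr hr2 hg v hv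
  by_contra hv0
  have h1 : g = 1 := sl2_eq_one_of_fixes (hr.odd_of_ne_two hr2) (hg ▸ pow_orderOf_eq_one g) hv0 hv
  exact hr.ne_one (by rw [← hg, h1, orderOf_one])

theorem sl2_orderOf_ne_two_mul [CharP F 2] {r : ℕ} (hr : r.Prime) (hr2 : r ≠ 2)
    (g : Matrix.SpecialLinearGroup (Fin 2) F) : orderOf g ≠ 2 * r := by
  intro hg
  have h2 : (2 : F) = 0 := CharTwo.two_eq_zero
  set t := g ^ r with ht
  set s := g ^ 2 with hs
  have ht2 : t ^ 2 = 1 := by rw [ht, ← pow_mul, mul_comm, ← hg, pow_orderOf_eq_one]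
  have ht1 : t ≠ 1 := pow_ne_one_of_lt_orderOf hr.ne_zero (by rw [hg]; have := hr.two_le; omega)
  have hsr : s ^ r = 1 := by rw [hs, ← pow_mul, ← hg, pow_orderOf_eq_one]
  have hs1 : s ≠ 1 := pow_ne_one_of_lt_orderOf two_ne_zero (by rw [hg]; have := hr.two_le; omega)
  set T : Matrix (Fin 2) (Fin 2) F := t.1
  set S : Matrix (Fin 2) (Fin 2) F := s.1
  have hTT : T * T = 1 := by
    rw [← Matrix.SpecialLinearGroup.coe_mul, ← pow_two, ht2, Matrix.SpecialLinearGroup.coe_one]
  have hTS : T * S = S * T := by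
    rw [← Matrix.SpecialLinearGroup.coe_mul, ← Matrix.SpecialLinearGroup.coe_mul,
      (Commute.pow_pow_self g r 2).eq]
  have hM : T - 1 ≠ 0 := fun h => ht1 (Subtype.ext (sub_eq_zero.mp h))
  obtain ⟨v₀, hv₀⟩ : ∃ v, (T - 1) *ᵥ v ≠ 0 := by
    by_contra h
    push Not at h
    exact hM (Matrix.ext fun i j => by
      simpa [Matrix.mulVec_single_one] using congrFun (h (Pi.single j 1)) i)
  set v := (T - 1) *ᵥ v₀ with hv
  have hMM : (T - 1) * (T - 1) = 0 := by
    have hneg : ∀ M : Matrix (Fin 2) (Fin 2) F, -M = M := fun M => Matrix.ext fun i j => by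
      rw [Matrix.neg_apply]
      linear_combination (-(M i j)) * h2
    rw [sub_mul, mul_sub, mul_sub, hTT, one_mul, one_mul, mul_one, sub_eq_zero, ← neg_sub, hneg]
  have hTv : T *ᵥ v = v := by
    rw [← sub_eq_zero, show T *ᵥ v - v = (T - 1) *ᵥ v by rw [Matrix.sub_mulVec, Matrix.one_mulVec],
      hv, Matrix.mulVec_mulVec, hMM, Matrix.zero_mulVec]
  -- the kernel of `T - 1` is the line through `v`
  have hline : ∀ w, (T - 1) *ᵥ w = 0 → ∃ c : F, w = c • v := by
    intro w hw
    have hli : ¬ LinearIndependent F ![v, w] := by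
      intro hli
      apply hv₀
      have hsp := hli.span_eq_top_of_card_eq_finrank (by simp)
      have hv0 : v₀ ∈ Submodule.span F (Set.range ![v, w]) := hsp ▸ Submodule.mem_top
      have hle : Submodule.span F (Set.range ![v, w]) ≤ LinearMap.ker (Matrix.mulVecLin (T - 1)) := by
        rw [Submodule.span_le]
        rintro x ⟨i, rfl⟩
        fin_cases i
        · show (T - 1) *ᵥ v = 0
          rw [Matrix.sub_mulVec, Matrix.one_mulVec, hTv, sub_self]
        · exact hw
      exact hle hv0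
    rw [LinearIndependent.pair_iff' hv₀] at hli
    push Not at hli
    obtain ⟨c, hc⟩ := hli
    exact ⟨c, hc.symm⟩
  have hcomm : (T - 1) * S = S * (T - 1) := by rw [sub_mul, mul_sub, hTS, one_mul, mul_one]
  obtain ⟨l, hl⟩ := hline (S *ᵥ v) (by
    rw [Matrix.mulVec_mulVec, hcomm, ← Matrix.mulVec_mulVec, hv, Matrix.mulVec_mulVec _ (T-1) (T-1),
      hMM, Matrix.zero_mulVec, Matrix.mulVec_zero])
  obtain ⟨d, hd⟩ := hline (S *ᵥ v₀ - l • v₀) (by
    rw [Matrix.mulVec_sub, Matrix.mulVec_smul, Matrix.mulVec_mulVec, hcomm,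
      ← Matrix.mulVec_mulVec, ← hv, hl, sub_self])
  have hdet : (S - l • (1 : Matrix (Fin 2) (Fin 2) F)).det = 0 :=
    Matrix.exists_mulVec_eq_zero_iff.mp ⟨v, hv₀, by
      rw [Matrix.sub_mulVec, Matrix.smul_mulVec, Matrix.one_mulVec, hl, sub_self]⟩
  -- the only eigenvalue is `l`, and `l = 1`
  have hzero : (S - l • 1) * (S - l • (1 : Matrix (Fin 2) (Fin 2) F)) = 0 := by
    have hli : LinearIndependent F ![v, v₀] := by
      rw [LinearIndependent.pair_iff' hv₀]
      intro c hc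
      apply hv₀
      rw [hv, ← hc, Matrix.mulVec_smul, Matrix.sub_mulVec, Matrix.one_mulVec, hTv, sub_self,
        smul_zero]
    have hsp := hli.span_eq_top_of_card_eq_finrank (by simp)
    have hle : Submodule.span F (Set.range ![v, v₀]) ≤
        LinearMap.ker (Matrix.mulVecLin ((S - l • 1) * (S - l • (1 : Matrix (Fin 2) (Fin 2) F)))) := by
      rw [Submodule.span_le]
      rintro x ⟨i, rfl⟩
      have e0 : (S - l • (1 : Matrix (Fin 2) (Fin 2) F)) *ᵥ v = 0 := by
        rw [Matrix.sub_mulVec, Matrix.smul_mulVec, Matrix.one_mulVec, hl, sub_self]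
      fin_cases i
      · show _ *ᵥ v = 0
        rw [← Matrix.mulVec_mulVec, e0, Matrix.mulVec_zero]
      · show _ *ᵥ v₀ = 0
        rw [← Matrix.mulVec_mulVec, Matrix.sub_mulVec S (l • 1) v₀, Matrix.smul_mulVec,
          Matrix.one_mulVec, hd, Matrix.mulVec_smul, e0, smul_zero]
    rw [hsp] at hle
    refine Matrix.ext fun i j => ?_
    have h := hle (Submodule.mem_top : Pi.single j (1 : F) ∈ ⊤)
    have h' := congrFun h i
    rw [Matrix.mulVecLin_apply, Matrix.mulVec_single_one] at h'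
    exact h'
  apply hs1
  have hdS := s.2
  have h00 := congrFun (congrFun hzero 0) 0
  have h11 := congrFun (congrFun hzero 1) 1
  simp [Matrix.mul_apply, Fin.sum_univ_two] at h00 h11
  simp [Matrix.det_fin_two] at hdet
  rw [Matrix.det_fin_two] at hdS
  have h5 : (S 0 0 + S 1 1) ^ 2 = 0 := by
    linear_combination h00 + h11 + 2 * hdet +
      (2 * l * (S 0 0 + S 1 1) - 2 * l ^ 2) * h2
  have h6 : S 0 0 + S 1 1 = 0 := pow_eq_zero_iff two_ne_zero |>.mp h5
  have hl1 : l = 1 := by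
    have : (l - 1) ^ 2 = 0 := by linear_combination hdet - hdS + l * h6 - l * h2
    exact sub_eq_zero.mp (pow_eq_zero_iff two_ne_zero |>.mp this)
  exact sl2_eq_one_of_fixes (hr.odd_of_ne_two hr2) hsr hv₀ (by rw [hl, hl1, one_smul])

/-- `SL(2,8)` has no element of order `21`. -/
theorem sl2_orderOf_ne_twentyOne [Fintype F] [CharP F 2] (hF : Fintype.card F = 8)
    (g : Matrix.SpecialLinearGroup (Fin 2) F) : orderOf g ≠ 21 := by
  intro hg
  have h2 : (2 : F) = 0 := CharTwo.two_eq_zero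
  set x := g ^ 7 with hx
  set y := g ^ 3 with hy
  have hx3 : x ^ 3 = 1 := by
    rw [hx, ← pow_mul, show (7 : ℕ) * 3 = orderOf g by omega, pow_orderOf_eq_one]
  have hy7 : y ^ 7 = 1 := by
    rw [hy, ← pow_mul, show (3 : ℕ) * 7 = orderOf g by omega, pow_orderOf_eq_one]
  have hx1 : x ≠ 1 := pow_ne_one_of_lt_orderOf (by norm_num) (by rw [hg]; norm_num)
  have hy1 : y ≠ 1 := pow_ne_one_of_lt_orderOf (by norm_num) (by rw [hg]; norm_num)
  have hcxy : Commute y x := hy ▸ hx ▸ Commute.pow_pow_self g 3 7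
  clear_value x y
  have hX3 : x.1 * x.1 * x.1 = 1 := by
    rw [← Matrix.SpecialLinearGroup.coe_mul, ← Matrix.SpecialLinearGroup.coe_mul, ← pow_two,
      ← pow_succ, hx3, Matrix.SpecialLinearGroup.coe_one]
  have hx10 : x.1 1 0 ≠ 0 := by
    intro h0
    have h := congrFun (congrFun hX3 0) 0
    simp [Matrix.mul_apply, Fin.sum_univ_two, h0] at h
    have h7 : x.1 0 0 ^ 7 = 1 := by
      have hne : x.1 0 0 ≠ 0 := fun e => by simp [e] at h
      simpa [hF] using FiniteField.pow_card_sub_one_eq_one _ hne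
    have h00 : x.1 0 0 = 1 := by
      calc x.1 0 0 = x.1 0 0 * (x.1 0 0 * x.1 0 0 * x.1 0 0) ^ 2 := by rw [h, one_pow, mul_one]
        _ = x.1 0 0 ^ 7 := by ring
        _ = 1 := h7
    refine hx1 (sl2_eq_one_of_fixes (n := 3) (by decide) hx3 (v := Pi.single 0 1) ?_ ?_)
    · intro e; simpa using congrFun e 0
    · funext i
      fin_cases i <;> simp [h00, h0]
  have hxy : y.1 * x.1 = x.1 * y.1 := by
    rw [← Matrix.SpecialLinearGroup.coe_mul, ← Matrix.SpecialLinearGroup.coe_mul,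
      hcxy.eq]
  set b := y.1 1 0 / x.1 1 0 with hb
  set a := y.1 0 0 - b * x.1 0 0 with ha
  have hb' : b * x.1 1 0 = y.1 1 0 := div_mul_cancel₀ _ hx10
  have e01 : y.1 0 1 = b * x.1 0 1 := by
    have h := congrFun (congrFun hxy 0) 0
    simp [Matrix.mul_apply, Fin.sum_univ_two] at h
    apply mul_right_cancel₀ hx10
    linear_combination h - x.1 0 1 * hb'
  have e11 : y.1 1 1 = a + b * x.1 1 1 := by
    have h := congrFun (congrFun hxy 1) 0
    simp [Matrix.mul_apply, Fin.sum_univ_two] at h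
    apply mul_right_cancel₀ hx10
    rw [ha]
    linear_combination h + (x.1 0 0 - x.1 1 1) * hb'
  have hY : y.1 = a • 1 + b • x.1 := by
    ext i j
    fin_cases i <;> fin_cases j <;> simp [e01, e11, hb', ha]
  have h8 : y.1 ^ 8 = a • 1 + b • (x.1 * x.1) := by
    have hc : Commute (a • (1 : Matrix (Fin 2) (Fin 2) F)) (b • x.1) :=
      (Commute.one_left x.1).smul_left a |>.smul_right b
    rw [hY, show (8 : ℕ) = 2 ^ 3 from rfl, add_pow_char_pow_of_commute 2 3 hc, smul_pow, smul_pow,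
      one_pow, show (2 : ℕ) ^ 3 = 8 from rfl]
    have ea : ∀ c : F, c ^ 8 = c := fun c => hF ▸ FiniteField.pow_card c
    rw [ea, ea]
    congr 2
    calc x.1 ^ 8 = (x.1 * x.1 * x.1) * (x.1 * x.1 * x.1) * (x.1 * x.1) := by
          simp only [pow_succ, pow_zero, one_mul, Matrix.mul_assoc]
      _ = x.1 * x.1 := by rw [hX3, one_mul, one_mul]
  have hy8 : y.1 ^ 8 = y.1 := by
    rw [← Matrix.SpecialLinearGroup.coe_pow, pow_succ, hy7, one_mul]
  rw [hy8, hY, add_right_inj] at h8
  have hb0 : b = 0 := by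
    by_contra hb0
    have h := smul_right_injective (Matrix (Fin 2) (Fin 2) F) hb0 h8
    exact hx1 (mul_eq_left.mp (Subtype.ext ((Matrix.SpecialLinearGroup.coe_mul x x).trans h.symm)))
  apply hy1
  have hdet := y.2
  rw [hY, hb0] at hdet
  simp at hdet
  have ha1 : a = 1 := hdet.elim id (fun h => h.trans (CharTwo.neg_eq 1))
  apply Subtype.ext
  rw [hY, hb0, ha1, Matrix.SpecialLinearGroup.coe_one]
  simp

end CfsgLib.Recog
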