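import Mathlib
import Cfsg.Agent.Lib.Recog.SL2Graph
import Cfsg.Agent.Lib.Recog.AltFiveOrders
import Cfsg.Agent.Lib.Classical.SLOrder
import Cfsg.Agent.S0252

/-!
The element orders of `F^(2k) ⋊ SL(2, 4)` and of the alternating group of degree six.
-/

set_option autoImplicit false

namespace CfsgLib.Recog

open Matrix
open scoped MatrixGroups

variable {F : Type*} [Field F] [Fintype F]

theorem charTwo_of_card_four (hF : Fintype.card F = 4) : CharP F 2 :=
  charP_of_card_eq_prime_pow (f := 2) (by simpa using hF)

theorem sl2_four_range (hF : Fintype.card F = 4) :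
    Set.range (orderOf : Matrix.SpecialLinearGroup (Fin 2) F → ℕ) = {1, 2, 3, 5} := by
  obtain ⟨e⟩ := Cfsg.Agent.S0252.result hF
  have hz : Subgroup.center (Matrix.SpecialLinearGroup (Fin 2) F) = ⊥ := by
    rw [Subgroup.eq_bot_iff_card, CfsgLib.Classical.card_center_sl, Fintype.card_fin, hF]
    rfl
  let f : Matrix.SpecialLinearGroup (Fin 2) F ≃* alternatingGroup (Fin 5) :=
    ((QuotientGroup.quotientMulEquivOfEq hz).trans QuotientGroup.quotientBot).symm.trans e
  rw [← altFive_range]
  ext n
  exact ⟨fun ⟨x, hx⟩ => ⟨f x, by rw [MulEquiv.orderOf_eq, hx]⟩,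
    fun ⟨x, hx⟩ => ⟨f.symm x, by rw [MulEquiv.orderOf_eq, hx]⟩⟩

/-- The orders of the elements of `F^(2k) ⋊ SL(2,4)`. -/
theorem affine_sl2_four_range (hF : Fintype.card F = 4) (k : ℕ) (hk : 0 < k) :
    Set.range (orderOf : Multiplicative (Fin k → Fin 2 → F) ⋊[tupleAut
      (Matrix.SpecialLinearGroup.toGL : Matrix.SpecialLinearGroup (Fin 2) F →* GL (Fin 2) F) k]
        Matrix.SpecialLinearGroup (Fin 2) F → ℕ) = {1, 2, 3, 4, 5} := by
  have : CharP F 2 := charTwo_of_card_four hF
  set φ := tupleAut (Matrix.SpecialLinearGroup.toGL : Matrix.SpecialLinearGroup (Fin 2) F →* GL (Fin 2) F) k with hφ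
  have hA2 : ∀ a : Multiplicative (Fin k → Fin 2 → F), a ^ 2 = 1 := fun a => by
    apply Multiplicative.toAdd.injective
    funext i j
    show 2 • (a.toAdd i j) = 0
    rw [two_nsmul, CharTwo.add_self_eq_zero]
  have hr := sl2_four_range hF
  ext n
  simp only [Set.mem_range, Set.mem_insert_iff, Set.mem_singleton_iff]
  constructor
  · rintro ⟨y, rfl⟩
    set g := y.right with hg
    set t := orderOf g with ht
    have hmem : t ∈ ({1, 2, 3, 5} : Set ℕ) := hr ▸ Set.mem_range_self g
    simp only [Set.mem_insert_iff, Set.mem_singleton_iff] at hmem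
    have hright : (y ^ t).right = 1 := by
      show SemidirectProduct.rightHom (y ^ t) = 1
      rw [map_pow]
      exact pow_orderOf_eq_one g
    have hd : orderOf y ∣ 2 * t := by
      refine orderOf_dvd_of_pow_eq_one ?_
      have hl : y ^ t = SemidirectProduct.inl (y ^ t).left := by
        ext
        · simp
        · simp [hright]
      rw [mul_comm, pow_mul, hl, ← map_pow, hA2, map_one]
    -- for odd `t` the `t`-th power of `y` is fixed by `g`, hence trivial
    have hodd : Odd t → t ≠ 1 → y ^ t = 1 := by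
      intro hto ht1
      have hcomm : φ g (y ^ t).left = (y ^ t).left := by
        have h1 := congrArg SemidirectProduct.left (pow_mul_comm' y t)
        simp only [SemidirectProduct.mul_left, hright, map_one, MulAut.one_apply] at h1
        rw [← hg, mul_comm (y ^ t).left y.left] at h1
        exact (mul_left_cancel h1).symm
      ext i j
      · refine congrFun (show (y ^ t).left.toAdd i = 0 from by_contra fun hv => ?_) j
        refine ht1 ?_
        have hg1 : g = 1 := sl2_eq_one_of_fixes hto (pow_orderOf_eq_one g) hv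
          (congrFun (congrArg Multiplicative.toAdd hcomm) i)
        rw [ht, hg1, orderOf_one]
      · simp [hright]
    have hle := Nat.le_of_dvd (by rcases hmem with h | h | h | h <;> omega) hd
    rcases hmem with h | h | h | h
    · rw [h] at hd
      rcases (Nat.dvd_prime Nat.prime_two).mp hd with e | e <;> omega
    · rw [h] at hd
      have := (Nat.dvd_prime_pow Nat.prime_two (m := 2)).mp hd
      obtain ⟨j, hj, e⟩ := this
      interval_cases j <;> omega
    · have hy := orderOf_dvd_of_pow_eq_one (hodd (by rw [h]; decide) (by omega))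
      rw [h] at hy
      rcases (Nat.dvd_prime Nat.prime_three).mp hy with e | e <;> omega
    · have hy := orderOf_dvd_of_pow_eq_one (hodd (by rw [h]; decide) (by omega))
      rw [h] at hy
      rcases (Nat.dvd_prime Nat.prime_five).mp hy with e | e <;> omega
  · intro h
    by_cases h4 : n = 4
    · subst h4
      -- a translation not fixed by a transvection gives an element of order four
      let a : Multiplicative (Fin k → Fin 2 → F) := Multiplicative.ofAdd fun _ => ![0, 1]
      refine ⟨⟨a, sl2Trans F⟩, orderOf_eq_prime_pow (p := 2) (n := 1) ?_ ?_⟩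
      · intro he
        have hl := congrFun (congrFun (congrArg (fun z => Multiplicative.toAdd
          (SemidirectProduct.left z)) he) (⟨0, hk⟩ : Fin k)) 0
        rw [pow_one, pow_two, SemidirectProduct.mul_left] at hl
        simp [a, φ, tupleAut, sl2Trans, Matrix.mulVec, dotProduct, Fin.sum_univ_two] at hl
      · have hs : (sl2Trans F) ^ 2 = 1 := by
          have h := pow_orderOf_eq_one (sl2Trans F)
          rwa [orderOf_sl2Trans] at h
        let y0 : Multiplicative (Fin k → Fin 2 → F) ⋊[φ] Matrix.SpecialLinearGroup (Fin 2) F := ⟨a, sl2Trans F⟩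
        have hr2 : (y0 ^ 2).right = 1 := by
          show SemidirectProduct.rightHom (y0 ^ 2) = 1
          rw [map_pow]
          exact hs
        show y0 ^ 2 ^ (1 + 1) = 1
        rw [pow_succ, pow_mul, pow_one]
        have hz : y0 ^ 2 = SemidirectProduct.inl (y0 ^ 2).left := by
          ext
          · simp
          · simp [hr2]
        rw [hz, ← map_pow, hA2, map_one]
    · have hn : n ∈ Set.range (orderOf : Matrix.SpecialLinearGroup (Fin 2) F → ℕ) := by
        rw [hr]
        simp only [Set.mem_insert_iff, Set.mem_singleton_iff]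
        omega
      obtain ⟨g, hg⟩ := hn
      exact ⟨SemidirectProduct.inr g, by rw [orderOf_injective _ SemidirectProduct.inr_injective, hg]⟩

theorem altSix_pow : ∀ g : alternatingGroup (Fin 6), g ^ 4 = 1 ∨ g ^ 3 = 1 ∨ g ^ 5 = 1 := by
  decide +kernel

theorem altSix_range : Set.range (orderOf : alternatingGroup (Fin 6) → ℕ) = {1, 2, 3, 4, 5} := by
  ext n
  simp only [Set.mem_range, Set.mem_insert_iff, Set.mem_singleton_iff]
  constructor
  · rintro ⟨g, rfl⟩
    rcases altSix_pow g with h | h | h
    · obtain ⟨j, hj, e⟩ := (Nat.dvd_prime_pow Nat.prime_two (m := 2)).mp (orderOf_dvd_of_pow_eq_one h)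
      interval_cases j <;> omega
    · rcases (Nat.dvd_prime Nat.prime_three).mp (orderOf_dvd_of_pow_eq_one h) with e | e <;> omega
    · rcases (Nat.dvd_prime Nat.prime_five).mp (orderOf_dvd_of_pow_eq_one h) with e | e <;> omega
  · have h3 : ∃ g : alternatingGroup (Fin 6), g ^ 3 = 1 ∧ g ≠ 1 := by decide +kernel
    have h5 : ∃ g : alternatingGroup (Fin 6), g ^ 5 = 1 ∧ g ≠ 1 := by decide +kernel
    have h4 : ∃ g : alternatingGroup (Fin 6), g ^ 4 = 1 ∧ g ^ 2 ≠ 1 := by decide +kernel
    obtain ⟨g4, a4, b4⟩ := h4
    have ho4 : orderOf g4 = 4 := orderOf_eq_prime_pow (p := 2) (n := 1) (by simpa using b4) (by simpa using a4)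
    rintro (rfl | rfl | rfl | rfl | rfl)
    · exact ⟨1, orderOf_one⟩
    · exact ⟨g4 ^ 2, by rw [orderOf_pow' g4 two_ne_zero, ho4]; rfl⟩
    · obtain ⟨g, a, b⟩ := h3
      exact ⟨g, haveI := Fact.mk Nat.prime_three; orderOf_eq_prime a b⟩
    · exact ⟨g4, ho4⟩
    · obtain ⟨g, a, b⟩ := h5
      exact ⟨g, haveI := Fact.mk Nat.prime_five; orderOf_eq_prime a b⟩

end CfsgLib.Recog
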