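import Cfsg.Agent.Lib.Recog.BinomialPrime
import Cfsg.Agent.S0713
import Mathlib.GroupTheory.SpecificGroups.Alternating.MaximalSubgroups
import Mathlib.GroupTheory.Perm.Centralizer
import Mathlib.Data.Nat.Factorial.Basic
import Mathlib.NumberTheory.Bertrand

/-!
Elements of the largest prime order dividing an index in an alternating group that avoid all
conjugates of a subgroup.
-/

set_option autoImplicit false

namespace CfsgLib.Recog.AltDerange

open Equiv Equiv.Perm
open scoped Pointwise

variable {m : ℕ}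

theorem fix_of_small {P α : Type*} [Group P] [MulAction P α] {p : ℕ} [Fact p.Prime] (hP : IsPGroup p P)
    {S : Set α} (hfin : S.Finite) (hS : ∀ g : P, ∀ x ∈ S, g • x ∈ S) (hcard : S.ncard < p) :
    ∀ g : P, ∀ x ∈ S, g • x = x := by
  intro g x hx
  have hsub : MulAction.orbit P x ⊆ S := by rintro _ ⟨h, rfl⟩; exact hS h x hx
  have : Finite (MulAction.orbit P x) := (hfin.subset hsub).to_subtype
  obtain ⟨k, hk⟩ := hP.card_orbit (α := α) x
  have hlt : Nat.card (MulAction.orbit P x) < p := by
    rw [Nat.card_coe_set_eq]; exact lt_of_le_of_lt (Set.ncard_le_ncard hsub hfin) hcard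
  have hk0 : k = 0 := by
    by_contra hk0
    exact absurd (hk ▸ Nat.le_self_pow hk0 p) (not_le.2 hlt)
  rw [hk0, pow_zero, Nat.card_eq_one_iff_unique] at hk
  exact congrArg Subtype.val (hk.1.elim (⟨g • x, g, rfl⟩ : MulAction.orbit P x) ⟨x, MulAction.mem_orbit_self x⟩)

theorem apply_eq_of_small {g : Perm (Fin m)} {p : ℕ} (hp : p.Prime) (hg : g ^ p = 1) {S : Set (Fin m)}
    (hS : ∀ x ∈ S, g x ∈ S) (hcard : S.ncard < p) : ∀ x ∈ S, g x = x := by
  have := Fact.mk hp
  have hP : IsPGroup p (Subgroup.zpowers g) := by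
    rintro ⟨a, ha⟩
    obtain ⟨j, rfl⟩ := Subgroup.mem_zpowers_iff.1 ha
    exact ⟨1, Subtype.ext (by
      show (g ^ j) ^ p ^ 1 = 1
      rw [pow_one, ← zpow_natCast, ← zpow_mul, mul_comm, zpow_mul, zpow_natCast, hg, one_zpow])⟩
  have hpow : ∀ j : ℕ, ∀ x ∈ S, (g ^ j) x ∈ S := by
    intro j
    induction j with
    | zero => intro x hx; simpa using hx
    | succ j ih => intro x hx; rw [pow_succ, Perm.mul_apply]; exact ih _ (hS x hx)
  intro x hx
  refine fix_of_small hP (Set.toFinite S) ?_ hcard ⟨g, Subgroup.mem_zpowers g⟩ x hx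
  rintro ⟨a, ha⟩ y hy
  obtain ⟨j, rfl⟩ := (isOfFinOrder_of_finite g).mem_powers_iff_mem_zpowers.2 ha
  exact hpow j y hy

/-- An element with as many `r`-cycles as possible stabilises only sets with small last digit. -/
theorem exists_max_cycles {r k : ℕ} (hr : r.Prime) (hrm : r ≤ m) (hk : k ≤ m) (hmod : m % r < k % r)
    (heven : r = 2 → 4 ∣ m) :
    ∃ g : Perm (Fin m), g ∈ alternatingGroup (Fin m) ∧ orderOf g = r ∧
      ∀ s : Finset (Fin m), s.card = k → ∃ x ∈ s, g x ∉ s := by
  classical
  have := Fact.mk hr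
  obtain ⟨g, hg⟩ : ∃ g : Perm (Fin m), g.cycleType = Multiset.replicate (m / r) r := by
    rw [exists_with_cycleType_iff]
    refine ⟨?_, fun a ha => (Multiset.eq_of_mem_replicate ha) ▸ hr.two_le⟩
    rw [Multiset.sum_replicate, smul_eq_mul, Fintype.card_fin]
    exact Nat.div_mul_le_self m r
  have hpos : 0 < m / r := Nat.div_pos hrm hr.pos
  have hord : orderOf g = r := by
    rw [← lcm_cycleType, hg]
    apply Nat.dvd_antisymm (Multiset.lcm_dvd.2 fun a ha => (Multiset.eq_of_mem_replicate ha).dvd)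
    exact Multiset.dvd_lcm (Multiset.mem_replicate.2 ⟨hpos.ne', rfl⟩)
  refine ⟨g, ?_, hord, fun s hs => ?_⟩
  · rw [mem_alternatingGroup, sign_of_cycleType, hg, Multiset.sum_replicate, Multiset.card_replicate, smul_eq_mul]
    refine Even.neg_one_pow ?_
    rcases hr.eq_two_or_odd' with h2 | h2
    · obtain ⟨c, hc⟩ := heven h2
      subst h2 hc
      rw [Nat.mul_div_assoc _ (⟨2, rfl⟩ : 2 ∣ 4) |>.symm] at *
      exact ⟨3 * c, by omega⟩
    · obtain ⟨c, hc⟩ := h2
      exact ⟨(m / r) * (c + 1), by rw [hc]; ring⟩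
  · by_contra hcon
    push Not at hcon
    let f : Function.End s := fun x => ⟨g x, hcon x x.2⟩
    have hfpow : ∀ j : ℕ, ∀ x : s, ((f ^ j) x : Fin m) = (g ^ j) x := by
      intro j
      induction j with
      | zero => intro x; rfl
      | succ j ih =>
        intro x
        rw [pow_succ, pow_succ, Perm.mul_apply]
        exact ih (f x)
    have hf : f ^ r ^ 1 = 1 := by
      funext x
      refine Subtype.ext ?_
      rw [hfpow, pow_one, ← hord, pow_orderOf_eq_one]
      rfl
    have hmodeq := Equiv.Perm.card_fixedPoints_modEq hf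
    rw [Fintype.card_coe, hs] at hmodeq
    have hle : Fintype.card f.fixedPoints ≤ (g.supportᶜ : Finset (Fin m)).card := by
      rw [← Fintype.card_coe]
      refine Fintype.card_le_of_injective (fun x => (⟨x.1.1, ?_⟩ : (g.supportᶜ : Finset (Fin m)))) ?_
      · rw [Finset.mem_compl, mem_support, not_not]
        exact congrArg Subtype.val x.2
      · intro a b e
        exact Subtype.ext (Subtype.ext (congrArg (fun z : (g.supportᶜ : Finset (Fin m)) => (z : Fin m)) e :))
    rw [Finset.card_compl, Fintype.card_fin, ← sum_cycleType, hg, Multiset.sum_replicate, smul_eq_mul] at hle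
    have h1 : m - m / r * r = m % r := by have := Nat.div_add_mod' m r; omega
    rw [h1] at hle
    have h2 : Fintype.card f.fixedPoints < r := lt_of_le_of_lt hle (Nat.mod_lt m hr.pos)
    unfold Nat.ModEq at hmodeq
    rw [Nat.mod_eq_of_lt h2] at hmodeq
    omega

theorem not_dvd_of_big {r N n h : ℕ} (hr : r.Prime) (hm : m < 2 * r) (hN : N ∣ m.factorial) (he : n * h = N)
    (hn : r ∣ n) : ¬ r ∣ h := by
  intro hd
  have h2 : r ^ 2 ∣ m.factorial := (he ▸ (pow_two r ▸ Nat.mul_dvd_mul hn hd)).trans hN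
  have := (hr.pow_dvd_factorial_iff (n := m) (r := 2) (b := Nat.log r m + 1) (Nat.lt_succ_self _)).1 h2
  have hsmall : ∀ i ∈ Finset.Ico 1 (Nat.log r m + 1), m / r ^ i ≤ if i = 1 then 1 else 0 := by
    intro i hi
    rw [Finset.mem_Ico] at hi
    split_ifs with h1
    · subst h1; rw [pow_one]
      exact Nat.lt_succ_iff.1 (Nat.div_lt_of_lt_mul (by omega))
    · rw [Nat.le_zero, Nat.div_eq_zero_iff]
      right
      calc m < 2 * r := hm
        _ ≤ r * r := Nat.mul_le_mul_right _ hr.two_le
        _ = r ^ 2 := (pow_two r).symm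
        _ ≤ r ^ i := Nat.pow_le_pow_right hr.pos (by omega)
  have h3 := this.trans (Finset.sum_le_sum hsmall)
  rw [Finset.sum_ite_eq' (Finset.Ico 1 (Nat.log r m + 1)) 1 (fun _ => 1)] at h3
  split_ifs at h3 <;> omega

/-- What is known about an intransitive subgroup. -/
def SetHint (H : Subgroup (Perm (Fin m))) (r : ℕ) : Prop :=
  ∃ s : Finset (Fin m), s.Nonempty ∧ 2 * s.card ≤ m ∧ (∀ h ∈ H, ∀ x ∈ s, h x ∈ s) ∧ r ∣ m.choose s.card ∧
    ∀ p, p.Prime → p ∣ m.choose s.card → p ≤ r

theorem exists_derangement (hm : 5 ≤ m) {H : Subgroup (Perm (Fin m))} (hH : H ≤ alternatingGroup (Fin m))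
    (hHne : H ≠ alternatingGroup (Fin m)) {n r : ℕ} (hn : n * Nat.card H = Nat.card (alternatingGroup (Fin m)))
    (hr : r.Prime) (hrn : r ∣ n) (hmax : ∀ p, p.Prime → p ∣ n → p ≤ r)
    (hint : 2 * r ≤ m → ¬ MulAction.IsPretransitive H (Fin m) → H = ⊥ ∨ SetHint H r) :
    ∃ g ∈ alternatingGroup (Fin m), orderOf g = r ∧ ∀ a : Perm (Fin m), a * g * a⁻¹ ∉ H := by
  classical
  have := Fact.mk hr
  have : Nontrivial (Fin m) := Fin.nontrivial_iff_two_le.2 (by omega)
  have h2A : 2 * Nat.card (alternatingGroup (Fin m)) = m.factorial := by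
    rw [← alternatingGroup.index_eq_two (α := Fin m), Subgroup.index_mul_card, Nat.card_perm, Nat.card_fin]
  have hrA : r ∣ Nat.card (alternatingGroup (Fin m)) := hn ▸ dvd_mul_of_dvd_left hrn _
  have hrm : r ≤ m := (Nat.Prime.dvd_factorial hr).1 (h2A ▸ dvd_mul_of_dvd_right hrA 2)
  have free : ¬ r ∣ Nat.card H →
      ∃ g ∈ alternatingGroup (Fin m), orderOf g = r ∧ ∀ a : Perm (Fin m), a * g * a⁻¹ ∉ H := by
    intro hnd
    obtain ⟨⟨g, hg⟩, hgo⟩ := exists_prime_orderOf_dvd_card' r hrA
    rw [Subgroup.orderOf_mk] at hgo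
    refine ⟨g, hg, hgo, fun a ha => hnd ?_⟩
    rw [← hgo, ← MulEquiv.orderOf_eq (MulAut.conj a) g, MulAut.conj_apply, ← Subgroup.orderOf_mk _ ha]
    exact orderOf_dvd_natCard _
  by_cases hbig : m < 2 * r
  · exact free (not_dvd_of_big hr hbig ⟨2, by rw [← h2A]; ring⟩ hn hrn)
  push Not at hbig
  by_cases htr : MulAction.IsPretransitive H (Fin m)
  swap
  · rcases hint hbig htr with hbot | ⟨s, hsne, hsm, hsH, hsd, hsmax⟩
    · exact free (by rw [hbot, Subgroup.card_bot]; exact fun h => hr.one_lt.ne' (Nat.dvd_one.1 h))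
    have hk : 1 ≤ s.card := hsne.card_pos
    have hmod := BinomPrime.mod_lt_mod hk hsm hr hsd hsmax
    have heven : r = 2 → 4 ∣ m := by
      rintro rfl
      obtain ⟨p, hp, hpd, hpk⟩ := BinomPrime.exists_big_prime hk hsm
      have := hsmax p hp hpd
      have hp2 : p = 2 := by have := hp.two_le; omega
      subst hp2
      have hk1 : s.card = 1 := by omega
      rw [hk1, Nat.choose_one_right] at hsd hsmax
      by_contra h4
      obtain ⟨q, hq, hqd⟩ := Nat.exists_prime_and_dvd (show m / 2 ≠ 1 by omega)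
      have hq2 : q = 2 := by
        have := hsmax q hq (hqd.trans (Nat.div_dvd_of_dvd hsd))
        have := hq.two_le
        omega
      subst hq2
      omega
    obtain ⟨g, hgA, hgo, hgs⟩ := exists_max_cycles hr hrm (show s.card ≤ m by omega) hmod heven
    refine ⟨g, hgA, hgo, fun a ha => ?_⟩
    obtain ⟨x, hx, hx'⟩ := hgs (s.map a⁻¹.toEmbedding) (by rw [Finset.card_map])
    rw [Finset.mem_map_equiv] at hx hx'
    refine hx' ?_
    have := hsH _ ha _ hx
    simpa [Equiv.Perm.inv_def] using this
  by_cases hprim : MulAction.IsPreprimitive H (Fin m)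
  · by_cases hr2 : r = 2
    · exfalso
      have h3n : ¬ 3 ∣ n := fun h => by have := hmax 3 Nat.prime_three h; omega
      let T : Perm (Fin m) := Equiv.swap ⟨0, by omega⟩ ⟨1, by omega⟩ * Equiv.swap ⟨0, by omega⟩ ⟨2, by omega⟩
      have hT : T.IsThreeCycle := isThreeCycle_swap_mul_swap_same (by simp) (by simp) (by simp)
      have := Fact.mk Nat.prime_three
      have hPT : IsPGroup 3 (Subgroup.zpowers (⟨T, hT.mem_alternatingGroup⟩ : alternatingGroup (Fin m))) :=
        IsPGroup.of_card (n := 1) (by rw [Nat.card_zpowers, Subgroup.orderOf_mk, hT.orderOf, pow_one])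
      obtain ⟨Q, hQ⟩ := hPT.exists_le_sylow
      let H' := H.subgroupOf (alternatingGroup (Fin m))
      obtain ⟨R⟩ := (Sylow.nonempty (p := 3) (G := H'))
      have hR := (R.2).map H'.subtype
      obtain ⟨Q', hQ'⟩ := hR.exists_le_sylow
      have hcR : Nat.card (R : Subgroup H') = Nat.card (Q' : Subgroup (alternatingGroup (Fin m))) := by
        rw [Sylow.card_eq_multiplicity, Sylow.card_eq_multiplicity, ← hn,
          Nat.card_congr (Subgroup.subgroupOfEquivOfLe hH).toEquiv]
        have hn0 : n ≠ 0 := by rintro rfl; rw [zero_mul] at hn; exact Nat.card_pos.ne' hn.symm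
        rw [Nat.factorization_mul hn0 Nat.card_pos.ne', Finsupp.add_apply,
          Nat.factorization_eq_zero_of_not_dvd h3n, zero_add]
      have hQH : (Q' : Subgroup (alternatingGroup (Fin m))) ≤ H' := by
        have e := Subgroup.eq_of_le_of_card_ge hQ' (by
          rw [← hcR, Subgroup.card_map_of_injective H'.subtype_injective])
        rw [← e]
        exact Subgroup.map_subtype_le _
      obtain ⟨a, ha⟩ := MulAction.exists_smul_eq (alternatingGroup (Fin m)) Q Q'
      have hmem : a * ⟨T, hT.mem_alternatingGroup⟩ * a⁻¹ ∈ H' := by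
        refine hQH ?_
        rw [← ha, Sylow.coe_subgroup_smul]
        exact Subgroup.smul_mem_pointwise_smul _ (MulAut.conj a) _ (hQ (Subgroup.mem_zpowers _))
      have h3 : ((a * ⟨T, hT.mem_alternatingGroup⟩ * a⁻¹ : alternatingGroup (Fin m)) : Perm (Fin m)).IsThreeCycle := by
        show Equiv.Perm.cycleType _ = {3}
        rw [Subgroup.coe_mul, Subgroup.coe_mul, Subgroup.coe_inv, cycleType_conj]
        exact hT
      exact hHne (le_antisymm hH (alternatingGroup_le_of_isPreprimitive_of_isThreeCycle_mem hprim h3 hmem))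
    · have hodd := hr.odd_of_ne_two hr2
      obtain ⟨g, hg⟩ : ∃ g : Perm (Fin m), g.cycleType = {r} := by
        rw [exists_with_cycleType_iff]
        simp [hr.two_le, hrm]
      have hgA : g ∈ alternatingGroup (Fin m) := by
        rw [mem_alternatingGroup, sign_of_cycleType, hg, Multiset.sum_singleton, Multiset.card_singleton]
        exact Even.neg_one_pow (hodd.add_odd odd_one)
      refine ⟨g, hgA, by rw [← lcm_cycleType, hg, Multiset.lcm_singleton, normalize_eq], fun a ha => ?_⟩
      have hct : (a * g * a⁻¹).cycleType = {r} := by rw [cycleType_conj, hg]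
      refine hHne (le_antisymm hH (Cfsg.Agent.S0713.result H hprim hr (by simp; omega) (by simp; omega) ?_ ?_ ha))
      · rw [← card_cycleType_eq_one, hct, Multiset.card_singleton]
      · rw [← sum_cycleType, hct, Multiset.sum_singleton]
  · exfalso
    obtain ⟨p, hp, hp1, hp2⟩ := Nat.exists_prime_lt_and_le_two_mul (m / 2) (by omega)
    have hpH : ¬ p ∣ Nat.card H := by
      intro hd
      have := Fact.mk hp
      obtain ⟨⟨g, hgH⟩, hgo⟩ := exists_prime_orderOf_dvd_card' p hd
      rw [Subgroup.orderOf_mk] at hgo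
      have hB : ∃ B : Set (Fin m), MulAction.IsBlock H B ∧ ¬ MulAction.IsTrivialBlock B := by
        by_contra hcon
        push Not at hcon
        exact hprim ⟨fun hB => hcon _ hB⟩
      obtain ⟨B, hB, hBt⟩ := hB
      rw [MulAction.IsTrivialBlock, not_or] at hBt
      have hBne : B.Nonempty := by
        rcases B.eq_empty_or_nonempty with h | h
        · exact absurd (h ▸ Set.subsingleton_empty) hBt.1
        · exact h
      have hdvd : B.ncard * (MulAction.orbit H B).ncard = m := by
        rw [hB.ncard_block_mul_ncard_orbit_eq hBne, Nat.card_fin]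
      have hB1 : 1 < B.ncard := by
        rw [Set.one_lt_ncard_iff_nontrivial]
        exact Set.not_subsingleton_iff.1 hBt.1
      have hBm : B.ncard < m := by
        have := Set.ncard_lt_ncard (Set.ssubset_univ_iff.2 hBt.2) (Set.toFinite _)
        rwa [Set.ncard_univ, Nat.card_fin] at this
      have horb : (MulAction.orbit H B).ncard * 2 ≤ m := by
        calc _ ≤ (MulAction.orbit H B).ncard * B.ncard := Nat.mul_le_mul_left _ (by omega)
          _ = m := by rw [mul_comm]; exact hdvd
      have hBp : B.ncard < p := by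
        rcases Nat.lt_or_ge (MulAction.orbit H B).ncard 2 with h | h
        · interval_cases (MulAction.orbit H B).ncard <;> omega
        · have : B.ncard * 2 ≤ m := le_trans (Nat.mul_le_mul_left _ h) hdvd.le
          omega
      have hgp : (⟨g, hgH⟩ : H) ^ p = 1 := Subtype.ext (by show g ^ p = 1; rw [← hgo, pow_orderOf_eq_one])
      have hP : IsPGroup p (Subgroup.zpowers (⟨g, hgH⟩ : H)) := IsPGroup.of_card (n := 1)
        (by rw [Nat.card_zpowers, Subgroup.orderOf_mk, hgo, pow_one])
      have hfixB : ∀ C ∈ MulAction.orbit H B, (⟨g, hgH⟩ : H) • C = C := fun C hC => by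
        refine fix_of_small hP (S := MulAction.orbit H B) (Set.toFinite _) ?_ (by omega)
          ⟨_, Subgroup.mem_zpowers _⟩ C hC
        rintro ⟨h, -⟩ D ⟨d, rfl⟩
        exact ⟨h * d, mul_smul h d B⟩
      have hg1 : g = 1 := by
        ext1 x
        obtain ⟨b, hb⟩ := hBne
        obtain ⟨h, hh⟩ := MulAction.exists_smul_eq H b x
        have hC := hfixB (h • B) ⟨h, rfl⟩
        refine apply_eq_of_small hp (g := g) (by rw [← hgo, pow_orderOf_eq_one]) (S := h • B) ?_ ?_ x
          (hh ▸ Set.smul_mem_smul_set hb)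
        · intro y hy
          rw [← hC]
          exact Set.smul_mem_smul_set hy
        · rw [Set.ncard_smul_set]; exact hBp
      rw [hg1, orderOf_one] at hgo
      exact hp.one_lt.ne hgo
    have hpA : p ∣ Nat.card (alternatingGroup (Fin m)) := by
      have h : p ∣ 2 * Nat.card (alternatingGroup (Fin m)) := h2A ▸ Nat.dvd_factorial hp.pos (by omega)
      rcases hp.dvd_mul.1 h with h | h
      · have := Nat.le_of_dvd (by norm_num) h
        omega
      · exact h
    rw [← hn] at hpA
    have := hmax p hp ((hp.dvd_mul.1 hpA).resolve_right hpH)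
    omega

end CfsgLib.Recog.AltDerange
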