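import Mathlib.GroupTheory.SpecificGroups.Alternating.Centralizer
import Mathlib.GroupTheory.SpecificGroups.Alternating.Simple
import Mathlib.GroupTheory.PGroup
import Mathlib.GroupTheory.Solvable

/-!
Sections, perfect subgroups and almost simple quotients with an alternating socle.
-/

set_option autoImplicit false

namespace CfsgLib.Recog.AltSub

open Subgroup

variable {G : Type*} [Group G]

local notation "Alt" n => alternatingGroup (Fin n)

theorem eq_one_of_commute_alt {n : ℕ} (hn : 5 ≤ n) {m : Equiv.Perm (Fin n)}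
    (h : ∀ a ∈ alternatingGroup (Fin n), Commute m a) : m = 1 := by
  refine Equiv.ext fun a => ?_
  by_contra hne
  rw [Equiv.Perm.one_apply] at hne
  have : 1 < (({a, m a} : Finset (Fin n))ᶜ).card := by
    rw [Finset.card_compl, Fintype.card_fin]
    have := Finset.card_le_two (a := a) (b := m a)
    omega
  obtain ⟨c, hc, d, hd, hcd⟩ := Finset.one_lt_card.1 this
  simp only [Finset.mem_compl, Finset.mem_insert, Finset.mem_singleton, not_or] at hc hd
  let k := Equiv.swap a c * Equiv.swap a d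
  have hk : k ∈ alternatingGroup (Fin n) := by
    simp [k, Equiv.Perm.mem_alternatingGroup, Equiv.Perm.sign_swap (Ne.symm hc.1),
      Equiv.Perm.sign_swap (Ne.symm hd.1)]
  have e1 : k (m a) = m a := by
    simp [k, Equiv.swap_apply_of_ne_of_ne hne (Ne.symm hd.2), Equiv.swap_apply_of_ne_of_ne hne (Ne.symm hc.2)]
  have e2 : k a = d := by
    simp [k, Equiv.swap_apply_of_ne_of_ne hd.1 (Ne.symm hcd)]
  have e3 := Equiv.ext_iff.1 (h k hk).eq a
  simp only [Equiv.Perm.mul_apply, e1, e2] at e3
  exact hd.1 (m.injective e3)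

theorem alt_le_of_normalized {n : ℕ} (hn : 5 ≤ n) {N : Subgroup (Equiv.Perm (Fin n))}
    (hA : alternatingGroup (Fin n) ≤ normalizer (N : Set (Equiv.Perm (Fin n)))) (hN : N ≠ ⊥) :
    alternatingGroup (Fin n) ≤ N := by
  have := alternatingGroup.isSimpleGroup (α := Fin n) (by simpa using hn)
  have hnorm : (N.subgroupOf (alternatingGroup (Fin n))).Normal := ⟨fun a ha g => by
    rw [mem_subgroupOf] at ha ⊢
    exact (Subgroup.mem_normalizer_iff.1 (hA g.2) _).1 ha⟩
  rcases hnorm.eq_bot_or_eq_top with h | h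
  · refine absurd (eq_bot_iff.2 fun m hm => mem_bot.2 (eq_one_of_commute_alt hn fun a ha => ?_)) hN
    have hA' : (alternatingGroup (Fin n)).Normal := inferInstance
    have h1 : a * m * a⁻¹ * m⁻¹ ∈ N :=
      mul_mem ((Subgroup.mem_normalizer_iff.1 (hA ha) m).1 hm) (inv_mem hm)
    have h2 : a * m * a⁻¹ * m⁻¹ ∈ alternatingGroup (Fin n) := by
      rw [mul_assoc a, mul_assoc a]
      exact mul_mem ha (hA'.conj_mem _ (inv_mem ha) m)
    have h3 : (⟨_, h2⟩ : alternatingGroup (Fin n)) ∈ N.subgroupOf (alternatingGroup (Fin n)) := h1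
    rw [h, mem_bot] at h3
    exact (commute_iff_eq _ _).2 (mul_inv_eq_iff_eq_mul.1 (mul_inv_eq_one.1 (congrArg Subtype.val h3))).symm
  · intro a ha
    exact (subgroupOf_eq_top.1 h) ha

theorem eq_alt_or_top {n : ℕ} (hn : 2 ≤ n) {R : Subgroup (Equiv.Perm (Fin n))}
    (hA : alternatingGroup (Fin n) ≤ R) : R = alternatingGroup (Fin n) ∨ R = ⊤ := by
  by_cases h : R ≤ alternatingGroup (Fin n)
  · exact Or.inl (le_antisymm h hA)
  · have : Nontrivial (Fin n) := Fin.nontrivial_iff_two_le.2 hn
    obtain ⟨r, hr, hrA⟩ := SetLike.not_le_iff_exists.1 h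
    refine Or.inr (eq_top_iff.2 fun s _ => ?_)
    by_cases hs : s ∈ alternatingGroup (Fin n)
    · exact hA hs
    · have h1 := mul_mem hr (hA (show r⁻¹ * s ∈ alternatingGroup (Fin n) by
        rw [mul_mem_iff_of_index_two alternatingGroup.index_eq_two, inv_mem_iff]
        exact iff_of_false hrA hs))
      rwa [mul_inv_cancel_left] at h1

theorem exists_alt_map {n : ℕ} (hn : 3 ≤ n) (i j : Fin n) : ∃ a ∈ alternatingGroup (Fin n), a i = j := by
  by_cases hij : i = j
  · exact ⟨1, one_mem _, hij⟩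
  have : 0 < (({i, j} : Finset (Fin n))ᶜ).card := by
    rw [Finset.card_compl, Fintype.card_fin]
    have := Finset.card_le_two (a := i) (b := j)
    omega
  obtain ⟨k, hk⟩ := Finset.card_pos.1 this
  simp only [Finset.mem_compl, Finset.mem_insert, Finset.mem_singleton, not_or] at hk
  refine ⟨Equiv.swap i j * Equiv.swap j k, ?_, ?_⟩
  · simp [Equiv.Perm.mem_alternatingGroup, Equiv.Perm.sign_swap hij, Equiv.Perm.sign_swap (Ne.symm hk.2)]
  · simp [Equiv.swap_apply_of_ne_of_ne hij (Ne.symm hk.1)]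

theorem two_mul_card_alt {n : ℕ} (hn : 2 ≤ n) : 2 * Nat.card (alternatingGroup (Fin n)) = n.factorial := by
  have : Nontrivial (Fin n) := Fin.nontrivial_iff_two_le.2 hn
  rw [← alternatingGroup.index_eq_two (α := Fin n), index_mul_card, Nat.card_perm, Nat.card_fin]

theorem alt_le_of_card {n : ℕ} {R : Subgroup (Equiv.Perm (Fin n))} (h : n.factorial ≤ 2 * Nat.card R) :
    alternatingGroup (Fin n) ≤ R := by
  refine Equiv.Perm.alternatingGroup_le_of_index_le_two (Nat.le_of_mul_le_mul_right ?_ (Nat.card_pos (α := R)))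
  rwa [index_mul_card, Nat.card_perm, Nat.card_fin]

/-- No section isomorphic to an alternating group. -/
def Free (n : ℕ) (X : Subgroup G) : Prop :=
  ∀ Y : Subgroup G, Y ≤ X → ∀ f : Y →* alternatingGroup (Fin n), ¬ Function.Surjective f

theorem Free.mono {n : ℕ} {X Y : Subgroup G} (h : Free n X) (hle : Y ≤ X) : Free n Y :=
  fun Z hZ => h Z (hZ.trans hle)

theorem free_of_isPGroup {n p : ℕ} [Fact p.Prime] (hn : 5 ≤ n) {X : Subgroup G} [Finite G] (hX : IsPGroup p X) :
    Free n X := by
  intro Y hY f hf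
  have h1 := (hX.to_le hY).of_surjective f hf
  have := alternatingGroup.isSimpleGroup (α := Fin n) (by simpa using hn)
  have hc := h1.center_nontrivial
  rw [alternatingGroup.center_eq_bot (by simp; omega)] at hc
  exact not_nontrivial (⊥ : Subgroup (alternatingGroup (Fin n))) hc

theorem Free.of_hom {n : ℕ} (hn : 5 ≤ n) {X : Subgroup G} {W : Type*} [Group W] [Finite W] (φ : X →* W)
    (hW : Nat.card W < Nat.card (alternatingGroup (Fin n))) (hker : Free n (φ.ker.map X.subtype)) :
    Free n X := by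
  intro Y hY f hf
  have := alternatingGroup.isSimpleGroup (α := Fin n) (by simpa using hn)
  let ψ : Y →* W := φ.comp (inclusion hY)
  rcases ((inferInstance : ψ.ker.Normal).map f hf).eq_bot_or_eq_top with h | h
  · have hle : ψ.ker ≤ f.ker := (Subgroup.map_eq_bot_iff _).1 h
    have h1 := index_dvd_of_le hle
    rw [index_ker, index_ker, MonoidHom.range_eq_top.2 hf, card_top] at h1
    have h2 := (Nat.le_of_dvd Nat.card_pos h1).trans (Nat.card_le_card_of_injective _ ψ.range.subtype_injective)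
    omega
  · refine hker (ψ.ker.map Y.subtype) ?_
      ((f.comp ψ.ker.subtype).comp (ψ.ker.equivMapOfInjective _ Y.subtype_injective).symm.toMonoidHom) ?_
    · rintro _ ⟨y, hy, rfl⟩
      exact ⟨inclusion hY y, hy, rfl⟩
    · rw [MonoidHom.coe_comp]
      refine Function.Surjective.comp ?_ (MulEquiv.surjective _)
      intro a
      obtain ⟨y, hy, rfl⟩ := (h ▸ mem_top a : a ∈ ψ.ker.map f)
      exact ⟨⟨y, hy⟩, rfl⟩

theorem Free.of_equiv {n : ℕ} {X X' : Subgroup G} (h : Free n X) (g : MulAut G)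
    (e : X' = X.map g.toMonoidHom) : Free n X' := by
  subst e
  intro Y hY f hf
  refine h (Y.map g.symm.toMonoidHom) ?_
    (f.comp (Y.equivMapOfInjective g.symm.toMonoidHom g.symm.injective).symm.toMonoidHom)
    (hf.comp (MulEquiv.surjective _))
  rintro _ ⟨y, hy, rfl⟩
  obtain ⟨x, hx, rfl⟩ := hY hy
  simpa using hx

theorem not_free {n : ℕ} {X : Subgroup G} (φ : X →* Equiv.Perm (Fin n))
    (h : alternatingGroup (Fin n) ≤ φ.range) : ¬ Free n X := by
  intro hX
  let Z := (alternatingGroup (Fin n)).comap φ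
  refine hX (Z.map X.subtype) (map_subtype_le Z)
    ((((φ.comp Z.subtype).codRestrict (alternatingGroup (Fin n)) fun z => z.2)).comp
      (Z.equivMapOfInjective _ X.subtype_injective).symm.toMonoidHom) ?_
  rw [MonoidHom.coe_comp]
  refine Function.Surjective.comp ?_ (MulEquiv.surjective _)
  rintro ⟨a, ha⟩
  obtain ⟨x, hx⟩ := h ha
  exact ⟨⟨x, show φ x ∈ _ from hx ▸ ha⟩, Subtype.ext hx⟩

/-- A quotient that is alternating or symmetric of degree `n`. -/
def AltQuot (n : ℕ) (K E : Subgroup G) : Prop :=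
  ∃ φ : K →* Equiv.Perm (Fin n), φ.ker = E.subgroupOf K ∧ alternatingGroup (Fin n) ≤ φ.range

/-- A perfect subgroup surviving in every alternating quotient. -/
def Res (n : ℕ) (K P : Subgroup G) : Prop :=
  P ≤ K ∧ ⁅P, P⁆ = P ∧ ∀ E, AltQuot n K E → ¬ P ≤ E

theorem exists_res [Finite G] {n : ℕ} (hn : 5 ≤ n) (K : Subgroup G) : ∃ P, Res n K P := by
  classical
  obtain ⟨i, hi⟩ : ∃ i, derivedSeries K (i + 1) = derivedSeries K i := by
    by_contra hne
    push Not at hne
    have hlt : ∀ i, Nat.card (derivedSeries K i) + i ≤ Nat.card K := by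
      intro i
      induction i with
      | zero => simp
      | succ i ih =>
        have hle : derivedSeries K (i + 1) ≤ derivedSeries K i := derivedSeries_antitone K (Nat.le_succ i)
        have : Nat.card (derivedSeries K (i + 1)) < Nat.card (derivedSeries K i) :=
          lt_of_le_of_ne (card_le_of_le hle) fun e => hne i (eq_of_le_of_card_ge hle e.ge)
        omega
    have h1 := hlt (Nat.card K + 1)
    omega
  refine ⟨(derivedSeries K i).map K.subtype, map_subtype_le _, ?_, fun E ⟨φ, hφ, hA⟩ hle => ?_⟩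
  · rw [← map_commutator, ← derivedSeries_succ, hi]
  have key : ∀ j, alternatingGroup (Fin n) ≤ (derivedSeries K j).map φ := by
    intro j
    induction j with
    | zero => rwa [derivedSeries_zero, ← MonoidHom.range_eq_map]
    | succ j ih =>
      rw [derivedSeries_succ, map_commutator, ← commutator_alternatingGroup_eq_self (α := Fin n) (by simpa using hn)]
      exact commutator_mono ih ih
  have hbot : (derivedSeries K i).map φ = ⊥ := by
    rw [Subgroup.map_eq_bot_iff, hφ]
    intro k hk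
    rw [mem_subgroupOf]
    exact hle ⟨k, hk, rfl⟩
  have h1 := key i
  rw [hbot, le_bot_iff] at h1
  have h2 := two_mul_card_alt (n := n) (by omega)
  rw [h1, card_bot] at h2
  have h3 : Nat.factorial 3 ≤ n.factorial := Nat.factorial_le (by omega)
  norm_num [Nat.factorial] at h3
  omega

theorem res_image_le {n : ℕ} {K P : Subgroup G} (hP : Res n K P) (φ : K →* Equiv.Perm (Fin n)) :
    (P.subgroupOf K).map φ ≤ alternatingGroup (Fin n) := by
  have hperf : P.subgroupOf K = ⁅P.subgroupOf K, P.subgroupOf K⁆ := by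
    apply Subgroup.map_injective K.subtype_injective
    rw [map_commutator, map_subgroupOf_eq_of_le hP.1, hP.2.1]
  rw [hperf, map_commutator, commutator_le]
  intro a _ b _
  rw [Equiv.Perm.mem_alternatingGroup, map_commutatorElement, commutatorElement_eq_one_iff_commute]
  exact Commute.all _ _

/-- A normal subgroup contains, modulo the common kernel, every perfect subgroup it moves. -/
theorem res_le {n : ℕ} (hn : 5 ≤ n) {ι : Type*} (s : Finset ι) {K P J : Subgroup G} (E : ι → Subgroup G)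
    (hP : Res n K P) (hJ : J ≤ K) (hJn : K ≤ normalizer (J : Set G))
    (hE : ∀ i ∈ s, AltQuot n K (E i)) (hmove : ∀ i ∈ s, ¬ J ≤ E i) :
    ∀ p ∈ P, ∃ j ∈ J, ∃ e ∈ K, (∀ i ∈ s, e ∈ E i) ∧ p = j * e := by
  classical
  have hJN : (J.subgroupOf K).Normal := (normal_subgroupOf_iff_le_normalizer hJ).2 hJn
  let f := QuotientGroup.mk' (J.subgroupOf K)
  suffices key : (P.subgroupOf K).map f ≤ (s.inf fun i => (E i).subgroupOf K).map f by
    intro p hp
    obtain ⟨e, he, hfe⟩ := key ⟨⟨p, hP.1 hp⟩, hp, rfl⟩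
    refine ⟨p * (e : G)⁻¹, ?_, e, e.2, fun i hi => ?_, by rw [inv_mul_cancel_right]⟩
    · have h1 : (⟨p, hP.1 hp⟩ : K) * e⁻¹ ∈ J.subgroupOf K := by
        rw [← (QuotientGroup.eq_one_iff _ : _ ↔ _ ∈ J.subgroupOf K)]
        show f (_ * e⁻¹) = 1
        rw [map_mul, map_inv, hfe, mul_inv_cancel]
      exact h1
    · exact (Finset.inf_le hi : (s.inf fun i => (E i).subgroupOf K) ≤ (E i).subgroupOf K) he
  have one : ∀ i ∈ s, (P.subgroupOf K).map f ≤ ((E i).subgroupOf K).map f := by
    intro i hi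
    obtain ⟨φ, hφ, hA⟩ := hE i hi
    have hAJ : alternatingGroup (Fin n) ≤ (J.subgroupOf K).map φ := by
      refine alt_le_of_normalized hn (hA.trans ?_) fun e => hmove i hi fun j hj => ?_
      · rw [MonoidHom.range_eq_map, ← normalizer_eq_top (J.subgroupOf K)]
        exact le_normalizer_map φ
      · rw [Subgroup.map_eq_bot_iff, hφ] at e
        exact e (show (⟨j, hJ hj⟩ : K) ∈ J.subgroupOf K from hj)
    intro x hx
    obtain ⟨p, hp, rfl⟩ := hx
    obtain ⟨j, hj, e⟩ := hAJ (res_image_le hP φ ⟨p, hp, rfl⟩)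
    refine ⟨j⁻¹ * p, ?_, ?_⟩
    · show j⁻¹ * p ∈ ((E i).subgroupOf K)
      rw [← hφ, MonoidHom.mem_ker, map_mul, map_inv, e, inv_mul_cancel]
    · rw [map_mul, map_inv, show f j = 1 from (QuotientGroup.eq_one_iff _).2 hj, inv_one, one_mul]
  have hperf : P.subgroupOf K = ⁅P.subgroupOf K, P.subgroupOf K⁆ := by
    apply Subgroup.map_injective K.subtype_injective
    rw [map_commutator, map_subgroupOf_eq_of_le hP.1, hP.2.1]
  have hEn : ∀ i ∈ s, ((E i).subgroupOf K).Normal := fun i hi => by
    obtain ⟨φ, hφ, -⟩ := hE i hi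
    rw [← hφ]; infer_instance
  have main : ∀ t : Finset ι, t ⊆ s → (t.inf fun i => (E i).subgroupOf K).Normal ∧
      (P.subgroupOf K).map f ≤ (t.inf fun i => (E i).subgroupOf K).map f := by
    intro t
    induction t using Finset.induction_on with
    | empty =>
      intro _
      rw [Finset.inf_empty]
      exact ⟨inferInstance, map_mono le_top⟩
    | insert i t hit ih =>
      intro hts
      rw [Finset.insert_subset_iff] at hts
      obtain ⟨h1, h2⟩ := ih hts.2
      have hi := hEn i hts.1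
      rw [Finset.inf_insert]
      refine ⟨inferInstance, ?_⟩
      rw [hperf, map_commutator]
      refine (commutator_mono (one i hts.1) h2).trans ?_
      rw [← map_commutator]
      exact map_mono (commutator_le_inf _ _)
  exact (main s subset_rfl).2

theorem altQuot_of_not_le {n : ℕ} (hn : 5 ≤ n) {K E M : Subgroup G} (hq : AltQuot n K E) (hM : M ≤ K)
    (hMn : K ≤ normalizer (M : Set G)) (hne : ¬ M ≤ E) : AltQuot n M (M ⊓ E) := by
  obtain ⟨φ, hφ, hA⟩ := hq
  refine ⟨φ.comp (inclusion hM), ?_, ?_⟩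
  · ext m
    rw [MonoidHom.mem_ker, mem_subgroupOf, MonoidHom.comp_apply, ← MonoidHom.mem_ker, hφ, mem_subgroupOf, mem_inf]
    exact ⟨fun h => ⟨m.2, h⟩, fun h => h.2⟩
  · refine alt_le_of_normalized hn (hA.trans ?_) fun e => hne fun m hm => ?_
    · rintro _ ⟨k, rfl⟩
      rw [Subgroup.mem_normalizer_iff]
      intro a
      constructor
      · rintro ⟨m, rfl⟩
        exact ⟨⟨(k : G) * m * (k : G)⁻¹, (Subgroup.mem_normalizer_iff.1 (hMn k.2) _).1 m.2⟩, by
          simp only [MonoidHom.comp_apply, ← map_inv, ← map_mul]; rfl⟩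
      · rintro ⟨m, hm⟩
        refine ⟨⟨(k : G)⁻¹ * m * k, by simpa using (Subgroup.mem_normalizer_iff.1 (hMn (inv_mem k.2)) _).1 m.2⟩, ?_⟩
        have e1 : φ k⁻¹ * (φ.comp (inclusion hM)) m * φ k = a := by rw [hm, map_inv]; group
        rw [← e1]
        simp only [MonoidHom.comp_apply, ← map_mul]; rfl
    · have h1 : φ (inclusion hM ⟨m, hm⟩) ∈ (φ.comp (inclusion hM)).range := ⟨⟨m, hm⟩, rfl⟩
      rw [e, mem_bot, ← MonoidHom.mem_ker, hφ, mem_subgroupOf] at h1
      exact h1

theorem le_of_isPGroup [Finite G] {n p : ℕ} [Fact p.Prime] (hn : 5 ≤ n) {K E N : Subgroup G}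
    (hq : AltQuot n K E) (hN : N ≤ K) (hNn : K ≤ normalizer (N : Set G)) (hp : IsPGroup p N) : N ≤ E := by
  by_contra hne
  obtain ⟨φ, -, hA⟩ := altQuot_of_not_le hn hq hN hNn hne
  exact not_free φ hA (free_of_isPGroup hn hp)

end CfsgLib.Recog.AltSub
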