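import Cfsg.Agent.Lib.Recog.AltDerange
import Cfsg.Agent.Lib.Recog.AltSuborbitBase
import Cfsg.Agent.S2119
import Mathlib.GroupTheory.GroupAction.Primitive

/-!
A primitive group with alternating socle has a derangement of the largest prime order dividing
the degree.
-/

set_option autoImplicit false

namespace CfsgLib.Recog.AltDerange

open Equiv Equiv.Perm
open scoped Pointwise

variable {m : ℕ}

/-- The index in the alternating group of the stabiliser of a set. -/
theorem choose_mul_card (hm : 5 ≤ m) (s : Finset (Fin m)) :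
    m.choose s.card * Nat.card (MulAction.stabilizer (Perm (Fin m)) s ⊓ alternatingGroup (Fin m) : Subgroup _) =
      Nat.card (alternatingGroup (Fin m)) := by
  classical
  obtain ⟨S, hSdef⟩ : ∃ S, S = MulAction.stabilizer (Perm (Fin m)) s := ⟨_, rfl⟩
  rw [← hSdef]
  have hidx : S.index = m.choose s.card := by
    rw [hSdef, MulAction.index_stabilizer]
    have horb : MulAction.orbit (Perm (Fin m)) s = {t : Finset (Fin m) | t.card = s.card} := by
      ext t
      constructor
      · rintro ⟨σ, rfl⟩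
        exact Finset.card_smul_finset σ s
      · intro ht
        let e : {x // x ∈ s} ≃ {x // x ∈ t} := Finset.equivOfCardEq (Eq.symm ht)
        refine ⟨e.extendSubtype, Finset.eq_of_subset_of_card_le ?_ ?_⟩
        · intro u hu
          obtain ⟨v, hv, rfl⟩ := Finset.mem_smul_finset.1 hu
          exact e.extendSubtype_mem v hv
        · show t.card ≤ (e.extendSubtype • s).card
          rw [Finset.card_smul_finset]; exact le_of_eq ht
    rw [horb, show {t : Finset (Fin m) | t.card = s.card} = ↑((Finset.univ : Finset (Fin m)).powersetCard s.card) by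
      ext t; simp, Set.ncard_coe_finset, Finset.card_powersetCard, Finset.card_univ, Fintype.card_fin]
  obtain ⟨o, hoS, hoA⟩ : ∃ o ∈ S, o ∉ alternatingGroup (Fin m) := by
    have hswap : ∀ p q : Fin m, p ≠ q → (p ∈ s ↔ q ∈ s) → ∃ o ∈ S, o ∉ alternatingGroup (Fin m) := by
      intro p q hpq hiff
      refine ⟨Equiv.swap p q, ?_, by simp [mem_alternatingGroup, sign_swap hpq]⟩
      rw [hSdef, MulAction.mem_stabilizer_iff]
      refine Finset.eq_of_subset_of_card_le (fun u hu => ?_) (Finset.card_smul_finset _ s).ge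
      obtain ⟨v, hv, rfl⟩ := Finset.mem_smul_finset.1 hu
      rw [Perm.smul_def, Equiv.swap_apply_def]
      split_ifs with h1 h2
      · exact hiff.1 (h1 ▸ hv)
      · exact hiff.2 (h2 ▸ hv)
      · exact hv
    by_cases h2 : 1 < s.card
    · obtain ⟨p, hp, q, hq, hpq⟩ := Finset.one_lt_card.1 h2
      exact hswap p q hpq (iff_of_true hp hq)
    · have : 1 < sᶜ.card := by rw [Finset.card_compl, Fintype.card_fin]; omega
      obtain ⟨p, hp, q, hq, hpq⟩ := Finset.one_lt_card.1 this
      exact hswap p q hpq (iff_of_false (Finset.mem_compl.1 hp) (Finset.mem_compl.1 hq))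
  have : Nontrivial (Fin m) := Fin.nontrivial_iff_two_le.2 (by omega)
  have hA2 := alternatingGroup.index_eq_two (α := Fin m)
  have hrel : (alternatingGroup (Fin m)).relIndex S = 2 := by
    refine Subgroup.relIndex_eq_two_iff.2 ⟨o, hoS, fun b _ => ?_⟩
    by_cases hb : b ∈ alternatingGroup (Fin m)
    · exact Or.inr ⟨hb, fun h => hoA ((Subgroup.mul_mem_cancel_left _ hb).1 h)⟩
    · exact Or.inl ⟨(Subgroup.mul_mem_iff_of_index_two hA2).2 (iff_of_false hb hoA), hb⟩
  have h1 : 2 * Nat.card (S ⊓ alternatingGroup (Fin m) : Subgroup _) = Nat.card S := by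
    rw [← hrel, inf_comm, ← Subgroup.relIndex_bot_left, ← Subgroup.relIndex_bot_left S, mul_comm,
      ← Subgroup.inf_relIndex_right (alternatingGroup (Fin m)) S]
    exact Subgroup.relIndex_mul_relIndex ⊥ _ S bot_le inf_le_right
  refine Nat.eq_of_mul_eq_mul_left (n := 2) (by norm_num) ?_
  rw [mul_left_comm, h1, ← hidx, Subgroup.index_mul_card, ← hA2, Subgroup.index_mul_card]

theorem choose_dvd (hm : 5 ≤ m) {H : Subgroup (Perm (Fin m))} (hH : H ≤ alternatingGroup (Fin m)) {n : ℕ}
    (hn : n * Nat.card H = Nat.card (alternatingGroup (Fin m))) (s : Finset (Fin m))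
    (hs : ∀ h ∈ H, ∀ x ∈ s, h x ∈ s) : m.choose s.card ∣ n := by
  have hle : H ≤ MulAction.stabilizer (Perm (Fin m)) s ⊓ alternatingGroup (Fin m) := by
    refine le_inf (fun h hh => ?_) hH
    rw [MulAction.mem_stabilizer_iff]
    refine Finset.eq_of_subset_of_card_le (fun u hu => ?_) (Finset.card_smul_finset _ s).ge
    obtain ⟨v, hv, rfl⟩ := Finset.mem_smul_finset.1 hu
    exact hs h hh v hv
  obtain ⟨q, hq⟩ := Subgroup.card_dvd_of_le hle
  have h1 := choose_mul_card hm s
  rw [hq, ← hn] at h1
  exact ⟨q, Nat.eq_of_mul_eq_mul_right (Nat.card_pos (α := H)) (by rw [← h1]; ring)⟩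

theorem exists_small_side {H : Subgroup (Perm (Fin m))}
    (htr : ¬ MulAction.IsPretransitive H (Fin m)) :
    ∃ s : Finset (Fin m), s.Nonempty ∧ 2 * s.card ≤ m ∧ ∀ h ∈ H, ∀ x ∈ s, h x ∈ s := by
  classical
  obtain ⟨x, y, hxy⟩ : ∃ x y : Fin m, y ∉ MulAction.orbit H x := by
    by_contra hcon
    push Not at hcon
    exact htr ⟨hcon⟩
  let t : Finset (Fin m) := Finset.univ.filter fun z => z ∈ MulAction.orbit H x
  have ht : ∀ h ∈ H, ∀ z, (h z ∈ t ↔ z ∈ t) := fun h hh z => by
    simp only [t, Finset.mem_filter, Finset.mem_univ, true_and]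
    rw [← MulAction.orbit_eq_iff, ← MulAction.orbit_eq_iff (a := z),
      show h z = (⟨h, hh⟩ : H) • z from rfl, MulAction.orbit_smul]
  have hc : t.card + tᶜ.card = m := by rw [Finset.card_add_card_compl, Fintype.card_fin]
  by_cases h2 : 2 * t.card ≤ m
  · exact ⟨t, ⟨x, by simp [t]⟩, h2, fun h hh z hz => (ht h hh z).2 hz⟩
  · refine ⟨tᶜ, ⟨y, by simp [t, hxy]⟩, by omega, fun h hh z hz => ?_⟩
    rw [Finset.mem_compl] at hz ⊢
    exact fun h' => hz ((ht h hh z).1 h')

/-- In a primitive group an intransitive intersection with the socle is a set stabiliser. -/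
theorem setHint_of_maximal (hm : 5 ≤ m) {H : Subgroup (Perm (Fin m))} (hH : H ≤ alternatingGroup (Fin m))
    (hmaxi : ∀ S : Subgroup (Perm (Fin m)), Subgroup.normalizer (H : Set (Perm (Fin m))) ≤ S →
      ¬ alternatingGroup (Fin m) ≤ S → S ⊓ alternatingGroup (Fin m) ≤ H)
    {n r : ℕ} (hn : n * Nat.card H = Nat.card (alternatingGroup (Fin m))) (hrn : r ∣ n)
    (hmax : ∀ p, p.Prime → p ∣ n → p ≤ r) (htr : ¬ MulAction.IsPretransitive H (Fin m)) :
    H = ⊥ ∨ SetHint H r := by
  classical
  have hnorm : ∀ σ ∈ Subgroup.normalizer (H : Set (Perm (Fin m))), ∀ u,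
      MulAction.orbit H (σ u) = σ • MulAction.orbit H u := by
    intro σ hσ u
    ext v
    rw [Set.mem_smul_set_iff_inv_smul_mem]
    constructor
    · rintro ⟨h, rfl⟩
      refine ⟨⟨σ⁻¹ * h * σ, by simpa using (Subgroup.mem_normalizer_iff.1 (inv_mem hσ) h).1 h.2⟩, ?_⟩
      show (σ⁻¹ * h * σ : Perm (Fin m)) • u = σ⁻¹ • ((h : Perm (Fin m)) • σ u)
      simp [Perm.smul_def]
    · rintro ⟨h, hh⟩
      refine ⟨⟨σ * h * σ⁻¹, (Subgroup.mem_normalizer_iff.1 hσ h).1 h.2⟩, ?_⟩
      show (σ * h * σ⁻¹ : Perm (Fin m)) • σ u = v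
      have : (h : Perm (Fin m)) u = σ⁻¹ v := hh
      simp [Perm.smul_def, this]
  have hnot : ∃ x y : Fin m, y ∉ MulAction.orbit H x := by
    by_contra hcon
    push Not at hcon
    exact htr ⟨hcon⟩
  obtain ⟨x, y, hxy⟩ := hnot
  let U : Set (Fin m) := {u | (MulAction.orbit H u).ncard = (MulAction.orbit H x).ncard}
  have hxU : x ∈ U := rfl
  by_cases hU : U = Set.univ
  · by_cases h1 : (MulAction.orbit H x).ncard = 1
    · refine Or.inl ((Subgroup.eq_bot_iff_forall _).2 fun h hh => Equiv.ext fun u => ?_)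
      obtain ⟨w, hw⟩ := Set.ncard_eq_one.1 ((show u ∈ U from hU ▸ Set.mem_univ u).trans h1)
      have h2 : h u ∈ ({w} : Set (Fin m)) := hw ▸ ⟨⟨h, hh⟩, rfl⟩
      have h3 : u ∈ ({w} : Set (Fin m)) := hw ▸ MulAction.mem_orbit_self u
      exact (h2 : h u = w).trans (h3 : u = w).symm
    exfalso
    have hall : ∀ u, (MulAction.orbit H u).ncard = (MulAction.orbit H x).ncard := fun u =>
      (show u ∈ U from hU ▸ Set.mem_univ u)
    obtain ⟨x₂, hx₂, hxx⟩ : ∃ x₂ ∈ MulAction.orbit H x, x₂ ≠ x := by
      have hpos : 0 < (MulAction.orbit H x).ncard :=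
        (Set.ncard_pos (Set.toFinite _)).2 ⟨x, MulAction.mem_orbit_self x⟩
      exact Set.exists_ne_of_one_lt_ncard (by omega) x
    let R : Fin m → Fin m → Prop := fun u v => MulAction.orbit H u = MulAction.orbit H v
    let S : Subgroup (Perm (Fin m)) :=
      { carrier := {σ | ∀ u v, R (σ u) (σ v) ↔ R u v}
        one_mem' := fun u v => Iff.rfl
        mul_mem' := fun {σ τ} hσ hτ u v => (hσ (τ u) (τ v)).trans (hτ u v)
        inv_mem' := fun {σ} hσ u v => by
          have := hσ (σ⁻¹ u) (σ⁻¹ v)
          simp only [Perm.coe_inv, Equiv.apply_symm_apply] at this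
          exact this.symm }
    have hNS : Subgroup.normalizer (H : Set (Perm (Fin m))) ≤ S := fun σ hσ u v => by
      show MulAction.orbit H (σ u) = MulAction.orbit H (σ v) ↔ _
      rw [hnorm σ hσ, hnorm σ hσ, smul_left_cancel_iff]
    have hyx : ¬ R y x := fun h => hxy (h ▸ MulAction.mem_orbit_self y)
    have hyne : y ≠ x := fun h => hyx (by show _ = _; rw [h])
    have hx2R : R x₂ x := MulAction.orbit_eq_iff.2 hx₂
    have hy2 : y ≠ x₂ := fun h => hyx (h ▸ hx2R)
    have hnA : ¬ alternatingGroup (Fin m) ≤ S := by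
      intro hle
      obtain ⟨w, hw⟩ : ∃ w, w ∈ (({x, x₂, y} : Finset (Fin m))ᶜ) := by
        refine Finset.card_pos.1 ?_
        rw [Finset.card_compl, Fintype.card_fin]
        have := Finset.card_le_three (a := x) (b := x₂) (c := y)
        omega
      simp only [Finset.mem_compl, Finset.mem_insert, Finset.mem_singleton, not_or] at hw
      have ha : Equiv.swap x₂ y * Equiv.swap y w ∈ alternatingGroup (Fin m) := by
        simp [mem_alternatingGroup, sign_swap (Ne.symm hy2), sign_swap (Ne.symm hw.2.2)]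
      have h := (hle ha x₂ x).2 hx2R
      simp [Equiv.swap_apply_of_ne_of_ne (Ne.symm hy2) (Ne.symm hw.2.1), Equiv.swap_apply_of_ne_of_ne hyne.symm (Ne.symm hw.1),
        Equiv.swap_apply_of_ne_of_ne hxx.symm hyne.symm] at h
      exact hyx h
    obtain ⟨e⟩ : Nonempty ((MulAction.orbit H x) ≃ (MulAction.orbit H y)) :=
      Finite.card_eq.1 (by rw [Nat.card_coe_set_eq, Nat.card_coe_set_eq, hall y])
    let f : Fin m → Fin m := fun u =>
      if h : u ∈ MulAction.orbit H x then (e ⟨u, h⟩ : Fin m)
      else if h' : u ∈ MulAction.orbit H y then (e.symm ⟨u, h'⟩ : Fin m) else u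
    have hdisj : ∀ u, u ∈ MulAction.orbit H x → u ∉ MulAction.orbit H y := fun u h1 h2 =>
      hyx ((MulAction.orbit_eq_iff.2 h2).symm.trans (MulAction.orbit_eq_iff.2 h1))
    have hfinv : ∀ u, f (f u) = u := by
      intro u
      by_cases h : u ∈ MulAction.orbit H x
      · have h' := (e ⟨u, h⟩).2
        simp only [f, dif_pos h, dif_neg (fun hh => hdisj _ hh h'), dif_pos h', Subtype.coe_eta, Equiv.symm_apply_apply]
      · by_cases h' : u ∈ MulAction.orbit H y
        · have h'' := (e.symm ⟨u, h'⟩).2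
          simp only [f, dif_neg h, dif_pos h', dif_pos h'', Subtype.coe_eta, Equiv.apply_symm_apply]
        · simp only [f, dif_neg h, dif_neg h']
    let σ : Perm (Fin m) := ⟨f, f, hfinv, hfinv⟩
    have hcls : ∀ u, MulAction.orbit H (σ u) =
        if u ∈ MulAction.orbit H x then MulAction.orbit H y
        else if u ∈ MulAction.orbit H y then MulAction.orbit H x else MulAction.orbit H u := by
      intro u
      show MulAction.orbit H (f u) = _
      by_cases h : u ∈ MulAction.orbit H x
      · rw [if_pos h]; simp only [f, dif_pos h]; exact MulAction.orbit_eq_iff.2 (e ⟨u, h⟩).2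
      · rw [if_neg h]
        by_cases h' : u ∈ MulAction.orbit H y
        · rw [if_pos h']; simp only [f, dif_neg h, dif_pos h']; exact MulAction.orbit_eq_iff.2 (e.symm ⟨u, h'⟩).2
        · rw [if_neg h']; simp only [f, dif_neg h, dif_neg h']
    have hσS : σ ∈ S := by
      have one : ∀ u v, R u v → R (σ u) (σ v) := by
        intro u v huv
        show MulAction.orbit H (σ u) = MulAction.orbit H (σ v)
        have e1 : ∀ w, (u ∈ MulAction.orbit H w ↔ v ∈ MulAction.orbit H w) := fun w => by
          rw [← MulAction.orbit_eq_iff, ← MulAction.orbit_eq_iff, huv]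
        simp only [hcls, e1, show MulAction.orbit H u = MulAction.orbit H v from huv]
      intro u v
      refine ⟨fun h => ?_, one u v⟩
      have := one _ _ h
      simp only [σ, Equiv.coe_fn_mk, hfinv] at this
      exact this
    have hτS : Equiv.swap x x₂ ∈ S := by
      have e1 : ∀ u, MulAction.orbit H (Equiv.swap x x₂ u) = MulAction.orbit H u := by
        intro u
        rw [Equiv.swap_apply_def]
        split_ifs with h1 h2
        · rw [h1]; exact hx2R
        · rw [h2]; exact hx2R.symm
        · rfl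
      intro u v
      show MulAction.orbit H _ = MulAction.orbit H _ ↔ _
      rw [e1, e1]
    have hmove : ∀ g, g ∈ S ⊓ alternatingGroup (Fin m) → g x ∈ MulAction.orbit H x := fun g hg =>
      ⟨⟨g, hmaxi S hNS hnA hg⟩, rfl⟩
    have hσx : ∀ u, u ∈ MulAction.orbit H x → σ u ∈ MulAction.orbit H y := fun u hu => by
      have h1 : f u = e ⟨u, hu⟩ := dif_pos hu
      show f u ∈ _
      rw [h1]; exact (e ⟨u, hu⟩).2
    by_cases hev : σ ∈ alternatingGroup (Fin m)
    · exact hdisj _ (hmove σ ⟨hσS, hev⟩) (hσx x (MulAction.mem_orbit_self x))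
    · have : Nontrivial (Fin m) := ⟨x, x₂, hxx.symm⟩
      have hg : σ * Equiv.swap x x₂ ∈ alternatingGroup (Fin m) :=
        (Subgroup.mul_mem_iff_of_index_two (alternatingGroup.index_eq_two (α := Fin m))).2
          (iff_of_false hev (by simp [mem_alternatingGroup, sign_swap hxx.symm]))
      refine hdisj _ (hmove _ ⟨S.mul_mem hσS hτS, hg⟩) ?_
      rw [Perm.mul_apply, Equiv.swap_apply_left]
      exact hσx _ hx₂
  · right
    have hUn : Subgroup.normalizer (H : Set (Perm (Fin m))) ≤ MulAction.stabilizer (Perm (Fin m)) U := by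
      intro σ hσ
      rw [MulAction.mem_stabilizer_iff]
      ext u
      rw [Set.mem_smul_set_iff_inv_smul_mem]
      show (MulAction.orbit H (σ⁻¹ u)).ncard = _ ↔ _
      rw [hnorm σ⁻¹ (inv_mem hσ), Set.ncard_smul_set]
      rfl
    have hnA : ¬ alternatingGroup (Fin m) ≤ MulAction.stabilizer (Perm (Fin m)) U := by
      intro hle
      obtain ⟨w, hw⟩ := Set.nonempty_compl.2 hU
      obtain ⟨a, ha, hax⟩ := AltSub.exists_alt_map (n := m) (by omega) x w
      refine hw ?_
      rw [← MulAction.mem_stabilizer_iff.1 (hle ha)]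
      exact hax ▸ Set.smul_mem_smul_set hxU
    have hle := hmaxi _ hUn hnA
    have hHU : ∀ h ∈ H, ∀ u, (h u ∈ U ↔ u ∈ U) := fun h hh u => by
      show (MulAction.orbit H ((⟨h, hh⟩ : H) • u)).ncard = _ ↔ _
      rw [MulAction.orbit_smul]; rfl
    -- the small side of the partition
    let T : Finset (Fin m) := if 2 * U.toFinset.card ≤ m then U.toFinset else U.toFinsetᶜ
    have hT : (∀ z, z ∈ T ↔ z ∈ U) ∨ (∀ z, z ∈ T ↔ z ∉ U) := by
      by_cases h : 2 * U.toFinset.card ≤ m
      · left; intro z; simp only [T, if_pos h]; exact Set.mem_toFinset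
      · right; intro z; simp only [T, if_neg h]; rw [Finset.mem_compl, Set.mem_toFinset]
    have hT2 : 2 * T.card ≤ m := by
      simp only [T]
      split_ifs with h
      · exact h
      · rw [Finset.card_compl, Fintype.card_fin]; omega
    have hTne : T.Nonempty := by
      rcases hT with hT | hT
      · exact ⟨x, (hT x).2 hxU⟩
      · obtain ⟨w, hw⟩ := Set.nonempty_compl.2 hU
        exact ⟨w, (hT w).2 hw⟩
    have hTH : ∀ h ∈ H, ∀ z ∈ T, h z ∈ T := fun h hh z hz => by
      rcases hT with hT | hT <;> rw [hT] at hz ⊢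
      · exact (hHU h hh z).2 hz
      · exact fun h' => hz ((hHU h hh z).1 h')
    have heq : MulAction.stabilizer (Perm (Fin m)) T ⊓ alternatingGroup (Fin m) = H := by
      refine le_antisymm (le_trans (fun g hg => ?_) hle) (le_inf (fun h hh => ?_) hH)
      · refine ⟨MulAction.mem_stabilizer_iff.2 (Set.ext fun z => ?_), hg.2⟩
        have hgT : g⁻¹ z ∈ T ↔ z ∈ T := by
          have h1 := MulAction.mem_stabilizer_iff.1 hg.1
          conv_rhs => rw [← h1, ← Finset.inv_smul_mem_iff]
          rfl
        rw [Set.mem_smul_set_iff_inv_smul_mem, Perm.smul_def]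
        rcases hT with hT | hT <;> rw [hT, hT] at hgT
        · exact hgT
        · exact not_iff_not.1 hgT
      · rw [MulAction.mem_stabilizer_iff]
        refine Finset.eq_of_subset_of_card_le (fun u hu => ?_) (Finset.card_smul_finset _ T).ge
        obtain ⟨v, hv, rfl⟩ := Finset.mem_smul_finset.1 hu
        exact hTH h hh v hv
    have hC := choose_mul_card hm T
    rw [heq, ← hn] at hC
    have hC' := Nat.eq_of_mul_eq_mul_right (Nat.card_pos (α := H)) hC
    exact ⟨T, hTne, hT2, hTH, hC' ▸ hrn, fun p hp hpd => hmax p hp (hC' ▸ hpd)⟩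

/-- The degree six case needs no maximality. -/
theorem setHint_six {H : Subgroup (Perm (Fin 6))} (hH : H ≤ alternatingGroup (Fin 6))
    {n r : ℕ} (hn : n * Nat.card H = Nat.card (alternatingGroup (Fin 6)))
    (hmax : ∀ p, p.Prime → p ∣ n → p ≤ r) (hr : r.Prime) (hsmall : 2 * r ≤ 6)
    (htr : ¬ MulAction.IsPretransitive H (Fin 6)) : SetHint H r := by
  obtain ⟨s, hsne, hs2, hs⟩ := exists_small_side htr
  have h5 : 5 ∣ Nat.card H := by
    have hA : Nat.card (alternatingGroup (Fin 6)) = 360 := by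
      have := AltSub.two_mul_card_alt (n := 6) (by norm_num)
      rw [show Nat.factorial 6 = 720 by rfl] at this
      omega
    have hd : 5 ∣ n * Nat.card H := by rw [hn, hA]; norm_num
    refine ((Nat.Prime.dvd_mul (by norm_num)).1 hd).resolve_left fun h => ?_
    have := hmax 5 (by norm_num) h
    omega
  have := Fact.mk (show Nat.Prime 5 by norm_num)
  obtain ⟨⟨g, hg⟩, hgo⟩ := exists_prime_orderOf_dvd_card' 5 h5
  rw [Subgroup.orderOf_mk] at hgo
  have hfix := apply_eq_of_small (show Nat.Prime 5 by norm_num) (g := g) (by rw [← hgo, pow_orderOf_eq_one])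
    (S := (s : Set (Fin 6))) (fun z hz => hs g hg z hz) (by rw [Set.ncard_coe_finset]; omega)
  have h5le : 5 ≤ g.support.card := by
    rw [← sum_cycleType]
    obtain ⟨j, hj⟩ := cycleType_prime_order (by rw [hgo]; norm_num : (orderOf g).Prime)
    rw [hj, Multiset.sum_replicate, hgo, smul_eq_mul]; omega
  have hsub : g.support ⊆ sᶜ := fun z hz => by
    rw [Finset.mem_compl]
    exact fun hzs => mem_support.1 hz (hfix z hzs)
  have h1 := Finset.card_le_card hsub
  rw [Finset.card_compl, Fintype.card_fin] at h1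
  have hk : s.card = 1 := by have := hsne.card_pos; omega
  have hd6 : 6 ∣ n := by
    have := choose_dvd (by norm_num) hH hn s hs
    rwa [hk, Nat.choose_one_right] at this
  have h3 := hmax 3 (by norm_num) (dvd_trans (by norm_num) hd6)
  refine ⟨s, hsne, hs2, hs, ?_, fun p hp hpd => hmax p hp (dvd_trans (by rwa [hk, Nat.choose_one_right] at hpd) hd6)⟩
  rw [hk, Nat.choose_one_right, show r = 3 by omega]
  norm_num

end CfsgLib.Recog.AltDerange
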