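import Cfsg.Agent.Lib.Recog.ThompsonWielandtIndex
import Cfsg.Agent.Lib.Solvable.Fitting

/-! Wielandt's index bound and Fitting-free two point stabilisers along an orbital. -/

set_option autoImplicit false

namespace CfsgLib.Recog.TW

open Subgroup
open scoped Pointwise

variable {G Ω : Type*} [Group G] [MulAction G Ω] [Finite G]

namespace Orbital

variable (O : Orbital G Ω) {d : ℕ}

/-- If only one prime is in play, one of the double kernels is a group for that prime. -/
theorem isPGroup_N_or {q : ℕ} (hq : q.Prime)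
    (hqx : ∀ x, O.N x ⊓ pc q (MulAction.stabilizer G x) ≠ ⊥) (a : Ω) :
    IsPGroup q (O.N a) ∨ IsPGroup q (O.flip.N a) := by
  by_contra hc
  push_neg at hc
  have hX := ne_bot_of_smul (O.pPrimePart_smul q) O (x := a) fun h => hc.1 (O.isPGroup_of_pPrimePart hq h)
  have hX' := ne_bot_of_smul (O.flip.pPrimePart_smul q) O (x := a) fun h => hc.2 (O.flip.isPGroup_of_pPrimePart hq h)
  obtain ⟨x, hxa⟩ := O.inn a
  have hpred : pc q (MulAction.stabilizer G a) ≤ MulAction.stabilizer G x :=
    (O.pPrimePart_norm (pc_isPGroup q _) (O.N_le_M hxa) ((O.flip.K_le_nbr hxa).trans (norm_of_smul O.N_smul x))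
      ((O.flip.K_le a).trans (pc_norm q _)) ((pc_le q _).trans (norm_of_smul O.flip.K_smul a))).trans
      (O.maxim x _ (hX x) (O.pPrimePart_le q x) (norm_of_smul (O.pPrimePart_smul q) x))
  have h := O.pc_eq_bot hxa hpred fun y' hy' =>
    (O.flip.pPrimePart_norm (pc_isPGroup q _) (O.flip.N_le_M hy') ((O.K_le_nbr hy').trans (norm_of_smul O.flip.N_smul y'))
      ((O.K_le_nbr hxa).trans (pc_norm q _)) (hpred.trans (norm_of_smul O.K_smul x))).trans
      (O.maxim y' _ (hX' y') (O.flip.pPrimePart_le q y') (norm_of_smul (O.flip.pPrimePart_smul q) y'))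
  exact hqx a (le_bot_iff.1 (inf_le_right.trans h.le))

/-- A normal subgroup of `p`-power order, fixing all out-neighbours, of bounded index. -/
theorem exists_bounded_index [Finite Ω] (hout : ∀ x, Nat.card {y // O.E x y} = d)
    (hin : ∀ y, Nat.card {x // O.E x y} = d) (a : Ω) :
    ∃ p : ℕ, p.Prime ∧ ∃ P : Subgroup G, P ≤ O.K a ∧ MulAction.stabilizer G a ≤ normalizer (P : Set G) ∧
      IsPGroup p P ∧ Nat.card (MulAction.stabilizer G a) ∣ d.factorial * (d - 1).factorial ^ d * Nat.card P := by
  have e1 := O.card_dvd hout hin a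
  have e2 := O.flip.card_dvd hin hout a
  have hbot : Nat.card (MulAction.stabilizer G a) ∣ d.factorial * (d - 1).factorial ^ d →
      ∃ p : ℕ, p.Prime ∧ ∃ P : Subgroup G, P ≤ O.K a ∧ MulAction.stabilizer G a ≤ normalizer (P : Set G) ∧
        IsPGroup p P ∧ Nat.card (MulAction.stabilizer G a) ∣ d.factorial * (d - 1).factorial ^ d * Nat.card P :=
    fun h => ⟨2, Nat.prime_two, ⊥, bot_le, fun g _ => by rw [mem_normalizer_iff]; simp, IsPGroup.of_bot,
      by rwa [card_bot, mul_one]⟩
  by_cases hN : O.N a = ⊥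
  · exact hbot (by rwa [hN, card_bot, mul_one] at e1)
  by_cases hN' : O.flip.N a = ⊥
  · exact hbot (by rwa [hN', card_bot, mul_one] at e2)
  have hNx := ne_bot_of_smul O.N_smul O hN
  have hN'y := ne_bot_of_smul O.flip.N_smul O hN'
  rcases O.pCore_or_coprime hNx hN'y a with ⟨q, hq, hF⟩ | hcop
  swap
  · refine hbot ?_
    have h := Nat.dvd_gcd e1 e2
    rwa [Nat.gcd_mul_left, hcop.gcd_eq_one, mul_one] at h
  obtain ⟨r, hr, hrx⟩ := O.exists_prime hNx (O.layer_eq_bot hNx hN'y) a
  obtain rfl : r = q := by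
    by_contra hne
    haveI := Fact.mk hr
    refine hrx a (le_bot_iff.1 (inf_le_right.trans (le_of_eq ?_)))
    rw [pc, map_eq_bot_iff_of_injective _ (MulAction.stabilizer G a).subtype_injective]
    have h1 : Cfsg.pCore r (MulAction.stabilizer G a) ≤ Cfsg.pCore q (MulAction.stabilizer G a) :=
      hF ▸ (CfsgLib.Solvable.pCore_le_fittingSubgroup r).trans
        (CfsgLib.Comp.fittingSubgroup_le_generalizedFitting _)
    haveI := Fact.mk hq
    exact disjoint_self.1 ((IsPGroup.disjoint_of_ne r q hne _ _ (CfsgLib.Comp.isPGroup_pCore r _)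
      (CfsgLib.Comp.isPGroup_pCore q _)).mono_right h1)
  rcases O.isPGroup_N_or hr hrx a with h | h
  · exact ⟨r, hr, O.N a, O.N_le_K a, norm_of_smul O.N_smul a, h, e1⟩
  · obtain ⟨b, hab⟩ := O.out a
    have hK : ∀ (g : G) (x : Ω), pc r (O.K (g • x)) = cj g (pc r (O.K x)) := fun g x => by rw [O.K_smul, pc_cj]
    refine ⟨r, hr, pc r (O.K a), pc_le r _, norm_of_smul (F := fun x => pc r (O.K x)) hK a, pc_isPGroup r _, e2.trans (mul_dvd_mul dvd_rfl ?_)⟩
    have hb : IsPGroup r (O.flip.N b) := by
      obtain ⟨n, hn⟩ := (haveI := Fact.mk hr; IsPGroup.iff_card.1 h)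
      exact IsPGroup.of_card (by rw [card_of_smul O.flip.N_smul O b a, hn])
    rw [card_of_smul O.flip.N_smul O a b]
    exact card_dvd_of_le (le_pc (O.flip.N_le_M hab)
      (subn_of_normalizer (O.flip.N_le_M hab) ((O.K_le_nbr hab).trans (norm_of_smul O.flip.N_smul b))) hb)

/-- A two point stabiliser core below the kernel on the out-neighbours is trivial. -/
theorem pc_arc_eq_bot {r : ℕ} (hr : r.Prime) {x y : Ω} (hxy : O.E x y)
    (hle : pc r (MulAction.stabilizer G x ⊓ MulAction.stabilizer G y) ≤ O.K x) :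
    pc r (MulAction.stabilizer G x ⊓ MulAction.stabilizer G y) = ⊥ := by
  haveI := Fact.mk hr
  set D := MulAction.stabilizer G x ⊓ MulAction.stabilizer G y with hD
  set R := pc r D with hR
  have hKD : O.K x ≤ D := le_inf (O.K_le x) (O.K_le_nbr hxy)
  have hK : ∀ (g : G) (z : Ω), pc r (O.K (g • z)) = cj g (pc r (O.K z)) := fun g z => by rw [O.K_smul, pc_cj]
  have hRK : R = pc r (O.K x) := by
    refine le_antisymm (le_pc hle (subn_of_normalizer hle (hKD.trans (pc_norm r D))) (pc_isPGroup r D))
      (le_pc ((pc_le r _).trans hKD) ?_ (pc_isPGroup r _))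
    exact subn_trans (pc_le r _) hKD (subn_of_normalizer (pc_le r _) (pc_norm r _))
      (subn_of_normalizer hKD (inf_le_left.trans (norm_of_smul O.K_smul x)))
  have hRn : MulAction.stabilizer G x ≤ normalizer (R : Set G) :=
    hRK ▸ norm_of_smul (F := fun z => pc r (O.K z)) hK x
  have hmain : R = ⊥ ∨ pc r (MulAction.stabilizer G x) = ⊥ := by
    by_cases hR0 : R = ⊥
    · exact Or.inl hR0
    right
    set Q := pc r (MulAction.stabilizer G y) with hQ
    have hRy : R ≤ MulAction.stabilizer G y := (pc_le r D).trans inf_le_right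
    have hQR : Q ≤ R := by
      by_contra hnot
      set U := R ⊔ Q with hU
      have hUp : IsPGroup r U := IsPGroup.to_sup_of_normal_right' (pc_isPGroup r D) (pc_isPGroup r _)
        (hRy.trans (pc_norm r _))
      haveI : Group.IsNilpotent U := hUp.isNilpotent
      have hlt : R.subgroupOf U < ⊤ := lt_top_iff_ne_top.2 fun h =>
        hnot (le_sup_right.trans (subgroupOf_eq_top.1 h))
      obtain ⟨u, hu, hnu⟩ := SetLike.exists_of_lt (Group.normalizerCondition_of_isNilpotent (G := U) _ hlt)
      have hun : (u : G) ∈ normalizer (R : Set G) := by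
        rw [mem_normalizer_iff_map_conj_eq]
        refine eq_of_le_of_card_ge ?_ (card_map_of_injective (MulAut.conj (u : G)).injective).ge
        rintro _ ⟨s, hs, rfl⟩
        exact (mem_normalizer_iff.1 hu ⟨s, le_sup_left (b := Q) hs⟩).1 hs
      have hux : (u : G) ∈ MulAction.stabilizer G x :=
        O.maxim x R hR0 ((pc_le r D).trans inf_le_left) hRn hun
      have : (u : G) ∈ ((R : Subgroup G) : Set G) * (Q : Set G) := by
        rw [← Subgroup.coe_mul_of_left_le_normalizer_right R Q (hRy.trans (pc_norm r _))]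
        exact u.2
      obtain ⟨s, hs, t, ht, hst⟩ := this
      refine hnu ?_
      show (u : G) ∈ R
      rw [← hst]
      refine mul_mem hs ((le_pc (r := r) (X := Q ⊓ D) inf_le_right ?_ ((pc_isPGroup r _).to_le inf_le_left)) ⟨ht, ?_, pc_le r _ ht⟩)
      · exact subn_restrict inf_le_right (X := Q) (subn_of_normalizer (pc_le r _) (pc_norm r _)) |> (fun h => by
          rwa [show (Q ⊓ D).subgroupOf D = Q.subgroupOf D from inf_subgroupOf_right Q D])
      · show t ∈ MulAction.stabilizer G x
        have : t = s⁻¹ * (u : G) := by rw [← hst]; simp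
        rw [this]
        exact mul_mem (inv_mem ((pc_le r D).trans inf_le_left hs)) hux
    have h := O.pc_eq_bot hxy (hQR.trans ((pc_le r D).trans inf_le_left))
      (fun y' hy' => (hQR.trans hle).trans (O.K_le_nbr hy'))
    obtain ⟨g, hg⟩ := O.vtrans y x
    rw [← hg, pc_smul, h, cj, Subgroup.map_bot]
  have hRx : R ≤ pc r (MulAction.stabilizer G x) :=
    le_pc ((pc_le r D).trans inf_le_left) (subn_of_normalizer ((pc_le r D).trans inf_le_left) hRn) (pc_isPGroup r D)
  exact hmain.elim id fun h => le_bot_iff.1 (hRx.trans h.le)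

end Orbital

end CfsgLib.Recog.TW
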