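import Cfsg.Agent.Lib.Recog.AltSuborbitBase
import Cfsg.Agent.Lib.Recog.ThompsonWielandtBound

/-!
An unfaithful suborbit on which a point stabiliser induces a symmetric or alternating group:
the edge kernels are trivial, after Wielandt.
-/

set_option autoImplicit false
set_option linter.unusedSectionVars false

namespace CfsgLib.Recog.AltSub

open Subgroup CfsgLib.Recog.TW

variable {G Ω : Type*} [Group G] [MulAction G Ω] [Finite G]

local notation "St" => MulAction.stabilizer G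

/-- One of the double kernels is a group of prime power order. -/
theorem double_kernel_pgroup (O : Orbital G Ω) (a : Ω) :
    (∃ p : ℕ, p.Prime ∧ ∀ x, IsPGroup p (O.N x)) ∨ ∃ p : ℕ, p.Prime ∧ ∀ x, IsPGroup p (O.flip.N x) := by
  have spread : ∀ (P : Orbital G Ω) {q : ℕ}, q.Prime → IsPGroup q (P.N a) →
      ∃ p : ℕ, p.Prime ∧ ∀ x, IsPGroup p (P.N x) := by
    intro P q hq h
    have := Fact.mk hq
    obtain ⟨k, hk⟩ := IsPGroup.iff_card.1 h
    exact ⟨q, hq, fun x => IsPGroup.of_card (by rw [Orbital.card_of_smul P.N_smul P x a, hk])⟩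
  by_cases hN : O.N a = ⊥
  · exact Or.inl (spread O Nat.prime_two (hN ▸ IsPGroup.of_bot))
  by_cases hN' : O.flip.N a = ⊥
  · exact Or.inr (spread O.flip Nat.prime_two (hN' ▸ IsPGroup.of_bot))
  have hNx := Orbital.ne_bot_of_smul O.N_smul O hN
  have hN'x := Orbital.ne_bot_of_smul O.flip.N_smul O hN'
  have hE := O.layer_eq_bot hNx hN'x
  obtain ⟨q, hq, hqx⟩ := O.exists_prime hNx hE a
  obtain ⟨q', hq', hqy⟩ := O.flip.exists_prime hN'x hE a
  by_cases hne : q' = q
  · rcases O.isPGroup_N_or hq hqx a with h | h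
    · exact Or.inl (spread O hq h)
    · exact Or.inr (spread O.flip hq h)
  · exact Or.inr (spread O.flip hq' (O.isPGroup_flip_N hq hq' hne hqx hqy a))

theorem exists_actHom (X : Subgroup G) (S : Set Ω) (hS : ∀ g ∈ X, ∀ y ∈ S, g • y ∈ S) (n : ℕ) (hn : n ≠ 0)
    (hc : Nat.card S = n) :
    ∃ (f : X →* Equiv.Perm (Fin n)) (e : S ≃ Fin n),
      (∀ g : X, f g = 1 ↔ ∀ y ∈ S, (g : G) • y = y) ∧
      ∀ (g : X) (y : S), e.symm (f g (e y)) = restrictHom X S hS g y := by
  have : Finite S := Nat.finite_of_card_ne_zero (hc ▸ hn)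
  let e : S ≃ Fin n := Finite.equivFinOfCardEq hc
  refine ⟨e.permCongrHom.toMonoidHom.comp (restrictHom X S hS), e, fun g => ?_, fun g y => ?_⟩
  · rw [MonoidHom.comp_apply, MulEquiv.coe_toMonoidHom, map_eq_one_iff _ e.permCongrHom.injective]
    exact ⟨fun h y hy => congrArg Subtype.val (Equiv.ext_iff.1 h ⟨y, hy⟩),
      fun h => Equiv.ext fun y => Subtype.ext (h y.1 y.2)⟩
  · simp [Equiv.permCongrHom]

/-- The hypotheses: degree `n` on both sides, a symmetric or alternating action and no faithfulness. -/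
structure Hyp (O : Orbital G Ω) (n : ℕ) : Prop where
  six : 6 ≤ n
  out : ∀ x, Nat.card {y // O.E x y} = n
  inn : ∀ y, Nat.card {x // O.E x y} = n
  full : ∀ x, n.factorial ≤ 2 * (O.K x).relIndex (MulAction.stabilizer G x)
  kne : ∀ x, O.K x ≠ ⊥

variable {O : Orbital G Ω} {n : ℕ}

namespace Hyp

theorem out_hom (hs : Hyp O n) (x : Ω) :
    ∃ (f : St x →* Equiv.Perm (Fin n)) (e : {y | O.E x y} ≃ Fin n), f.ker = (O.K x).subgroupOf (St x) ∧
      alternatingGroup (Fin n) ≤ f.range ∧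
      ∀ (g : St x) (y : {y | O.E x y}), ((e.symm (f g (e y)) : {y | O.E x y}) : Ω) = (g : G) • y.1 := by
  have h6 := hs.six
  obtain ⟨f, e, hf, he⟩ := exists_actHom (St x) {y | O.E x y}
    (fun g hg y hy => by simpa [MulAction.mem_stabilizer_iff.1 hg] using O.inv g x y hy) n (by omega) (hs.out x)
  have hker : f.ker = (O.K x).subgroupOf (St x) := by
    ext g
    rw [MonoidHom.mem_ker, hf, mem_subgroupOf, O.mem_K]
    exact ⟨fun h => ⟨g.2, fun y hy => h y hy⟩, fun h y hy => h.2 y hy⟩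
  refine ⟨f, e, hker, alt_le_of_card ?_, fun g y => congrArg Subtype.val (he g y)⟩
  rw [← Subgroup.index_ker, hker]
  exact hs.full x

theorem card_St (hs : Hyp O n) {x y : Ω} (h : O.E x y) :
    Nat.card (St x) = n * Nat.card (St x ⊓ St y : Subgroup G) := by
  have horb : MulAction.orbit (St x) y = {u | O.E x u} := by
    ext u
    constructor
    · rintro ⟨g, rfl⟩
      have := O.inv (g : G) x y h
      rwa [MulAction.mem_stabilizer_iff.1 g.2] at this
    · intro hu
      obtain ⟨g, hgx, hgy⟩ := O.trans x y x u h hu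
      exact ⟨⟨g, hgx⟩, hgy⟩
  have e : Nat.card (MulAction.orbit (St x) y) * Nat.card (St x ⊓ St y : Subgroup G) = Nat.card (St x) := by
    rw [Nat.card_coe_set_eq, ← MulAction.index_stabilizer, mul_comm,
      ← Subgroup.card_mul_index (MulAction.stabilizer (St x) y)]
    congr 1
    refine Nat.card_congr ⟨fun s => ⟨⟨s.1, s.2.1⟩, s.2.2⟩, fun s => ⟨s.1.1, s.1.2, s.2⟩, fun _ => rfl, fun _ => rfl⟩
  rw [horb, Set.coe_ofPred, hs.out x] at e
  exact e.symm

theorem small_lt (hs : Hyp O n) : Nat.card (Equiv.Perm (Fin (n - 1))) < Nat.card (alternatingGroup (Fin n)) := by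
  have h6 := hs.six
  rw [Nat.card_perm, Nat.card_fin]
  have h2 := two_mul_card_alt (n := n) (by omega)
  obtain ⟨m, rfl⟩ : ∃ m, n = m + 1 := ⟨n - 1, by omega⟩
  rw [Nat.factorial_succ] at h2
  have hpos := Nat.factorial_pos m
  simp only [Nat.add_sub_cancel]
  have : 2 * m.factorial < (m + 1) * m.factorial := Nat.mul_lt_mul_of_pos_right (by omega) hpos
  omega

theorem in_hom (hs : Hyp O n) {x y : Ω} (h : O.E x y) :
    ∃ f : (St x ⊓ St y : Subgroup G) →* Equiv.Perm (Fin (n - 1)),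
      f.ker = (O.flip.K y).subgroupOf (St x ⊓ St y) := by
  have h6 := hs.six
  obtain ⟨f, -, hf, -⟩ := exists_actHom (St x ⊓ St y) ({c | O.E c y} \ {x})
    (fun g hg c hc => by
      refine ⟨?_, fun e => hc.2 ?_⟩
      · have := O.inv g c y hc.1
        rwa [MulAction.mem_stabilizer_iff.1 hg.2] at this
      · rw [Set.mem_singleton_iff] at e ⊢
        exact smul_left_cancel g (e.trans (MulAction.mem_stabilizer_iff.1 hg.1).symm))
    (n - 1) (by omega) (by
      have : Finite {c // O.E c y} := Nat.finite_of_card_ne_zero (by rw [hs.inn y]; omega)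
      rw [Nat.card_coe_set_eq, Set.ncard_sdiff_singleton_of_mem (show x ∈ {c | O.E c y} from h),
        ← Nat.card_coe_set_eq]
      exact congrArg (· - 1) (hs.inn y))
  refine ⟨f, ?_⟩
  ext g
  rw [MonoidHom.mem_ker, hf, mem_subgroupOf, O.flip.mem_K]
  refine ⟨fun h' => ⟨g.2.2, fun c hc => ?_⟩, fun h' c hc => h'.2 c hc.1⟩
  by_cases hcx : c = x
  · rw [hcx]; exact g.2.1
  · exact h' c ⟨hc, hcx⟩

theorem inn_eq_out (hs : Hyp O n) {x y : Ω} (h : O.E x y) :
    ∃ f : (St x ⊓ St y : Subgroup G) →* Equiv.Perm (Fin (n - 1)),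
      f.ker = (O.K x).subgroupOf (St x ⊓ St y) := by
  have h6 := hs.six
  obtain ⟨f, -, hf, -⟩ := exists_actHom (St x ⊓ St y) ({c | O.E x c} \ {y})
    (fun g hg c hc => by
      refine ⟨?_, fun e => hc.2 ?_⟩
      · have := O.inv g x c hc.1
        rwa [MulAction.mem_stabilizer_iff.1 hg.1] at this
      · rw [Set.mem_singleton_iff] at e ⊢
        exact smul_left_cancel g (e.trans (MulAction.mem_stabilizer_iff.1 hg.2).symm))
    (n - 1) (by omega) (by
      have : Finite {c // O.E x c} := Nat.finite_of_card_ne_zero (by rw [hs.out x]; omega)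
      rw [Nat.card_coe_set_eq, Set.ncard_sdiff_singleton_of_mem (show y ∈ {c | O.E x c} from h),
        ← Nat.card_coe_set_eq]
      exact congrArg (· - 1) (hs.out x))
  refine ⟨f, ?_⟩
  ext g
  rw [MonoidHom.mem_ker, hf, mem_subgroupOf, O.mem_K]
  refine ⟨fun h' => ⟨g.2.1, fun c hc => ?_⟩, fun h' c hc => h'.2 c hc.1⟩
  by_cases hcy : c = y
  · rw [hcy]; exact g.2.2
  · exact h' c ⟨hc, hcy⟩

theorem free_arc (hs : Hyp O n) {x y : Ω} (h : O.E x y) : Free n (St x ⊓ St y : Subgroup G) := by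
  classical
  have h5 : 5 ≤ n := le_trans (by norm_num) hs.six
  rcases double_kernel_pgroup O x with ⟨p, hp, hN⟩ | ⟨p, hp, hN⟩
  · have := Fact.mk hp
    obtain ⟨f, hf⟩ := hs.inn_eq_out h
    refine Free.of_hom h5 f hs.small_lt ?_
    rw [hf, map_subgroupOf_eq_of_le (le_inf (O.K_le x) (O.K_le_nbr h))]
    have : Finite {c // O.E x c} := Nat.finite_of_card_ne_zero (by rw [hs.out x]; have := hs.six; omega)
    have := Fintype.ofFinite {c // O.E x c}
    let X : Finset {c // O.E x c} → Subgroup G := fun s => O.K x ⊓ ⨅ c ∈ s, O.flip.K c.1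
    have step : ∀ s, Free n (X s) → Free n (O.K x) := by
      intro s
      induction s using Finset.induction_on with
      | empty => intro h'; simpa [X] using h'
      | insert c s hcs ih =>
        intro h'
        refine ih ?_
        obtain ⟨g, hg⟩ := hs.in_hom c.2
        have hle : X s ≤ St x ⊓ St c.1 := inf_le_left.trans (le_inf (O.K_le x) (O.K_le_nbr c.2))
        refine Free.of_hom h5 (g.comp (inclusion hle)) hs.small_lt (h'.mono ?_)
        rintro _ ⟨a, ha, rfl⟩
        rw [SetLike.mem_coe, MonoidHom.mem_ker, MonoidHom.comp_apply, ← MonoidHom.mem_ker, hg,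
          mem_subgroupOf] at ha
        have h1 := a.2
        simp only [X, mem_inf, mem_iInf, Finset.mem_insert] at h1 ⊢
        refine ⟨h1.1, fun d hd => ?_⟩
        rcases hd with rfl | hd
        · exact ha
        · exact h1.2 d hd
    refine step Finset.univ ((free_of_isPGroup h5 (hN x)).mono fun g hg => ?_)
    simp only [X, mem_inf, mem_iInf] at hg
    exact O.mem_N.2 ⟨hg.1, fun c hc => hg.2 ⟨c, hc⟩ (Finset.mem_univ _)⟩
  · have := Fact.mk hp
    obtain ⟨f, hf⟩ := hs.in_hom h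
    refine Free.of_hom h5 f hs.small_lt ?_
    rw [hf, map_subgroupOf_eq_of_le (le_inf (O.flip.K_le_nbr h) (O.flip.K_le y))]
    have : Finite {c // O.E c y} := Nat.finite_of_card_ne_zero (by rw [hs.inn y]; have := hs.six; omega)
    have := Fintype.ofFinite {c // O.E c y}
    let X : Finset {c // O.E c y} → Subgroup G := fun s => O.flip.K y ⊓ ⨅ c ∈ s, O.K c.1
    have step : ∀ s, Free n (X s) → Free n (O.flip.K y) := by
      intro s
      induction s using Finset.induction_on with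
      | empty => intro h'; simpa [X] using h'
      | insert c s hcs ih =>
        intro h'
        refine ih ?_
        obtain ⟨g, hg⟩ := hs.inn_eq_out c.2
        have hle : X s ≤ St c.1 ⊓ St y := inf_le_left.trans (le_inf (O.flip.K_le_nbr c.2) (O.flip.K_le y))
        refine Free.of_hom h5 (g.comp (inclusion hle)) hs.small_lt (h'.mono ?_)
        rintro _ ⟨a, ha, rfl⟩
        rw [SetLike.mem_coe, MonoidHom.mem_ker, MonoidHom.comp_apply, ← MonoidHom.mem_ker, hg,
          mem_subgroupOf] at ha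
        have h1 := a.2
        simp only [X, mem_inf, mem_iInf, Finset.mem_insert] at h1 ⊢
        refine ⟨h1.1, fun d hd => ?_⟩
        rcases hd with rfl | hd
        · exact ha
        · exact h1.2 d hd
    refine step Finset.univ ((free_of_isPGroup h5 (hN y)).mono fun g hg => ?_)
    simp only [X, mem_inf, mem_iInf] at hg
    exact O.flip.mem_N.2 ⟨hg.1, fun c hc => hg.2 ⟨c, hc⟩ (Finset.mem_univ _)⟩

theorem not_le_of_free (hs : Hyp O n) {x : Ω} {M : Subgroup G} (hM : M ≤ St x)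
    (hMn : St x ≤ normalizer (M : Set G)) (hfree : Free n M) : M ≤ O.K x := by
  by_contra hne
  obtain ⟨f, e, hf, hA, -⟩ := hs.out_hom x
  obtain ⟨φ, -, hφ⟩ := altQuot_of_not_le (le_trans (by norm_num) hs.six) ⟨f, hf, hA⟩ hM hMn hne
  exact not_free φ hφ hfree

/-- The two kernels at a point coincide. -/
theorem K_flip (hs : Hyp O n) (x : Ω) : O.flip.K x = O.K x := by
  have h5 : 5 ≤ n := le_trans (by norm_num) hs.six
  obtain ⟨z, hz⟩ := O.inn x
  obtain ⟨y, hy⟩ := O.out x
  have hMle : O.flip.K x ≤ O.K x := hs.not_le_of_free (O.flip.K_le x) (Orbital.norm_of_smul O.flip.K_smul x)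
    ((hs.free_arc hz).mono (le_inf (O.flip.K_le_nbr hz) (O.flip.K_le x)))
  refine le_antisymm hMle ?_
  obtain ⟨f, -, hf, -⟩ := exists_actHom (St x) {c | O.E c x}
    (fun g hg c hc => by simpa [MulAction.mem_stabilizer_iff.1 hg] using O.inv g c x hc) n (by omega) (hs.inn x)
  have hker : f.ker = (O.flip.K x).subgroupOf (St x) := by
    ext g
    rw [MonoidHom.mem_ker, hf, mem_subgroupOf, O.flip.mem_K]
    exact ⟨fun h => ⟨g.2, fun y hy => h y hy⟩, fun h y hy => h.2 y hy⟩
  have hA : alternatingGroup (Fin n) ≤ f.range := by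
    refine alt_le_of_card ((hs.full x).trans (Nat.mul_le_mul_left 2 ?_))
    rw [← Subgroup.index_ker, hker]
    exact Nat.le_of_dvd (Nat.pos_of_ne_zero Subgroup.index_ne_zero_of_finite)
      (index_dvd_of_le (comap_mono hMle))
  by_contra hne
  obtain ⟨φ, -, hφ⟩ := altQuot_of_not_le h5 ⟨f, hker, hA⟩ (O.K_le x) (Orbital.norm_of_smul O.K_smul x) hne
  exact not_free φ hφ ((hs.free_arc hy).mono (le_inf (O.K_le x) (O.K_le_nbr hy)))

theorem flip (hs : Hyp O n) : Hyp O.flip n :=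
  ⟨hs.six, hs.inn, hs.out, fun x => by rw [hs.K_flip]; exact hs.full x, fun x => by rw [hs.K_flip]; exact hs.kne x⟩

theorem K_ne (hs : Hyp O n) {x y : Ω} (h : O.E x y) : ¬ O.K x ≤ O.K y := fun hle => hs.kne x (by
  have e := eq_of_le_of_card_ge hle (Orbital.card_of_smul O.K_smul O y x).le
  refine O.both h (O.K_le x) (e ▸ O.K_le y) (Orbital.norm_of_smul O.K_smul x) ?_
  rw [e]
  exact Orbital.norm_of_smul O.K_smul y)

/-- The action of an arc stabiliser on the further predecessors of its head. -/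
theorem edge_hom (hs : Hyp O n) {x y : Ω} (h : O.E x y) :
    ∃ (f : (St x ⊓ St y : Subgroup G) →* Equiv.Perm (Fin (n - 1)))
      (e : ({c | O.E c y} \ {x} : Set Ω) ≃ Fin (n - 1)),
      f.ker = (O.K y).subgroupOf (St x ⊓ St y) ∧
      alternatingGroup (Fin (n - 1)) ≤ ((O.K x).subgroupOf (St x ⊓ St y)).map f ∧
      ∀ (g : (St x ⊓ St y : Subgroup G)) (c : ({c | O.E c y} \ {x} : Set Ω)),
        ((e.symm (f g (e c)) : ({c | O.E c y} \ {x} : Set Ω)) : Ω) = (g : G) • c.1 := by
  have h6 := hs.six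
  obtain ⟨f, e, hf, he⟩ := exists_actHom (St x ⊓ St y) ({c | O.E c y} \ {x})
    (fun g hg c hc => by
      refine ⟨?_, fun e => hc.2 ?_⟩
      · have := O.inv g c y hc.1
        rwa [MulAction.mem_stabilizer_iff.1 hg.2] at this
      · rw [Set.mem_singleton_iff] at e ⊢
        exact smul_left_cancel g (e.trans (MulAction.mem_stabilizer_iff.1 hg.1).symm))
    (n - 1) (by omega) (by
      have : Finite {c // O.E c y} := Nat.finite_of_card_ne_zero (by rw [hs.inn y]; omega)
      rw [Nat.card_coe_set_eq, Set.ncard_sdiff_singleton_of_mem (show x ∈ {c | O.E c y} from h),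
        ← Nat.card_coe_set_eq]
      exact congrArg (· - 1) (hs.inn y))
  have hker : f.ker = (O.K y).subgroupOf (St x ⊓ St y) := by
    ext g
    rw [MonoidHom.mem_ker, hf, mem_subgroupOf, ← hs.K_flip y, O.flip.mem_K]
    refine ⟨fun h' => ⟨g.2.2, fun c hc => ?_⟩, fun h' c hc => h'.2 c hc.1⟩
    by_cases hcx : c = x
    · rw [hcx]; exact g.2.1
    · exact h' c ⟨hc, hcx⟩
  have hKy : O.K y ≤ St x ⊓ St y := hs.K_flip y ▸ le_inf (O.flip.K_le_nbr h) (O.flip.K_le y)
  have hA : alternatingGroup (Fin (n - 1)) ≤ f.range := by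
    refine alt_le_of_card (Nat.le_of_mul_le_mul_left ?_ (show 0 < n by omega))
    rw [Nat.mul_factorial_pred (by omega), ← mul_left_comm, ← Subgroup.index_ker, hker]
    refine (hs.full y).trans (Nat.mul_le_mul_left 2 (le_of_eq ?_))
    refine Nat.eq_of_mul_eq_mul_right (Nat.card_pos (α := O.K y)) ?_
    have e1 := (O.K y).card_mul_index
    have h1 : (O.K y).relIndex (St y) * Nat.card (O.K y) = Nat.card (St y) := by
      rw [relIndex, ← Nat.card_congr (subgroupOfEquivOfLe (O.K_le y)).toEquiv, index_mul_card]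
    have h2 : ((O.K y).subgroupOf (St x ⊓ St y)).index * Nat.card (O.K y) = Nat.card (St x ⊓ St y : Subgroup G) := by
      rw [← Nat.card_congr (subgroupOfEquivOfLe hKy).toEquiv, index_mul_card]
    have h3 : Nat.card (St y) = Nat.card (St x) := by
      obtain ⟨g, hg⟩ := O.vtrans y x
      exact Nat.card_congr (MulAction.stabilizerEquivStabilizer hg.symm).toEquiv
    rw [h1, h3, hs.card_St h, mul_assoc, h2]
  refine ⟨f, e, hker, alt_le_of_normalized (by omega) (hA.trans ?_) fun e1 => hs.K_ne h fun k hk => ?_,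
    fun g c => congrArg Subtype.val (he g c)⟩
  · have : ((O.K x).subgroupOf (St x ⊓ St y)).Normal :=
      (normal_subgroupOf_iff_le_normalizer (le_inf (O.K_le x) (O.K_le_nbr h))).2
        (inf_le_left.trans (Orbital.norm_of_smul O.K_smul x))
    rw [MonoidHom.range_eq_map, ← normalizer_eq_top ((O.K x).subgroupOf (St x ⊓ St y))]
    exact le_normalizer_map f
  · rw [Subgroup.map_eq_bot_iff, hker] at e1
    exact e1 (show (⟨k, le_inf (O.K_le x) (O.K_le_nbr h) hk⟩ : (St x ⊓ St y : Subgroup G)) ∈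
      (O.K x).subgroupOf (St x ⊓ St y) from hk)

theorem quot (hs : Hyp O n) {x y : Ω} (h : O.E x y ∨ O.E y x) : AltQuot (n - 1) (O.K x) (O.K x ⊓ O.K y) := by
  have key : ∀ {P : Orbital G Ω}, Hyp P n → ∀ {x y : Ω}, P.E x y → AltQuot (n - 1) (P.K x) (P.K x ⊓ P.K y) := by
    intro P hP x y h
    obtain ⟨f, -, hf, hA, -⟩ := hP.edge_hom h
    refine ⟨f.comp (inclusion (le_inf (P.K_le x) (P.K_le_nbr h))), ?_, ?_⟩
    · ext k
      rw [MonoidHom.mem_ker, MonoidHom.comp_apply, ← MonoidHom.mem_ker, hf, mem_subgroupOf, mem_subgroupOf, mem_inf]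
      exact ⟨fun h' => ⟨k.2, h'⟩, fun h' => h'.2⟩
    · intro a ha
      obtain ⟨b, hb, rfl⟩ := hA ha
      exact ⟨⟨b, hb⟩, rfl⟩
  rcases h with h | h
  · exact key hs h
  · have := key hs.flip h
    rwa [hs.K_flip, hs.K_flip] at this

/-- Transitivity of a neighbouring kernel on the other neighbours. -/
theorem trans_K (hs : Hyp O n) {x y : Ω} (h : O.E x y) {c c' : Ω} (hc : O.E x c) (hc' : O.E x c')
    (n1 : c ≠ y) (n2 : c' ≠ y) : ∃ k ∈ O.K y, k • c = c' := by
  obtain ⟨f, e, -, hA, he⟩ := hs.flip.edge_hom (x := y) (y := x) h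
  obtain ⟨a, ha, hac⟩ := exists_alt_map (n := n - 1) (by have := hs.six; omega) (e ⟨c, hc, n1⟩) (e ⟨c', hc', n2⟩)
  obtain ⟨k, hk, rfl⟩ := hA ha
  refine ⟨k, hs.K_flip y ▸ hk, ?_⟩
  have := he k ⟨c, hc, n1⟩
  rw [hac, Equiv.symm_apply_apply] at this
  exact this.symm

theorem conj_pair (g : G) (x y : Ω) : O.K (g • x) ⊓ O.K (g • y) = cj g (O.K x ⊓ O.K y) := by
  rw [O.K_smul, O.K_smul, cj, cj, cj, map_inf _ _ _ (MulAut.conj g).injective]

theorem mem_N_iff (hs : Hyp O n) {x : Ω} {g : G} : g ∈ O.N x ↔ g ∈ O.K x ∧ ∀ c, O.E x c → g ∈ O.K c := by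
  rw [O.mem_N]
  simp only [hs.K_flip]

theorem mem_flip_N_iff (hs : Hyp O n) {x : Ω} {g : G} :
    g ∈ O.flip.N x ↔ g ∈ O.K x ∧ ∀ c, O.E c x → g ∈ O.K c := by
  rw [O.flip.mem_N, hs.K_flip, flip_flip']
  exact Iff.rfl
where flip_flip' : O.flip.flip = O := rfl

theorem N_eq_bot_of_isPGroup (hs : Hyp O n) {p : ℕ} (hp : p.Prime) (hN : ∀ x, IsPGroup p (O.N x)) (x : Ω) :
    O.N x = ⊥ ∧ O.flip.N x = ⊥ := by
  classical
  have := Fact.mk hp
  have h5 : 5 ≤ n - 1 := by have := hs.six; omega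
  have hnorm : ∀ u v, St u ⊓ St v ≤ normalizer ((O.K u ⊓ O.K v : Subgroup G) : Set G) := by
    intro u v g hg
    rw [Subgroup.mem_normalizer_iff]
    intro a
    exact and_congr (Subgroup.mem_normalizer_iff.1 (Orbital.norm_of_smul O.K_smul u hg.1) a)
      (Subgroup.mem_normalizer_iff.1 (Orbital.norm_of_smul O.K_smul v hg.2) a)
  have sameN : ∀ u, O.flip.N u = O.N u := by
    intro u
    have hin : ∀ z, O.E z u → ∃ c, O.E u c ∧ O.K u ⊓ O.K z = O.K u ⊓ O.K c := by
      intro z hz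
      by_contra hne
      push Not at hne
      obtain ⟨P, hP⟩ := exists_res h5 (O.K u)
      have : Finite {c // O.E u c} := Nat.finite_of_card_ne_zero (by rw [hs.out u]; omega)
      have := Fintype.ofFinite {c // O.E u c}
      have hJn : O.K u ≤ normalizer ((O.K u ⊓ O.K z : Subgroup G) : Set G) :=
        le_trans (le_inf (O.K_le u) (by rw [← hs.K_flip]; exact O.flip.K_le_nbr hz)) (hnorm u z)
      have hmove : ∀ c ∈ (Finset.univ : Finset {c // O.E u c}), ¬ O.K u ⊓ O.K z ≤ O.K u ⊓ O.K c.1 := by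
        intro c _ hle
        refine hne c.1 c.2 (eq_of_le_of_card_ge hle (le_of_eq ?_))
        obtain ⟨g, hg1, hg2⟩ := O.trans z u u c.1 hz c.2
        have h4 : cj g (O.K z ⊓ O.K u) = O.K u ⊓ O.K c.1 := by rw [← conj_pair, hg1, hg2]
        rw [← h4, cj, card_map_of_injective (MulAut.conj g).injective, inf_comm]
      have hfac := res_le h5 Finset.univ (fun c : {c // O.E u c} => O.K u ⊓ O.K c.1) hP inf_le_left hJn
        (fun c _ => hs.quot (Or.inl c.2)) hmove
      refine hP.2.2 _ (hs.quot (Or.inr hz)) fun q hq => ?_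
      obtain ⟨j, hj, e, he, hee, rfl⟩ := hfac q hq
      have heN : e ∈ O.N u := hs.mem_N_iff.2 ⟨he, fun c hc => (hee ⟨c, hc⟩ (Finset.mem_univ _)).2⟩
      exact mul_mem hj (le_of_isPGroup h5 (hs.quot (Or.inr hz)) (O.N_le_K u)
        ((O.K_le u).trans (Orbital.norm_of_smul O.N_smul u)) (hN u) heN)
    refine (eq_of_le_of_card_ge (fun g hg => ?_) ?_).symm
    · obtain ⟨hgK, hgc⟩ := hs.mem_N_iff.1 hg
      refine hs.mem_flip_N_iff.2 ⟨hgK, fun z hz => ?_⟩
      obtain ⟨c, hc, e⟩ := hin z hz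
      have : g ∈ O.K u ⊓ O.K z := e ▸ ⟨hgK, hgc c hc⟩
      exact this.2
    · refine card_le_of_le fun g hg => ?_
      obtain ⟨hgK, hgc⟩ := hs.mem_flip_N_iff.1 hg
      refine hs.mem_N_iff.2 ⟨hgK, fun c hc => ?_⟩
      obtain ⟨z₀, hz₀⟩ := O.inn u
      obtain ⟨c₀, hc₀, e⟩ := hin z₀ hz₀
      obtain ⟨k, hk1, hk2⟩ := O.trans u c₀ u c hc₀ hc
      have e2 : O.K u ⊓ O.K (k • z₀) = O.K u ⊓ O.K c := by
        conv_lhs => rw [← hk1]
        conv_rhs => rw [← hk1, ← hk2]
        rw [conj_pair, conj_pair, e]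
      have : g ∈ O.K u ⊓ O.K c := e2 ▸ ⟨hgK, hgc _ (hk1 ▸ O.inv k z₀ u hz₀)⟩
      exact this.2
  have hb : ∀ u, O.N u = ⊥ := by
    intro u
    obtain ⟨c, hc⟩ := O.out u
    have hle : O.N u ≤ O.N c := by
      intro g hg
      obtain ⟨hgK, hgc⟩ := hs.mem_N_iff.1 hg
      rw [← sameN c]
      refine hs.mem_flip_N_iff.2 ⟨hgc c hc, fun z hz => ?_⟩
      have hKc : O.K c ≤ St u := hs.K_flip c ▸ O.flip.K_le_nbr hc
      exact (le_of_isPGroup h5 (hs.quot (Or.inr hz)) (fun a ha => ((hs.mem_N_iff.1 ha).2 c hc))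
        (hKc.trans (Orbital.norm_of_smul O.N_smul u)) (hN u) hg).2
    have e := eq_of_le_of_card_ge hle (Orbital.card_of_smul O.N_smul O c u).le
    refine O.both hc (O.N_le u) (e ▸ O.N_le c) (Orbital.norm_of_smul O.N_smul u) ?_
    rw [e]
    exact Orbital.norm_of_smul O.N_smul c
  exact ⟨hb x, sameN x ▸ hb x⟩

theorem N_eq_bot (hs : Hyp O n) (x : Ω) : O.N x = ⊥ ∧ O.flip.N x = ⊥ := by
  rcases double_kernel_pgroup O x with ⟨p, hp, hN⟩ | ⟨p, hp, hN⟩
  · exact hs.N_eq_bot_of_isPGroup hp hN x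
  · exact ⟨(hs.flip.N_eq_bot_of_isPGroup hp hN x).2, (hs.flip.N_eq_bot_of_isPGroup hp hN x).1⟩

/-- The kernels at the ends of an arc meet trivially. -/
theorem edge_eq_bot (hs : Hyp O n) {x y : Ω} (h : O.E x y) : O.K x ⊓ O.K y = ⊥ := by
  classical
  have h5 : 5 ≤ n - 1 := by have := hs.six; omega
  by_cases hall : ∀ c, O.E x c → O.K x ⊓ O.K c = O.K x ⊓ O.K y
  · refine eq_bot_iff.2 fun g hg => ?_
    have : g ∈ O.N x := hs.mem_N_iff.2 ⟨hg.1, fun c hc => ((hall c hc).symm ▸ hg : g ∈ O.K x ⊓ O.K c).2⟩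
    rwa [(hs.N_eq_bot x).1] at this
  exfalso
  push Not at hall
  obtain ⟨y', hy', hne'⟩ := hall
  obtain ⟨E, hE⟩ : ∃ E, E = O.K x ⊓ O.K y := ⟨_, rfl⟩
  have hyy' : y' ≠ y := fun e => hne' (by rw [e])
  have hKy : O.K y ≤ St x := hs.K_flip y ▸ O.flip.K_le_nbr h
  have hEk : ∀ k ∈ O.K y, ∀ c, O.K x ⊓ O.K (k • c) = cj k (O.K x ⊓ O.K c) := by
    intro k hk c
    conv_lhs => rw [← MulAction.mem_stabilizer_iff.1 (hKy hk)]
    exact conj_pair k x c
  have hEfix : ∀ k ∈ O.K y, cj k E = E := fun k hk => by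
    rw [hE, ← hEk k hk, MulAction.mem_stabilizer_iff.1 (O.K_le y hk)]
  have hdist : ∀ c, O.E x c → c ≠ y → O.K x ⊓ O.K c ≠ E := by
    intro c hc hcy e
    obtain ⟨k, hk, rfl⟩ := hs.trans_K h hc hy' hcy hyy'
    exact hne' (by rw [hEk k hk, e, hEfix k hk, hE])
  have hEK : E ≤ O.K x := hE ▸ inf_le_left
  have hEcard : ∀ c, O.E x c → Nat.card (O.K x ⊓ O.K c : Subgroup G) = Nat.card E := by
    intro c hc
    obtain ⟨g, hg1, hg2⟩ := O.trans x y x c h hc
    conv_lhs => rw [← hg1, ← hg2]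
    rw [conj_pair, cj, card_map_of_injective (MulAut.conj g).injective, hE]
  have hEn : ∀ c, O.E x c → E ≤ normalizer ((O.K x ⊓ O.K c : Subgroup G) : Set G) := fun c hc g hg => by
    rw [Subgroup.mem_normalizer_iff]
    intro a
    exact and_congr (Subgroup.mem_normalizer_iff.1 (Orbital.norm_of_smul O.K_smul x (O.K_le x (hEK hg))) a)
      (Subgroup.mem_normalizer_iff.1 (Orbital.norm_of_smul O.K_smul c (O.K_le_nbr hc (hEK hg))) a)
  have hq : ∀ c, O.E x c → c ≠ y → AltQuot (n - 1) E (E ⊓ (O.K x ⊓ O.K c)) := fun c hc hcy =>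
    altQuot_of_not_le h5 (hs.quot (Or.inl hc)) hEK
      (hE ▸ fun g hg => by
        rw [Subgroup.mem_normalizer_iff]
        intro a
        exact and_congr (Subgroup.mem_normalizer_iff.1 (Orbital.norm_of_smul O.K_smul x (O.K_le x hg)) a)
          (Subgroup.mem_normalizer_iff.1 (Orbital.norm_of_smul O.K_smul y (O.K_le_nbr h hg)) a))
      (fun hle => hdist c hc hcy (eq_of_le_of_card_ge hle (hEcard c hc).le).symm)
  obtain ⟨P, hP⟩ := exists_res h5 E
  have : Finite {c // O.E x c ∧ c ≠ y} :=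
    have : Finite {c // O.E x c} := Nat.finite_of_card_ne_zero (by rw [hs.out x]; omega)
    Finite.of_injective (fun c => (⟨c.1, c.2.1⟩ : {c // O.E x c})) fun a b e =>
      Subtype.ext (congrArg Subtype.val e :)
  have := Fintype.ofFinite {c // O.E x c ∧ c ≠ y}
  have hEy : E ≤ O.K y := hE ▸ inf_le_right
  obtain ⟨z, hz, hzx, hJ⟩ : ∃ z, O.E z y ∧ z ≠ x ∧ E ⊓ O.K z = ⊥ := by
    by_contra hnone
    push Not at hnone
    refine hP.2.2 _ (hq y' hy' hyy') fun g hg => ?_
    have hgN : g ∈ O.flip.N y := by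
      refine hs.mem_flip_N_iff.2 ⟨hEy (hP.1 hg), fun z hz => ?_⟩
      by_cases hzx : z = x
      · exact hzx ▸ hEK (hP.1 hg)
      have hKyz : O.K y ≤ St z := hs.K_flip y ▸ O.flip.K_le_nbr hz
      by_cases hJle : ∀ c, O.E x c → c ≠ y → ¬ E ⊓ O.K z ≤ O.K x ⊓ O.K c
      · obtain ⟨j, hj, e, he, hee, rfl⟩ := res_le h5 (Finset.univ : Finset {c // O.E x c ∧ c ≠ y})
          (fun c => E ⊓ (O.K x ⊓ O.K c.1)) hP (J := E ⊓ O.K z) inf_le_left
          (fun a ha => by
            rw [Subgroup.mem_normalizer_iff]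
            intro b
            exact and_congr ((Subgroup.mem_normalizer_iff.1 (Subgroup.le_normalizer ha)) b)
              (Subgroup.mem_normalizer_iff.1 (Orbital.norm_of_smul O.K_smul z (hKyz (hEy ha))) b))
          (fun c _ => hq c.1 c.2.1 c.2.2) (fun c _ hle => hJle c.1 c.2.1 c.2.2 fun a ha => (hle ha).2) g hg
        have : e ∈ O.N x := hs.mem_N_iff.2 ⟨hEK he, fun c hc => by
          by_cases hcy : c = y
          · exact hcy ▸ hEy he
          · exact (hee ⟨c, hc, hcy⟩ (Finset.mem_univ _)).2.2⟩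
        rw [(hs.N_eq_bot x).1, mem_bot] at this
        rw [this, mul_one]
        exact hj.2
      · push Not at hJle
        obtain ⟨c, hc, hcy, hle⟩ := hJle
        exfalso
        refine hnone z hz hzx (eq_bot_iff.2 fun a ha => ?_)
        have : a ∈ O.N x := hs.mem_N_iff.2 ⟨hEK ha.1, fun d hd => by
          by_cases hdy : d = y
          · exact hdy ▸ hEy ha.1
          obtain ⟨k, hk, rfl⟩ := hs.trans_K h hd hc hdy hcy
          have hka : k * a * k⁻¹ ∈ E ⊓ O.K z :=
            ⟨(hEfix k hk).le (mem_map_of_mem (MulAut.conj k).toMonoidHom ha.1),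
              (Subgroup.mem_normalizer_iff.1 (Orbital.norm_of_smul O.K_smul z (hKyz hk)) a).1 ha.2⟩
          have h1 := hle hka
          rw [hEk k hk, mem_cj] at h1
          rw [show k⁻¹ * (k * a * k⁻¹) * k = a by group] at h1
          exact h1.2⟩
        rwa [(hs.N_eq_bot x).1] at this
    rw [(hs.N_eq_bot y).2, mem_bot] at hgN
    exact hgN ▸ one_mem _
  -- any two kernels at a point meet trivially
  have hKyz : O.K y ≤ St z := hs.K_flip y ▸ O.flip.K_le_nbr hz
  have hzq : AltQuot (n - 1) E ⊥ := by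
    rw [← hJ]
    have hqz : AltQuot (n - 1) (O.K y) (O.K y ⊓ O.K z) := hs.quot (Or.inr hz)
    have h1 := altQuot_of_not_le h5 hqz hEy
      (fun g hg => (Subgroup.mem_normalizer_iff_map_conj_eq).2 (hEfix g hg)) fun hle => ?_
    · rwa [← inf_assoc, inf_eq_left.2 hEy] at h1
    · have hz1 : E ≤ O.K z := fun a ha => (hle ha).2
      rw [inf_eq_left.2 hz1] at hJ
      exact hdist y' hy' hyy' (by
        rw [hJ]
        exact Subgroup.card_eq_one.1 ((hEcard y' hy').trans (by rw [hJ, card_bot])))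
  have hdisj : ∀ c, O.E x c → c ≠ y → E ⊓ (O.K x ⊓ O.K c) = ⊥ := by
    intro c hc hcy
    by_contra hne
    obtain ⟨φ, hφ, hA⟩ := hzq
    refine hP.2.2 _ (hq c hc hcy) fun g hg => ?_
    obtain ⟨j, hj, e, he, hee, rfl⟩ := res_le h5 (Finset.univ : Finset Unit) (fun _ => (⊥ : Subgroup G)) hP
      (J := E ⊓ (O.K x ⊓ O.K c)) inf_le_left
      (fun a ha => by
        rw [Subgroup.mem_normalizer_iff]
        intro b
        exact and_congr ((Subgroup.mem_normalizer_iff.1 (Subgroup.le_normalizer ha)) b)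
          (Subgroup.mem_normalizer_iff.1 (hEn c hc ha) b))
      (fun _ _ => ⟨φ, hφ, hA⟩) (fun _ _ hle => hne (le_bot_iff.1 hle)) g hg
    rw [mem_bot.1 (hee () (Finset.mem_univ _)), mul_one]
    exact hj
  obtain ⟨c, hc, hcy, hcy'⟩ : ∃ c, O.E x c ∧ c ≠ y ∧ c ≠ y' := by
    by_contra hcon
    push Not at hcon
    have : Finite {c // O.E x c} := Nat.finite_of_card_ne_zero (by rw [hs.out x]; omega)
    have hle : ({c | O.E x c} : Set Ω) ⊆ {y, y'} := fun c hc => by
      by_cases e : c = y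
      · exact Or.inl e
      · exact Or.inr (hcon c hc e)
    have h1 := Set.ncard_le_ncard hle (Set.toFinite _)
    rw [← Nat.card_coe_set_eq] at h1
    have h2 : Nat.card ({c | O.E x c} : Set Ω) = n := hs.out x
    have h3 := (Set.ncard_insert_le y ({y'} : Set Ω)).trans_eq (congrArg (· + 1) (Set.ncard_singleton y'))
    omega
  have hy'c : O.K x ⊓ O.K c ≠ O.K x ⊓ O.K y' := by
    intro e
    obtain ⟨g, hg1, hg2⟩ := O.trans x y' x y hy' h
    have hgc : O.E x (g • c) := hg1 ▸ O.inv g x c hc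
    refine hdist (g • c) hgc (fun e' => hcy' (smul_left_cancel g (e'.trans hg2.symm))) ?_
    rw [hE]
    conv_lhs => rw [← hg1]
    conv_rhs => rw [← hg1, ← hg2]
    rw [conj_pair, conj_pair, e]
  obtain ⟨Q, hQ⟩ := exists_res h5 (O.K x)
  refine hQ.2.2 _ (hs.quot (Or.inl hc)) fun g hg => ?_
  let F : Bool → Subgroup G := fun b => if b then O.K x ⊓ O.K y' else O.K x ⊓ O.K y
  obtain ⟨j, hj, e, he, hee, rfl⟩ := res_le h5 (Finset.univ : Finset Bool) F hQ
    (J := O.K x ⊓ O.K c) inf_le_left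
    (le_trans (le_inf (O.K_le x) (O.K_le_nbr hc)) fun a ha => by
      rw [Subgroup.mem_normalizer_iff]
      intro b
      exact and_congr (Subgroup.mem_normalizer_iff.1 (Orbital.norm_of_smul O.K_smul x ha.1) b)
        (Subgroup.mem_normalizer_iff.1 (Orbital.norm_of_smul O.K_smul c ha.2) b))
    (fun b _ => by cases b <;> simp only [F] <;> first | exact hs.quot (Or.inl h) | exact hs.quot (Or.inl hy'))
    (fun b _ hle => by
      cases b
      · refine hdist c hc hcy ((eq_of_le_of_card_ge hle ?_).trans hE.symm)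
        exact ((hEcard y h).trans (hEcard c hc).symm).le
      · exact hy'c (eq_of_le_of_card_ge hle ((hEcard y' hy').trans (hEcard c hc).symm).le)) g hg
  have : e ∈ E ⊓ (O.K x ⊓ O.K y') := ⟨hE ▸ hee false (Finset.mem_univ _), hee true (Finset.mem_univ _)⟩
  rw [hdisj y' hy' hyy', mem_bot] at this
  rw [this, mul_one]
  exact hj

end Hyp

end CfsgLib.Recog.AltSub
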