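import Cfsg.Agent.Lib.Recog.AltSuborbit

/-!
An unfaithful suborbit on which a point stabiliser induces a symmetric or alternating group:
the structure of the point stabiliser.
-/

set_option autoImplicit false
set_option linter.unusedSectionVars false

namespace CfsgLib.Recog.AltSub

open Subgroup CfsgLib.Recog.TW

variable {G Ω : Type*} [Group G] [MulAction G Ω] [Finite G] {O : Orbital G Ω} {n : ℕ}

local notation "St" => MulAction.stabilizer G

/-- The signs of two permutations agree on a subgroup, if both cosets are reached. -/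
theorem mem_alt_iff {m : ℕ} (a : Equiv.Perm (Fin m)) :
    a ∈ alternatingGroup (Fin m) ↔ Equiv.Perm.sign a = 1 := Equiv.Perm.mem_alternatingGroup

namespace Hyp

/-- The action on the out-neighbours, completed by an action with the kernel as symmetric part. -/
theorem exists_pair_hom (hs : Hyp O n) (x : Ω) :
    ∃ (φ : St x →* Equiv.Perm (Fin n)) (χ : St x →* Equiv.Perm (Fin (n - 1))),
      φ.ker = (O.K x).subgroupOf (St x) ∧ φ.ker ⊓ χ.ker = ⊥ ∧
      alternatingGroup (Fin n) ≤ χ.ker.map φ ∧ alternatingGroup (Fin (n - 1)) ≤ φ.ker.map χ ∧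
      Nat.card χ.ker = n * Nat.card φ.ker := by
  classical
  have h6 := hs.six
  obtain ⟨y, hy⟩ := O.out x
  obtain ⟨φ, e, hφ, hA, he⟩ := hs.out_hom x
  obtain ⟨f, -, hf, hfA, -⟩ := hs.edge_hom hy
  have hE := hs.edge_eq_bot hy
  have hKH : O.K x ≤ St x ⊓ St y := le_inf (O.K_le x) (O.K_le_nbr hy)
  have hLH : O.K y ≤ St x ⊓ St y := hs.K_flip y ▸ le_inf (O.flip.K_le_nbr hy) (O.flip.K_le y)
  have hnK : St x ≤ normalizer (O.K x : Set G) := Orbital.norm_of_smul O.K_smul x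
  have hfeq : ∀ (g : (St x ⊓ St y : Subgroup G)), f g = 1 ↔ (g : G) ∈ O.K y := fun g => by
    rw [← MonoidHom.mem_ker, hf, mem_subgroupOf]
  obtain ⟨C, hC⟩ : ∃ C : Subgroup G, C = centralizer (O.K x : Set G) ⊓ St x := ⟨_, rfl⟩
  have hcomm : ∀ h ∈ St x ⊓ St y, (∀ k ∈ O.K x, Commute h k) → h ∈ O.K y := by
    intro h hh hk
    refine (hfeq ⟨h, hh⟩).1 (eq_one_of_commute_alt (by omega) fun a ha => ?_)
    obtain ⟨k, hk', rfl⟩ := hfA ha
    have : Commute (⟨h, hh⟩ : (St x ⊓ St y : Subgroup G)) k := Subtype.ext (hk k hk').eq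
    exact this.map f
  have hKyC : O.K y ≤ C := by
    intro b hb
    rw [hC]
    refine ⟨mem_centralizer_iff.2 fun a ha => ?_, (hLH hb).1⟩
    have h1 : a * b * a⁻¹ * b⁻¹ ∈ O.K x ⊓ O.K y := by
      constructor
      · rw [mul_assoc a, mul_assoc a]
        exact mul_mem ha ((Subgroup.mem_normalizer_iff.1 (hnK (hLH hb).1) _).1 (inv_mem ha))
      · exact mul_mem ((Subgroup.mem_normalizer_iff.1
          (Orbital.norm_of_smul O.K_smul y (hKH ha).2) _).1 hb) ((O.K y).inv_mem hb)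
    rw [hE, mem_bot] at h1
    exact mul_inv_eq_iff_eq_mul.1 (mul_inv_eq_one.1 h1)
  have hCH : ∀ h ∈ C, h ∈ St x ⊓ St y → h ∈ O.K y := fun h hh hH => by
    rw [hC] at hh
    exact hcomm h hH fun k hk => (mem_centralizer_iff.1 hh.1 k hk).symm
  have hCn : St x ≤ normalizer (C : Set G) := by
    intro s hs'
    have hz := Subgroup.mem_normalizer_iff.1 (hnK hs')
    rw [Subgroup.mem_normalizer_iff]
    intro c
    rw [hC, mem_inf, mem_inf, mem_centralizer_iff, mem_centralizer_iff]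
    refine and_congr ⟨fun h k hk => ?_, fun h k hk => ?_⟩
      (by rw [Subgroup.mul_mem_cancel_right _ ((St x).inv_mem hs'), Subgroup.mul_mem_cancel_left _ hs'])
    · have h1 := h _ ((hz (s⁻¹ * k * s)).2 (by simpa [mul_assoc] using hk))
      calc k * (s * c * s⁻¹) = s * (s⁻¹ * k * s * c) * s⁻¹ := by group
        _ = s * c * s⁻¹ * k := by rw [h1]; group
    · have h1 := h _ ((hz k).1 hk)
      calc k * c = s⁻¹ * (s * k * s⁻¹ * (s * c * s⁻¹)) * s := by group
        _ = c * k := by rw [h1]; group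
  have hCle : C ≤ St x := hC ▸ inf_le_right
  have hCA : alternatingGroup (Fin n) ≤ (C.subgroupOf (St x)).map φ := by
    have : (C.subgroupOf (St x)).Normal := (normal_subgroupOf_iff_le_normalizer hCle).2 hCn
    refine alt_le_of_normalized (by omega) (hA.trans ?_) fun e1 => ?_
    · rw [MonoidHom.range_eq_map, ← normalizer_eq_top (C.subgroupOf (St x))]
      exact le_normalizer_map φ
    · rw [Subgroup.map_eq_bot_iff, hφ] at e1
      refine hs.kne y (eq_bot_iff.2 fun b hb => ?_)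
      have h1 : (⟨b, (hLH hb).1⟩ : St x) ∈ C.subgroupOf (St x) := hKyC hb
      have h2 : b ∈ O.K x ⊓ O.K y := ⟨e1 h1, hb⟩
      rwa [hE] at h2
  have hex : ∀ s : St x, ∃ c ∈ C, c⁻¹ * (s : G) ∈ St x ⊓ St y := by
    intro s
    have hsy : O.E x ((s : G) • y) := by
      simpa [MulAction.mem_stabilizer_iff.1 s.2] using O.inv (s : G) x y hy
    obtain ⟨a, ha, hay⟩ := exists_alt_map (n := n) (by omega) (e ⟨y, hy⟩) (e ⟨_, hsy⟩)
    obtain ⟨c, hc, rfl⟩ := hCA ha
    have h1 := he c ⟨y, hy⟩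
    rw [hay, Equiv.symm_apply_apply] at h1
    refine ⟨c, hc, (St x).mul_mem ((St x).inv_mem (hCle hc)) s.2, ?_⟩
    show ((c : G)⁻¹ * (s : G)) • y = y
    rw [mul_smul, inv_smul_eq_iff]
    exact h1
  choose cs hcs hhs using hex
  let χ' : St x → Equiv.Perm (Fin (n - 1)) := fun s => f ⟨_, hhs s⟩
  have hval : ∀ (s : St x) (c h : G) (_ : c ∈ C) (hh : h ∈ St x ⊓ St y), (s : G) = c * h → χ' s = f ⟨h, hh⟩ := by
    intro s c h hc hh hse
    show f ⟨_, hhs s⟩ = f ⟨h, hh⟩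
    rw [← mul_inv_eq_one, ← map_inv, ← map_mul, hfeq]
    have e1 : (cs s)⁻¹ * (s : G) * h⁻¹ = (cs s)⁻¹ * c := by rw [hse]; group
    show (cs s)⁻¹ * (s : G) * h⁻¹ ∈ O.K y
    rw [e1]
    exact hCH _ (C.mul_mem (C.inv_mem (hcs s)) hc) (e1 ▸ (St x ⊓ St y).mul_mem (hhs s) ((St x ⊓ St y).inv_mem hh))
  let χ : St x →* Equiv.Perm (Fin (n - 1)) := MonoidHom.mk' χ' fun s t => by
    have e1 : ((s * t : St x) : G) =
        cs s * (((cs s)⁻¹ * (s : G)) * cs t * ((cs s)⁻¹ * (s : G))⁻¹) *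
          (((cs s)⁻¹ * (s : G)) * ((cs t)⁻¹ * (t : G))) := by
      rw [Subgroup.coe_mul]; group
    rw [hval (s * t) _ _ (mul_mem (hcs s) ((Subgroup.mem_normalizer_iff.1 (hCn (hhs s).1) _).1 (hcs t)))
      (mul_mem (hhs s) (hhs t)) e1]
    exact map_mul f ⟨_, hhs s⟩ ⟨_, hhs t⟩
  have hχC : χ.ker = C.subgroupOf (St x) := by
    ext s
    rw [MonoidHom.mem_ker, mem_subgroupOf]
    constructor
    · intro h1
      have h2 : (cs s)⁻¹ * (s : G) ∈ O.K y := (hfeq ⟨_, hhs s⟩).1 h1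
      simpa using mul_mem (hcs s) (hKyC h2)
    · intro h1
      show χ' s = 1
      rw [hval s s 1 h1 (one_mem _) (by rw [mul_one])]
      exact map_one f
  have hχK : ∀ (k : St x) (hk : (k : G) ∈ O.K x), χ k = f ⟨k, hKH hk⟩ := fun k hk =>
    hval k 1 k (one_mem _) (hKH hk) (by rw [one_mul])
  refine ⟨φ, χ, hφ, ?_, hχC ▸ hCA, ?_, ?_⟩
  · refine eq_bot_iff.2 fun s hs' => ?_
    obtain ⟨h1, h2⟩ := hs'
    rw [hφ] at h1
    have hk : (s : G) ∈ O.K x := h1
    have h3 : (s : G) ∈ O.K x ⊓ O.K y := ⟨hk, (hfeq ⟨_, hKH hk⟩).1 ((hχK s hk).symm.trans h2)⟩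
    rw [hE, mem_bot] at h3
    exact Subtype.ext h3
  · intro a ha
    obtain ⟨k, hk, rfl⟩ := hfA ha
    refine ⟨⟨k, O.K_le x hk⟩, ?_, hχK ⟨k, O.K_le x hk⟩ hk⟩
    rw [SetLike.mem_coe, hφ]
    exact hk
  · have hrange : χ.range = f.range := by
      refine le_antisymm (by rintro _ ⟨s, rfl⟩; exact ⟨_, rfl⟩) ?_
      rintro _ ⟨g, rfl⟩
      exact ⟨⟨g, g.2.1⟩, hval _ 1 g (one_mem _) g.2 (by rw [one_mul])⟩
    have e1 := χ.ker.card_mul_index
    have e2 := f.ker.card_mul_index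
    rw [Subgroup.index_ker] at e1 e2
    rw [hrange, hs.card_St hy] at e1
    rw [hf, Nat.card_congr (subgroupOfEquivOfLe hLH).toEquiv, Orbital.card_of_smul O.K_smul O y x] at e2
    rw [hφ, Nat.card_congr (subgroupOfEquivOfLe (O.K_le x)).toEquiv]
    refine Nat.eq_of_mul_eq_mul_right (Nat.card_pos (α := f.range)) ?_
    rw [e1, mul_assoc, e2]

/-- The structure of a point stabiliser. -/
theorem structure_thm (hs : Hyp O n) (x : Ω) :
    ∃ φ : St x →* Equiv.Perm (Fin n), φ.ker = (O.K x).subgroupOf (St x) ∧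
    ((φ.range = alternatingGroup (Fin n) ∧
      Nonempty (St x ≃* alternatingGroup (Fin n) × alternatingGroup (Fin (n - 1)))) ∨
    (φ.range = ⊤ ∧
      (Nonempty (St x ≃* Equiv.Perm (Fin n) × Equiv.Perm (Fin (n - 1))) ∨
       Nonempty (St x ≃* Equiv.Perm (Fin n) × alternatingGroup (Fin (n - 1))) ∨
       Nonempty (St x ≃* ((Equiv.Perm.sign.comp (MonoidHom.fst (Equiv.Perm (Fin n)) (Equiv.Perm (Fin (n - 1))))) *
         (Equiv.Perm.sign.comp (MonoidHom.snd (Equiv.Perm (Fin n)) (Equiv.Perm (Fin (n - 1)))))).ker)))) := by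
  have h6 := hs.six
  obtain ⟨φ, χ, hφ, hinj, hC, hK, hcard⟩ := hs.exists_pair_hom x
  refine ⟨φ, hφ, ?_⟩
  let Φ : St x →* Equiv.Perm (Fin n) × Equiv.Perm (Fin (n - 1)) := φ.prod χ
  have hΦ : Function.Injective Φ := (injective_iff_map_eq_one Φ).2 fun s h => by
    have : s ∈ φ.ker ⊓ χ.ker := ⟨congrArg Prod.fst h, congrArg Prod.snd h⟩
    rwa [hinj, mem_bot] at this
  have iso : ∀ L : Subgroup (Equiv.Perm (Fin n) × Equiv.Perm (Fin (n - 1))), Φ.range = L →
      Nonempty (St x ≃* L) := fun L hL =>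
    ⟨(MonoidHom.ofInjective hΦ).trans (MulEquiv.subgroupCongr hL)⟩
  have hcK : Nat.card (φ.ker.map χ) = Nat.card φ.ker := by
    refine (Nat.card_congr (Equiv.ofBijective (fun s : φ.ker => (⟨χ s, s, s.2, rfl⟩ : φ.ker.map χ)) ⟨?_, ?_⟩)).symm
    · intro s t e
      refine Subtype.ext (hΦ (Prod.ext ?_ (congrArg Subtype.val e :)))
      exact s.2.trans t.2.symm
    · rintro ⟨_, s, hs', rfl⟩
      exact ⟨⟨s, hs'⟩, rfl⟩
  have hcC : Nat.card (χ.ker.map φ) = Nat.card χ.ker := by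
    refine (Nat.card_congr (Equiv.ofBijective (fun s : χ.ker => (⟨φ s, s, s.2, rfl⟩ : χ.ker.map φ)) ⟨?_, ?_⟩)).symm
    · intro s t e
      refine Subtype.ext (hΦ (Prod.ext (congrArg Subtype.val e :) ?_))
      exact s.2.trans t.2.symm
    · rintro ⟨_, s, hs', rfl⟩
      exact ⟨⟨s, hs'⟩, rfl⟩
  have hmk : ∀ {a b}, a ∈ χ.ker.map φ → b ∈ φ.ker.map χ → (a, b) ∈ Φ.range := by
    rintro _ _ ⟨c, hc, rfl⟩ ⟨k, hk, rfl⟩
    refine ⟨c * k, ?_⟩
    rw [SetLike.mem_coe, MonoidHom.mem_ker] at hc hk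
    simp [Φ, MonoidHom.prod_apply, hc, hk]
  have hn2 : n * Nat.card (alternatingGroup (Fin (n - 1))) = Nat.card (alternatingGroup (Fin n)) := by
    refine Nat.eq_of_mul_eq_mul_left (n := 2) (by norm_num) ?_
    rw [two_mul_card_alt (n := n) (by omega), mul_left_comm, two_mul_card_alt (n := n - 1) (by omega),
      Nat.mul_factorial_pred (by omega)]
  rcases eq_alt_or_top (by omega) hK with hR | hR
  swap
  · have hC' : χ.ker.map φ = ⊤ := by
      refine eq_top_of_card_eq _ ?_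
      rw [hcC, hcard, ← hcK, hR, card_top, Nat.card_perm, Nat.card_perm, Nat.card_fin, Nat.card_fin,
        Nat.mul_factorial_pred (by omega)]
    refine Or.inr ⟨eq_top_iff.2 fun a _ => ?_, Or.inl ?_⟩
    · obtain ⟨s, -, rfl⟩ := (hC' ▸ mem_top a : a ∈ χ.ker.map φ)
      exact ⟨s, rfl⟩
    · exact (iso ⊤ (eq_top_iff.2 fun p _ => hmk (hC' ▸ mem_top _) (hR ▸ mem_top _))).map
        fun e => e.trans Subgroup.topEquiv
  have hC' : χ.ker.map φ = alternatingGroup (Fin n) :=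
    (eq_of_le_of_card_ge hC (by rw [hcC, hcard, ← hcK, hR, hn2])).symm
  have heven : ∀ s, φ s ∈ alternatingGroup (Fin n) → χ s ∈ alternatingGroup (Fin (n - 1)) := by
    intro s hs'
    obtain ⟨c, hc, e⟩ := (hC' ▸ hs' : φ s ∈ χ.ker.map φ)
    rw [SetLike.mem_coe, MonoidHom.mem_ker] at hc
    have h1 : χ (c⁻¹ * s) ∈ φ.ker.map χ := ⟨c⁻¹ * s, by
      rw [SetLike.mem_coe, MonoidHom.mem_ker, map_mul, map_inv, e, inv_mul_cancel], rfl⟩
    rwa [hR, map_mul, map_inv, hc, inv_one, one_mul] at h1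
  have hpair : ∀ {a b}, a ∈ alternatingGroup (Fin n) → b ∈ alternatingGroup (Fin (n - 1)) → (a, b) ∈ Φ.range :=
    fun ha hb => hmk (hC' ▸ ha) (hR ▸ hb)
  have hrA : alternatingGroup (Fin n) ≤ φ.range := by
    rw [← hC']; rintro _ ⟨s, -, rfl⟩; exact ⟨s, rfl⟩
  rcases eq_alt_or_top (by omega) hrA with hr | hr
  · refine Or.inl ⟨hr, ?_⟩
    have : Φ.range = (alternatingGroup (Fin n)).prod (alternatingGroup (Fin (n - 1))) := by
      refine le_antisymm ?_ fun p hp => hpair hp.1 hp.2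
      rintro _ ⟨s, rfl⟩
      exact ⟨hr.le ⟨s, rfl⟩, heven s (hr.le ⟨s, rfl⟩)⟩
    exact (iso _ this).map fun e => e.trans (Subgroup.prodEquiv _ _)
  refine Or.inr ⟨hr, Or.inr ?_⟩
  have : Nontrivial (Fin n) := Fin.nontrivial_iff_two_le.2 (by omega)
  obtain ⟨a₀, b₀, hab⟩ := exists_pair_ne (Fin n)
  obtain ⟨l, hl⟩ := (hr ▸ mem_top _ : Equiv.swap a₀ b₀ ∈ φ.range)
  have hlo : Equiv.Perm.sign (φ l) = -1 := by rw [hl, Equiv.Perm.sign_swap hab]
  have hodd : ∀ s, Equiv.Perm.sign (φ s) = -1 → Equiv.Perm.sign (χ s) = Equiv.Perm.sign (χ l) := by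
    intro s hs'
    have h1 := heven (s * l⁻¹) (by
      rw [mem_alt_iff, map_mul, map_inv, map_mul, map_inv, hs', hlo]
      rfl)
    rw [mem_alt_iff, map_mul, map_inv, map_mul, map_inv, mul_inv_eq_one] at h1
    exact h1
  have hevens : ∀ s, Equiv.Perm.sign (φ s) = 1 → Equiv.Perm.sign (χ s) = 1 := fun s hs' =>
    (mem_alt_iff _).1 (heven s ((mem_alt_iff _).2 hs'))
  have back : ∀ p : Equiv.Perm (Fin n) × Equiv.Perm (Fin (n - 1)),
      Equiv.Perm.sign p.1 = -1 → Equiv.Perm.sign p.2 = Equiv.Perm.sign (χ l) → p ∈ Φ.range := by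
    rintro ⟨a, b⟩ h1 h2
    have h3 := mul_mem (hpair (a := a * (φ l)⁻¹) (b := b * (χ l)⁻¹)
      (by rw [mem_alt_iff, map_mul, map_inv, h1, hlo]; rfl)
      (by rw [mem_alt_iff, map_mul, map_inv, h2, mul_inv_cancel])) (⟨l, rfl⟩ : Φ l ∈ Φ.range)
    simpa [Φ, MonoidHom.prod_apply] using h3
  rcases Int.units_eq_one_or (Equiv.Perm.sign (χ l)) with hl2 | hl2
  · left
    have : Φ.range = (⊤ : Subgroup (Equiv.Perm (Fin n))).prod (alternatingGroup (Fin (n - 1))) := by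
      refine le_antisymm ?_ fun p hp => ?_
      · rintro _ ⟨s, rfl⟩
        refine ⟨mem_top _, (mem_alt_iff _).2 ?_⟩
        rcases Int.units_eq_one_or (Equiv.Perm.sign (φ s)) with h | h
        · exact hevens s h
        · exact (hodd s h).trans hl2
      · rcases Int.units_eq_one_or (Equiv.Perm.sign p.1) with h | h
        · exact hpair ((mem_alt_iff _).2 h) hp.2
        · exact back p h (((mem_alt_iff _).1 hp.2).trans hl2.symm)
    exact (iso _ this).map fun e => (e.trans (Subgroup.prodEquiv _ _)).trans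
      (Subgroup.topEquiv.prodCongr (MulEquiv.refl _))
  · right
    refine iso _ (le_antisymm ?_ fun p hp => ?_)
    · rintro _ ⟨s, rfl⟩
      show Equiv.Perm.sign (φ s) * Equiv.Perm.sign (χ s) = 1
      rcases Int.units_eq_one_or (Equiv.Perm.sign (φ s)) with h | h
      · rw [h, hevens s h, one_mul]
      · rw [h, hodd s h, hl2]; rfl
    · have hp' : Equiv.Perm.sign p.1 * Equiv.Perm.sign p.2 = 1 := hp
      rcases Int.units_eq_one_or (Equiv.Perm.sign p.1) with h | h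
      · rw [h, one_mul] at hp'
        exact hpair ((mem_alt_iff _).2 h) ((mem_alt_iff _).2 hp')
      · refine back p h ?_
        rw [h] at hp'
        rw [hl2, eq_inv_of_mul_eq_one_right hp']
        rfl

end Hyp

end CfsgLib.Recog.AltSub
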