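import Cfsg.Agent.Lib.Recog.SemidirectSpectrum
import Mathlib.LinearAlgebra.Matrix.GeneralLinearGroup.Defs
import Mathlib.LinearAlgebra.Matrix.Notation
import Mathlib.Data.ZMod.Basic
import Mathlib.NumberTheory.Divisors
import Mathlib.Algebra.Module.ZMod
import Mathlib.Tactic.IntervalCases

/-! Large groups with the element orders of `PGL₂(2)`, `PGL₂(3)` and `PGL₂(9)`. -/

set_option autoImplicit false

namespace CfsgLib.Recog

/-- For `p = 2`. -/
theorem pglTwo_two_unbounded (N : ℕ) :
    ∃ (H : Type) (_ : Group H) (_ : Fintype H), N < Fintype.card H ∧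
      Set.range (orderOf : H → ℕ) = {n | n ∣ 2 ∨ n ∣ 1 ∨ n ∣ 3} := by
  obtain ⟨H, _, _, hN, hr⟩ := exists_large_semidirect ℤˣ (ZMod 3) Nat.prime_three (by decide) N
  refine ⟨H, inferInstance, inferInstance, hN, hr.trans (Set.ext fun n => ?_)⟩
  have h1 : orderOf (1 : ℤˣ) = 1 := orderOf_one
  have h2 : orderOf (-1 : ℤˣ) = 2 := orderOf_eq_prime (by decide) (by decide)
  constructor
  · rintro ⟨g, hg⟩
    rcases Int.units_eq_one_or g with rfl | rfl
    · rw [h1] at hg; rcases hg with rfl | ⟨rfl, -⟩ <;> simp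
    · rw [h2] at hg
      rcases hg with rfl | ⟨rfl, a, ha⟩
      · simp
      · exfalso; revert ha; revert a; decide
  · intro h
    have hn : n = 1 ∨ n = 2 ∨ n = 3 := by
      rcases h with h | h | h
      · rcases (Nat.dvd_prime Nat.prime_two).mp h with e | e <;> simp [e]
      · simp [Nat.dvd_one.mp h]
      · rcases (Nat.dvd_prime Nat.prime_three).mp h with e | e <;> simp [e]
    rcases hn with rfl | rfl | rfl
    · exact ⟨1, Or.inl h1.symm⟩
    · exact ⟨-1, Or.inl h2.symm⟩
    · exact ⟨1, Or.inr ⟨by rw [h1], 1, by rw [h1]; decide⟩⟩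

noncomputable section

/-- The matrices of size `n` over `ZMod m` act on vectors. -/
@[reducible] def glAction (n m : ℕ) : DistribMulAction (GL (Fin n) (ZMod m)) (Fin n → ZMod m) where
  smul g v := Matrix.mulVec g.val v
  one_smul v := Matrix.one_mulVec v
  mul_smul g h v := (Matrix.mulVec_mulVec v g.val h.val).symm
  smul_zero g := Matrix.mulVec_zero _
  smul_add g u v := Matrix.mulVec_add _ u v

end

theorem glTwoTwo_facts : ∀ g : Matrix (Fin 2) (Fin 2) (ZMod 2), g.det ≠ 0 →
    g * g = 1 ∨ (g * g * g = 1 ∧ 1 + g + g * g = 0) := by decide +kernel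

/-- For `p = 3`. -/
theorem pglTwo_three_unbounded (N : ℕ) :
    ∃ (H : Type) (_ : Group H) (_ : Fintype H), N < Fintype.card H ∧
      Set.range (orderOf : H → ℕ) = {n | n ∣ 3 ∨ n ∣ 2 ∨ n ∣ 4} := by
  letI := glAction 2 2
  obtain ⟨H, _, _, hN, hr⟩ := exists_large_semidirect (GL (Fin 2) (ZMod 2)) (Fin 2 → ZMod 2) Nat.prime_two (by decide) N
  refine ⟨H, inferInstance, inferInstance, hN, hr.trans (Set.ext fun n => ?_)⟩
  let a : GL (Fin 2) (ZMod 2) := ⟨!![0, 1; 1, 1], !![1, 1; 1, 0], by decide, by decide⟩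
  let b : GL (Fin 2) (ZMod 2) := ⟨!![1, 1; 0, 1], !![1, 1; 0, 1], by decide, by decide⟩
  haveI : Fact (Nat.Prime 2) := ⟨Nat.prime_two⟩
  haveI : Fact (Nat.Prime 3) := ⟨Nat.prime_three⟩
  have ha : orderOf a = 3 := orderOf_eq_prime (Units.ext (by simp [pow_succ, a]; decide)) (fun h => absurd (congrArg Units.val h) (by simp [a]; decide))
  have hb : orderOf b = 2 := orderOf_eq_prime (Units.ext (by simp [pow_succ, b]; decide)) (fun h => absurd (congrArg Units.val h) (by simp [b]; decide))
  constructor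
  · rintro ⟨g, hg⟩
    have hg0 : g.val.det ≠ 0 := fun e => by
      have := congrArg Matrix.det g.mul_inv
      rw [Matrix.det_mul, e, zero_mul, Matrix.det_one] at this
      exact zero_ne_one this
    rcases glTwoTwo_facts g.val hg0 with h | ⟨h, hnorm⟩
    · have h2 : orderOf g ∣ 2 := orderOf_dvd_of_pow_eq_one (Units.ext (by rw [pow_two]; exact h))
      rcases hg with rfl | ⟨rfl, -⟩
      · exact Or.inr (Or.inl h2)
      · exact Or.inr (Or.inr (Nat.mul_dvd_mul_left 2 h2))
    · have h3 : orderOf g ∣ 3 := orderOf_dvd_of_pow_eq_one (Units.ext (by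
        simp only [pow_succ, pow_zero, one_mul, Units.val_mul, Units.val_one]; exact h))
      rcases hg with rfl | ⟨rfl, v, hv⟩
      · exact Or.inl h3
      · rcases (Nat.dvd_prime Nat.prime_three).mp h3 with e | e
        · exact Or.inr (Or.inl (by rw [e]))
        · exfalso
          rw [e] at hv
          apply hv
          simp only [Finset.sum_range_succ, Finset.sum_range_zero, zero_add]
          change Matrix.mulVec (g ^ 0).val v + Matrix.mulVec (g ^ 1).val v + Matrix.mulVec (g ^ 2).val v = 0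
          rw [← Matrix.add_mulVec, ← Matrix.add_mulVec, pow_zero, pow_one, pow_two, Units.val_one, Units.val_mul, hnorm,
            Matrix.zero_mulVec]
  · intro h
    have hn : n = 1 ∨ n = 2 ∨ n = 3 ∨ n = 4 := by
      rcases h with h | h | h
      · rcases (Nat.dvd_prime Nat.prime_three).mp h with e | e <;> simp [e]
      · rcases (Nat.dvd_prime Nat.prime_two).mp h with e | e <;> simp [e]
      · obtain ⟨k, hk, rfl⟩ := (Nat.dvd_prime_pow Nat.prime_two (m := 2)).mp h
        interval_cases k <;> simp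
    rcases hn with rfl | rfl | rfl | rfl
    · exact ⟨1, Or.inl orderOf_one.symm⟩
    · exact ⟨b, Or.inl hb.symm⟩
    · exact ⟨a, Or.inl ha.symm⟩
    · refine ⟨b, Or.inr ⟨by rw [hb], ![0, 1], ?_⟩⟩
      rw [hb]
      simp only [Finset.sum_range_succ, Finset.sum_range_zero, zero_add]
      change Matrix.mulVec (b ^ 0).val ![0, 1] + Matrix.mulVec (b ^ 1).val ![0, 1] ≠ 0
      rw [pow_zero, pow_one, Units.val_one]
      decide

/-- The fifth root of unity on `GF(81)`. -/
def xNine : GL (Fin 4) (ZMod 3) :=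
  ⟨!![0, 0, 0, 2; 1, 0, 0, 2; 0, 1, 0, 2; 0, 0, 1, 2], !![2, 1, 0, 0; 2, 0, 1, 0; 2, 0, 0, 1; 2, 0, 0, 0], by decide, by decide⟩

/-- The semilinear map of order 8 on `GF(81)`. -/
def yNineMat : Matrix (Fin 4) (Fin 4) (ZMod 3) := !![0, 1, 1, 0; 0, 2, 1, 1; 1, 0, 1, 2; 2, 0, 2, 0]

/-- `yNineMat` as a unit. -/
def yNine : GL (Fin 4) (ZMod 3) := ⟨yNineMat, yNineMat ^ 7, by decide +kernel, by decide +kernel⟩

/-- Powers of an element whose `n`-th power is one, indexed by `ZMod n`. -/
def zmodPowHom {M : Type*} [Monoid M] (n : ℕ) [NeZero n] (x : M) (hx : x ^ n = 1) : Multiplicative (ZMod n) →* M where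
  toFun a := x ^ a.toAdd.val
  map_one' := by simp
  map_mul' a b := by
    rw [toAdd_mul, ZMod.val_add, ← pow_add]
    exact (pow_eq_pow_mod _ hx).symm

theorem xNine_pow : xNine ^ 5 = 1 := Units.ext (by rw [Units.val_pow_eq_pow_val]; decide +kernel)

theorem yNine_pow : yNine ^ 8 = 1 := Units.ext (by rw [Units.val_pow_eq_pow_val]; decide +kernel)

/-- Multiplication by three on `ZMod 5`. -/
def tripleFive : MulAut (Multiplicative (ZMod 5)) where
  toFun a := Multiplicative.ofAdd (3 * a.toAdd)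
  invFun a := Multiplicative.ofAdd (2 * a.toAdd)
  left_inv a := by revert a; decide
  right_inv a := by revert a; decide
  map_mul' := by decide

theorem tripleFive_pow : tripleFive ^ 8 = 1 := MulEquiv.ext (by decide)

/-- The group `5:8`. -/
abbrev fiveEight : Type :=
  Multiplicative (ZMod 5) ⋊[zmodPowHom 8 tripleFive tripleFive_pow] Multiplicative (ZMod 8)

theorem fiveEight_compat : ∀ (b : Multiplicative (ZMod 8)) (a : Multiplicative (ZMod 5)),
    xNine.val ^ ((zmodPowHom 8 tripleFive tripleFive_pow b) a).toAdd.val * yNineMat ^ b.toAdd.val =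
      yNineMat ^ b.toAdd.val * xNine.val ^ a.toAdd.val := by decide +kernel

/-- The representation of `5:8` over `ZMod 3`. -/
def fiveEightRep : fiveEight →* GL (Fin 4) (ZMod 3) :=
  SemidirectProduct.lift (zmodPowHom 5 xNine xNine_pow) (zmodPowHom 8 yNine yNine_pow) (fun b => by
    refine MonoidHom.ext fun a => ?_
    apply eq_mul_inv_of_mul_eq
    apply Units.ext
    simpa [zmodPowHom, yNine] using fiveEight_compat b a)

theorem fiveEight_fpf : ∀ (a : ZMod 5) (b : ZMod 8), (a ≠ 0 ∨ b ≠ 0) → ∀ v : Fin 4 → ZMod 3,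
    Matrix.mulVec (xNine.val ^ a.val * yNineMat ^ b.val) v = v → v = 0 := by decide +kernel

theorem fiveEight_pow : ∀ (a : Multiplicative (ZMod 5)) (b : Multiplicative (ZMod 8)),
    (⟨a, b⟩ : fiveEight) ^ 8 = 1 ∨ (⟨a, b⟩ : fiveEight) ^ 10 = 1 := by decide +kernel

/-- For nine. -/
theorem pglTwo_nine_unbounded (N : ℕ) :
    ∃ (H : Type) (_ : Group H) (_ : Fintype H), N < Fintype.card H ∧
      Set.range (orderOf : H → ℕ) = {n | n ∣ 3 ∨ n ∣ 8 ∨ n ∣ 10} := by
  letI := glAction 4 3
  letI : DistribMulAction fiveEight (Fin 4 → ZMod 3) := DistribMulAction.compHom _ fiveEightRep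
  haveI : Finite fiveEight := Finite.of_equiv _ SemidirectProduct.equivProd.symm
  haveI : Nontrivial (Fin 4 → ZMod 3) := inferInstance
  obtain ⟨H, _, _, hN, hr⟩ := exists_large_semidirect fiveEight (Fin 4 → ZMod 3) Nat.prime_three (by decide +kernel) N
  refine ⟨H, inferInstance, inferInstance, hN, hr.trans (Set.ext fun n => ?_)⟩
  have hfix : ∀ g : fiveEight, g ≠ 1 → ∀ v : Fin 4 → ZMod 3, g • v = v → v = 0 := by
    rintro ⟨a, b⟩ hg v hv
    refine fiveEight_fpf a.toAdd b.toAdd ?_ v ?_
    · by_contra h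
      push Not at h
      exact hg (SemidirectProduct.ext (Multiplicative.toAdd.injective h.1) (Multiplicative.toAdd.injective h.2))
    · change Matrix.mulVec ((fiveEightRep ⟨a, b⟩ : GL (Fin 4) (ZMod 3)).val) v = v at hv
      have e : (fiveEightRep ⟨a, b⟩ : GL (Fin 4) (ZMod 3)).val = xNine.val ^ a.toAdd.val * yNineMat ^ b.toAdd.val := rfl
      rwa [e] at hv
  have hnorm : ∀ g : fiveEight, g ≠ 1 → ∀ v : Fin 4 → ZMod 3, ∑ i ∈ Finset.range (orderOf g), g ^ i • v = 0 := by
    intro g hg v
    apply hfix g hg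
    rw [Finset.smul_sum]
    simp only [← mul_smul, ← pow_succ']
    have h1 := Finset.sum_range_succ' (fun i => g ^ i • v) (orderOf g)
    have h2 := Finset.sum_range_succ (fun i => g ^ i • v) (orderOf g)
    rw [h2, pow_orderOf_eq_one, pow_zero] at h1
    exact (add_right_cancel h1).symm
  constructor
  · rintro ⟨g, hg⟩
    rcases hg with rfl | ⟨rfl, v, hv⟩
    · rcases fiveEight_pow g.left g.right with h | h
      · exact Or.inr (Or.inl (orderOf_dvd_of_pow_eq_one h))
      · exact Or.inr (Or.inr (orderOf_dvd_of_pow_eq_one h))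
    · have : g = 1 := by by_contra h; exact hv (hnorm g h v)
      rw [this, orderOf_one]; exact Or.inl (dvd_refl _)
  · rintro (h | h | h)
    · rcases (Nat.dvd_prime Nat.prime_three).mp h with rfl | rfl
      · exact ⟨1, Or.inl orderOf_one.symm⟩
      · refine ⟨1, Or.inr ⟨by rw [orderOf_one], fun _ => 1, ?_⟩⟩
        rw [orderOf_one, Finset.sum_range_one, pow_zero, one_smul]
        intro e; exact absurd (congrFun e 0) (by decide)
    · let y : fiveEight := ⟨1, Multiplicative.ofAdd 1⟩
      have hy : orderOf y = 8 := orderOf_eq_prime_pow (p := 2) (n := 2) (hp := ⟨Nat.prime_two⟩) (by decide +kernel) (by decide +kernel)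
      exact ⟨y ^ (orderOf y / n), Or.inl (orderOf_pow_orderOf_div (orderOf_pos y).ne' (h.trans (dvd_of_eq hy.symm))).symm⟩
    · let x : fiveEight := ⟨Multiplicative.ofAdd 1, Multiplicative.ofAdd 4⟩
      have hx : orderOf x = 10 := (orderOf_eq_iff (by norm_num)).mpr ⟨by decide +kernel, by
        intro m hm hm0; interval_cases m <;> decide +kernel⟩
      exact ⟨x ^ (orderOf x / n), Or.inl (orderOf_pow_orderOf_div (orderOf_pos x).ne' (h.trans (dvd_of_eq hx.symm))).symm⟩

end CfsgLib.Recog
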