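import Cfsg.Agent.Lib.Recog.IcosahedralSevenCheck
import Cfsg.Agent.Lib.Recog.SemidirectSpectrum
import Cfsg.Agent.Lib.Recog.PGLTwoSmall
import Mathlib.Algebra.BigOperators.Pi
import Mathlib.GroupTheory.Index

/-!
Groups `(V₇ × V₃) ⋊ 2.S₅` with the element orders of `A₁₀`.
-/

set_option autoImplicit false

namespace CfsgLib.Recog

open IcoSeven

/-- The first generator. -/
def icoSevenA : GL (Fin 4) (ZMod 7) :=
  ⟨dec codeA, dec codeA * dec codeA * dec codeA * (dec codeA * dec codeA * dec codeA * dec codeA),
    by simpa [mul_assoc] using codeA_pow_eight, by simpa [mul_assoc] using codeA_pow_eight⟩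

/-- The second generator. -/
def icoSevenB : GL (Fin 4) (ZMod 7) :=
  ⟨dec codeB, dec codeB * dec codeB, codeB_pow_three.1, codeB_pow_three.2⟩

/-- Criterion for the order of a unit by a decidable check on its powers. -/
theorem orderOf_check {M : Type*} [Monoid M] (g : M) (n : ℕ) (hn : 0 < n)
    (h : g ^ n = 1 ∧ ∀ k : Fin n, k.1 = 0 ∨ g ^ k.1 ≠ 1) : orderOf g = n :=
  (orderOf_eq_iff hn).mpr ⟨h.1, fun k hk hk0 => (h.2 ⟨k, hk⟩).resolve_left (by simp; omega)⟩

/-- `2.S₅` in `GL(4,7)`. -/
def icoSeven : Subgroup (GL (Fin 4) (ZMod 7)) := Subgroup.closure {icoSevenA, icoSevenB}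

theorem icoSeven_mem {g : GL (Fin 4) (ZMod 7)} (hg : g ∈ icoSeven) : ∃ i : Fin 240, g.val = el i := by
  have hstep : ∀ s ∈ ({icoSevenA, icoSevenB} : Set (GL (Fin 4) (ZMod 7))), ∀ g : GL (Fin 4) (ZMod 7),
      (∃ i : Fin 240, g.val = el i) → ∃ i : Fin 240, (g * s).val = el i := by
    rintro s (rfl | rfl) g ⟨i, hi⟩
    · exact ⟨⟨succA.getD i 0, (succ_check i).1⟩, by rw [Units.val_mul, hi]; exact (succ_check i).2.2.1⟩
    · exact ⟨⟨succB.getD i 0, (succ_check i).2.1⟩, by rw [Units.val_mul, hi]; exact (succ_check i).2.2.2⟩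
  have hpow : ∀ s ∈ ({icoSevenA, icoSevenB} : Set (GL (Fin 4) (ZMod 7))), ∀ (k : ℕ) (g : GL (Fin 4) (ZMod 7)),
      (∃ i : Fin 240, g.val = el i) → ∃ i : Fin 240, (g * s ^ k).val = el i := by
    intro s hs k
    induction k with
    | zero => intro g hg; simpa using hg
    | succ k ih => intro g hg; rw [pow_succ, ← mul_assoc]; exact hstep s hs _ (ih g hg)
  induction hg using Subgroup.closure_induction_right with
  | one => exact ⟨⟨0, by norm_num⟩, el_zero.symm⟩
  | mul_right g _ s hs ih => exact hstep s hs g ih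
  | mul_inv_cancel g _ s hs ih =>
    have h8 : icoSevenA ^ 8 = 1 := Units.ext (by
      have := codeA_pow_eight
      simp only [pow_succ, pow_zero, one_mul, Units.val_mul, Units.val_one, icoSevenA, mul_assoc] at this ⊢
      exact this)
    have h3 : icoSevenB ^ 3 = 1 := Units.ext (by
      simp only [pow_succ, pow_zero, one_mul, Units.val_mul, Units.val_one, icoSevenB]
      exact codeB_pow_three.2)
    rcases hs with rfl | rfl
    · rw [show icoSevenA⁻¹ = icoSevenA ^ 7 from inv_eq_of_mul_eq_one_right (by rw [← pow_succ']; exact h8)]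
      exact hpow _ (Or.inl rfl) 7 g ih
    · rw [show icoSevenB⁻¹ = icoSevenB ^ 2 from inv_eq_of_mul_eq_one_right (by rw [← pow_succ']; exact h3)]
      exact hpow _ (Or.inr rfl) 2 g ih

theorem el_chain (i : Fin 240) (hpos : 0 < (chain i).length) :
    ∀ k : ℕ, el i ^ k = el ((chain i).getD (k % (chain i).length) 0) := by
  intro k
  induction k with
  | zero => rw [Nat.zero_mod, pow_zero, chain_zero, el_zero]
  | succ k ih =>
    rw [pow_succ, ih, chain_step i ⟨k % (chain i).length, Nat.mod_lt _ hpos⟩]
    simp only [Nat.mod_add_mod]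

/-- Every non-identity element acts without fixed points, and the only involution is `-1`. -/
theorem icoSeven_facts {g : GL (Fin 4) (ZMod 7)} (hg : g ∈ icoSeven) (h1 : g ≠ 1) :
    orderOf g ∈ [2, 3, 4, 5, 6, 8, 10, 12] ∧ ∑ i ∈ Finset.range (orderOf g), (g ^ i).val = 0 ∧
      (orderOf g % 2 = 1 ∨ g ^ (orderOf g / 2) = -1) := by
  obtain ⟨i, hi⟩ := icoSeven_mem hg
  have hi0 : i.1 ≠ 0 := fun e => h1 (Units.ext (by rw [hi, e, el_zero]; rfl))
  have hlen := (chain_length i).resolve_left hi0
  set o := (chain i).length with ho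
  have hpos : 0 < o := by
    simp only [List.mem_cons, List.not_mem_nil, or_false] at hlen; omega
  have hval : ∀ k : ℕ, (g ^ k).val = el ((chain i).getD (k % o) 0) := fun k => by
    rw [Units.val_pow_eq_pow_val, hi]; exact el_chain i hpos k
  have hord : orderOf g = o := by
    rw [orderOf_eq_iff hpos]
    refine ⟨Units.ext (by rw [hval, Nat.mod_self, chain_zero, el_zero, Units.val_one]), fun k hk hk0 e => ?_⟩
    have := (chain_ne_one i ⟨k, hk⟩).resolve_left (by simp; omega)
    apply this
    have h' := congrArg Units.val e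
    rw [hval, Nat.mod_eq_of_lt hk, Units.val_one] at h'
    rw [h', el_zero]
  rw [hord]
  refine ⟨hlen, ?_, ?_⟩
  · ext r c
    rw [Matrix.sum_apply, Matrix.zero_apply]
    have := ((chain_sum i).resolve_left hi0) r c
    rw [← this]
    calc ∑ x ∈ Finset.range o, (g ^ x).val r c = ∑ x ∈ Finset.range o, el ((chain i).getD x 0) r c :=
          Finset.sum_congr rfl fun x hx => by rw [hval, Nat.mod_eq_of_lt (Finset.mem_range.mp hx)]
      _ = ((List.range o).map (fun x => el ((chain i).getD x 0) r c)).sum := by
          rw [← List.sum_toFinset _ (List.nodup_range (n := o)), List.toFinset_range]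
      _ = ((chain i).map (fun j => el j r c)).sum := by
          congr 1
          apply List.ext_getElem (by simp [ho])
          intro n h1 h2
          simp at h1 h2 ⊢
          simp [h2]
  · refine ((chain_half i).resolve_left hi0).imp id fun h => Units.ext ?_
    rw [hval, Nat.mod_eq_of_lt (by omega), h, el_zero, Units.val_neg, Units.val_one]

theorem icoSevenA_mem : icoSevenA ∈ icoSeven := Subgroup.subset_closure (by simp)

theorem icoSevenB_mem : icoSevenB ∈ icoSeven := Subgroup.subset_closure (by simp)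

theorem icoSevenA_four : icoSevenA ^ 4 = -1 := Units.ext (by
  simp only [pow_succ, pow_zero, one_mul, Units.val_mul, Units.val_neg, Units.val_one, icoSevenA]
  exact codeA_pow)

/-- The central involution. -/
def icoSevenZ : icoSeven := ⟨-1, icoSevenA_four ▸ icoSeven.pow_mem icoSevenA_mem 4⟩

/-- Functions on `2.S₅` negated by the central involution. -/
def oddFunctions : AddSubgroup (icoSeven → ZMod 3) where
  carrier := {f | ∀ g, f (g * icoSevenZ) = -f g}
  zero_mem' := fun g => by simp
  add_mem' := fun {a b} ha hb g => by simp [ha g, hb g, add_comm]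
  neg_mem' := fun {a} ha g => by simp [ha g]

theorem icoSevenZ_comm (h : icoSeven) : icoSevenZ * h = h * icoSevenZ :=
  Subtype.ext (Units.ext (by simp [icoSevenZ]))

instance oddFunctionsSMul : SMul icoSeven oddFunctions where
  smul h f := ⟨fun g => (f : icoSeven → ZMod 3) (g * h), fun g => by
    show (f : icoSeven → ZMod 3) (g * icoSevenZ * h) = -(f : icoSeven → ZMod 3) (g * h)
    rw [mul_assoc, icoSevenZ_comm, ← mul_assoc]
    exact f.2 (g * h)⟩

theorem oddFunctions_smul_apply (h : icoSeven) (f : oddFunctions) (g : icoSeven) :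
    ((h • f : oddFunctions) : icoSeven → ZMod 3) g = (f : icoSeven → ZMod 3) (g * h) := rfl

instance oddFunctionsAction : DistribMulAction icoSeven oddFunctions where
  one_smul f := Subtype.ext (funext fun g => by rw [oddFunctions_smul_apply, mul_one])
  mul_smul a b f := Subtype.ext (funext fun g => by
    rw [oddFunctions_smul_apply, oddFunctions_smul_apply, oddFunctions_smul_apply, mul_assoc])
  smul_zero a := Subtype.ext (funext fun g => rfl)
  smul_add a f f' := Subtype.ext (funext fun g => rfl)

theorem oddFunctions_norm (y : icoSeven) (n : ℕ) (f : oddFunctions) (g : icoSeven) :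
    ((∑ i ∈ Finset.range n, y ^ i • f : oddFunctions) : icoSeven → ZMod 3) g =
      ∑ i ∈ Finset.range n, (f : icoSeven → ZMod 3) (g * y ^ i) := by
  rw [AddSubgroup.val_finsetSum, Finset.sum_apply]
  rfl

theorem oddFunctions_norm_even {y : icoSeven} {m : ℕ} (h2 : orderOf y = 2 * m) (hy : y ^ m = icoSevenZ)
    (f : oddFunctions) : ∑ i ∈ Finset.range (orderOf y), y ^ i • f = 0 := by
  refine Subtype.ext (funext fun g => ?_)
  rw [oddFunctions_norm, h2, two_mul, Finset.sum_range_add, ← Finset.sum_add_distrib]
  refine Finset.sum_eq_zero fun i _ => ?_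
  have hc : y ^ (m + i) = y ^ i * icoSevenZ := by rw [pow_add, hy, icoSevenZ_comm]
  rw [hc, ← mul_assoc, f.2 (g * y ^ i), add_neg_cancel]

noncomputable section

/-- The function supported on the centre. -/
def deltaOdd : oddFunctions := ⟨fun g => if g = 1 then 1 else if g = icoSevenZ then -1 else 0, fun g => by
  have hz : (icoSevenZ : icoSeven) ≠ 1 := fun e => by
    have := congrArg (fun g : icoSeven => g.1.val 0 0) e
    simp [icoSevenZ] at this
    exact absurd this (by decide)
  have hzz : icoSevenZ * icoSevenZ = 1 := Subtype.ext (Units.ext (by simp [icoSevenZ]))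
  have h1 : g * icoSevenZ = 1 ↔ g = icoSevenZ := by
    constructor
    · intro h
      calc g = g * icoSevenZ * icoSevenZ := by rw [mul_assoc, hzz, mul_one]
        _ = icoSevenZ := by rw [h, one_mul]
    · rintro rfl; exact hzz
  have h2 : g * icoSevenZ = icoSevenZ ↔ g = 1 := mul_eq_right
  simp only [h1, h2]
  by_cases e1 : g = 1
  · subst e1; simp [hz.symm]
  · by_cases e2 : g = icoSevenZ <;> simp [e1, e2, hz]⟩

theorem deltaOdd_norm {y : icoSeven} (hy : orderOf y % 2 = 1) :
    ∑ i ∈ Finset.range (orderOf y), y ^ i • deltaOdd ≠ 0 := by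
  intro h
  have h' := congrFun (congrArg Subtype.val h) 1
  rw [oddFunctions_norm] at h'
  simp only [one_mul, deltaOdd, AddSubgroup.coe_zero, Pi.zero_apply] at h'
  rw [Finset.sum_eq_single 0] at h'
  · simp at h'
  · intro i hi hi0
    have h1 : y ^ i ≠ 1 := pow_ne_one_of_lt_orderOf hi0 (Finset.mem_range.mp hi)
    have h2 : y ^ i ≠ icoSevenZ := fun e => by
      have hz : icoSevenZ ^ orderOf y = 1 := by rw [← e, ← pow_mul, mul_comm, pow_mul, pow_orderOf_eq_one, one_pow]
      have hzz : icoSevenZ ^ 2 = 1 := Subtype.ext (Units.ext (by simp [icoSevenZ]))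
      rw [show orderOf y = 2 * (orderOf y / 2) + 1 by omega, pow_succ, pow_mul, hzz, one_pow, one_mul] at hz
      have := congrArg (fun g : icoSeven => g.1.val 0 0) hz
      simp [icoSevenZ] at this
      exact absurd this (by decide)
    simp [h1, h2]
  · intro h0; exact absurd (Finset.mem_range.mpr (orderOf_pos y)) h0

/-- For every bound there is a larger group with the element orders of `A₁₀`. -/
theorem altTen_unbounded (N : ℕ) :
    ∃ (H : Type) (_ : Group H) (_ : Fintype H), N < Fintype.card H ∧
      Set.range (orderOf : H → ℕ) = {1, 2, 3, 4, 5, 6, 7, 8, 9, 10, 12, 15, 21} := by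
  classical
  letI := glAction 4 7
  haveI : Finite icoSeven := inferInstance
  let A := Fin (N + 1) → (Fin 4 → ZMod 7) × oddFunctions
  let H := Multiplicative A ⋊[mulAutOfAction icoSeven A] icoSeven
  haveI : Fact (1 < 7) := ⟨by norm_num⟩
  haveI : Finite A := inferInstance
  haveI : Finite (Multiplicative A) := Finite.of_equiv A Multiplicative.ofAdd
  haveI : Finite H := Finite.of_equiv _ SemidirectProduct.equivProd.symm
  have h7 : ∀ v : Fin 4 → ZMod 7, 7 • v = 0 := fun v => funext fun i => by
    rw [Pi.smul_apply, nsmul_eq_mul]; exact mul_eq_zero_of_left (by decide) _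
  have h3 : ∀ f : oddFunctions, 3 • f = 0 := fun f => Subtype.ext (funext fun i => by
    simp only [AddSubgroup.coe_nsmul, Pi.smul_apply, nsmul_eq_mul, AddSubgroup.coe_zero, Pi.zero_apply]
    exact mul_eq_zero_of_left (by decide) _)
  have hnorm7 : ∀ g : icoSeven, g ≠ 1 → ∀ v : Fin 4 → ZMod 7, ∑ i ∈ Finset.range (orderOf g), g ^ i • v = 0 := by
    intro g hg v
    have := (icoSeven_facts g.2 (fun e => hg (Subtype.ext e))).2.1
    rw [Subgroup.orderOf_coe] at this
    calc ∑ i ∈ Finset.range (orderOf g), g ^ i • v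
        = Matrix.mulVec (∑ i ∈ Finset.range (orderOf g), ((g : GL (Fin 4) (ZMod 7)) ^ i).val) v := by
          rw [Matrix.sum_mulVec]; rfl
      _ = 0 := by rw [this, Matrix.zero_mulVec]
  refine ⟨H, inferInstance, Fintype.ofFinite H, ?_, ?_⟩
  · have h1 : N + 1 < Nat.card A := by
      rw [Nat.card_pi, Finset.prod_const, Finset.card_univ, Fintype.card_fin]
      exact Nat.lt_pow_self Finite.one_lt_card
    have h2 : Nat.card H = Nat.card A * Nat.card icoSeven := SemidirectProduct.card
    have h3 : Nat.card A ≤ Nat.card H := h2 ▸ Nat.le_mul_of_pos_right _ Nat.card_pos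
    rw [@Fintype.card_eq_nat_card H (Fintype.ofFinite H)]
    omega
  · ext n
    constructor
    · rintro ⟨x, rfl⟩
      rw [orderOf_semidirect_norm x]
      set S := ∑ i ∈ Finset.range (orderOf x.right), x.right ^ i • x.left.toAdd with hS
      by_cases hg : x.right = 1
      · have h21 : 21 • S = 0 := funext fun j => Prod.ext
          (by rw [Pi.smul_apply, Prod.smul_fst, show (21 : ℕ) = 3 * 7 by norm_num, mul_smul, h7, smul_zero]; rfl)
          (by rw [Pi.smul_apply, Prod.smul_snd, show (21 : ℕ) = 7 * 3 by norm_num, mul_smul, h3, smul_zero]; rfl)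
        have h := Nat.le_of_dvd (by norm_num) (addOrderOf_dvd_of_nsmul_eq_zero h21)
        have h' := addOrderOf_dvd_of_nsmul_eq_zero h21
        rw [hg, orderOf_one, one_mul]
        generalize addOrderOf S = e at h h'
        interval_cases e <;> first
          | (exfalso; revert h'; decide)
          | simp
      · obtain ⟨hlist, -, heven⟩ := icoSeven_facts x.right.2 (fun e => hg (Subtype.ext e))
        rw [Subgroup.orderOf_coe] at hlist heven
        have hS1 : ∀ j, (S j).1 = 0 := fun j => by
          have := hnorm7 x.right hg (x.left.toAdd j).1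
          rw [hS, Finset.sum_apply, Prod.fst_sum]
          exact this
        have h3S : 3 • S = 0 := funext fun j => Prod.ext
          (by rw [Pi.smul_apply, Prod.smul_fst, hS1, smul_zero]; rfl)
          (by rw [Pi.smul_apply, Prod.smul_snd, h3]; rfl)
        have he := (Nat.dvd_prime Nat.prime_three).mp (addOrderOf_dvd_of_nsmul_eq_zero h3S)
        rcases heven with hodd | hz
        · simp only [List.mem_cons, List.not_mem_nil, or_false] at hlist
          rcases he with he | he <;> rw [he] <;>
            rcases hlist with e | e | e | e | e | e | e | e <;> rw [e] at hodd ⊢ <;> simp at hodd ⊢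
        · have h2 : orderOf x.right = 2 * (orderOf x.right / 2) ∨ orderOf x.right % 2 = 1 := by omega
          rcases h2 with h2 | hodd
          · have hSz : S = 0 := funext fun j => Prod.ext (hS1 j) (by
              rw [hS, Finset.sum_apply, Prod.snd_sum]
              exact oddFunctions_norm_even h2 (Subtype.ext (by rw [Subgroup.coe_pow]; exact hz)) (x.left.toAdd j).2)
            rw [hSz, addOrderOf_zero, mul_one]
            simp only [List.mem_cons, List.not_mem_nil, or_false] at hlist
            rcases hlist with e | e | e | e | e | e | e | e <;> rw [e] <;> simp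
          · simp only [List.mem_cons, List.not_mem_nil, or_false] at hlist
            rcases he with he | he <;> rw [he] <;>
              rcases hlist with e | e | e | e | e | e | e | e <;> rw [e] at hodd ⊢ <;> simp at hodd ⊢
    · intro hn
      suffices h : ∃ m, n ∣ m ∧ m ∈ Set.range (orderOf : H → ℕ) by
        obtain ⟨m, hm, x, rfl⟩ := h
        exact ⟨x ^ (orderOf x / n), orderOf_pow_orderOf_div (orderOf_pos x).ne' hm⟩
      have hinr : ∀ (g : GL (Fin 4) (ZMod 7)) (hg : g ∈ icoSeven) (o : ℕ), orderOf g = o →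
          o ∈ Set.range (orderOf : H → ℕ) := fun g hg o ho =>
        ⟨SemidirectProduct.inr ⟨g, hg⟩, by rw [orderOf_injective _ SemidirectProduct.inr_injective, ← ho, ← Subgroup.orderOf_coe]⟩
      have hdelta : ∀ (g : GL (Fin 4) (ZMod 7)) (hg : g ∈ icoSeven) (o : ℕ), orderOf g = o → o % 2 = 1 →
          o * 3 ∈ Set.range (orderOf : H → ℕ) := by
        intro g hg o ho hodd
        have ho' : orderOf (⟨g, hg⟩ : icoSeven) = o := by rw [← Subgroup.orderOf_coe]; exact ho
        refine ⟨⟨Multiplicative.ofAdd (fun _ => (0, deltaOdd)), ⟨g, hg⟩⟩, ?_⟩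
        rw [orderOf_semidirect_norm]
        show orderOf (⟨g, hg⟩ : icoSeven) * addOrderOf (∑ i ∈ Finset.range (orderOf (⟨g, hg⟩ : icoSeven)), (⟨g, hg⟩ : icoSeven) ^ i • (fun _ => ((0 : Fin 4 → ZMod 7), deltaOdd) : A)) = o * 3
        rw [ho']
        congr 1
        haveI : Fact (Nat.Prime 3) := ⟨Nat.prime_three⟩
        refine addOrderOf_eq_prime (funext fun j => Prod.ext ?_ ?_) fun e => deltaOdd_norm (y := ⟨g, hg⟩) (ho'.symm ▸ hodd) ?_
        · rw [Pi.smul_apply, Prod.smul_fst, Finset.sum_apply, Prod.fst_sum]; simp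
        · rw [Pi.smul_apply, Prod.smul_snd, h3]; rfl
        · have := congrArg Prod.snd (congrFun e 0)
          rw [Finset.sum_apply, Prod.snd_sum] at this
          rw [ho']
          exact this
      have hA : orderOf icoSevenA = 8 := orderOf_eq_prime_pow (p := 2) (n := 2) (hp := ⟨Nat.prime_two⟩)
        (by rw [show 2 ^ 2 = 4 by norm_num, icoSevenA_four]; exact fun e => absurd (congrArg (fun g : GL (Fin 4) (ZMod 7) => g.val 0 0) e) (by simp; decide))
        (by rw [show 2 ^ (2 + 1) = 4 * 2 by norm_num, pow_mul, icoSevenA_four]; exact Units.ext (by simp))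
      have hB : orderOf icoSevenB = 3 := orderOf_eq_prime (hp := ⟨Nat.prime_three⟩)
        (Units.ext (by simp only [pow_succ, pow_zero, one_mul, Units.val_mul, Units.val_one, icoSevenB]; exact codeB_pow_three.2))
        (fun e => absurd (congrArg Units.val e) (by simp only [Units.val_one, icoSevenB]; decide +kernel))
      have hAB := icoSeven.mul_mem icoSevenA_mem icoSevenB_mem
      have hAAB := icoSeven.mul_mem (icoSeven.mul_mem icoSevenA_mem icoSevenA_mem) icoSevenB_mem
      have hAABB := icoSeven.mul_mem hAAB icoSevenB_mem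
      have h12 : orderOf (icoSevenA * icoSevenB) = 12 := orderOf_check _ 12 (by norm_num) (by decide +kernel)
      have h5 : orderOf (icoSevenA * icoSevenA * icoSevenB) = 5 := orderOf_check _ 5 (by norm_num) (by decide +kernel)
      have h10 : orderOf (icoSevenA * icoSevenA * icoSevenB * icoSevenB) = 10 := orderOf_check _ 10 (by norm_num) (by decide +kernel)
      have m21 : 21 ∈ Set.range (orderOf : H → ℕ) := by
        refine ⟨⟨Multiplicative.ofAdd (fun _ => (Pi.single 0 1, deltaOdd)), 1⟩, ?_⟩
        rw [orderOf_semidirect_norm]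
        show orderOf (1 : icoSeven) * addOrderOf (∑ i ∈ Finset.range (orderOf (1 : icoSeven)), (1 : icoSeven) ^ i • (fun _ => (Pi.single 0 1, deltaOdd) : A)) = 21
        rw [orderOf_one, one_mul, Finset.sum_range_one, pow_zero, one_smul]
        have hv : addOrderOf (Pi.single 0 1 : Fin 4 → ZMod 7) = 7 :=
          addOrderOf_eq_prime (hp := ⟨by decide⟩) (h7 _) fun e => absurd (congrFun e 0) (by simp)
        have hf : addOrderOf deltaOdd = 3 :=
          addOrderOf_eq_prime (hp := ⟨Nat.prime_three⟩) (h3 _) fun e =>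
            absurd (congrFun (congrArg Subtype.val e) 1) (by simp [deltaOdd])
        have hp : addOrderOf ((Pi.single 0 1 : Fin 4 → ZMod 7), deltaOdd) = 21 := by
          rw [Prod.addOrderOf_mk, hv, hf]; norm_num
        rw [← hp]
        refine addOrderOf_injective (Pi.constAddMonoidHom (Fin (N + 1)) ((Fin 4 → ZMod 7) × oddFunctions)) ?_ _
        intro a b hab
        exact congrFun hab 0
      simp only [Set.mem_insert_iff, Set.mem_singleton_iff] at hn
      rcases hn with rfl | rfl | rfl | rfl | rfl | rfl | rfl | rfl | rfl | rfl | rfl | rfl | rfl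
      · exact ⟨21, one_dvd _, m21⟩
      · exact ⟨8, by norm_num, hinr _ icoSevenA_mem 8 hA⟩
      · exact ⟨21, by norm_num, m21⟩
      · exact ⟨8, by norm_num, hinr _ icoSevenA_mem 8 hA⟩
      · exact ⟨5, dvd_rfl, hinr _ hAAB 5 h5⟩
      · exact ⟨12, by norm_num, hinr _ hAB 12 h12⟩
      · exact ⟨21, by norm_num, m21⟩
      · exact ⟨8, dvd_rfl, hinr _ icoSevenA_mem 8 hA⟩
      · exact ⟨3 * 3, dvd_rfl, hdelta _ icoSevenB_mem 3 hB rfl⟩
      · exact ⟨10, dvd_rfl, hinr _ hAABB 10 h10⟩
      · exact ⟨12, dvd_rfl, hinr _ hAB 12 h12⟩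
      · exact ⟨5 * 3, dvd_rfl, hdelta _ hAAB 5 h5 rfl⟩
      · exact ⟨21, dvd_rfl, m21⟩

end

end CfsgLib.Recog
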