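import Mathlib.GroupTheory.Perm.Cycle.Type
import Mathlib.GroupTheory.SpecificGroups.Alternating
import Mathlib.Algebra.GCDMonoid.Multiset
import Mathlib.Algebra.GCDMonoid.Nat
import Mathlib.Tactic.IntervalCases

/-! The element orders of `A₁₀`. -/

set_option autoImplicit false

namespace CfsgLib.Recog

/-- Parity of `sum + length` and lcm, for the multisets of integers `≥ 2` of sum at most `n`. -/
def partLcms : ℕ → ℕ → List (ℕ × ℕ)
  | 0, _ => [(0, 1)]
  | fuel + 1, n => ((0, 1) :: (List.range (n + 1)).flatMap (fun k =>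
      if 2 ≤ k then (partLcms fuel (n - k)).map (fun x => ((k + 1 + x.1) % 2, Nat.lcm k x.2)) else [])).eraseDups

theorem mem_partLcms (s : Multiset ℕ) : (∀ x ∈ s, 2 ≤ x) → ∀ fuel n, s.sum ≤ n → n ≤ fuel →
    ((s.sum + Multiset.card s) % 2, s.lcm) ∈ partLcms fuel n := by
  induction s using Multiset.induction_on with
  | empty =>
    intro _ fuel n _ _
    cases fuel with
    | zero => simp [partLcms]
    | succ f =>
      rw [partLcms, List.mem_eraseDups]
      simp
  | cons a t ih =>
    intro h2 fuel n hn hf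
    have ha : 2 ≤ a := h2 a (Multiset.mem_cons_self a t)
    rw [Multiset.sum_cons] at hn
    cases fuel with
    | zero => omega
    | succ f =>
      rw [partLcms, List.mem_eraseDups]
      refine List.mem_cons_of_mem _ (List.mem_flatMap.mpr ⟨a, List.mem_range.mpr (by omega), ?_⟩)
      rw [if_pos ha, List.mem_map]
      refine ⟨_, ih (fun x hx => h2 x (Multiset.mem_cons_of_mem hx)) f (n - a) (by omega) (by omega), ?_⟩
      rw [Multiset.sum_cons, Multiset.card_cons, Multiset.lcm_cons, Prod.mk.injEq]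
      exact ⟨by omega, rfl⟩

theorem partLcms_ten : ∀ x ∈ partLcms 10 10, x.1 = 0 → x.2 ∈ [1, 2, 3, 4, 5, 6, 7, 8, 9, 10, 12, 15, 21] := by
  decide +kernel

/-- The element orders of `A₁₀`. -/
theorem altTen_range :
    Set.range (orderOf : alternatingGroup (Fin 10) → ℕ) = {1, 2, 3, 4, 5, 6, 7, 8, 9, 10, 12, 15, 21} := by
  ext n
  constructor
  · rintro ⟨g, rfl⟩
    rw [← Subgroup.orderOf_coe, ← Equiv.Perm.lcm_cycleType]
    have hs : (g : Equiv.Perm (Fin 10)).cycleType.sum ≤ 10 := by
      rw [Equiv.Perm.sum_cycleType]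
      simpa using Finset.card_le_univ (g : Equiv.Perm (Fin 10)).support
    have hm := mem_partLcms (g : Equiv.Perm (Fin 10)).cycleType (fun x hx => Equiv.Perm.two_le_of_mem_cycleType hx) 10 10 hs le_rfl
    have hsign := Equiv.Perm.mem_alternatingGroup.mp g.2
    rw [Equiv.Perm.sign_of_cycleType, neg_one_pow_eq_one_iff_even (by decide)] at hsign
    have := partLcms_ten _ hm (Nat.even_iff.mp hsign)
    simpa using this
  · intro hn
    let mk : (σ : Equiv.Perm (Fin 10)) → Equiv.Perm.sign σ = 1 → alternatingGroup (Fin 10) := fun σ h =>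
      ⟨σ, Equiv.Perm.mem_alternatingGroup.mpr h⟩
    suffices h : ∃ m, n ∣ m ∧ m ∈ Set.range (orderOf : alternatingGroup (Fin 10) → ℕ) by
      obtain ⟨m, hm, x, rfl⟩ := h
      exact ⟨x ^ (orderOf x / n), orderOf_pow_orderOf_div (orderOf_pos x).ne' hm⟩
    have mem : ∀ (m : ℕ) (σ : Equiv.Perm (Fin 10)), 0 < m → Equiv.Perm.sign σ = 1 → σ ^ m = 1 →
        (∀ k, k < m → 0 < k → σ ^ k ≠ 1) → m ∈ Set.range (orderOf : alternatingGroup (Fin 10) → ℕ) :=
      fun m σ h0 hs hp hk => ⟨mk σ hs, by rw [← Subgroup.orderOf_coe]; exact (orderOf_eq_iff h0).mpr ⟨hp, hk⟩⟩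
    have h8 := mem 8 ([0, 1, 2, 3, 4, 5, 6, 7].formPerm * [8, 9].formPerm) (by norm_num) (by decide +kernel) (by decide +kernel)
      (fun k hk h0 => by interval_cases k <;> decide +kernel)
    have h9 := mem 9 ([0, 1, 2, 3, 4, 5, 6, 7, 8].formPerm) (by norm_num) (by decide +kernel) (by decide +kernel)
      (fun k hk h0 => by interval_cases k <;> decide +kernel)
    have h10 := mem 10 ([0, 1, 2, 3, 4].formPerm * [5, 6].formPerm * [7, 8].formPerm) (by norm_num) (by decide +kernel) (by decide +kernel)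
      (fun k hk h0 => by interval_cases k <;> decide +kernel)
    have h12 := mem 12 ([0, 1, 2, 3].formPerm * [4, 5, 6].formPerm * [7, 8].formPerm) (by norm_num) (by decide +kernel) (by decide +kernel)
      (fun k hk h0 => by interval_cases k <;> decide +kernel)
    have h15 := mem 15 ([0, 1, 2, 3, 4].formPerm * [5, 6, 7].formPerm) (by norm_num) (by decide +kernel) (by decide +kernel)
      (fun k hk h0 => by interval_cases k <;> decide +kernel)
    have h21 := mem 21 ([0, 1, 2, 3, 4, 5, 6].formPerm * [7, 8, 9].formPerm) (by norm_num) (by decide +kernel) (by decide +kernel)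
      (fun k hk h0 => by interval_cases k <;> decide +kernel)
    simp only [Set.mem_insert_iff, Set.mem_singleton_iff] at hn
    rcases hn with rfl | rfl | rfl | rfl | rfl | rfl | rfl | rfl | rfl | rfl | rfl | rfl | rfl
    · exact ⟨8, one_dvd _, h8⟩
    · exact ⟨8, by norm_num, h8⟩
    · exact ⟨9, by norm_num, h9⟩
    · exact ⟨8, by norm_num, h8⟩
    · exact ⟨10, by norm_num, h10⟩
    · exact ⟨12, by norm_num, h12⟩
    · exact ⟨21, by norm_num, h21⟩
    · exact ⟨8, dvd_rfl, h8⟩
    · exact ⟨9, dvd_rfl, h9⟩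
    · exact ⟨10, dvd_rfl, h10⟩
    · exact ⟨12, dvd_rfl, h12⟩
    · exact ⟨15, dvd_rfl, h15⟩
    · exact ⟨21, dvd_rfl, h21⟩

end CfsgLib.Recog
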