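import Mathlib

/-!
An explicit embedding of `SL(2,5)` in `SL(2,11)`, checked by kernel evaluation.
-/

set_option autoImplicit false

namespace CfsgLib.Recog

open Matrix in
/-- A word for a matrix of determinant one over `𝔽₅`, evaluated at two matrices. -/
def word25 {M : Type} [Monoid M] (s t : M) (a b c d : ZMod 5) : M :=
  let P : ZMod 5 → M := fun n => t ^ n.val
  let inv : ZMod 5 → ZMod 5 := fun x => x ^ 3
  if c = 0 then P a * s * P (inv a) * s ^ 3 * P a * s * P (b * inv a)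
  else P (a * inv c) * P (-(inv c)) * s * P (-c) * s ^ 3 * P (-(inv c)) * P (d * inv c)

abbrev M5 := Matrix (Fin 2) (Fin 2) (ZMod 5)
abbrev M11 := Matrix (Fin 2) (Fin 2) (ZMod 11)

def sFive : M5 := !![0, 4; 1, 0]
def tFive : M5 := !![1, 1; 0, 1]
def sEleven : M11 := !![0, 10; 1, 0]
def tEleven : M11 := !![1, 4; 3, 2]

def im11 (g : M5) : M11 := word25 sEleven tEleven (g 0 0) (g 0 1) (g 1 0) (g 1 1)

set_option maxHeartbeats 8000000 in
theorem word_facts : ∀ a b c d : ZMod 5, a * d - b * c = 1 →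
    word25 sFive tFive a b c d = !![a, b; c, d] ∧
    im11 (!![a, b; c, d] * sFive) = im11 !![a, b; c, d] * im11 sFive ∧
    im11 (!![a, b; c, d] * tFive) = im11 !![a, b; c, d] * im11 tFive ∧
    (im11 !![a, b; c, d] 0 0 * im11 !![a, b; c, d] 1 1 -
      im11 !![a, b; c, d] 0 1 * im11 !![a, b; c, d] 1 0 = 1) ∧
    (im11 !![a, b; c, d] 0 0 + im11 !![a, b; c, d] 1 1 = 2 → a = 1 ∧ b = 0 ∧ c = 0 ∧ d = 1) := by
  decide +kernel

theorem facts25 (g : Matrix.SpecialLinearGroup (Fin 2) (ZMod 5)) :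
    word25 sFive tFive (g.1 0 0) (g.1 0 1) (g.1 1 0) (g.1 1 1) = g.1 ∧
    im11 (g.1 * sFive) = im11 g.1 * im11 sFive ∧
    im11 (g.1 * tFive) = im11 g.1 * im11 tFive ∧
    (im11 g.1).det = 1 ∧ (im11 g.1 0 0 + im11 g.1 1 1 = 2 → g = 1) := by
  have hd : g.1 0 0 * g.1 1 1 - g.1 0 1 * g.1 1 0 = 1 := by rw [← Matrix.det_fin_two]; exact g.2
  obtain ⟨h1, h2, h3, h4, h5⟩ := word_facts _ _ _ _ hd
  rw [← Matrix.eta_fin_two g.1] at h1 h2 h3 h4 h5
  refine ⟨h1, h2, h3, (Matrix.det_fin_two _).trans h4, fun h => Subtype.ext ?_⟩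
  obtain ⟨ha, hb, hc, hd'⟩ := h5 h
  rw [Matrix.SpecialLinearGroup.coe_one, Matrix.eta_fin_two g.1, ha, hb, hc, hd', Matrix.one_fin_two]

theorem im11_one : im11 (1 : M5) = 1 := by decide +kernel

attribute [irreducible] im11

end CfsgLib.Recog
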