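import Mathlib.Data.Nat.Choose.Factorization
import Mathlib.Data.Nat.Choose.Lucas
import Mathlib.Data.Nat.Choose.Cast
import Mathlib.Data.Nat.Prime.Factorial
import Mathlib.Algebra.BigOperators.Group.Finset.Basic
import Mathlib.Tactic.IntervalCases
import Mathlib.Tactic.NormNum.Prime
import Mathlib.Tactic.Linarith
import Mathlib.Tactic.Positivity

/-!
A binomial coefficient has a prime factor that is large against either of its arguments, so
adding the two parts carries in the last digit for the largest prime factor.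
-/

set_option autoImplicit false

namespace CfsgLib.Recog.BinomPrime

theorem pow_le_choose : ∀ m s : ℕ, s ≤ m → m ^ s ≤ s ^ s * m.choose s
  | m, 0, _ => by simp
  | 0, s + 1, h => by omega
  | m + 1, s + 1, h => by
    have ih := pow_le_choose m s (by omega)
    rcases Nat.eq_zero_or_pos s with rfl | hs
    · simp
    have h1 : (m + 1) ^ s ≤ m.choose s * (s + 1) ^ s := by
      refine Nat.le_of_mul_le_mul_left ?_ (pow_pos hs s)
      calc s ^ s * (m + 1) ^ s = (s * (m + 1)) ^ s := (mul_pow s (m + 1) s).symm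
        _ ≤ (m * (s + 1)) ^ s := Nat.pow_le_pow_left (by nlinarith [Nat.succ_le_succ_iff.1 h]) s
        _ = m ^ s * (s + 1) ^ s := mul_pow m (s + 1) s
        _ ≤ s ^ s * m.choose s * (s + 1) ^ s := Nat.mul_le_mul_right _ ih
        _ = s ^ s * (m.choose s * (s + 1) ^ s) := mul_assoc _ _ _
    calc (m + 1) ^ (s + 1) = (m + 1) * (m + 1) ^ s := by rw [pow_succ, mul_comm]
      _ ≤ (m + 1) * (m.choose s * (s + 1) ^ s) := Nat.mul_le_mul_left _ h1
      _ = (m + 1).choose (s + 1) * (s + 1) * (s + 1) ^ s := by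
          rw [← mul_assoc, Nat.add_one_mul_choose_eq m s]
      _ = (s + 1) ^ (s + 1) * (m + 1).choose (s + 1) := by rw [pow_succ]; ring

theorem pow_lt_choose {m s : ℕ} (hs : 2 ≤ s) (hsm : s < m) : m ^ s < s ^ s * m.choose s := by
  obtain ⟨m, rfl⟩ : ∃ k, m = k + 1 := ⟨m - 1, by omega⟩
  obtain ⟨s, rfl⟩ : ∃ k, s = k + 1 := ⟨s - 1, by omega⟩
  have ih := pow_le_choose m s (by omega)
  have h1 : (m + 1) ^ s < m.choose s * (s + 1) ^ s := by
    refine Nat.lt_of_mul_lt_mul_left (a := s ^ s) ?_
    calc s ^ s * (m + 1) ^ s = (s * (m + 1)) ^ s := (mul_pow s (m + 1) s).symm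
      _ < (m * (s + 1)) ^ s := Nat.pow_lt_pow_left (by nlinarith) (by omega)
      _ = m ^ s * (s + 1) ^ s := mul_pow m (s + 1) s
      _ ≤ s ^ s * m.choose s * (s + 1) ^ s := Nat.mul_le_mul_right _ ih
      _ = s ^ s * (m.choose s * (s + 1) ^ s) := mul_assoc _ _ _
  calc (m + 1) ^ (s + 1) = (m + 1) * (m + 1) ^ s := by rw [pow_succ, mul_comm]
    _ < (m + 1) * (m.choose s * (s + 1) ^ s) := Nat.mul_lt_mul_of_pos_left h1 (Nat.succ_pos m)
    _ = (m + 1).choose (s + 1) * (s + 1) * (s + 1) ^ s := by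
        rw [← mul_assoc, Nat.add_one_mul_choose_eq m s]
    _ = (s + 1) ^ (s + 1) * (m + 1).choose (s + 1) := by rw [pow_succ]; ring

/-- The number of primes up to `s`. -/
def cnt (s : ℕ) : ℕ := ((Finset.range (s + 1)).filter Nat.Prime).card

theorem cnt_add_two {s : ℕ} (hs : 2 ≤ s) : cnt (s + 2) ≤ cnt s + 1 := by
  unfold cnt
  rw [Finset.range_add_one (n := s + 1 + 1), Finset.range_add_one (n := s + 1)]
  rw [Finset.filter_insert, Finset.filter_insert]
  by_cases h1 : Nat.Prime (s + 1) <;> by_cases h2 : Nat.Prime (s + 1 + 1)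
  · exfalso
    have o1 := h1.eq_two_or_odd
    have o2 := h2.eq_two_or_odd
    omega
  all_goals
    simp only [h1, h2, if_true, if_false]
    first
      | exact Finset.card_insert_le _ _
      | exact Nat.le_succ _

theorem cnt_le : ∀ s, 2 ≤ s → s ≠ 3 → s ≠ 5 → s ≠ 7 → 2 * cnt s ≤ s := by
  intro s
  induction s using Nat.strong_induction_on with
  | _ s ih =>
    intro h2 h3 h5 h7
    by_cases hb : s ≤ 9
    · interval_cases s <;> first | omega | decide
    · obtain ⟨t, rfl⟩ : ∃ t, s = t + 2 := ⟨s - 2, by omega⟩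
      have := cnt_add_two (s := t) (by omega)
      have := ih t (by omega) (by omega) (by omega) (by omega) (by omega)
      omega

theorem choose_large_small {m : ℕ} :
    (9 ≤ m → m < 27 → m ^ 2 < m.choose 3) ∧ (25 ≤ m → m < 56 → m ^ 3 < m.choose 5) ∧
      (49 ≤ m → m < 94 → m ^ 4 < m.choose 7) := by
  have key : ∀ s e : ℕ, s.factorial * m ^ e < m.descFactorial s → m ^ e < m.choose s := by
    intro s e h
    rw [Nat.descFactorial_eq_factorial_mul_choose] at h
    exact Nat.lt_of_mul_lt_mul_left h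
  refine ⟨fun h1 h2 => key 3 2 ?_, fun h1 h2 => key 5 3 ?_, fun h1 h2 => key 7 4 ?_⟩ <;>
    interval_cases m <;> norm_num [Nat.descFactorial_succ, Nat.factorial]

theorem pow_cnt_lt_choose {m s : ℕ} (hs : 2 ≤ s) (hsm : s * s ≤ m) : m ^ cnt s < m.choose s := by
  have hlt : s < m := by nlinarith
  have hb := pow_lt_choose hs hlt
  by_cases h : s = 3 ∨ s = 5 ∨ s = 7
  · obtain ⟨s3, s5, s7⟩ := choose_large_small (m := m)
    rcases h with rfl | rfl | rfl
    · rw [show cnt 3 = 2 by decide]
      by_cases hm : m < 27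
      · exact s3 (by omega) hm
      · refine Nat.lt_of_mul_lt_mul_left (a := 3 ^ 3) (lt_of_le_of_lt ?_ hb)
        calc 3 ^ 3 * m ^ 2 ≤ m * m ^ 2 := Nat.mul_le_mul_right _ (by omega)
          _ = m ^ 3 := by ring
    · rw [show cnt 5 = 3 by decide]
      by_cases hm : m < 56
      · exact s5 (by omega) hm
      · refine Nat.lt_of_mul_lt_mul_left (a := 5 ^ 5) (lt_of_le_of_lt ?_ hb)
        calc 5 ^ 5 * m ^ 3 ≤ (m * m) * m ^ 3 := Nat.mul_le_mul_right _
              (le_trans (by norm_num) (Nat.mul_le_mul (not_lt.1 hm) (not_lt.1 hm)))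
          _ = m ^ 5 := by ring
    · rw [show cnt 7 = 4 by decide]
      by_cases hm : m < 94
      · exact s7 (by omega) hm
      · refine Nat.lt_of_mul_lt_mul_left (a := 7 ^ 7) (lt_of_le_of_lt ?_ hb)
        calc 7 ^ 7 * m ^ 4 ≤ (m ^ 3) * m ^ 4 := Nat.mul_le_mul_right _
              (le_trans (by norm_num) (Nat.pow_le_pow_left (not_lt.1 hm) 3))
          _ = m ^ 7 := by ring
  · push Not at h
    have hc := cnt_le s hs h.1 h.2.1 h.2.2
    have hexp : s ≤ 2 * (s - cnt s) := by omega
    refine Nat.lt_of_mul_lt_mul_left (a := s ^ s) (lt_of_le_of_lt ?_ hb)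
    calc s ^ s * m ^ cnt s ≤ s ^ (2 * (s - cnt s)) * m ^ cnt s :=
          Nat.mul_le_mul_right _ (Nat.pow_le_pow_right (by omega) hexp)
      _ = (s * s) ^ (s - cnt s) * m ^ cnt s := by rw [pow_mul, pow_two]
      _ ≤ m ^ (s - cnt s) * m ^ cnt s := Nat.mul_le_mul_right _ (Nat.pow_le_pow_left hsm _)
      _ = m ^ s := by rw [← pow_add, Nat.sub_add_cancel (by omega)]

theorem choose_mono_half {m a b : ℕ} (hab : a ≤ b) (hb : 2 * b ≤ m) : m.choose a ≤ m.choose b := by
  induction b, hab using Nat.le_induction with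
  | base => exact le_rfl
  | succ b _ ih => exact (ih (by omega)).trans (Nat.choose_le_succ_of_lt_half_left (by omega))

/-- A prime factor that is large against `k` or against the square root of `m`. -/
theorem exists_big_prime {m k : ℕ} (hk : 1 ≤ k) (hkm : 2 * k ≤ m) :
    ∃ p, p.Prime ∧ p ∣ m.choose k ∧ (k < p ∨ m < p * p) := by
  by_contra hcon
  push Not at hcon
  have hpos : 1 < m.choose k := by
    rcases Nat.eq_or_lt_of_le hk with rfl | hk2
    · rw [Nat.choose_one_right]; omega
    · have := Nat.choose_le_middle k m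
      have h1 : m.choose 1 ≤ m.choose k := choose_mono_half (by omega) (by omega)
      rw [Nat.choose_one_right] at h1
      omega
  obtain ⟨p₀, hp₀, hp₀d⟩ := Nat.exists_prime_and_dvd hpos.ne'
  obtain ⟨hk₀, hm₀⟩ := hcon p₀ hp₀ hp₀d
  let s := min k m.sqrt
  have hsp : ∀ p, p.Prime → p ∣ m.choose k → p ≤ s := fun p hp hpd =>
    le_min (hcon p hp hpd).1 (Nat.le_sqrt.2 (hcon p hp hpd).2)
  have hs2 : 2 ≤ s := le_trans hp₀.two_le (hsp p₀ hp₀ hp₀d)
  have hs_sq : s * s ≤ m := le_trans (Nat.mul_self_le_mul_self (min_le_right _ _)) (Nat.sqrt_le m)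
  have hmono : m.choose s ≤ m.choose k := choose_mono_half (min_le_left _ _) (by omega)
  have hne : m.choose k ≠ 0 := by omega
  have hprod : m.choose k ≤ m ^ cnt s := by
    have hsub : (m.choose k).primeFactors ⊆ (Finset.range (s + 1)).filter Nat.Prime := fun p hp => by
      rw [Nat.mem_primeFactors] at hp
      exact Finset.mem_filter.2 ⟨Finset.mem_range.2 (Nat.lt_succ_of_le (hsp p hp.1 hp.2.1)), hp.1⟩
    calc m.choose k = ∏ p ∈ (m.choose k).primeFactors, p ^ (m.choose k).factorization p :=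
          (Nat.prod_factorization_pow_eq_self hne).symm
      _ ≤ m ^ (m.choose k).primeFactors.card :=
          Finset.prod_le_pow_card _ _ _ fun p _ => Nat.pow_factorization_choose_le (by omega)
      _ ≤ m ^ cnt s := Nat.pow_le_pow_right (by omega) (Finset.card_le_card hsub)
  have := pow_cnt_lt_choose hs2 hs_sq
  omega

/-- For the largest prime factor the last digits add with a carry. -/
theorem mod_lt_mod {m k r : ℕ} (hk : 1 ≤ k) (hkm : 2 * k ≤ m) (hr : r.Prime) (hrd : r ∣ m.choose k)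
    (hmax : ∀ p, p.Prime → p ∣ m.choose k → p ≤ r) : m % r < k % r := by
  obtain ⟨p, hp, hpd, hbig⟩ := exists_big_prime hk hkm
  have hpr := hmax p hp hpd
  by_contra hle
  push Not at hle
  have := Fact.mk hr
  have hmod := (Choose.choose_modEq_choose_mod_mul_choose_div_nat (p := r) (n := m) (k := k))
  have h0 : r ∣ (m % r).choose (k % r) * (m / r).choose (k / r) := by
    rw [Nat.dvd_iff_mod_eq_zero, ← hmod, Nat.mod_eq_zero_of_dvd]
    exact hrd
  rcases hr.dvd_mul.1 h0 with h | h
  · have h1 : r ∣ (m % r).factorial :=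
      h.trans (Dvd.intro _ (by rw [← Nat.choose_mul_factorial_mul_factorial hle, mul_assoc]))
    have := (Nat.Prime.dvd_factorial hr).1 h1
    have := Nat.mod_lt m hr.pos
    omega
  · have hkd : k / r ≤ m / r := Nat.div_le_div_right (by omega)
    rcases hbig with hkp | hmp
    · rw [Nat.div_eq_of_lt (show k < r by omega), Nat.choose_zero_right] at h
      exact hr.one_lt.ne' (Nat.dvd_one.1 h)
    · have h1 : r ∣ (m / r).factorial :=
        h.trans (Dvd.intro _ (by rw [← Nat.choose_mul_factorial_mul_factorial hkd, mul_assoc]))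
      have h2 := (Nat.Prime.dvd_factorial hr).1 h1
      have h3 : m / r < r := Nat.div_lt_of_lt_mul (lt_of_lt_of_le hmp (Nat.mul_le_mul hpr hpr))
      omega

end CfsgLib.Recog.BinomPrime
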