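import Cfsg.Agent.Lib.Recog.SylowCenters
import Mathlib.GroupTheory.Subgroup.Simple
import Mathlib.GroupTheory.GroupAction.Basic
import Mathlib.GroupTheory.Transfer
import Mathlib.Algebra.Group.Subgroup.Pointwise
import Mathlib.GroupTheory.Solvable

/-!
A group acting on a non-abelian simple group `T`, containing all inner automorphisms and
respecting powers and commutation, has some non-maximal stabilizer of a non-identity element.
-/

set_option autoImplicit false

namespace CfsgLib.Recog

open Subgroup MulAction

section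

variable {T H : Type*} [Group T] [Finite T] [IsSimpleGroup T] [Group H] [MulAction H T]

theorem not_centralizer_le_of_ne_one (hna : ¬ IsMulCommutative T) {x : T} (hx : x ≠ 1) :
    centralizer ({x} : Set T) ≠ ⊤ := by
  intro h
  rcases IsSimpleGroup.eq_bot_or_eq_top_of_normal (center T) inferInstance with hc | hc
  · refine hx ((Subgroup.mem_bot).mp (hc ▸ mem_center_iff.mpr fun y => ?_))
    exact mem_centralizer_singleton_iff.mp (h ▸ mem_top y)
  · exact hna ⟨⟨fun a b => mem_center_iff.mp (hc ▸ mem_top b) a⟩⟩

/-- The main technical lemma for extremely primitive groups. -/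
theorem exists_stabilizer_not_coatom (hna : ¬ IsMulCommutative T)
    (h1 : ∀ h : H, h • (1 : T) = 1)
    (hpow : ∀ (h : H) (x : T) (n : ℕ), h • (x ^ n) = (h • x) ^ n)
    (hcomm : ∀ (h : H) (x y : T), x * y = y * x → (h • x) * (h • y) = (h • y) * (h • x))
    (hinner : ∀ t : T, ∃ h : H, ∀ x : T, h • x = t * x * t⁻¹)
    (hmax : ∀ x : T, x ≠ 1 → IsCoatom (stabilizer H x)) : False := by
  classical
  choose inn hinn using hinner
  have hinnfix : ∀ t x : T, inn t ∈ stabilizer H x ↔ t * x = x * t := fun t x => by
    rw [mem_stabilizer_iff, hinn, mul_inv_eq_iff_eq_mul]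
  -- centralizers are determined by stabilizers
  have hCS : ∀ x y : T, stabilizer H x ≤ stabilizer H y →
      centralizer ({x} : Set T) ≤ centralizer ({y} : Set T) := fun x y h t ht =>
    mem_centralizer_singleton_iff.mpr
      ((hinnfix t y).mp (h ((hinnfix t x).mpr (mem_centralizer_singleton_iff.mp ht))))
  have hne_top : ∀ x : T, x ≠ 1 → stabilizer H x ≠ ⊤ := fun x hx => (hmax x hx).1
  have hSeq : ∀ x y : T, x ≠ 1 → y ≠ 1 → stabilizer H x ≤ stabilizer H y →
      stabilizer H x = stabilizer H y := fun x y hx hy hle => by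
    by_contra hne
    exact hne_top y hy ((hmax x hx).2 _ (lt_of_le_of_ne hle hne))
  have hpowC : ∀ (x : T) (m : ℕ), x ≠ 1 → x ^ m ≠ 1 →
      stabilizer H (x ^ m) = stabilizer H x ∧
        centralizer ({x ^ m} : Set T) = centralizer ({x} : Set T) := fun x m hx hm => by
    have e := hSeq x (x ^ m) hx hm fun h hh => by
      rw [mem_stabilizer_iff] at hh ⊢; rw [hpow, hh]
    exact ⟨e.symm, le_antisymm (hCS _ _ e.ge) (hCS _ _ e.le)⟩
  -- centralizers are self-normalizing
  have hself : ∀ x : T, x ≠ 1 → normalizer (centralizer ({x} : Set T) : Set T) ≤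
      centralizer ({x} : Set T) := by
    intro x hx
    let C := centralizer ({x} : Set T)
    let R : Subgroup H :=
    { carrier := {h | ∀ y, y ∈ C ↔ h • y ∈ C}
      one_mem' := fun y => by rw [one_smul]
      mul_mem' := fun {a b} ha hb y => by rw [mul_smul, hb y, ha (b • y)]
      inv_mem' := fun {a} ha y => by
        rw [ha (a⁻¹ • y), smul_inv_smul] }
    have hle : stabilizer H x ≤ R := by
      intro h hh y
      rw [mem_stabilizer_iff] at hh
      constructor
      · intro hy
        refine mem_centralizer_singleton_iff.mpr ?_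
        have := hcomm h _ _ (mem_centralizer_singleton_iff.mp hy)
        rwa [hh] at this
      · intro hy
        refine mem_centralizer_singleton_iff.mpr ?_
        have h' : h⁻¹ • x = x := by rw [inv_smul_eq_iff, hh]
        have := hcomm h⁻¹ _ _ (mem_centralizer_singleton_iff.mp hy)
        rwa [inv_smul_smul, h'] at this
    have hRtop : R ≠ ⊤ := by
      intro htop
      have hn : C.Normal := ⟨fun y hy t => by
        have := (show inn t ∈ R from htop ▸ mem_top _) y
        rw [hinn] at this
        exact this.mp hy⟩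
      rcases IsSimpleGroup.eq_bot_or_eq_top_of_normal C hn with hc | hc
      · exact hx (Subgroup.mem_bot.mp (hc ▸ (mem_centralizer_singleton_iff.mpr rfl : x ∈ C)))
      · exact not_centralizer_le_of_ne_one hna hx hc
    have hR : R = stabilizer H x := by
      by_contra hne
      exact hRtop ((hmax x hx).2 R (lt_of_le_of_ne hle (Ne.symm hne)))
    intro t ht
    refine mem_centralizer_singleton_iff.mpr ((hinnfix t x).mp (hR ▸ fun y => ?_))
    rw [hinn]
    exact mem_normalizer_iff.mp ht y
  -- commuting elements of coprime order have equal centralizers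
  have hcop : ∀ x y : T, x ≠ 1 → y ≠ 1 → x * y = y * x → (orderOf x).Coprime (orderOf y) →
      centralizer ({x} : Set T) = centralizer ({y} : Set T) := by
    intro x y hx hy hxy hc
    have hc' : Commute x y := hxy
    have hz : x * y ≠ 1 := fun e => by
      have h2 := hc
      rw [eq_inv_of_mul_eq_one_left e, orderOf_inv] at h2
      exact hy (orderOf_eq_one_iff.mp ((Nat.coprime_self _).mp h2))
    have hxz : (x * y) ^ orderOf y = x ^ orderOf y := by
      rw [hc'.mul_pow, pow_orderOf_eq_one, mul_one]
    have hyz : (x * y) ^ orderOf x = y ^ orderOf x := by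
      rw [hc'.mul_pow, pow_orderOf_eq_one, one_mul]
    have hx1 : x ^ orderOf y ≠ 1 := fun e => hx (orderOf_eq_one_iff.mp
      (hc.eq_one_of_dvd (orderOf_dvd_of_pow_eq_one e)))
    have hy1 : y ^ orderOf x ≠ 1 := fun e => hy (orderOf_eq_one_iff.mp
      (hc.symm.eq_one_of_dvd (orderOf_dvd_of_pow_eq_one e)))
    rw [← (hpowC x _ hx hx1).2, ← (hpowC y _ hy hy1).2, ← hxz, ← hyz,
      (hpowC _ _ hz (hxz ▸ hx1)).2, (hpowC _ _ hz (hyz ▸ hy1)).2]
  -- abelian centralizers do not occur
  have hnab : ∀ x : T, x ≠ 1 → ¬ ∀ a ∈ centralizer ({x} : Set T),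
      ∀ b ∈ centralizer ({x} : Set T), a * b = b * a := by
    intro x hx hab
    obtain ⟨p, hp, hpd⟩ := Nat.exists_prime_and_dvd (mt orderOf_eq_one_iff.mp hx)
    have : Fact p.Prime := ⟨hp⟩
    set w := x ^ (orderOf x / p) with hwdef
    have hw : orderOf w = p := orderOf_pow_orderOf_div (orderOf_pos x).ne' hpd
    have hw1 : w ≠ 1 := fun e => hp.ne_one (by rw [← hw, e, orderOf_one])
    have hCw : centralizer ({w} : Set T) = centralizer ({x} : Set T) := (hpowC x _ hx hw1).2
    set C := centralizer ({x} : Set T) with hC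
    have hwC : w ∈ C := hCw ▸ mem_centralizer_singleton_iff.mpr rfl
    obtain ⟨P, hP⟩ := (IsPGroup.of_card (show Nat.card (zpowers w) = p ^ 1 by
      rw [Nat.card_zpowers, hw, pow_one])).exists_le_sylow
    have hwP : w ∈ P := hP (mem_zpowers w)
    have : Nontrivial P := ⟨⟨⟨w, hwP⟩, 1, fun e => hw1 (congrArg Subtype.val e)⟩⟩
    have : Nontrivial (center (P : Subgroup T)) := P.2.center_nontrivial
    obtain ⟨⟨⟨z, hzP⟩, hzc'⟩, hzne⟩ := exists_ne (1 : center (P : Subgroup T))
    have hz1 : z ≠ 1 := fun e => hzne (Subtype.ext (Subtype.ext e))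
    have hzc : ∀ y ∈ P, z * y = y * z := fun y hy =>
      (congrArg Subtype.val (mem_center_iff.mp hzc' ⟨y, hy⟩)).symm
    have hPz : (P : Subgroup T) ≤ centralizer ({z} : Set T) := fun y hy =>
      mem_centralizer_singleton_iff.mpr (hzc y hy).symm
    have hzC : z ∈ C := hCw ▸ mem_centralizer_singleton_iff.mpr (hzc w hwP)
    have hPC : (P : Subgroup T) ≤ C := by
      by_cases hq : ∃ u ∈ C, u ≠ 1 ∧ (orderOf u).Coprime p
      · obtain ⟨u, hu, hu1, hup⟩ := hq
        have hordz : (orderOf z).Coprime (orderOf u) := by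
          obtain ⟨k, hk⟩ := IsPGroup.iff_orderOf.mp P.2 ⟨z, hzP⟩
          rw [Subgroup.orderOf_mk] at hk
          rw [hk]; exact (Nat.Coprime.pow_right k hup).symm
        have e1 := hcop z u hz1 hu1 (hab z hzC u hu) hordz
        have e2 := hcop w u hw1 hu1 (hab w hwC u hu) (hw ▸ hup.symm)
        rw [hCw] at e2
        rw [e2, ← e1]; exact hPz
      · push Not at hq
        have hCp : IsPGroup p C := by
          refine IsPGroup.iff_card.mpr ⟨_, Nat.eq_prime_pow_of_unique_prime_dvd Nat.card_pos.ne' fun {d} hd hdd => ?_⟩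
          by_contra hne
          have : Fact d.Prime := ⟨hd⟩
          obtain ⟨u, hu⟩ := exists_prime_orderOf_dvd_card' d hdd
          refine hq u.1 u.2 (fun e => hd.ne_one ?_) ?_
          · rw [← hu, show u = 1 from Subtype.ext e, orderOf_one]
          · rw [Subgroup.orderOf_coe, hu]; exact (Nat.coprime_primes hd hp).mpr hne
        obtain ⟨Q, hQ⟩ := sylow_of_self_normalizing hCp (hself x hx)
        -- an abelian self-normalizing Sylow subgroup gives a normal complement
        exfalso
        have hN : normalizer ((Q : Subgroup T) : Set T) ≤ centralizer ((Q : Subgroup T) : Set T) := by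
          rw [hQ]
          exact (hself x hx).trans fun a ha => mem_centralizer_iff.mpr fun b hb => hab b hb a ha
        have hcompl := MonoidHom.ker_transferSylow_isComplement' Q hN
        rcases IsSimpleGroup.eq_bot_or_eq_top_of_normal
          (MonoidHom.transferSylow Q hN).ker inferInstance with hk | hk
        · rw [hk, isComplement'_bot_left, hQ] at hcompl
          exact not_centralizer_le_of_ne_one hna hx hcompl
        · rw [hk, isComplement'_top_left, hQ] at hcompl
          exact hx (Subgroup.mem_bot.mp (hcompl ▸ (mem_centralizer_singleton_iff.mpr rfl : x ∈ C)))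
    have hNP : normalizer ((P : Subgroup T) : Set T) ≤ centralizer ((P : Subgroup T) : Set T) := by
      intro t ht
      suffices t ∈ C from mem_centralizer_iff.mpr fun b hb => hab b (hPC hb) t this
      -- `C` is the centralizer of `P`
      have hCP : centralizer ((P : Subgroup T) : Set T) = C := by
        refine le_antisymm (fun a ha => ?_) fun a ha => mem_centralizer_iff.mpr fun b hb =>
          hab b (hPC hb) a ha
        rw [← hCw]
        exact mem_centralizer_singleton_iff.mpr (mem_centralizer_iff.mp ha w hwP).symm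
      apply hself x hx
      show t ∈ normalizer (C : Set T)
      rw [← hCP]
      have ht' := mem_normalizer_iff.mp ht
      refine mem_normalizer_iff.mpr fun y => ?_
      simp only [mem_centralizer_iff]
      constructor
      · intro h b hb
        have hb' : t⁻¹ * b * t ∈ (P : Subgroup T) := by
          rw [ht', show t * (t⁻¹ * b * t) * t⁻¹ = b by group]; exact hb
        have e := h _ hb'
        calc b * (t * y * t⁻¹) = t * ((t⁻¹ * b * t) * y) * t⁻¹ := by group
          _ = t * (y * (t⁻¹ * b * t)) * t⁻¹ := by rw [e]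
          _ = t * y * t⁻¹ * b := by group
      · intro h b hb
        have e := h _ ((ht' b).mp hb)
        calc b * y = t⁻¹ * ((t * b * t⁻¹) * (t * y * t⁻¹)) * t := by group
          _ = t⁻¹ * ((t * y * t⁻¹) * (t * b * t⁻¹)) * t := by rw [e]
          _ = y * b := by group
    have hcompl := MonoidHom.ker_transferSylow_isComplement' P hNP
    rcases IsSimpleGroup.eq_bot_or_eq_top_of_normal
      (MonoidHom.transferSylow P hNP).ker inferInstance with hk | hk
    · rw [hk, isComplement'_bot_left] at hcompl
      exact not_centralizer_le_of_ne_one hna hx (top_le_iff.mp (hcompl ▸ hPC))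
    · rw [hk, isComplement'_top_left] at hcompl
      exact hw1 (Subgroup.mem_bot.mp (hcompl ▸ hwP))
  -- all centralizers are non-abelian Sylow subgroups
  refine not_covered_by_sylow_centers (G := T) fun x hx => ?_
  obtain ⟨p, hp, hpd⟩ := Nat.exists_prime_and_dvd (mt orderOf_eq_one_iff.mp hx)
  have : Fact p.Prime := ⟨hp⟩
  set w := x ^ (orderOf x / p) with hwdef
  have hw : orderOf w = p := orderOf_pow_orderOf_div (orderOf_pos x).ne' hpd
  have hw1 : w ≠ 1 := fun e => hp.ne_one (by rw [← hw, e, orderOf_one])
  have hCw : centralizer ({w} : Set T) = centralizer ({x} : Set T) := (hpowC x _ hx hw1).2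
  set C := centralizer ({x} : Set T) with hC
  have hCp : IsPGroup p C := by
    by_contra hnp
    apply hnab x hx
    obtain ⟨u, q, hq, hqp, hu⟩ : ∃ (u : C) (q : ℕ), q.Prime ∧ q ≠ p ∧ orderOf u = q := by
      by_contra hno
      push Not at hno
      apply hnp
      refine IsPGroup.iff_card.mpr ⟨_, Nat.eq_prime_pow_of_unique_prime_dvd Nat.card_pos.ne' fun {d} hd hdd => ?_⟩
      by_contra hne
      have : Fact d.Prime := ⟨hd⟩
      obtain ⟨u, hu⟩ := exists_prime_orderOf_dvd_card' d hdd
      exact hno u d hd hne hu
    have hu' : orderOf (u : T) = q := by rw [Subgroup.orderOf_coe, hu]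
    have hu1 : (u : T) ≠ 1 := fun e => hq.ne_one (by rw [← hu', e, orderOf_one])
    have huw : (u : T) * w = w * u :=
      mem_centralizer_singleton_iff.mp (hCw.symm ▸ u.2)
    have hCu : centralizer ({(u : T)} : Set T) = C := by
      refine Eq.trans ?_ hCw
      exact hcop _ _ hu1 hw1 huw (by rw [hu', hw]; exact (Nat.coprime_primes hq hp).mpr hqp)
    -- every element of `C` is central in `C`
    intro a ha b hb
    by_cases ha1 : a = 1
    · rw [ha1, one_mul, mul_one]
    have hwC : w ∈ C := hCw ▸ mem_centralizer_singleton_iff.mpr rfl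
    obtain ⟨r, hr, hrd⟩ := Nat.exists_prime_and_dvd (mt orderOf_eq_one_iff.mp ha1)
    set a' := a ^ (orderOf a / r) with ha'def
    have ha' : orderOf a' = r := orderOf_pow_orderOf_div (orderOf_pos a).ne' hrd
    have ha'1 : a' ≠ 1 := fun e => hr.ne_one (by rw [← ha', e, orderOf_one])
    have hCa : centralizer ({a'} : Set T) = centralizer ({a} : Set T) := (hpowC a _ ha1 ha'1).2
    have haC : a' ∈ C := pow_mem ha _
    have hCa' : centralizer ({a'} : Set T) = C := by
      by_cases hrp : r = p
      · rw [← hCu]
        exact hcop _ _ ha'1 hu1 (mem_centralizer_singleton_iff.mp (hCu.symm ▸ haC))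
          (by rw [hu', ha', hrp]; exact (Nat.coprime_primes hp hq).mpr (Ne.symm hqp))
      · rw [← hCw]
        exact hcop _ _ ha'1 hw1 (mem_centralizer_singleton_iff.mp (hCw.symm ▸ haC))
          (by rw [hw, ha']; exact (Nat.coprime_primes hr hp).mpr hrp)
    exact (mem_centralizer_singleton_iff.mp ((hCa.symm.trans hCa').symm ▸ hb)).symm
  obtain ⟨P, hP⟩ := sylow_of_self_normalizing hCp (hself x hx)
  refine ⟨p, P, hp, fun hc => hnab x hx fun a ha b hb => ?_, ?_, fun y hy => ?_⟩
  · exact congrArg Subtype.val (hc.is_comm.comm (⟨a, hP ▸ ha⟩ : (P : Subgroup T)) ⟨b, hP ▸ hb⟩)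
  · show x ∈ (P : Subgroup T)
    exact hP ▸ mem_centralizer_singleton_iff.mpr rfl
  · have : y ∈ C := hP ▸ hy
    exact (mem_centralizer_singleton_iff.mp this).symm

end

end CfsgLib.Recog
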