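import Mathlib

/-! An irreducible cyclic action on a finite abelian `p`-group generates a field. -/

namespace CfsgLib.Recog

variable {A : Type*} [AddCommGroup A] [Finite A]

theorem endIterate_fixed (R : Type*) [Field R] [Fintype R] {p d i : ℕ} (hp : p.Prime)
    (hcard : Fintype.card R = p ^ d) (hi : 0 < i) (h : ∀ r : R, r ^ p ^ i = r) : d ≤ i := by
  classical
  obtain ⟨u, hu⟩ := IsCyclic.exists_generator (α := Rˣ)
  have h1 : orderOf u = p ^ d - 1 := by
    rw [orderOf_eq_card_of_forall_mem_zpowers hu, Nat.card_eq_fintype_card, Fintype.card_units, hcard]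
  have h2 : u ^ (p ^ i - 1) = 1 := by
    have h3 : u ^ p ^ i = u := Units.ext (by rw [Units.val_pow_eq_pow_val]; exact h _)
    rw [← Nat.sub_add_cancel (Nat.one_le_pow i p hp.pos), pow_succ] at h3
    exact mul_eq_right.mp h3
  have h4 := orderOf_dvd_of_pow_eq_one h2
  rw [h1] at h4
  have h5 : 0 < p ^ i - 1 := Nat.sub_pos_of_lt (Nat.one_lt_pow hi.ne' hp.one_lt)
  have h6 := Nat.le_of_dvd h5 h4
  have := Nat.one_le_pow d p hp.pos
  have := Nat.one_le_pow i p hp.pos
  exact (Nat.pow_le_pow_iff_right hp.one_lt).mp (by omega)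

/-- If an automorphism `τ` of prime order acts irreducibly on a group of order `p ^ d`, then its
order is primitive for `p ^ d - 1`, and a normalising automorphism has order dividing `d` on it. -/
theorem irreducible_cyclic_action {p d q : ℕ} (hp : p.Prime) (hcard : Nat.card A = p ^ d) (hd : 0 < d)
    (τ : AddMonoid.End A) (hq : orderOf τ = q)
    (hirr : ∀ W : AddSubgroup A, (∀ x ∈ W, τ x ∈ W) → W = ⊥ ∨ W = ⊤) :
    (∀ i : ℕ, 0 < i → i < d → ¬ q ∣ p ^ i - 1) ∧
    ∀ (σ : (AddMonoid.End A)ˣ) (a : ℕ), (σ : AddMonoid.End A) * τ * ((σ⁻¹ : (AddMonoid.End A)ˣ) : AddMonoid.End A) = τ ^ a →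
      ((σ ^ d : (AddMonoid.End A)ˣ) : AddMonoid.End A) * τ * (((σ ^ d)⁻¹ : (AddMonoid.End A)ˣ) : AddMonoid.End A) = τ := by
  classical
  haveI : Nontrivial A := Finite.one_lt_card_iff_nontrivial.mp (hcard ▸ Nat.one_lt_pow hd.ne' hp.one_lt)
  set R := Subring.closure ({τ} : Set (AddMonoid.End A))
  letI : CommRing R := Subring.closureCommRingOfComm (by rintro x (rfl : x = τ) y (rfl : y = x); rfl)
  have hτ : τ ∈ R := Subring.subset_closure rfl
  haveI : Finite (AddMonoid.End A) := Finite.of_injective (fun f : AddMonoid.End A => (f : A → A)) DFunLike.coe_injective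
  letI : Fintype R := Fintype.ofFinite R
  have hker : ∀ r : R, ∀ x : A, x ≠ 0 → (r : AddMonoid.End A) x = 0 → r = 0 := by
    intro r x hx h0
    have hc : τ * (r : AddMonoid.End A) = (r : AddMonoid.End A) * τ := congrArg Subtype.val (mul_comm (⟨τ, hτ⟩ : R) r)
    rcases hirr (AddMonoidHom.ker (r : AddMonoid.End A)) (fun y hy => by
      change (r : AddMonoid.End A) (τ y) = 0
      have := DFunLike.congr_fun hc y
      change τ ((r : AddMonoid.End A) y) = (r : AddMonoid.End A) (τ y) at this
      rw [← this, show (r : AddMonoid.End A) y = 0 from hy, map_zero]) with h | h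
    · exact absurd ((AddSubgroup.eq_bot_iff_forall _).mp h x h0) hx
    · apply Subtype.ext
      apply DFunLike.ext
      intro y
      have : y ∈ AddMonoidHom.ker (r : AddMonoid.End A) := h ▸ AddSubgroup.mem_top y
      exact this
  obtain ⟨v, hv⟩ := exists_ne (0 : A)
  have hev : Function.Bijective fun r : R => (r : AddMonoid.End A) v := by
    constructor
    · intro r s hrs
      rw [← sub_eq_zero]
      refine hker _ v hv ?_
      change (r : AddMonoid.End A) v - (s : AddMonoid.End A) v = 0
      exact sub_eq_zero.mpr hrs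
    · let E : R →+ A :=
        { toFun := fun r => (r : AddMonoid.End A) v, map_zero' := rfl, map_add' := fun _ _ => rfl }
      have hW : E.range = ⊤ := by
        refine (hirr E.range ?_).resolve_left fun h => hv ?_
        · rintro _ ⟨r, rfl⟩; exact ⟨⟨τ, hτ⟩ * r, rfl⟩
        · exact (AddSubgroup.eq_bot_iff_forall _).mp h v ⟨1, rfl⟩
      exact fun x => (hW.ge (AddSubgroup.mem_top x) : _)
  have hRcard : Fintype.card R = p ^ d := by
    rw [← Nat.card_eq_fintype_card, Nat.card_congr (Equiv.ofBijective _ hev), hcard]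
  haveI : Nontrivial R := Fintype.one_lt_card_iff_nontrivial.mp (hRcard ▸ Nat.one_lt_pow hd.ne' hp.one_lt)
  haveI : NoZeroDivisors R := ⟨fun {r s} hrs => by
    by_contra hcon
    push Not at hcon
    have h1 : (s : AddMonoid.End A) v ≠ 0 := fun h => hcon.2 (hker s v hv h)
    exact hcon.1 (hker r _ h1 (DFunLike.congr_fun (congrArg Subtype.val hrs) v))⟩
  haveI : IsDomain R := NoZeroDivisors.to_isDomain R
  letI : Field R := Fintype.fieldOfDomain R
  haveI : Fact p.Prime := ⟨hp⟩
  haveI : CharP R p := by
    have h1 : (p : R) = 0 := by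
      have h := FiniteField.cast_card_eq_zero R
      rw [hRcard, Nat.cast_pow] at h
      exact eq_zero_of_pow_eq_zero h
    exact (CharP.charP_iff_prime_eq_zero hp).mpr h1
  set t : R := ⟨τ, hτ⟩
  have ht : orderOf t = q := by
    rw [← hq]
    exact (orderOf_injective R.subtype.toMonoidHom Subtype.val_injective t).symm
  -- a ring endomorphism fixing `t` is the identity
  have hext : ∀ f : R →+* R, f t = t → ∀ r, f r = r := by
    intro f hf r
    obtain ⟨r, hr⟩ := r
    induction hr using Subring.closure_induction with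
    | mem x hx => obtain rfl : x = τ := hx; exact hf
    | zero => exact map_zero f
    | one => exact map_one f
    | add x y hx hy ihx ihy =>
      rw [show (⟨x + y, R.add_mem hx hy⟩ : R) = ⟨x, hx⟩ + ⟨y, hy⟩ from rfl, map_add, ihx, ihy]
    | neg x hx ihx => rw [show (⟨-x, R.neg_mem hx⟩ : R) = -⟨x, hx⟩ from rfl, map_neg, ihx]
    | mul x y hx hy ihx ihy =>
      rw [show (⟨x * y, R.mul_mem hx hy⟩ : R) = ⟨x, hx⟩ * ⟨y, hy⟩ from rfl, map_mul, ihx, ihy]
  refine ⟨?_, ?_⟩
  · intro i hi hid hdvd
    have hfix : ∀ r : R, r ^ p ^ i = r := fun r => by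
      have := hext (iterateFrobenius R p i) (by
        rw [iterateFrobenius_def]
        conv_lhs => rw [← Nat.sub_add_cancel (Nat.one_le_pow i p hp.pos), pow_succ,
          orderOf_dvd_iff_pow_eq_one.mp (ht ▸ hdvd), one_mul]) r
      rwa [iterateFrobenius_def] at this
    exact absurd (endIterate_fixed R hp hRcard hi hfix) (not_le.mpr hid)
  · intro σ a hσ
    have hmaps : ∀ r ∈ R, (σ : AddMonoid.End A) * r * ((σ⁻¹ : (AddMonoid.End A)ˣ) : AddMonoid.End A) ∈ R := by
      intro r hr
      induction hr using Subring.closure_induction with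
      | mem x hx => obtain rfl : x = τ := hx; rw [hσ]; exact R.pow_mem hτ a
      | zero => simp
      | one => simp
      | add x y _ _ ihx ihy => rw [mul_add, add_mul]; exact R.add_mem ihx ihy
      | neg x _ ihx => rw [mul_neg, neg_mul]; exact R.neg_mem ihx
      | mul x y _ _ ihx ihy =>
        have := R.mul_mem ihx ihy
        simpa [mul_assoc] using this
    let f : R →+* R :=
      { toFun := fun r => ⟨_, hmaps r r.2⟩
        map_one' := Subtype.ext (by simp)
        map_zero' := Subtype.ext (by simp)
        map_add' := fun r s => Subtype.ext (by simp [mul_add, add_mul])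
        map_mul' := fun r s => Subtype.ext (by simp [mul_assoc]) }
    let F : R ≃+* R := RingEquiv.ofBijective f (Finite.injective_iff_bijective.mp f.injective)
    letI : Algebra (ZMod p) R := ZMod.algebra R p
    let Fa : R ≃ₐ[ZMod p] R := AlgEquiv.ofRingEquiv (f := F) fun x => by
      rw [← ZMod.natCast_zmod_val x, map_natCast, map_natCast]
    have hfin : Module.finrank (ZMod p) R = d := by
      have h := Module.card_eq_pow_finrank (K := ZMod p) (V := R)
      rw [hRcard, ZMod.card] at h
      exact (Nat.pow_right_injective hp.two_le h).symm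
    have hpow : Fa ^ d = 1 := by
      rw [← hfin, ← IsGalois.card_aut_eq_finrank (ZMod p) R]
      exact pow_card_eq_one'
    have hiter : ∀ j : ℕ, ((Fa ^ j) t : AddMonoid.End A) =
        ((σ ^ j : (AddMonoid.End A)ˣ) : AddMonoid.End A) * τ * (((σ ^ j)⁻¹ : (AddMonoid.End A)ˣ) : AddMonoid.End A) := by
      intro j
      induction j with
      | zero => simp [t]
      | succ j ih =>
        rw [pow_succ', AlgEquiv.mul_apply]
        change (σ : AddMonoid.End A) * ((Fa ^ j) t : AddMonoid.End A) * _ = _
        rw [ih, pow_succ' σ]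
        simp [mul_assoc]
    rw [← hiter, hpow]
    rfl

end CfsgLib.Recog
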