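import Cfsg.Agent.Lib.ClassK.SmallSimplePrime
import Cfsg.Agent.Lib.ClassK.OrdersSweep
import Cfsg.Agent.Lib.ClassK.RowSieve
import Cfsg.Agent.Lib.Transfer.PrimeSylow
import Cfsg.Agent.Lib.Transfer.SimpleCount
import Mathlib.Tactic

/-!
# Transitive groups of degree 18 with a normal regular-on-the-rest subgroup of order 17 in a point
stabilizer

Such a group `Y` has a simple normal subgroup of order 2448 of index at most two.
-/

set_option autoImplicit false
set_option linter.unusedSectionVars false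

namespace CfsgLib.Recog.DegreeEighteen

open Subgroup MulAction

universe u v

variable {Y : Type u} [Group Y] [Finite Y] {Ω : Type v} [MulAction Y Ω] [FaithfulSMul Y Ω]
  [Finite Ω] [MulAction.IsPretransitive Y Ω] (hΩ : Nat.card Ω = 18) {P : Subgroup Y}
  (hP : Nat.card P = 17) {α : Ω} (hfix : ∀ p ∈ P, p • α = α)
  (hnorm : ∀ g : Y, g • α = α → ∀ p ∈ P, g * p * g⁻¹ ∈ P)
include hΩ hP hfix

theorem exists_orbit : ∀ β : Ω, β ≠ α → ∀ γ : Ω, γ ≠ α → ∃ p ∈ P, p • β = γ := by
  classical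
  have h17 : Fact (Nat.Prime 17) := ⟨by norm_num⟩
  have hG : IsPGroup 17 P := IsPGroup.of_card (n := 1) (by rw [hP, pow_one])
  -- some point is moved
  obtain ⟨δ, hδ⟩ : ∃ δ : Ω, orbit P δ ≠ {δ} := by
    by_contra! hall
    have hbot : P = ⊥ := (eq_bot_iff_forall _).2 fun p hp => eq_of_smul_eq_smul (α := Ω) fun δ => by
      have h := (hall δ).subset (mem_orbit δ (⟨p, hp⟩ : P))
      rw [one_smul]
      exact h
    rw [hbot, card_bot] at hP
    omega
  obtain ⟨k, hk⟩ := hG.card_orbit δ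
  have hk17 : Nat.card (orbit P δ) = 17 := by
    rcases k with _ | _ | k
    · exfalso
      apply hδ
      rw [pow_zero] at hk
      refine Set.eq_singleton_iff_unique_mem.2 ⟨mem_orbit_self δ, fun y hy => ?_⟩
      have : Subsingleton (orbit P δ) := (Nat.card_eq_one_iff_unique.1 hk).1
      exact congrArg Subtype.val (Subsingleton.elim (⟨y, hy⟩ : orbit P δ) ⟨δ, mem_orbit_self δ⟩)
    · simpa using hk
    · exfalso
      have h1 := Nat.card_le_card_of_injective (Subtype.val : orbit P δ → Ω) Subtype.val_injective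
      rw [hk, hΩ, show k + 1 + 1 = k + 2 by ring, pow_add] at h1
      have : 0 < 17 ^ k := pow_pos (by norm_num) k
      omega
  have hα : α ∉ orbit P δ := by
    rintro ⟨⟨p, hp⟩, e⟩
    apply hδ
    have he : δ = α := smul_left_cancel p ((show p • δ = α from e).trans (hfix p hp).symm)
    rw [he]
    refine Set.eq_singleton_iff_unique_mem.2 ⟨mem_orbit_self α, ?_⟩
    rintro _ ⟨⟨q, hq⟩, rfl⟩
    exact hfix q hq
  have huniv : orbit P δ = {α}ᶜ := by
    refine Set.eq_of_subset_of_ncard_le (fun y hy e => hα (Set.mem_singleton_iff.1 e ▸ hy)) ?_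
      (Set.toFinite _)
    rw [Set.ncard_compl, Set.ncard_singleton, hΩ, ← Nat.card_coe_set_eq, hk17]
  intro β hβ γ hγ
  have h1 : β ∈ orbit P δ := by rw [huniv]; exact hβ
  have h2 : γ ∈ orbit P δ := by rw [huniv]; exact hγ
  rw [← orbit_eq_iff.2 h1] at h2
  obtain ⟨⟨p, hp⟩, e⟩ := h2
  exact ⟨p, hp, e⟩

theorem eq_alpha_of_fix {β : Ω} (h : ∀ p ∈ P, p • β = β) : β = α := by
  by_contra hβ
  obtain ⟨γ, hγ, hne⟩ : ∃ γ : Ω, γ ≠ α ∧ γ ≠ β := by
    by_contra! hall
    have hsub : (Set.univ : Set Ω) ⊆ {α, β} := fun γ _ => by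
      by_cases h' : γ = α
      · exact Or.inl h'
      · exact Or.inr (hall γ h')
    have h1 := (Set.ncard_le_ncard hsub (Set.toFinite _)).trans (Set.ncard_insert_le _ _)
    rw [Set.ncard_univ, Set.ncard_singleton, hΩ] at h1
    omega
  obtain ⟨p, hp, e⟩ := exists_orbit hΩ hP hfix β hβ γ hγ
  exact hne (e.symm.trans (h p hp))

include hnorm in
theorem centralizer_le {c : Y} (hc : ∀ p ∈ P, c * p = p * c) : c ∈ P := by
  have hcα : c • α = α := eq_alpha_of_fix hΩ hP hfix fun p hp => by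
    rw [← mul_smul, ← hc p hp, mul_smul, hfix p hp]
  obtain ⟨β, hβ⟩ : ∃ β : Ω, β ≠ α := by
    by_contra! hall
    have : Subsingleton Ω := ⟨fun a b => (hall a).trans (hall b).symm⟩
    have := Finite.card_le_one_iff_subsingleton.2 this
    omega
  obtain ⟨q, hq, e⟩ := exists_orbit hΩ hP hfix β hβ (c • β)
    (fun h => hβ (smul_left_cancel c (h.trans hcα.symm)))
  have h := eq_of_smul_eq_smul (α := Ω) (m₁ := c) (m₂ := q) fun γ => by
    by_cases hγ : γ = α
    · rw [hγ, hcα, hfix q hq]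
    obtain ⟨p, hp, rfl⟩ := exists_orbit hΩ hP hfix β hβ γ hγ
    have hqp : q * p = p * q := by
      have := isCyclic_of_prime_card (α := P) (hp := ⟨(by norm_num : Nat.Prime 17)⟩) hP
      exact congrArg Subtype.val ((IsCyclic.commGroup (α := P)).mul_comm ⟨q, hq⟩ ⟨p, hp⟩)
    rw [← mul_smul, ← mul_smul, hc p hp, hqp, mul_smul, mul_smul, e]
  rwa [h]

include hnorm in
theorem le_of_normal {Q : Subgroup Y} [hQ : Q.Normal] (hQ1 : Q ≠ ⊥) :
    P ≤ Q ∧ ∀ β : Ω, ∃ q ∈ Q, q • α = β := by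
  classical
  have h17 : Fact (Nat.Prime 17) := ⟨by norm_num⟩
  have hmove : ∀ Q : Subgroup Y, Q.Normal → Q ≠ ⊥ → ∀ β : Ω, ∃ q ∈ Q, q • α = β := by
    intro Q hQ hQ1 β
    obtain ⟨q, hq, hqα⟩ : ∃ q ∈ Q, q • α ≠ α := by
      by_contra! hall
      refine hQ1 ((eq_bot_iff_forall _).2 fun q hq => eq_of_smul_eq_smul (α := Ω) fun γ => ?_)
      obtain ⟨g, rfl⟩ := MulAction.exists_smul_eq Y α γ
      have h := hall _ (hQ.conj_mem q hq g⁻¹)
      rw [inv_inv] at h
      rw [one_smul]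
      calc q • g • α = g • (g⁻¹ * q * g) • α := by rw [← mul_smul, ← mul_smul]; congr 1; group
        _ = g • α := by rw [h]
    by_cases hβ : β = α
    · exact ⟨1, one_mem Q, by rw [one_smul, hβ]⟩
    obtain ⟨p, hp, e⟩ := exists_orbit hΩ hP hfix _ hqα β hβ
    exact ⟨p * q * p⁻¹, hQ.conj_mem q hq p, by
      rw [mul_smul, mul_smul, hfix _ (inv_mem hp), e]⟩
  have htrans := hmove Q hQ hQ1
  refine ⟨?_, htrans⟩
  by_contra hPQ
  have hdisj : ∀ y ∈ P, y ∈ Q → y = 1 := by
    intro y hy hyQ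
    by_contra hy1
    refine hPQ ?_
    have hz : zpowers y = P := by
      refine eq_of_le_of_card_ge (zpowers_le.2 hy) ?_
      rw [hP, Nat.card_zpowers]
      exact ((Nat.dvd_prime h17.out).1 ((orderOf_dvd_natCard _ hy).trans hP.dvd)).resolve_left
        (fun h => hy1 (orderOf_eq_one_iff.1 h)) |>.ge
    rw [← hz]
    exact zpowers_le.2 hyQ
  have hstab : ∀ q ∈ Q, q • α = α → q = 1 := by
    intro q hq hqα
    have hqP : q ∈ P := centralizer_le hΩ hP hfix hnorm fun p hp => by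
      have hmem : q * p * q⁻¹ * p⁻¹ ∈ P := mul_mem (hnorm q hqα p hp) (inv_mem hp)
      have hmemQ : q * p * q⁻¹ * p⁻¹ ∈ Q := by
        have h := mul_mem hq (hQ.conj_mem _ (inv_mem hq) p)
        simpa only [mul_assoc] using h
      exact mul_inv_eq_iff_eq_mul.1 (mul_inv_eq_one.1 (hdisj _ hmem hmemQ))
    exact hdisj q hqP hq
  have h18 : Nat.card Q = 18 := by
    rw [← hΩ]
    refine Nat.card_eq_of_bijective (fun q : Q => (q : Y) • α) ⟨fun a b hab => ?_, fun β => ?_⟩
    · simp only at hab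
      have h := hstab _ (mul_mem (inv_mem a.2) b.2) (by rw [mul_smul, ← hab, inv_smul_smul])
      exact Subtype.ext (inv_mul_eq_one.1 h)
    · obtain ⟨q, hq, e⟩ := htrans β
      exact ⟨⟨q, hq⟩, e⟩
  have h3 : Fact (Nat.Prime 3) := ⟨by norm_num⟩
  obtain ⟨R⟩ : Nonempty (Sylow 3 Q) := inferInstance
  have hR : Nat.card (R : Subgroup Q) = 9 := by
    have h1 : (Nat.card Q).factorization 3 = 2 := by
      rw [h18, Nat.factorization_def _ (by norm_num : Nat.Prime 3),
        show (18 : ℕ) = 3 ^ 2 * 2 by norm_num, padicValNat.mul (by norm_num) (by norm_num),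
        padicValNat.prime_pow, padicValNat.eq_zero_of_not_dvd (by norm_num)]
    rw [R.card_eq_multiplicity, h1]
    norm_num
  have hidx : (R : Subgroup Q).index = 2 := by
    have := (R : Subgroup Q).index_mul_card
    rw [hR, h18] at this
    omega
  have hRn : (R : Subgroup Q).Normal := Subgroup.normal_of_index_eq_two hidx
  have hchar : (R : Subgroup Q).Characteristic := R.characteristic_of_normal hRn
  have hRQ : ((R : Subgroup Q).map Q.subtype).Normal :=
    ConjAct.normal_of_characteristic_of_normal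
  have hcard : Nat.card ((R : Subgroup Q).map Q.subtype) = 9 := by
    rw [card_map_of_injective Q.subtype_injective, hR]
  have hne : (R : Subgroup Q).map Q.subtype ≠ ⊥ := fun h => by
    rw [h, card_bot] at hcard
    omega
  have hsurj := Nat.card_le_card_of_surjective
    (fun r : (R : Subgroup Q).map Q.subtype => (r : Y) • α) fun β => by
      obtain ⟨r, hr, e⟩ := hmove _ hRQ hne β
      exact ⟨⟨r, hr⟩, e⟩
  rw [hcard, hΩ] at hsurj
  omega

include hnorm in
theorem card_eq : ∃ e : ℕ, e ∣ 16 ∧ Nat.card Y = 306 * e := by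
  have h17 : Fact (Nat.Prime 17) := ⟨by norm_num⟩
  obtain ⟨e, he, -, hN⟩ := CfsgLib.Transfer.normalizer_centralizer_index (p := 17) P hP
  have hC : Nat.card (centralizer (P : Set Y)) = 17 := by
    rw [← hP]
    refine congrArg (fun H : Subgroup Y => Nat.card H) (le_antisymm
      (fun c hc => centralizer_le hΩ hP hfix hnorm fun p hp => (mem_centralizer_iff.1 hc p hp).symm)
      fun c hc => mem_centralizer_iff.2 fun p hp => ?_)
    have := isCyclic_of_prime_card hP
    exact congrArg Subtype.val ((IsCyclic.commGroup (α := P)).mul_comm ⟨p, hp⟩ ⟨c, hc⟩)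
  have hS : normalizer (P : Set Y) = stabilizer Y α := by
    refine le_antisymm (fun g hg => mem_stabilizer_iff.2 ?_) fun g hg => mem_normalizer_iff.2 fun p =>
      ⟨fun hp => hnorm g (mem_stabilizer_iff.1 hg) p hp, fun hp => ?_⟩
    · refine eq_alpha_of_fix hΩ hP hfix fun p hp => ?_
      have h : g⁻¹ * p * g ∈ P := (mem_normalizer_iff''.1 hg p).1 hp
      calc p • g • α = g • (g⁻¹ * p * g) • α := by rw [← mul_smul, ← mul_smul]; congr 1; group
        _ = g • α := by rw [hfix _ h]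
    · have h := hnorm g⁻¹ (mem_stabilizer_iff.1 (inv_mem hg)) _ hp
      simpa [mul_assoc] using h
  refine ⟨e, he, ?_⟩
  have h := Nat.card_congr (orbitProdStabilizerEquivGroup Y α)
  rw [Nat.card_prod, ← hS, hN, hC, orbit_eq_univ, Nat.card_congr (Equiv.Set.univ Ω), hΩ] at h
  omega

omit hΩ hP hfix in
theorem card_eq_2448 {M : Type u} [Group M] [Finite M] [IsSimpleGroup M] {e : ℕ} (he : e ∣ 16)
    (hM : Nat.card M = 306 * e) : Nat.card M = 2448 := by
  have hcases : ∀ e ∈ Nat.divisors 16, e = 1 ∨ e = 2 ∨ e = 4 ∨ e = 8 ∨ e = 16 := by decide +kernel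
  have hna : ¬ IsMulCommutative M := CfsgLib.Transfer.not_isMulCommutative_of_not_prime (by
    rcases hcases e (Nat.mem_divisors.2 ⟨he, by norm_num⟩) with rfl | rfl | rfl | rfl | rfl <;>
      rw [hM] <;> norm_num)
  have : Fact (Nat.Prime 17) := ⟨by norm_num⟩
  rcases hcases e (Nat.mem_divisors.2 ⟨he, by norm_num⟩) with rfl | rfl | rfl | rfl | rfl
  · have h := CfsgLib.ClassK.card_mem_of_le_1092 hna (by omega)
    rw [hM] at h
    simp at h
  · exact (CfsgLib.ClassK.RowSieve.false_of_rowPossible (p := 17) (B := 25) hna hM (by norm_num)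
      (by norm_num) (by norm_num) (by decide +kernel)).elim
  · exact (CfsgLib.ClassK.RowSieve.false_of_rowPossible (p := 17) (B := 35) hna hM (by norm_num)
      (by norm_num) (by norm_num) (by decide +kernel)).elim
  · rw [hM]
  · have h := CfsgLib.ClassK.sweepKilled_false hna
    rw [hM, show (306 * 16 : ℕ) = 4896 by norm_num] at h
    exact absurd h (by decide +kernel)

include hnorm in
theorem exists_simple : ∃ M : Subgroup Y, M.Normal ∧ IsSimpleGroup M ∧ Nat.card M = 2448 ∧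
    (∀ c : Y, (∀ m ∈ M, c * m = m * c) → c = 1) ∧ (M.index = 1 ∨ M.index = 2) := by
  have h17 : Fact (Nat.Prime 17) := ⟨by norm_num⟩
  set M := normalClosure (P : Set Y) with hMdef
  have hPM : P ≤ M := fun p hp => subset_normalClosure hp
  have hM1 : M ≠ ⊥ := fun h => by
    have h1 : P = ⊥ := le_bot_iff.1 (h ▸ hPM)
    rw [h1, card_bot] at hP
    omega
  have hMn : M.Normal := normalClosure_normal
  obtain ⟨-, htr⟩ := le_of_normal hΩ hP hfix hnorm hM1
  have : MulAction.IsPretransitive M Ω := ⟨fun a b => by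
    obtain ⟨q, hq, rfl⟩ := htr a
    obtain ⟨r, hr, rfl⟩ := htr b
    exact ⟨⟨r * q⁻¹, mul_mem hr (inv_mem hq)⟩, by
      show (r * q⁻¹) • q • α = r • α
      rw [mul_smul, inv_smul_smul]⟩⟩
  have : FaithfulSMul M Ω := ⟨fun h => Subtype.ext (eq_of_smul_eq_smul h)⟩
  have hP' : Nat.card (P.subgroupOf M) = 17 := by
    rw [Nat.card_congr (subgroupOfEquivOfLe hPM).toEquiv, hP]
  have hfix' : ∀ p ∈ P.subgroupOf M, p • α = α := fun p hp => hfix _ (mem_subgroupOf.1 hp)
  have hnorm' : ∀ g : M, g • α = α → ∀ p ∈ P.subgroupOf M, g * p * g⁻¹ ∈ P.subgroupOf M :=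
    fun g hg p hp => mem_subgroupOf.2 (hnorm _ hg _ (mem_subgroupOf.1 hp))
  have hsimple : IsSimpleGroup M := by
    have : Nontrivial M := (nontrivial_iff_ne_bot M).2 hM1
    refine ⟨fun Q hQ => or_iff_not_imp_left.2 fun hQ1 => ?_⟩
    obtain ⟨hPQ, -⟩ := le_of_normal hΩ hP' hfix' hnorm' hQ1
    -- all conjugates of `P` are conjugate inside `M`
    have hconj : M ≤ Q.map M.subtype := by
      refine (closure_le (G := Y) (k := Group.conjugatesOfSet (P : Set Y)) _).2 ?_
      intro y hy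
      obtain ⟨p, hp, hy⟩ := Group.mem_conjugatesOfSet_iff.1 hy
      obtain ⟨c, rfl⟩ := isConj_iff.1 hy
      obtain ⟨m, hm, hmα⟩ := htr (c • α)
      have h1 : (m⁻¹ * c) * p * (m⁻¹ * c)⁻¹ ∈ P :=
        hnorm _ (by rw [mul_smul, ← hmα, inv_smul_smul]) p hp
      have h2 : (⟨_, hPM h1⟩ : M) ∈ Q := hPQ (mem_subgroupOf.2 h1)
      refine ⟨⟨m, hm⟩ * ⟨_, hPM h1⟩ * (⟨m, hm⟩ : M)⁻¹, hQ.conj_mem _ h2 _, ?_⟩
      show m * ((m⁻¹ * c) * p * (m⁻¹ * c)⁻¹) * m⁻¹ = c * p * c⁻¹
      group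
    refine eq_top_iff.2 fun x _ => ?_
    obtain ⟨q, hq, e⟩ := hconj x.2
    rwa [← Subtype.ext e]
  obtain ⟨e, he, hcard⟩ := card_eq (Y := M) hΩ hP' hfix' hnorm'
  have hM2448 := card_eq_2448 he hcard
  obtain ⟨f, hf, hY⟩ := card_eq hΩ hP hfix hnorm
  have hidx : M.index * 2448 = 306 * f := by rw [← hY, ← hM2448, M.index_mul_card]
  have hfle : f ≤ 16 := Nat.le_of_dvd (by norm_num) hf
  refine ⟨M, hMn, hsimple, hM2448, fun c hc => ?_, by
    have hpos : 0 < M.index := Nat.pos_of_ne_zero index_ne_zero_of_finite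
    omega⟩
  have hcP : c ∈ P := centralizer_le hΩ hP hfix hnorm fun p hp => hc p (hPM hp)
  refine eq_of_smul_eq_smul (α := Ω) fun γ => ?_
  obtain ⟨m, hm, rfl⟩ := htr γ
  rw [← mul_smul, hc m hm, mul_smul, hfix c hcP, one_smul]

end CfsgLib.Recog.DegreeEighteen
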