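import Cfsg.Agent.Lib.Recog.Conjugates
import Cfsg.Prelude.Def_Transfer
import Cfsg.Agent.Lib.Solvable.MinNormal
import Cfsg.Agent.Lib.Perm.Basic
import Mathlib.GroupTheory.GroupAction.Quotient
import Mathlib.Algebra.BigOperators.Group.Finset.Basic

/-!
Derangements: Jordan's theorem, derangements inside simple factors of minimal normal subgroups,
abelian regular normal subgroups of primitive groups.
-/

set_option autoImplicit false

namespace CfsgLib.Recog

open MulAction Subgroup

/-- Jordan: a finite transitive group on at least two points has a derangement. -/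
theorem exists_derangement (G Ω : Type*) [Group G] [Finite G] [MulAction G Ω]
    [IsPretransitive G Ω] [Nontrivial Ω] : ∃ g : G, ∀ ω : Ω, g • ω ≠ ω := by
  classical
  obtain ⟨a⟩ := (inferInstance : Nonempty Ω)
  have : Finite Ω := Finite.of_surjective (fun g : G => g • a) (fun x => exists_smul_eq G a x)
  have := Fintype.ofFinite G
  have := Fintype.ofFinite Ω
  by_contra hc
  push Not at hc
  have h := sum_card_fixedBy_eq_card_orbits_mul_card_group G Ω
  have h1 : Fintype.card (Quotient (orbitRel G Ω)) = 1 := by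
    rw [Fintype.card_eq_one_iff]
    refine ⟨Quotient.mk'' a, fun q => ?_⟩
    induction q using Quotient.inductionOn' with
    | h x => exact Quotient.sound' (exists_smul_eq G a x)
  rw [h1, one_mul] at h
  have hlt : ∑ _g : G, 1 < ∑ g : G, Fintype.card (fixedBy Ω g) := by
    refine Finset.sum_lt_sum (fun g _ => ?_) ⟨1, Finset.mem_univ _, ?_⟩
    · obtain ⟨x, hx⟩ := hc g
      exact Fintype.card_pos_iff.mpr ⟨⟨x, hx⟩⟩
    · obtain ⟨x, y, hxy⟩ := exists_pair_ne Ω
      exact Fintype.one_lt_card_iff.mpr ⟨⟨x, one_smul G x⟩, ⟨y, one_smul G y⟩,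
        fun e => hxy (congrArg Subtype.val e)⟩
  rw [h] at hlt
  simp at hlt

variable {G Ω : Type*} [Group G] [MulAction G Ω]

/-- A transitive subgroup `N ≤ T C(T)` carries every orbit question about `T` to one orbit. -/
theorem IsFactor.exists_conj_fix {N T : Subgroup G} (h : IsFactor N T) [IsPretransitive N Ω]
    (a : Ω) {x : G} (hx : x ∈ T) {ω : Ω} (hω : x • ω = ω) :
    ∃ t ∈ T, (t⁻¹ * x * t) • a = a := by
  obtain ⟨⟨n, hn⟩, hna⟩ := exists_smul_eq N a ω
  rw [Subgroup.mk_smul] at hna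
  have hn' := h.le_sup hn
  rw [← SetLike.mem_coe, Subgroup.coe_mul_of_left_le_normalizer_right _ _ ?_] at hn'
  · obtain ⟨t, ht, c, hc, rfl⟩ := hn'
    refine ⟨t, ht, ?_⟩
    have hxt : t⁻¹ * x * t ∈ T := mul_mem (mul_mem (inv_mem ht) hx) ht
    have hcomm := mem_centralizer_iff.mp hc _ hxt
    have e : t⁻¹ * x * t = (t * c)⁻¹ * x * (t * c) := by
      calc t⁻¹ * x * t = c⁻¹ * (c * (t⁻¹ * x * t)) := by group
        _ = c⁻¹ * ((t⁻¹ * x * t) * c) := by rw [hcomm]
        _ = (t * c)⁻¹ * x * (t * c) := by group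
    rw [e, mul_smul, mul_smul, hna, hω, ← hna, inv_smul_smul]
  · intro y hy
    refine mem_normalizer_iff.mpr fun z => ?_
    simp only [mem_centralizer_iff]
    constructor
    · intro hz t ht
      have e := hz (y⁻¹ * t * y) (mul_mem (mul_mem (inv_mem hy) ht) hy)
      calc t * (y * z * y⁻¹) = y * ((y⁻¹ * t * y) * z) * y⁻¹ := by group
        _ = y * (z * (y⁻¹ * t * y)) * y⁻¹ := by rw [e]
        _ = y * z * y⁻¹ * t := by group
    · intro hz t ht
      have e := hz (y * t * y⁻¹) (mul_mem (mul_mem hy ht) (inv_mem hy))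
      calc t * z = y⁻¹ * ((y * t * y⁻¹) * (y * z * y⁻¹)) * y := by group
        _ = y⁻¹ * ((y * z * y⁻¹) * (y * t * y⁻¹)) * y := by rw [e]
        _ = z * t := by group

theorem IsFactor.not_le_stabilizer {N T : Subgroup G} (h : IsFactor N T) [IsPretransitive N Ω]
    [FaithfulSMul G Ω] (a : Ω) : ¬ T ≤ stabilizer G a := by
  intro hle
  apply h.ne_bot
  rw [Subgroup.eq_bot_iff_forall]
  intro x hx
  refine eq_of_smul_eq_smul (α := Ω) fun ω => ?_
  rw [one_smul]
  obtain ⟨⟨n, hn⟩, hna⟩ := exists_smul_eq N a ω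
  rw [Subgroup.mk_smul] at hna
  have hmem : n⁻¹ * x * n ∈ T := by
    simpa using (mem_normalizer_iff.mp (h.le_normalizer (inv_mem hn)) x).mp hx
  have := hle hmem
  rw [mem_stabilizer_iff, mul_smul, mul_smul, hna, inv_smul_eq_iff, hna] at this
  exact this

/-- A simple factor of a transitive minimal normal subgroup contains a derangement. -/
theorem IsFactor.exists_derangement [Finite G] {N T : Subgroup G} (h : IsFactor N T)
    [IsPretransitive N Ω] [FaithfulSMul G Ω] (a : Ω) :
    ∃ x ∈ T, ∀ ω : Ω, x • ω ≠ ω := by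
  have : Nontrivial (orbit T a) := by
    have hns := h.not_le_stabilizer (Ω := Ω) a
    rw [SetLike.not_le_iff_exists] at hns
    obtain ⟨t, ht, hta⟩ := hns
    exact ⟨⟨t • a, ⟨⟨t, ht⟩, rfl⟩⟩, ⟨a, mem_orbit_self a⟩,
      fun e => hta (mem_stabilizer_iff.mpr (congrArg Subtype.val e))⟩
  obtain ⟨⟨x, hx⟩, hd⟩ := CfsgLib.Recog.exists_derangement T (orbit T a)
  refine ⟨x, hx, fun ω hω => ?_⟩
  obtain ⟨t, ht, hfix⟩ := h.exists_conj_fix a hx hω
  refine hd ⟨t • a, ⟨⟨t, ht⟩, rfl⟩⟩ (Subtype.ext ?_)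
  show (⟨x, hx⟩ : T) • (t • a) = t • a
  rw [Subgroup.mk_smul]
  have := congrArg (t • ·) hfix
  simpa [mul_smul] using this

/-- An abelian minimal normal subgroup of a primitive group is regular, elementary abelian. -/
theorem abelian_minimal_normal [Finite G] [IsPreprimitive G Ω] [FaithfulSMul G Ω]
    {N : Subgroup G} [N.Normal] [IsMulCommutative N] (hne : N ≠ ⊥)
    (hmin : ∀ K : Subgroup G, K.Normal → K ≤ N → K = ⊥ ∨ K = N) :
    (∃ r : ℕ, r.Prime ∧ Cfsg.IsElementaryAbelian r N) ∧ IsPretransitive N Ω ∧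
      ∀ a : Ω, stabilizer N a = ⊥ := by
  have ht := CfsgLib.Perm.normal_isPretransitive (α := Ω) hne
  obtain ⟨r, hr, hpow⟩ := CfsgLib.Solvable.exists_prime_pow_eq_one_of_minimal_normal hne hmin
  refine ⟨⟨r, hr, inferInstance, hpow⟩, ht, fun a => ?_⟩
  rw [Subgroup.eq_bot_iff_forall]
  intro n hn
  refine Subtype.ext (eq_of_smul_eq_smul (α := Ω) fun ω => ?_)
  obtain ⟨m, rfl⟩ := exists_smul_eq N a ω
  rw [Subgroup.coe_one, one_smul]
  show (n : G) • ((m : G) • a) = (m : G) • a
  rw [smul_smul, show (n : G) * m = m * n from congrArg Subtype.val (mul_comm' n m), mul_smul]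
  exact congrArg ((m : G) • ·) (mem_stabilizer_iff.mp hn)

end CfsgLib.Recog
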