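import Cfsg.Agent.Lib.Recog.Derange
import Cfsg.Agent.Lib.Recog.Factor
import Mathlib.GroupTheory.GroupAction.ConjAct
import Mathlib.Algebra.Group.Conj
import Mathlib.GroupTheory.Sylow

/-!
Conjugacy classes of derangements in primitive groups that are not almost simple.
-/

set_option autoImplicit false

namespace CfsgLib.Recog

open MulAction Subgroup

variable {G : Type*} [Group G]

theorem IsFactor.cj_inf_centralizer {N T : Subgroup G} (h : IsFactor N T) (g : G) {x : G}
    (hx : x ∈ cj g T) (hc : x ∈ centralizer (cj g T : Set G)) : x = 1 := by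
  have : g⁻¹ * x * g ∈ T ⊓ centralizer (T : Set G) := by
    refine ⟨mem_cj.mp hx, mem_centralizer_iff.mpr fun t ht => ?_⟩
    have e := mem_centralizer_iff.mp hc _ (conj_mem_cj ht)
    calc t * (g⁻¹ * x * g) = g⁻¹ * ((g * t * g⁻¹) * x) * g := by group
      _ = g⁻¹ * (x * (g * t * g⁻¹)) * g := by rw [e]
      _ = (g⁻¹ * x * g) * t := by group
  rw [h.inf_centralizer, Subgroup.mem_bot] at this
  simpa [mul_eq_one_iff_eq_inv, inv_mul_eq_iff_eq_mul] using this

theorem IsFactor.cj_le_centralizer {N T : Subgroup G} (h : IsFactor N T) {g k : G}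
    (hne : cj g T ≠ cj k T) : cj g T ≤ centralizer (cj k T : Set G) := by
  rcases h.eq_or_le_centralizer (k⁻¹ * g) with e | e
  · exact absurd (by rw [← congrArg (cj k) e, ← cj_mul, mul_inv_cancel_left]) hne
  intro x hx
  have hx' : k⁻¹ * x * k ∈ centralizer (T : Set G) := e (by
    rw [mem_cj] at hx ⊢; simpa [mul_assoc] using hx)
  refine mem_centralizer_iff.mpr fun y hy => ?_
  have e2 := mem_centralizer_iff.mp hx' _ (mem_cj.mp hy)
  calc y * x = k * ((k⁻¹ * y * k) * (k⁻¹ * x * k)) * k⁻¹ := by group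
    _ = k * ((k⁻¹ * x * k) * (k⁻¹ * y * k)) * k⁻¹ := by rw [e2]
    _ = x * y := by group

theorem IsFactor.decomp_unique {N T : Subgroup G} (h : IsFactor N T) {g : G} {a a' b b' : G}
    (ha : a ∈ cj g T) (ha' : a' ∈ cj g T) (hb : b ∈ centralizer (cj g T : Set G))
    (hb' : b' ∈ centralizer (cj g T : Set G)) (e : a * b = a' * b') : a = a' ∧ b = b' := by
  have e1 : a'⁻¹ * a = b' * b⁻¹ := by
    rw [eq_mul_inv_iff_mul_eq, mul_assoc, e, inv_mul_cancel_left]
  have h1 := h.cj_inf_centralizer g (mul_mem (inv_mem ha') ha) (e1 ▸ mul_mem hb' (inv_mem hb))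
  have := inv_mul_eq_one.mp h1
  subst this
  exact ⟨rfl, mul_left_cancel e⟩

variable {Ω : Type*} [MulAction G Ω]

/-- In a primitive group with non-semiregular factor `T`, a product `u v` with `u ∈ T`, `v ∈ C(T)`
fixes only points fixed by `u`. -/
theorem IsFactor.fix_of_mul_fix [Finite G] [IsPreprimitive G Ω] [FaithfulSMul G Ω] [Nontrivial Ω]
    {N T : Subgroup G} (h : IsFactor N T) (ω : Ω) (hne : T ⊓ stabilizer G ω ≠ ⊥)
    {u v : G} (hu : u ∈ T) (hv : v ∈ centralizer (T : Set G)) (hf : (u * v) • ω = ω) :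
    u • ω = ω := by
  set P : Subgroup G := ⨆ g : G, cj g T ⊓ stabilizer G ω with hP
  have hTP : T ⊓ stabilizer G ω ≤ P := by
    have := le_iSup (fun g : G => cj g T ⊓ stabilizer G ω) 1
    simpa only [cj_one] using this
  have hPle : P ≤ stabilizer G ω := iSup_le fun _ => inf_le_right
  have hS : stabilizer G ω ≤ normalizer (P : Set G) := by
    have hmap : ∀ k ∈ stabilizer G ω, cj k P ≤ P := by
      intro k hk
      rw [hP]
      simp only [cj, Subgroup.map_iSup]
      refine iSup_le fun g => ?_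
      intro x hx
      change x ∈ cj k (cj g T ⊓ stabilizer G ω) at hx
      rw [mem_cj, Subgroup.mem_inf] at hx
      refine Subgroup.mem_iSup_of_mem (k * g) ⟨?_, ?_⟩
      · show x ∈ cj (k * g) T
        rw [cj_mul]; exact mem_cj.mpr hx.1
      · have := mul_mem (mul_mem hk hx.2) (inv_mem hk)
        simpa [mul_assoc] using this
    intro k hk
    refine mem_normalizer_iff.mpr fun x => ⟨fun hx => hmap k hk (conj_mem_cj hx), fun hx => ?_⟩
    simpa [mul_assoc] using hmap k⁻¹ (inv_mem hk) (conj_mem_cj (g := k⁻¹) hx)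
  have hne_top : normalizer (P : Set G) ≠ ⊤ := by
    intro htop
    have hPn : P.Normal := normalizer_eq_top_iff.mp htop
    refine hne (le_bot_iff.mp (hTP.trans (le_of_eq ?_)))
    by_contra hP0
    have := CfsgLib.Perm.normal_isPretransitive (α := Ω) hP0
    obtain ⟨b, hb⟩ := exists_ne ω
    obtain ⟨⟨m, hm⟩, hmb⟩ := exists_smul_eq P ω b
    exact hb (hmb.symm.trans (mem_stabilizer_iff.mp (hPle hm)))
  have hmax : stabilizer G ω = normalizer (P : Set G) := by
    by_contra hne'
    exact hne_top ((IsPreprimitive.isCoatom_stabilizer_of_isPreprimitive (G := G) ω).2 _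
      (lt_of_le_of_ne hS hne'))
  have hu' : u ∈ normalizer (P : Set G) := by
    apply iInf_normalizer_le_normalizer_iSup
    refine Subgroup.mem_iInf.mpr fun g => ?_
    by_cases e : cj g T = T
    · rw [e]
      have hcv : ∀ z ∈ T, v * z * v⁻¹ = z := fun z hz => by
        rw [← mem_centralizer_iff.mp hv z hz, mul_assoc, mul_inv_cancel, mul_one]
      refine mem_normalizer_iff.mpr fun z => ?_
      simp only [Subgroup.mem_inf]
      constructor
      · rintro ⟨hz, hzs⟩
        refine ⟨mul_mem (mul_mem hu hz) (inv_mem hu), ?_⟩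
        have : u * z * u⁻¹ = (u * v) * z * (u * v)⁻¹ := by
          conv_lhs => rw [← hcv z hz]
          group
        rw [this]
        exact mul_mem (mul_mem hf hzs) (inv_mem hf)
      · rintro ⟨hz, hzs⟩
        have hz' : z ∈ T := by simpa [mul_assoc] using mul_mem (mul_mem (inv_mem hu) hz) hu
        refine ⟨hz', ?_⟩
        have : z = (u * v)⁻¹ * (u * z * u⁻¹) * (u * v) := by
          conv_rhs => rw [show (u * v)⁻¹ * (u * z * u⁻¹) * (u * v) = v⁻¹ * z * v by group]
          conv_rhs => rw [← hcv z hz']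
          group
        rw [this]
        exact mul_mem (mul_mem (inv_mem hf) hzs) hf
    · have hc := (h.eq_or_le_centralizer g).resolve_left e
      refine mem_normalizer_iff.mpr fun z => ?_
      constructor
      · intro hz
        have := mem_centralizer_iff.mp (hc hz.1) u hu
        rwa [this, mul_assoc, mul_inv_cancel, mul_one]
      · intro hz
        have := mem_centralizer_iff.mp (hc hz.1) u hu
        have e' : u * z * u⁻¹ = z := mul_left_cancel (a := u) <| by
          rw [this]; group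
        rwa [e'] at hz
  rw [← hmax] at hu'
  exact hu'

/-- A primitive group that is not almost simple and has a non-abelian minimal normal subgroup has
three derangements, no two of which are conjugate. -/
theorem exists_three_derangements [Finite G] [IsPreprimitive G Ω] [FaithfulSMul G Ω] [Nontrivial Ω]
    (hnas : ¬ ∃ T : Subgroup G, T.Normal ∧ IsSimpleGroup T ∧ ¬ IsMulCommutative T ∧
      centralizer (T : Set G) = ⊥)
    {N : Subgroup G} (hN : N.Normal) (hne : N ≠ ⊥)
    (hmin : ∀ K : Subgroup G, K.Normal → K ≤ N → K = ⊥ ∨ K = N) (hab : ¬ IsMulCommutative N) :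
    ∃ d : Fin 3 → G, (∀ i (ω : Ω), d i • ω ≠ ω) ∧ ∀ i j, IsConj (d i) (d j) → i = j := by
  classical
  obtain ⟨T, hT⟩ := exists_isFactor hN hne hmin hab
  have hC := hT.almost_simple_or.resolve_left hnas
  have := CfsgLib.Perm.normal_isPretransitive (α := Ω) hne
  obtain ⟨a⟩ := (inferInstance : Nonempty Ω)
  by_cases hsr : T ⊓ stabilizer G a = ⊥
  · have hd : ∀ x ∈ T, x ≠ 1 → ∀ ω : Ω, x • ω ≠ ω := by
      intro x hx hx1 ω hω
      obtain ⟨t, ht, hfix⟩ := hT.exists_conj_fix a hx hω
      have hm : t⁻¹ * x * t ∈ T ⊓ stabilizer G a :=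
        Subgroup.mem_inf.mpr ⟨mul_mem (mul_mem (inv_mem ht) hx) ht, hfix⟩
      rw [hsr, Subgroup.mem_bot] at hm
      exact hx1 (by simpa [mul_eq_one_iff_eq_inv, inv_mul_eq_iff_eq_mul] using hm)
    have := hT.simple
    obtain ⟨s, hs, hs3⟩ := Finset.exists_subset_card_eq (three_le_primeFactors_card hT.nonabelian)
    let e := (s.equivFinOfCardEq hs3).symm
    have hp : ∀ i, (e i : ℕ).Prime ∧ ∃ y : T, orderOf y = (e i : ℕ) := fun i => by
      have hm := hs (e i).2
      have : Fact (e i : ℕ).Prime := ⟨Nat.prime_of_mem_primeFactors hm⟩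
      exact ⟨this.out, exists_prime_orderOf_dvd_card' _ (Nat.dvd_of_mem_primeFactors hm)⟩
    choose hpr y hy using hp
    refine ⟨fun i => (y i : G), fun i => hd _ (y i).2 fun h1 => ?_, fun i j hij => ?_⟩
    · have := hy i
      rw [show y i = 1 from Subtype.ext h1, orderOf_one] at this
      exact (hpr i).ne_one this.symm
    · apply e.injective
      apply Subtype.ext
      rw [← hy i, ← hy j, ← Subgroup.orderOf_coe (y i), ← Subgroup.orderOf_coe (y j)]
      obtain ⟨c, hc⟩ := isConj_iff.mp hij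
      rw [show ((y j : T) : G) = MulAut.conj c (y i : G) from hc.symm]
      exact ((MulAut.conj c).orderOf_eq _).symm
  -- `T` has non-trivial point stabilizers
  have hsr' : ∀ ω : Ω, T ⊓ stabilizer G ω ≠ ⊥ := by
    intro ω hb
    apply hsr
    rw [Subgroup.eq_bot_iff_forall]
    intro x hx
    obtain ⟨⟨n, hn⟩, hna⟩ := exists_smul_eq N a ω
    have hm : n * x * n⁻¹ ∈ T ⊓ stabilizer G ω := by
      refine ⟨(mem_normalizer_iff.mp (hT.le_normalizer hn) x).mp hx.1, ?_⟩
      show n * x * n⁻¹ ∈ stabilizer G ω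
      rw [mem_stabilizer_iff, mul_smul, mul_smul, ← hna, Subgroup.mk_smul, inv_smul_smul,
        mem_stabilizer_iff.mp hx.2]
    rw [hb, Subgroup.mem_bot] at hm
    simpa [mul_inv_eq_one] using hm
  obtain ⟨g, hg⟩ : ∃ g, cj g T ≠ T := by
    by_contra hall
    push Not at hall
    have hTn : T.Normal := ⟨fun y hy g => (hall g).le (conj_mem_cj hy)⟩
    have := CfsgLib.Perm.normal_isPretransitive (α := Ω) hC
    apply hsr
    rw [Subgroup.eq_bot_iff_forall]
    intro x hx
    refine eq_of_smul_eq_smul (α := Ω) fun ω => ?_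
    obtain ⟨⟨c, hc⟩, rfl⟩ := exists_smul_eq (centralizer (T : Set G)) a ω
    rw [one_smul, Subgroup.mk_smul, smul_smul, mem_centralizer_iff.mp hc x hx.1, mul_smul,
      mem_stabilizer_iff.mp hx.2]
  have hT' : cj g T ≤ centralizer (T : Set G) := (hT.eq_or_le_centralizer g).resolve_left hg
  obtain ⟨x, hxT, hx⟩ := hT.exists_derangement (Ω := Ω) a
  have hx1 : x ≠ 1 := fun h => hx a (by rw [h, one_smul])
  have hdd : ∀ v ∈ centralizer (T : Set G), ∀ ω : Ω, (x * v) • ω ≠ ω := fun v hv ω hω =>
    hx ω (hT.fix_of_mul_fix ω (hsr' ω) hxT hv hω)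
  obtain ⟨t, ⟨htT, hta⟩, ht1⟩ : ∃ t ∈ T ⊓ stabilizer G a, t ≠ 1 := by
    by_contra hno
    push Not at hno
    exact hsr ((Subgroup.eq_bot_iff_forall _).mpr hno)
  set x' := g * x * g⁻¹ with hx'def
  set y := g * t * g⁻¹ with hydef
  have hx' : x' ∈ cj g T := conj_mem_cj hxT
  have hy : y ∈ cj g T := conj_mem_cj htT
  have hy1 : y ≠ 1 := fun h => ht1 (by simpa [y] using h)
  have hx'1 : x' ≠ 1 := fun h => hx1 (by simpa [x'] using h)
  have hyfix : ∀ k : G, ∃ ω : Ω, (k * y * k⁻¹) • ω = ω := fun k => ⟨(k * g) • a, by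
    rw [hydef, show k * (g * t * g⁻¹) * k⁻¹ = (k * g) * t * (k * g)⁻¹ by group, mul_smul,
      mul_smul, inv_smul_smul, mem_stabilizer_iff.mp hta]⟩
  have hx'd : ∀ ω : Ω, x' • ω ≠ ω := fun ω hω => hx (g⁻¹ • ω) (by
    rw [hx'def, mul_smul, mul_smul] at hω
    rw [eq_inv_smul_iff, hω])
  have hself : cj 1 T = T := cj_one T
  -- no conjugate of an element of one factor is a product over two factors
  have single : ∀ k : G, ∀ v ∈ cj g T, v ≠ 1 → k * x * k⁻¹ ≠ x * v := by
    intro k v hv hv1 e
    have hw : k * x * k⁻¹ ∈ cj k T := conj_mem_cj hxT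
    by_cases h1 : cj k T = T
    · have := (hT.decomp_unique (g := 1) (by rwa [hself, ← h1]) (by rwa [hself])
        (one_mem _) (by rw [hself]; exact hT' hv) ((mul_one _).trans e)).2
      exact hv1 this.symm
    by_cases h2 : cj k T = cj g T
    · have hxc : x ∈ centralizer (cj g T : Set G) :=
        hT.cj_le_centralizer (g := 1) (by rw [hself]; exact fun e' => hg e'.symm) (by rwa [hself])
      have e' : k * x * k⁻¹ * 1 = v * x := by
        rw [mul_one, e]; exact (mem_centralizer_iff.mp hxc v hv).symm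
      exact hx1 (hT.decomp_unique (g := g) (h2 ▸ hw) hv (one_mem _) hxc e').2.symm
    refine hx1 ?_
    have hc : k * x * k⁻¹ ∈ centralizer (cj k T : Set G) := by
      rw [e]
      refine mul_mem (hT.cj_le_centralizer (g := 1) (by rw [hself]; exact fun e' => h1 e'.symm)
        (by rwa [hself])) (hT.cj_le_centralizer (fun e' => h2 e'.symm) hv)
    simpa using hT.cj_inf_centralizer k hw hc
  have pair : ∀ k : G, k * (x * y) * k⁻¹ ≠ x * x' := by
    intro k e
    set w := k * x * k⁻¹
    set w' := k * y * k⁻¹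
    have hw : w ∈ cj k T := conj_mem_cj hxT
    have hw' : w' ∈ cj (k * g) T := by rw [cj_mul]; exact conj_mem_cj hy
    have hne' : cj (k * g) T ≠ cj k T := fun e' => hg <| by
      have := congrArg (cj k⁻¹) e'
      rwa [← cj_mul, ← cj_mul, inv_mul_cancel_left, inv_mul_cancel, hself] at this
    have hw'c : w' ∈ centralizer (cj k T : Set G) := hT.cj_le_centralizer hne' hw'
    have hwc : w ∈ centralizer (cj (k * g) T : Set G) := hT.cj_le_centralizer hne'.symm hw
    have e' : w * w' = x * x' := by rw [← e]; simp only [w, w']; group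
    have hxc : x ∈ centralizer (cj g T : Set G) :=
      hT.cj_le_centralizer (g := 1) (by rw [hself]; exact fun e' => hg e'.symm) (by rwa [hself])
    obtain ⟨ω, hω⟩ := hyfix k
    by_cases h1 : cj k T = T
    · have := (hT.decomp_unique (g := 1) (by rwa [hself, ← h1]) (by rwa [hself])
        (by rw [hself]; exact h1 ▸ hw'c) (by rw [hself]; exact hT' hx') e').2
      exact hx'd ω (by rw [← this]; exact hω)
    by_cases h2 : cj k T = cj g T
    · have e'' : w * w' = x' * x := by rw [e']; exact (mem_centralizer_iff.mp hxc x' hx').symm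
      have := (hT.decomp_unique (g := g) (h2 ▸ hw) hx' (h2 ▸ hw'c) hxc e'').2
      exact hx ω (by rw [← this]; exact hω)
    have hc : w * w' ∈ centralizer (cj k T : Set G) := by
      rw [e']
      refine mul_mem (hT.cj_le_centralizer (g := 1) (by rw [hself]; exact fun e' => h1 e'.symm)
        (by rwa [hself])) (hT.cj_le_centralizer (fun e' => h2 e'.symm) hx')
    have hwk : w ∈ centralizer (cj k T : Set G) := by
      simpa using mul_mem hc (inv_mem hw'c)
    exact hx1 (by simpa [w] using hT.cj_inf_centralizer k hw hwk)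
  refine ⟨![x, x * x', x * y], ?_, ?_⟩
  · intro i
    fin_cases i
    · exact hx
    · exact hdd _ (hT' hx')
    · exact hdd _ (hT' hy)
  · intro i j hij
    fin_cases i <;> fin_cases j <;> (try rfl) <;> exfalso <;>
      simp only [Matrix.cons_val] at hij
    · obtain ⟨k, hk⟩ := isConj_iff.mp hij; exact single k x' hx' hx'1 hk
    · obtain ⟨k, hk⟩ := isConj_iff.mp hij; exact single k y hy hy1 hk
    · obtain ⟨k, hk⟩ := isConj_iff.mp hij.symm; exact single k x' hx' hx'1 hk
    · obtain ⟨k, hk⟩ := isConj_iff.mp hij.symm; exact pair k hk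
    · obtain ⟨k, hk⟩ := isConj_iff.mp hij.symm; exact single k y hy hy1 hk
    · obtain ⟨k, hk⟩ := isConj_iff.mp hij; exact pair k hk

theorem card_derangement_classes_ge [Finite G] {d : Fin 3 → G}
    (hd : ∀ i (ω : Ω), d i • ω ≠ ω) (hc : ∀ i j, IsConj (d i) (d j) → i = j) :
    3 ≤ Nat.card {c : ConjClasses G // ∃ g : G, ConjClasses.mk g = c ∧ ∀ ω : Ω, g • ω ≠ ω} := by
  have : Finite (ConjClasses G) := Finite.of_surjective _ ConjClasses.mk_surjective
  have := Nat.card_le_card_of_injective
    (fun i : Fin 3 => (⟨ConjClasses.mk (d i), d i, rfl, hd i⟩ :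
      {c : ConjClasses G // ∃ g : G, ConjClasses.mk g = c ∧ ∀ ω : Ω, g • ω ≠ ω}))
    fun i j h => hc i j (ConjClasses.mk_eq_mk_iff_isConj.mp (congrArg Subtype.val h))
  simpa using this

end CfsgLib.Recog
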