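import Mathlib

/-!
The subgroup generated by the derangements of a transitive group.
-/

set_option autoImplicit false

namespace CfsgLib.Recog

open MulAction

/-- The subgroup generated by the derangements. -/
abbrev derangeSubgroup (G Ω : Type*) [Group G] [MulAction G Ω] : Subgroup G :=
  Subgroup.closure {g : G | ∀ ω : Ω, g • ω ≠ ω}

variable {G Ω : Type*} [Group G] [Finite G] [MulAction G Ω] [Finite Ω]

/-- Orbit counting. -/
theorem sum_card_fixedBy {G α : Type*} [Group G] [Fintype G] [MulAction G α] [Finite α] :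
    ∑ g : G, Nat.card (fixedBy α g) = Nat.card (orbitRel.Quotient G α) * Fintype.card G := by
  classical
  have := Fintype.ofFinite α
  have : Fintype (orbitRel.Quotient G α) := Fintype.ofFinite _
  simp only [Nat.card_eq_fintype_card]
  exact sum_card_fixedBy_eq_card_orbits_mul_card_group G α

theorem one_le_card_fixedBy {g : G} (hg : g ∉ derangeSubgroup G Ω) :
    1 ≤ Nat.card (fixedBy Ω g) := by
  have h : ¬ ∀ ω : Ω, g • ω ≠ ω := fun h => hg (Subgroup.subset_closure h)
  push Not at h
  obtain ⟨ω, hω⟩ := h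
  have : Nonempty (fixedBy Ω g) := ⟨⟨ω, hω⟩⟩
  exact Nat.one_le_iff_ne_zero.mpr Nat.card_pos.ne'

omit [Finite Ω] in
/-- Summation over a subgroup and its complement. -/
theorem sum_split [Fintype G] (D : Subgroup G) [DecidablePred (· ∈ D)] (f : G → ℕ) :
    ∑ g : G, f g = ∑ d : D, f d + ∑ g ∈ Finset.univ.filter (· ∉ D), f g := by
  rw [← Finset.sum_filter_add_sum_filter_not Finset.univ (· ∈ D) f]
  congr 1
  exact Finset.sum_subtype _ (by simp) f

theorem derangeSubgroup_spec [Nonempty Ω] (htr : IsPretransitive G Ω) :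
    Nat.card (orbitRel.Quotient (derangeSubgroup G Ω) Ω) = 1 ∧
      ∀ g : G, g ∉ derangeSubgroup G Ω → Nat.card (fixedBy Ω g) = 1 := by
  classical
  have := Fintype.ofFinite G
  set D := derangeSubgroup G Ω
  have h1 : Nat.card (orbitRel.Quotient G Ω) = 1 := by
    rw [Nat.card_eq_one_iff_unique]
    exact ⟨(pretransitive_iff_subsingleton_quotient G Ω).mp htr,
      ⟨Quotient.mk'' (Classical.arbitrary Ω)⟩⟩
  have hG := sum_card_fixedBy (G := G) (α := Ω)
  have hD : ∑ d : D, Nat.card (fixedBy Ω (d : G)) =
      Nat.card (orbitRel.Quotient D Ω) * Fintype.card D := sum_card_fixedBy (G := D) (α := Ω)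
  rw [sum_split D, hD, h1, one_mul] at hG
  set C := Finset.univ.filter (· ∉ D)
  have hge : ∀ g ∈ C, 1 ≤ Nat.card (fixedBy Ω g) := fun g hg =>
    one_le_card_fixedBy (Finset.mem_filter.mp hg).2
  have hC : C.card ≤ ∑ g ∈ C, Nat.card (fixedBy Ω g) := by
    simpa using Finset.sum_le_sum hge
  have hcard : Fintype.card D + C.card = Fintype.card G := by
    have h := sum_split D (fun _ => (1 : ℕ))
    simpa using h.symm
  have hr : 1 ≤ Nat.card (orbitRel.Quotient D Ω) := by
    have : Nonempty (orbitRel.Quotient D Ω) := ⟨Quotient.mk'' (Classical.arbitrary Ω)⟩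
    exact Nat.one_le_iff_ne_zero.mpr Nat.card_pos.ne'
  have hpos : 0 < Fintype.card D := Fintype.card_pos
  have hr1 : Nat.card (orbitRel.Quotient D Ω) = 1 := by
    by_contra h
    have : 2 ≤ Nat.card (orbitRel.Quotient D Ω) := by omega
    nlinarith
  refine ⟨hr1, fun g hg => ?_⟩
  rw [hr1, one_mul] at hG
  have heq : ∑ g ∈ C, 1 = ∑ g ∈ C, Nat.card (fixedBy Ω g) := by
    rw [Finset.sum_const, smul_eq_mul, mul_one]
    omega
  exact ((Finset.sum_eq_sum_iff_of_le hge).mp heq g (Finset.mem_filter.mpr ⟨Finset.mem_univ g, hg⟩)).symm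

omit [Finite G] [Finite Ω] in
/-- The derangement subgroup is normal. -/
theorem derangeSubgroup_normal : (derangeSubgroup G Ω).Normal := by
  constructor
  intro x hx g
  have hle : derangeSubgroup G Ω ≤ (derangeSubgroup G Ω).comap (MulAut.conj g).toMonoidHom := by
    rw [Subgroup.closure_le]
    intro y hy
    refine Subgroup.subset_closure (fun ω h => ?_)
    apply hy (g⁻¹ • ω)
    have h' : (g * y * g⁻¹) • ω = ω := h
    rwa [mul_smul, mul_smul, smul_eq_iff_eq_inv_smul] at h'
  exact hle hx

/-- If a transitive subgroup `D` misses only elements with a fixed point, each of them fixes exactly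
one. -/
theorem card_fixedBy_eq_one_of_transitive {G X : Type*} [Group G] [Finite G] [MulAction G X] [Finite X]
    [Nonempty X] (D : Subgroup G) (hD : IsPretransitive D X)
    (hge : ∀ g : G, g ∉ D → 1 ≤ Nat.card (fixedBy X g)) (g : G) (hg : g ∉ D) :
    Nat.card (fixedBy X g) = 1 := by
  classical
  have := Fintype.ofFinite G
  have hD1 : Nat.card (orbitRel.Quotient D X) = 1 := by
    rw [Nat.card_eq_one_iff_unique]
    exact ⟨(pretransitive_iff_subsingleton_quotient D X).mp hD,
      ⟨Quotient.mk'' (Classical.arbitrary X)⟩⟩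
  have htr : IsPretransitive G X := ⟨fun a b => by
    obtain ⟨d, hd⟩ := hD.exists_smul_eq a b
    exact ⟨d, hd⟩⟩
  have h1 : Nat.card (orbitRel.Quotient G X) = 1 := by
    rw [Nat.card_eq_one_iff_unique]
    exact ⟨(pretransitive_iff_subsingleton_quotient G X).mp htr,
      ⟨Quotient.mk'' (Classical.arbitrary X)⟩⟩
  have hG := sum_card_fixedBy (G := G) (α := X)
  have hs : ∑ d : D, Nat.card (fixedBy X (d : G)) =
      Nat.card (orbitRel.Quotient D X) * Fintype.card D := sum_card_fixedBy (G := D) (α := X)
  rw [sum_split D, hs, h1, hD1, one_mul, one_mul] at hG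
  set C := Finset.univ.filter (· ∉ D)
  have hge' : ∀ g ∈ C, 1 ≤ Nat.card (fixedBy X g) := fun g hg => hge g (Finset.mem_filter.mp hg).2
  have hcard : Fintype.card D + C.card = Fintype.card G := by
    have h := sum_split D (fun _ => (1 : ℕ))
    simpa using h.symm
  have heq : ∑ g ∈ C, 1 = ∑ g ∈ C, Nat.card (fixedBy X g) := by
    rw [Finset.sum_const, smul_eq_mul, mul_one]
    omega
  exact ((Finset.sum_eq_sum_iff_of_le hge').mp heq g (Finset.mem_filter.mpr ⟨Finset.mem_univ g, hg⟩)).symm

/-- If all stabilisers lie in a subgroup, its index divides the number of points. -/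
theorem index_dvd_card_of_stabilizer_le {S X : Type*} [Group S] [MulAction S X] [Finite X]
    (K : Subgroup S) (h : ∀ x : X, stabilizer S x ≤ K) : K.index ∣ Nat.card X := by
  classical
  have : Fintype (orbitRel.Quotient S X) := Fintype.ofFinite _
  rw [Nat.card_congr (selfEquivSigmaOrbits S X), Nat.card_sigma]
  refine Finset.dvd_sum fun q _ => ?_
  rw [Nat.card_coe_set_eq, ← index_stabilizer]
  exact Subgroup.index_dvd_of_le (h q.out)

omit [Finite G] in
/-- The index of a transitive subgroup, read in a point stabiliser. -/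
theorem index_subgroupOf_stabilizer {D : Subgroup G} [D.Normal] (hD : IsPretransitive D Ω) (α : Ω) :
    (D.subgroupOf (stabilizer G α)).index = D.index := by
  have hsup : stabilizer G α ⊔ D = ⊤ := by
    rw [eq_top_iff]
    intro g _
    obtain ⟨d, hd⟩ := hD.exists_smul_eq α (g • α)
    have hd' : (d : G) • α = g • α := hd
    have hmem : (d : G)⁻¹ * g ∈ stabilizer G α := by
      show ((d : G)⁻¹ * g) • α = α
      rw [mul_smul, ← hd', inv_smul_smul]
    have := (stabilizer G α ⊔ D).mul_mem (Subgroup.mem_sup_right d.2) (Subgroup.mem_sup_left hmem)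
    rwa [mul_inv_cancel_left] at this
  show D.relIndex (stabilizer G α) = D.index
  rw [← Subgroup.relIndex_top_right, ← hsup, Subgroup.relIndex_sup_right]

end CfsgLib.Recog
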