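import Mathlib
import Cfsg.Prelude.Def_Solvable
import Cfsg.Agent.Lib.Recog.Derange
import Cfsg.Agent.Lib.Solvable.MinNormal
import Cfsg.Agent.Lib.Solvable.Fitting
import Cfsg.Agent.Lib.Perm.Basic
import Cfsg.Agent.S3494

/-! Point stabilisers of extremely primitive groups are primitive and faithful on each suborbit. -/

namespace CfsgLib.Recog

open MulAction

variable {H Δ : Type*} [Group H] [MulAction H Δ]

theorem center_eq_bot_of_primitive [Finite H] [IsPreprimitive H Δ] [FaithfulSMul H Δ]
    (hnp : ¬ (Nat.card H).Prime) : Subgroup.center H = ⊥ := by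
  by_contra hne
  haveI : IsPretransitive (Subgroup.center H) Δ := CfsgLib.Perm.normal_isPretransitive hne
  have hnt : Nontrivial Δ := by
    by_contra hc
    rw [not_nontrivial_iff_subsingleton] at hc
    apply hne
    rw [Subgroup.eq_bot_iff_forall]
    exact fun z _ => eq_of_smul_eq_smul fun x : Δ => Subsingleton.elim _ _
  obtain ⟨a, b, hab⟩ := exists_pair_ne Δ
  -- regularity
  have hreg : stabilizer H a = ⊥ := by
    rw [Subgroup.eq_bot_iff_forall]
    intro h hh
    refine eq_of_smul_eq_smul fun x : Δ => ?_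
    obtain ⟨⟨z, hz⟩, rfl⟩ := exists_smul_eq (Subgroup.center H) a x
    rw [one_smul, Subgroup.mk_smul, smul_smul, Subgroup.mem_center_iff.mp hz h, mul_smul, mem_stabilizer_iff.mp hh]
  have hco : IsCoatom (⊥ : Subgroup H) := hreg ▸ IsPreprimitive.isCoatom_stabilizer_of_isPreprimitive H a
  have h1 : 1 < Nat.card H := by
    rw [Finite.one_lt_card_iff_nontrivial]
    by_contra hc
    rw [not_nontrivial_iff_subsingleton] at hc
    exact hab ((exists_smul_eq H a b).elim fun g hg => by rwa [Subsingleton.elim g 1, one_smul] at hg)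
  apply hnp
  obtain ⟨r, hr, hrd⟩ := Nat.exists_prime_and_dvd h1.ne'
  haveI := Fact.mk hr
  obtain ⟨g, hg⟩ := exists_prime_orderOf_dvd_card' r hrd
  have hne1 : Subgroup.zpowers g ≠ ⊥ := by
    rw [Ne, Subgroup.zpowers_eq_bot]
    rintro rfl
    rw [orderOf_one] at hg
    exact hr.one_lt.ne hg
  have htop := hco.lt_iff.mp (bot_lt_iff_ne_bot.mpr hne1)
  rw [← Subgroup.card_top, ← htop, Nat.card_zpowers, hg]
  exact hr

theorem fitting_of_primitive [Finite H] [Nonempty Δ] [IsPreprimitive H Δ] [FaithfulSMul H Δ]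
    (hne : Cfsg.fittingSubgroup H ≠ ⊥) :
    IsMulCommutative (Cfsg.fittingSubgroup H) ∧ (∃ r : ℕ, r.Prime ∧ ∀ x ∈ Cfsg.fittingSubgroup H, x ^ r = 1) ∧
      Nat.card (Cfsg.fittingSubgroup H) = Nat.card Δ ∧
      Subgroup.centralizer (Cfsg.fittingSubgroup H : Set H) = Cfsg.fittingSubgroup H := by
  set F := Cfsg.fittingSubgroup H
  haveI : F.Normal := CfsgLib.Solvable.fittingSubgroup_normal H
  haveI : Group.IsNilpotent F := CfsgLib.Solvable.fittingSubgroup_isNilpotent
  haveI : Nontrivial F := F.nontrivial_iff_ne_bot.mpr hne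
  set Z := (Subgroup.center F).map F.subtype
  have hZne : Z ≠ ⊥ := by
    intro h
    have := (Subgroup.map_eq_bot_iff_of_injective _ F.subtype_injective).mp h
    exact (Group.IsNilpotent.center_ne_bot (G := F)) this
  have hZn : Z.Normal := inferInstance
  obtain ⟨V, hVn, hV0, hVZ, hVmin⟩ := CfsgLib.Solvable.exists_minimal_normal_le hZn hZne
  haveI := hVn
  have hVF : ∀ v ∈ V, ∀ x ∈ F, x * v = v * x := by
    intro v hv x hx
    obtain ⟨z, hz, rfl⟩ := hVZ hv
    exact congrArg Subtype.val (Subgroup.mem_center_iff.mp hz ⟨x, hx⟩)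
  haveI : IsMulCommutative V := ⟨⟨fun a b => Subtype.ext (hVF b b.2 a ((hVZ.trans (Subgroup.map_subtype_le _)) a.2))⟩⟩
  obtain ⟨⟨r, hr, hel⟩, ht, hreg⟩ := CfsgLib.Recog.abelian_minimal_normal (Ω := Δ) hV0 hVmin
  haveI := ht
  obtain ⟨a⟩ := (inferInstance : Nonempty Δ)
  have hC : ∀ x : H, (∀ v ∈ V, v * x = x * v) → x ∈ V := by
    intro x hx
    obtain ⟨⟨v, hv⟩, hva⟩ := exists_smul_eq V a (x • a)
    have : v⁻¹ * x = 1 := by
      refine eq_of_smul_eq_smul fun z : Δ => ?_
      obtain ⟨⟨w, hw⟩, rfl⟩ := exists_smul_eq V a z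
      have hc : (v⁻¹ * x) * w = w * (v⁻¹ * x) := by
        rw [mul_assoc, ← hx w hw, ← mul_assoc, ← mul_assoc]
        congr 1
        exact congrArg Subtype.val ((inferInstance : IsMulCommutative V).is_comm.comm ⟨v⁻¹, V.inv_mem hv⟩ ⟨w, hw⟩)
      rw [one_smul, Subgroup.mk_smul, smul_smul, hc, mul_smul w, mul_smul v⁻¹]
      have hva' : v • a = x • a := hva
      rw [← hva', inv_smul_smul]
    rw [inv_mul_eq_one] at this
    exact this ▸ hv
  have hFV : F = V := le_antisymm (fun x hx => hC x fun v hv => (hVF v hv x hx).symm) (hVZ.trans (Subgroup.map_subtype_le _))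
  rw [hFV]
  refine ⟨inferInstance, ⟨r, hr, ?_⟩, CfsgLib.Perm.natCard_eq_of_regular (hreg a), ?_⟩
  · exact fun x hx => hel.2 x hx
  · refine le_antisymm (fun x hx => hC x fun v hv => Subgroup.mem_centralizer_iff.mp hx v hv) fun x hx => ?_
    rw [Subgroup.mem_centralizer_iff]
    exact fun v hv => congrArg Subtype.val ((inferInstance : IsMulCommutative V).is_comm.comm ⟨v, hv⟩ ⟨x, hx⟩)

theorem suborbit_faithful {G Ω : Type*} [Group G] [Finite G] [Fintype Ω] [MulAction G Ω] [FaithfulSMul G Ω]
    (hprim : IsPreprimitive G Ω) (hH : ∀ α : Ω, stabilizer G α ≠ ⊥)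
    (hep : ∀ (α : Ω) (ω : Ω), IsPreprimitive (stabilizer G α) (orbit (stabilizer G α) ω))
    {α ω : Ω} (hω : ω ≠ α) : FaithfulSMul (stabilizer G α) (orbit (stabilizer G α) ω) := by
  refine ⟨fun {a b} hab => inv_mul_eq_one.mp (Cfsg.Agent.S3494.result hprim hH hep α ω hω _ fun x hx => ?_)⟩
  rw [mul_smul, inv_smul_eq_iff]
  exact (congrArg Subtype.val (hab ⟨x, hx⟩)).symm

theorem stabilizer_ne_bot_of_transitive {G Ω : Type*} [Group G] [MulAction G Ω] [IsPretransitive G Ω]
    {α : Ω} (h : stabilizer G α ≠ ⊥) (β : Ω) : stabilizer G β ≠ ⊥ := by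
  obtain ⟨g, rfl⟩ := exists_smul_eq G α β
  intro e
  apply h
  rw [Subgroup.eq_bot_iff_forall] at e ⊢
  intro x hx
  have := e (g * x * g⁻¹) (by rw [mem_stabilizer_iff, mul_smul, mul_smul, inv_smul_smul, mem_stabilizer_iff.mp hx])
  simpa using this

/-- Conjugation action on an elementary abelian normal subgroup, as matrices. -/
theorem exists_gl_hom {H : Type*} [Group H] [Finite H] (V : Subgroup H) [V.Normal] [IsMulCommutative V]
    {p : ℕ} [Fact p.Prime] (hp : ∀ x ∈ V, x ^ p = 1) :
    ∃ (e : ℕ) (φ : H →* GL (Fin e) (ZMod p)), Nat.card V = p ^ e ∧ φ.ker = Subgroup.centralizer (V : Set H) := by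
  classical
  letI : CommGroup V := { (inferInstance : Group V) with mul_comm := (inferInstance : IsMulCommutative V).is_comm.comm }
  letI : Module (ZMod p) (Additive V) :=
    AddCommGroup.zmodModule (n := p) (G := Additive V) (fun a : Additive V => Subtype.ext (hp _ a.toMul.2))
  haveI : Module.Finite (ZMod p) (Additive V) := Module.Finite.of_finite
  let b := Module.finBasis (ZMod p) (Additive V)
  let τ : H →* Module.End (ZMod p) (Additive V) :=
    { toFun := fun h => AddMonoidHom.toZModLinearMap p (MulAut.conjNormal (H := V) h).toMonoidHom.toAdditive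
      map_one' := by ext x; simp
      map_mul' := fun g h => by
        apply LinearMap.ext; intro x
        apply Additive.toMul.injective
        apply Subtype.ext
        simp [mul_assoc] }
  let φ : H →* GL (Fin (Module.finrank (ZMod p) (Additive V))) (ZMod p) :=
    (Units.map (LinearMap.toMatrixAlgEquiv b).toMonoidHom).comp τ.toHomUnits
  refine ⟨_, φ, ?_, ?_⟩
  · have h := Module.natCard_eq_pow_finrank (K := ZMod p) (V := Additive V)
    rw [Nat.card_zmod] at h
    exact (Nat.card_congr Additive.ofMul).trans h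
  · ext h
    rw [MonoidHom.mem_ker, Subgroup.mem_centralizer_iff]
    have key : φ h = 1 ↔ τ h = 1 := by
      rw [Units.ext_iff]
      constructor
      · intro e
        exact (LinearMap.toMatrixAlgEquiv b).injective (e.trans (map_one _).symm)
      · intro e
        change LinearMap.toMatrixAlgEquiv b (τ h) = 1
        rw [e, map_one]
    rw [key]
    constructor
    · intro e v hv
      have := congrArg (fun f : Module.End (ZMod p) (Additive V) => ((f (Additive.ofMul (⟨v, hv⟩ : V))).toMul : H)) e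
      have h2 : h * v * h⁻¹ = v := this
      exact (mul_inv_eq_iff_eq_mul.mp h2).symm
    · intro e
      apply LinearMap.ext; intro x
      apply Additive.toMul.injective
      apply Subtype.ext
      change h * (x.toMul : H) * h⁻¹ = (x.toMul : H)
      rw [mul_inv_eq_iff_eq_mul]
      exact (e _ x.toMul.2).symm

end CfsgLib.Recog
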