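import Mathlib.GroupTheory.Perm.Cycle.Type
import Mathlib.Tactic.Ring
import Mathlib.Tactic.Linarith
import Mathlib.Data.ZMod.Basic
import Mathlib.Tactic.IntervalCases
import Mathlib.Logic.Equiv.Fin.Basic

/-!
When does every permutation of prime order fix some partition of shape `b` parts of size `a`?
-/

set_option autoImplicit false

namespace CfsgLib.Recog.FixedPartition

open Equiv Finset

/-- `f` is a partition into parts of size `a` fixed by `σ`. -/
def Fixes {X : Type*} (σ : Perm X) (a b : ℕ) : Prop :=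
  ∃ f : X → Fin b, (∀ j : Fin b, Nat.card {x : X // f x = j} = a) ∧
    ∃ π : Perm (Fin b), ∀ x, f (σ x) = π (f x)

theorem conj_of_support {X : Type*} [Fintype X] [DecidableEq X] {r : ℕ} [Fact r.Prime] {σ τ : Perm X}
    (hσ : σ ^ r = 1) (hτ : τ ^ r = 1) (h : σ.support.card = τ.support.card) : IsConj σ τ := by
  have h1 := Perm.cycleType_of_pow_prime_eq_one hσ
  have h2 := Perm.cycleType_of_pow_prime_eq_one hτ
  rw [Perm.isConj_iff_cycleType_eq, h1, h2]
  congr 1
  rw [← Perm.sum_cycleType, ← Perm.sum_cycleType, h1, h2, Multiset.sum_replicate, Multiset.sum_replicate,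
    smul_eq_mul, smul_eq_mul] at h
  exact Nat.eq_of_mul_eq_mul_right (Fact.out : r.Prime).pos h

theorem fixes_conj {X : Type*} {σ τ : Perm X} (h : IsConj σ τ) {a b : ℕ} (hf : Fixes σ a b) : Fixes τ a b := by
  obtain ⟨g, rfl⟩ := isConj_iff.1 h
  obtain ⟨f, hf, π, hπ⟩ := hf
  refine ⟨f ∘ g.symm, fun j => ?_, π, fun x => ?_⟩
  · rw [← hf j]
    exact Nat.card_congr (g.symm.subtypeEquiv fun _ => Iff.rfl)
  · simp [hπ]

/-- A permutation of exponent `r` with `s` cycles of length `r`. -/
theorem exists_perm {r : ℕ} (hr : r.Prime) (X : Type*) [Fintype X] [DecidableEq X] (s : ℕ)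
    (h : s * r ≤ Fintype.card X) : ∃ π : Perm X, π ^ r = 1 ∧ π.support.card = s * r := by
  haveI : NeZero r := ⟨hr.ne_zero⟩
  have hr2 := hr.two_le
  let e : X ≃ (Fin s × ZMod r) ⊕ Fin (Fintype.card X - s * r) :=
    Fintype.equivOfCardEq (by simp [ZMod.card]; omega)
  let π0 : Perm ((Fin s × ZMod r) ⊕ Fin (Fintype.card X - s * r)) :=
    Equiv.sumCongr (Equiv.prodCongr (Equiv.refl _) (Equiv.addRight 1)) (Equiv.refl _)
  refine ⟨e.symm.permCongr π0, Equiv.ext fun x => ?_, ?_⟩
  · have key : ∀ n : ℕ, ((e.symm.permCongr π0) ^ n) x =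
        e.symm (Sum.map (fun p => (p.1, p.2 + n)) id (e x)) := by
      intro n
      induction n with
      | zero =>
        rcases hx : e x with p | q <;> simp <;> rw [← hx, Equiv.symm_apply_apply]
      | succ n ih =>
        rw [pow_succ', Perm.mul_apply, ih]
        rcases hx : e x with p | q <;> simp [π0, Equiv.permCongr_apply, add_assoc]
    rw [key, ZMod.natCast_self]
    rcases hx : e x with p | q <;> simp <;> rw [← hx, Equiv.symm_apply_apply]
  · have hsupp : (e.symm.permCongr π0).support =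
        (univ : Finset (Fin s × ZMod r)).map ⟨fun p => e.symm (Sum.inl p), e.symm.injective.comp Sum.inl_injective⟩ := by
      haveI := Fact.mk hr.one_lt
      ext x
      rw [Perm.mem_support]
      rcases hx : e x with p | q
      · have : x = e.symm (Sum.inl p) := by rw [← hx, Equiv.symm_apply_apply]
        subst this
        simp [π0, Equiv.permCongr_apply, Prod.ext_iff]
      · have : x = e.symm (Sum.inr q) := by rw [← hx, Equiv.symm_apply_apply]
        subst this
        simp [π0, Equiv.permCongr_apply]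
    rw [hsupp, card_map, card_univ, Fintype.card_prod, Fintype.card_fin, ZMod.card]

theorem exists_distrib (A : ℕ) : ∀ (m s : ℕ), s ≤ m * A → ∃ t : Fin m → ℕ, (∀ i, t i ≤ A) ∧ ∑ i, t i = s
  | 0, s, h => ⟨fun _ => 0, fun _ => Nat.zero_le _, by simp at h; simp [h]⟩
  | m + 1, s, h => by
    obtain ⟨t, ht, hsum⟩ := exists_distrib A m (s - min A s) (by rw [Nat.add_mul, one_mul] at h; omega)
    refine ⟨Fin.cons (min A s) t, fun i => ?_, ?_⟩
    · refine Fin.cases ?_ (fun i => ?_) i
      · rw [Fin.cons_zero]; exact min_le_left _ _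
      · rw [Fin.cons_succ]; exact ht i
    · rw [Fin.sum_univ_succ]
      simp only [Fin.cons_zero, Fin.cons_succ, hsum]
      omega

/-- Enough data gives a fixed partition. -/
theorem fixes_of_decomp {r a b : ℕ} [Fact r.Prime] {σ : Perm (Fin (a * b))} (hσ : σ ^ r = 1) {j c s : ℕ}
    (hj : σ.support.card = j * r) (hc : c * r ≤ b) (hs : s ≤ (b - c * r) * (a / r)) (he : j = c * a + s) :
    Fixes σ a b := by
  classical
  have hr : r.Prime := Fact.out
  haveI := Fact.mk hr.one_lt
  haveI : NeZero r := ⟨hr.ne_zero⟩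
  obtain ⟨t, ht, hsum⟩ := exists_distrib (a / r) (b - c * r) s hs
  have hex : ∀ i, ∃ π : Perm (Fin a), π ^ r = 1 ∧ π.support.card = t i * r := fun i =>
    exists_perm hr (Fin a) (t i) (by
      rw [Fintype.card_fin]
      exact (Nat.mul_le_mul_right r (ht i)).trans (Nat.div_mul_le_self a r))
  choose π hπ hπs using hex
  let eB : Fin b ≃ (Fin c × ZMod r) ⊕ Fin (b - c * r) := Fintype.equivOfCardEq (by simp [ZMod.card]; omega)
  let P : Perm ((Fin c × ZMod r) ⊕ Fin (b - c * r)) :=
    Equiv.sumCongr (Equiv.prodCongr (Equiv.refl _) (Equiv.addRight 1)) (Equiv.refl _)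
  let Q : (Fin c × ZMod r) ⊕ Fin (b - c * r) → Perm (Fin a) := Sum.elim (fun _ => 1) π
  let σ0 : Perm (((Fin c × ZMod r) ⊕ Fin (b - c * r)) × Fin a) := Equiv.prodShear P Q
  let eX : Fin (a * b) ≃ ((Fin c × ZMod r) ⊕ Fin (b - c * r)) × Fin a :=
    Fintype.equivOfCardEq (by
      simp only [Fintype.card_prod, Fintype.card_sum, Fintype.card_fin, ZMod.card, mul_comm a]
      congr 1; omega)
  refine fixes_conj (σ := eX.symm.permCongr σ0) (conj_of_support (r := r) ?_ hσ ?_)
    ⟨fun x => eB.symm (eX x).1, fun i => ?_, eB.symm.permCongr P, fun x => ?_⟩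
  · refine Equiv.ext fun x => ?_
    have key : ∀ n : ℕ, ((eX.symm.permCongr σ0) ^ n) x =
        eX.symm (Sum.map (fun p => (p.1, p.2 + n)) id (eX x).1, (Q (eX x).1 ^ n) (eX x).2) := by
      intro n
      induction n with
      | zero =>
        rcases hx : (eX x).1 with p | q <;> simp <;> rw [← hx, Prod.mk.eta, Equiv.symm_apply_apply]
      | succ n ih =>
        rw [pow_succ', Perm.mul_apply, ih]
        rcases hx : (eX x).1 with p | q <;>
          simp [σ0, P, Q, Equiv.permCongr_apply, pow_succ', add_assoc]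
    rw [key, ZMod.natCast_self]
    rcases hx : (eX x).1 with p | q <;> simp [Q, hπ] <;> rw [← hx, Prod.mk.eta, Equiv.symm_apply_apply]
  · rw [hj, he]
    have hsupp : (eX.symm.permCongr σ0).support =
        ((univ : Finset ((Fin c × ZMod r) ⊕ Fin (b - c * r))).sigma
          fun blk => Sum.elim (fun _ => (univ : Finset (Fin a))) (fun i => (π i).support) blk).map
          ⟨fun p => eX.symm (p.1, p.2), eX.symm.injective.comp (fun p q h => by
            obtain ⟨p1, p2⟩ := p; obtain ⟨q1, q2⟩ := q
            simp only [Prod.mk.injEq] at h; obtain ⟨rfl, rfl⟩ := h; rfl)⟩ := by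
      ext x
      obtain ⟨⟨blk, y⟩, rfl⟩ := eX.symm.surjective x
      rw [Perm.mem_support]
      rcases blk with p | q <;> simp [σ0, P, Q, Equiv.permCongr_apply, Prod.ext_iff, Perm.mem_support]
    rw [hsupp, card_map, card_sigma, Fintype.sum_sum_type]
    simp only [Sum.elim_inl, Sum.elim_inr, card_univ, sum_const, Fintype.card_prod, Fintype.card_fin, ZMod.card,
      smul_eq_mul, hπs, ← sum_mul, hsum]
    ring
  · refine (Nat.card_congr (β := Fin a) ?_).trans (Nat.card_fin a)
    exact
      { toFun := fun x => (eX x.1).2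
        invFun := fun y => ⟨eX.symm (eB i, y), by simp⟩
        left_inv := fun x => by
          apply Subtype.ext
          show eX.symm (eB i, (eX x.1).2) = x.1
          have : eB i = (eX x.1).1 := ((Equiv.symm_apply_eq eB).1 x.2).symm
          rw [this, Prod.mk.eta, Equiv.symm_apply_apply]
        right_inv := fun y => by simp }
  · simp [σ0, Equiv.permCongr_apply]

/-- A fixed partition gives data. -/
theorem decomp_of_fixes {r a b : ℕ} [Fact r.Prime] (ha : 1 ≤ a) {σ : Perm (Fin (a * b))} (hσ : σ ^ r = 1)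
    (hf : Fixes σ a b) :
    ∃ c s, c * r ≤ b ∧ s ≤ (b - c * r) * (a / r) ∧ σ.support.card = (c * a + s) * r := by
  classical
  obtain ⟨f, hf, π, hπ⟩ := hf
  have hr : r.Prime := Fact.out
  have hfib : ∀ i, (univ.filter fun x => f x = i).card = a := fun i =>
    Eq.trans (by rw [Nat.card_eq_fintype_card, Fintype.card_subtype]) (hf i)
  have hsurj : Function.Surjective f := fun i => by
    obtain ⟨x, hx⟩ := card_pos.1 (lt_of_lt_of_eq (show 0 < a by omega) (hfib i).symm)
    exact ⟨x, (mem_filter.1 hx).2⟩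
  have hn : ∀ n x, f ((σ ^ n) x) = (π ^ n) (f x) := fun n x => by
    induction n with
    | zero => rfl
    | succ n ih => rw [pow_succ', pow_succ', Perm.mul_apply, Perm.mul_apply, hπ, ih]
  have hπr : π ^ r = 1 := Equiv.ext fun i => by
    obtain ⟨x, rfl⟩ := hsurj i
    rw [← hn, hσ, Perm.one_apply, Perm.one_apply]
  obtain ⟨c, hc⟩ : ∃ c, π.support.card = c * r :=
    ⟨π.cycleType.card, by rw [← Perm.sum_cycleType, Perm.cycleType_of_pow_prime_eq_one hπr]; simp⟩
  have hblk : ∀ i ∈ π.supportᶜ, ∃ t, t ≤ a / r ∧ (σ.support.filter fun x => f x = i).card = t * r := by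
    intro i hi
    rw [mem_compl, Perm.notMem_support] at hi
    have hinv : ∀ x, f x = i ↔ f (σ x) = i := fun x => by
      rw [hπ]; exact ⟨fun h => by rw [h, hi], fun h => π.injective (h.trans hi.symm)⟩
    let τ : Perm {x // f x = i} := σ.subtypePerm fun x => (hinv x).symm
    have hτ : τ ^ r = 1 := by
      rw [Perm.subtypePerm_pow]
      refine Equiv.ext fun x => Subtype.ext ?_
      simp [hσ]
    have hcard : (σ.support.filter fun x => f x = i).card = τ.support.card := by
      rw [show σ.support.filter (fun x => f x = i) = τ.support.map ⟨Subtype.val, Subtype.val_injective⟩ from ?_, card_map]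
      ext x
      simp only [mem_filter, mem_map, Perm.mem_support, Function.Embedding.coeFn_mk]
      constructor
      · rintro ⟨h1, h2⟩
        exact ⟨⟨x, h2⟩, fun h => h1 (congrArg Subtype.val h), rfl⟩
      · rintro ⟨⟨y, hy⟩, h1, rfl⟩
        exact ⟨fun h => h1 (Subtype.ext h), hy⟩
    refine ⟨τ.cycleType.card, (Nat.le_div_iff_mul_le hr.pos).2 ?_, ?_⟩
    · rw [← smul_eq_mul, ← Multiset.sum_replicate, ← Perm.cycleType_of_pow_prime_eq_one hτ, Perm.sum_cycleType]
      refine (card_le_univ _).trans (le_of_eq ?_)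
      rw [Fintype.card_subtype, hfib]
    · rw [hcard, ← Perm.sum_cycleType, Perm.cycleType_of_pow_prime_eq_one hτ]; simp
  choose t ht htc using hblk
  refine ⟨c, ∑ i ∈ π.supportᶜ.attach, t i.1 i.2, hc ▸ (card_le_univ _).trans (Fintype.card_fin b).le, ?_, ?_⟩
  · refine (sum_le_sum fun i _ => ht i.1 i.2).trans (le_of_eq ?_)
    rw [sum_const, card_attach, card_compl, Fintype.card_fin, hc, smul_eq_mul]
  · have hmoved : ∀ i ∈ π.support, (σ.support.filter fun x => f x = i).card = a := fun i hi => by
      refine Eq.trans ?_ (hfib i)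
      congr 1
      ext x
      simp only [mem_filter, Perm.mem_support, mem_univ, true_and, and_iff_right_iff_imp]
      intro hx hfx
      have := hπ x
      rw [hfx, hx] at this
      exact (Perm.mem_support.1 hi) this.symm
    rw [card_eq_sum_card_fiberwise (f := f) (t := univ) (fun _ _ => mem_univ _), ← sum_add_sum_compl π.support,
      sum_congr rfl hmoved, sum_const, hc, ← sum_attach π.supportᶜ, sum_congr rfl fun i _ => htc i.1 i.2, ← sum_mul,
      smul_eq_mul]
    ring

/-- The arithmetic criterion. -/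
theorem arith {r a b : ℕ} (hr : 2 ≤ r) (ha : 2 ≤ a) (hb : 2 ≤ b) (hrd : r ≤ a * b) :
    (∀ j, 1 ≤ j → j * r ≤ a * b → ∃ c s, c * r ≤ b ∧ s ≤ (b - c * r) * (a / r) ∧ j = c * a + s) ↔
      (r ≤ a ∧ (a % r = 0 ∨ (b % r = 0 ∧ a % r = 1) ∨
        (a % r ≠ 0 ∧ b % r ≠ 0 ∧ (b % r) * (a % r) < r ∧ (b < r ∨ (b % r + r) * (a % r) ≤ (b % r) * a + r)))) := by
  obtain ⟨A, l, hl, rfl⟩ : ∃ A l, l < r ∧ a = A * r + l :=
    ⟨a / r, a % r, Nat.mod_lt _ (by omega), (Nat.div_add_mod' a r).symm⟩
  obtain ⟨B, k, hk, rfl⟩ : ∃ B k, k < r ∧ b = B * r + k :=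
    ⟨b / r, b % r, Nat.mod_lt _ (by omega), (Nat.div_add_mod' b r).symm⟩
  have ea : (A * r + l) / r = A := by
    rw [Nat.mul_comm, Nat.mul_add_div (by omega), Nat.div_eq_of_lt hl, add_zero]
  have el : (A * r + l) % r = l := by rw [Nat.mul_comm, Nat.mul_add_mod, Nat.mod_eq_of_lt hl]
  have ek : (B * r + k) % r = k := by rw [Nat.mul_comm, Nat.mul_add_mod, Nat.mod_eq_of_lt hk]
  rw [el, ek, ea]
  have hB : ∀ c, c * r ≤ B * r + k → c ≤ B := fun c h => by
    by_contra hc
    have := Nat.mul_le_mul_right r (show B + 1 ≤ c by omega)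
    rw [Nat.add_mul, one_mul] at this
    omega
  constructor
  · intro hall
    have hA : 1 ≤ A := by
      by_contra h
      obtain ⟨c, s, hc, hs, he⟩ := hall 1 le_rfl (by rw [one_mul]; exact hrd)
      obtain rfl : A = 0 := by omega
      simp only [mul_zero, Nat.le_zero] at hs
      subst hs
      rcases c with _ | c
      · simp at he
      · rw [Nat.add_mul] at he; omega
    have hra : r ≤ A * r + l := by nlinarith
    refine ⟨hra, ?_⟩
    by_cases hl0 : l = 0
    · exact Or.inl hl0
    right
    have hkl : k * l < r := by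
      by_contra h
      obtain ⟨c, s, hc, hs, he⟩ := hall ((B * r + k) * A + B * l + 1) (by omega) (by nlinarith)
      have hcB := hB c hc
      obtain ⟨u, hu⟩ := Nat.exists_eq_add_of_le hc
      rw [hu, Nat.add_sub_cancel_left] at hs
      have h1 : c * l ≤ B * l := Nat.mul_le_mul_right l hcB
      nlinarith
    have hgap : 1 ≤ B → l ≤ k * A + 1 := by
      intro hB1
      by_contra h
      obtain ⟨B', rfl⟩ : ∃ B', B = B' + 1 := ⟨B - 1, by omega⟩
      -- just above the last but one interval
      obtain ⟨c, s, hc, hs, he⟩ := hall (((B' + 1) * r + k) * A + B' * l + 1) (by omega) (by nlinarith)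
      have hcB := hB c hc
      obtain ⟨u, hu⟩ := Nat.exists_eq_add_of_le hc
      rw [hu, Nat.add_sub_cancel_left] at hs
      rcases Nat.lt_or_ge c (B' + 1) with hlt | hge
      · have h1 : c * l ≤ B' * l := Nat.mul_le_mul_right l (by omega)
        nlinarith
      · obtain rfl : c = B' + 1 := by omega
        nlinarith
    by_cases hk0 : k = 0
    · subst hk0
      refine Or.inl ⟨rfl, ?_⟩
      have hB1 : 1 ≤ B := by
        rcases B with _ | B
        · simp at hb
        · omega
      have := hgap hB1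
      omega
    · refine Or.inr ⟨hl0, hk0, hkl, ?_⟩
      rcases B with _ | B
      · left; simp [hk]
      · right
        have := hgap (by omega)
        nlinarith
  · rintro ⟨hra, hcond⟩ j hj1 hj
    have hA : 1 ≤ A := by
      by_contra h
      obtain rfl : A = 0 := by omega
      omega
    have hcond' : k * l < r ∧ (1 ≤ B → l ≤ k * A + 1) := by
      rcases hcond with rfl | ⟨rfl, rfl⟩ | ⟨h1, h2, h3, h4⟩
      · exact ⟨by rw [mul_zero]; omega, fun _ => Nat.zero_le _⟩
      · exact ⟨by rw [zero_mul]; omega, fun _ => by omega⟩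
      · refine ⟨h3, fun hB1 => ?_⟩
        have h5 := h4.resolve_left (by nlinarith)
        by_contra h
        nlinarith
    obtain ⟨hkl, hgap⟩ := hcond'
    have htop : j ≤ (B * r + k) * A + B * l := by
      by_contra h
      have := Nat.mul_le_mul_right r (show (B * r + k) * A + B * l + 1 ≤ j by omega)
      nlinarith
    have hex : ∀ C, C ≤ B → j ≤ (B * r + k) * A + C * l →
        ∃ c s, c * r ≤ B * r + k ∧ s ≤ (B * r + k - c * r) * A ∧ j = c * (A * r + l) + s := by
      intro C
      induction C with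
      | zero => intro _ h; exact ⟨0, j, by simp, by simpa using h, by simp⟩
      | succ C ih =>
        intro hC h
        by_cases hle : (C + 1) * (A * r + l) ≤ j
        · refine ⟨C + 1, j - (C + 1) * (A * r + l), ?_, ?_, by omega⟩
          · have := Nat.mul_le_mul_right r hC; omega
          · obtain ⟨u, hu⟩ := Nat.exists_eq_add_of_le
              (show (C + 1) * r ≤ B * r + k by have := Nat.mul_le_mul_right r hC; omega)
            have hh : (B * r + k) * A = ((C + 1) * r + u) * A := by rw [hu]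
            rw [hu, Nat.add_sub_cancel_left]
            rw [Nat.sub_le_iff_le_add]
            nlinarith
        · refine ih (by omega) ?_
          have h1 := hgap (by omega)
          have h2 : (C + 1) * (A * r) ≤ B * (A * r) := Nat.mul_le_mul_right _ hC
          nlinarith
    exact hex B le_rfl htop

theorem main {r a b : ℕ} (hr : r.Prime) (ha : 2 ≤ a) (hb : 2 ≤ b) (hrd : r ≤ a * b) :
    (∀ σ : Perm (Fin (a * b)), orderOf σ = r → Fixes σ a b) ↔
      (r ≤ a ∧ (a % r = 0 ∨ (b % r = 0 ∧ a % r = 1) ∨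
        (a % r ≠ 0 ∧ b % r ≠ 0 ∧ (b % r) * (a % r) < r ∧ (b < r ∨ (b % r + r) * (a % r) ≤ (b % r) * a + r)))) := by
  classical
  haveI := Fact.mk hr
  rw [← arith hr.two_le ha hb hrd]
  constructor
  · intro h j hj1 hj
    obtain ⟨σ, hσ, hσs⟩ := exists_perm hr (Fin (a * b)) j (by rwa [Fintype.card_fin])
    have ho : orderOf σ = r := orderOf_eq_prime hσ fun e => by
      rw [e, Perm.support_one, card_empty] at hσs
      have := Nat.mul_pos (show 0 < j by omega) hr.pos
      omega
    obtain ⟨c, s, hc, hs, he⟩ := decomp_of_fixes (by omega) hσ (h σ ho)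
    exact ⟨c, s, hc, hs, Nat.eq_of_mul_eq_mul_right hr.pos (hσs.symm.trans he)⟩
  · intro h σ ho
    have hσ : σ ^ r = 1 := ho ▸ pow_orderOf_eq_one σ
    have hj : σ.support.card = σ.cycleType.card * r := by
      rw [← Perm.sum_cycleType]; conv_lhs => rw [Perm.cycleType_of_pow_prime_eq_one hσ]
      simp
    have hj1 : 1 ≤ σ.cycleType.card := by
      rw [Nat.one_le_iff_ne_zero, ne_eq, Multiset.card_eq_zero, Perm.cycleType_eq_zero]
      intro e
      exact hr.ne_one (by rw [← ho, e, orderOf_one])
    obtain ⟨c, s, hc, hs, he⟩ := h _ hj1 (hj ▸ (card_le_univ _).trans (Fintype.card_fin _).le)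
    exact fixes_of_decomp hσ hj hc hs he

end CfsgLib.Recog.FixedPartition
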