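import Mathlib.Data.ZMod.Basic
import Mathlib.Data.Matrix.Mul
import Mathlib.Algebra.BigOperators.Fin
import Mathlib.Algebra.BigOperators.Group.List.Lemmas
import Mathlib.GroupTheory.OrderOfElement
import Mathlib.Algebra.Group.Subgroup.Lattice
import Mathlib.LinearAlgebra.Matrix.GeneralLinearGroup.Defs
import Cfsg.Agent.Lib.Char.Burnside

/-!
A kernel check establishing that two matrices generate a finite group of fixed-point-free matrices with
given element orders.
-/

set_option autoImplicit false

namespace CfsgLib.Recog.FpfTable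

/-- Four numbers. -/
structure R4 where
  a : ℕ
  b : ℕ
  c : ℕ
  d : ℕ

/-- Four rows. -/
structure M4 where
  a : R4
  b : R4
  c : R4
  d : R4

/-- A row times a matrix, modulo `p`. -/
def R4.mul (p : ℕ) (v : R4) (M : M4) : R4 :=
  ⟨(v.a * M.a.a + v.b * M.b.a + v.c * M.c.a + v.d * M.d.a) % p, (v.a * M.a.b + v.b * M.b.b + v.c * M.c.b + v.d * M.d.b) % p, (v.a * M.a.c + v.b * M.b.c + v.c * M.c.c + v.d * M.d.c) % p, (v.a * M.a.d + v.b * M.b.d + v.c * M.c.d + v.d * M.d.d) % p⟩

/-- Product modulo `p`. -/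
def M4.mul (p : ℕ) (A M : M4) : M4 :=
  ⟨A.a.mul p M, A.b.mul p M, A.c.mul p M, A.d.mul p M⟩

/-- Comparison of rows. -/
def R4.beq (v w : R4) : Bool := v.a.beq w.a && v.b.beq w.b && v.c.beq w.c && v.d.beq w.d

/-- Comparison. -/
def M4.beq (A M : M4) : Bool := A.a.beq M.a && A.b.beq M.b && A.c.beq M.c && A.d.beq M.d

/-- The row as a function. -/
def R4.get (v : R4) : Fin 4 → ℕ := ![v.a, v.b, v.c, v.d]

/-- The entries. -/
def M4.entry (A : M4) (i j : Fin 4) : ℕ := ((![A.a, A.b, A.c, A.d] i).get j)

/-- The matrix over `ZMod p`. -/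
def M4.toMat (p : ℕ) (A : M4) : Matrix (Fin 4) (Fin 4) (ZMod p) :=
  Matrix.of fun i j => (A.entry i j : ZMod p)

/-- Decoding from base 16. -/
def M4.decode (n : ℕ) : M4 :=
  ⟨⟨n / 1 % 16, n / 16 % 16, n / 256 % 16, n / 4096 % 16⟩, ⟨n / 65536 % 16, n / 1048576 % 16, n / 16777216 % 16, n / 268435456 % 16⟩, ⟨n / 4294967296 % 16, n / 68719476736 % 16, n / 1099511627776 % 16, n / 17592186044416 % 16⟩, ⟨n / 281474976710656 % 16, n / 4503599627370496 % 16, n / 72057594037927936 % 16, n / 1152921504606846976 % 16⟩⟩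

/-- The identity. -/
def M4.one : M4 := ⟨⟨1, 0, 0, 0⟩, ⟨0, 1, 0, 0⟩, ⟨0, 0, 1, 0⟩, ⟨0, 0, 0, 1⟩⟩

theorem M4.eq_of_beq {A M : M4} (h : A.beq M = true) : A = M := by
  obtain ⟨⟨a1, a2, a3, a4⟩, ⟨b1, b2, b3, b4⟩, ⟨c1, c2, c3, c4⟩, ⟨d1, d2, d3, d4⟩⟩ := A
  obtain ⟨⟨a1', a2', a3', a4'⟩, ⟨b1', b2', b3', b4'⟩, ⟨c1', c2', c3', c4'⟩, ⟨d1', d2', d3', d4'⟩⟩ := M
  simp only [M4.beq, R4.beq, Bool.and_eq_true, Nat.beq_eq] at h
  simp [h]

variable {p : ℕ}

theorem M4.toMat_mul (A M : M4) : (A.mul p M).toMat p = A.toMat p * M.toMat p := by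
  ext i j
  rw [Matrix.mul_apply, Fin.sum_univ_four]
  fin_cases i <;> fin_cases j <;> simp [M4.toMat, M4.entry, M4.mul, R4.mul, R4.get, ZMod.natCast_mod]

theorem M4.toMat_one : M4.one.toMat p = 1 := by
  ext i j
  fin_cases i <;> fin_cases j <;> simp [M4.toMat, M4.entry, M4.one, R4.get]

/-- The tables: codes of the elements (the identity first), the two step maps and the lists of powers. -/
structure Data where
  p : ℕ
  codes : List ℕ
  succA : List ℕ
  succB : List ℕ
  chains : List (List ℕ)
  codeA : ℕ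
  codeB : ℕ
  orders : List ℕ

/-- The element with the given index. -/
def Data.el (D : Data) (i : ℕ) : M4 := M4.decode (D.codes.getD i 0)

/-- The check. -/
def Data.check (D : Data) : Bool :=
  decide (0 < D.codes.length) && (D.el 0).beq M4.one &&
  (List.range D.codes.length).all (fun i =>
    let c := D.chains.getD i []
    decide (D.succA.getD i 0 < D.codes.length) && decide (D.succB.getD i 0 < D.codes.length) &&
    ((D.el i).mul D.p (M4.decode D.codeA)).beq (D.el (D.succA.getD i 0)) &&
    ((D.el i).mul D.p (M4.decode D.codeB)).beq (D.el (D.succB.getD i 0)) &&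
    decide (0 < c.length) && decide (c.getD 0 0 = 0) && decide (c.length ∈ D.orders) &&
    (List.range c.length).all (fun k =>
      decide (c.getD k 0 < D.codes.length) &&
      ((D.el (c.getD k 0)).mul D.p (D.el i)).beq (D.el (c.getD ((k + 1) % c.length) 0)) &&
      decide (k = 0 ∨ (List.finRange 4).any (fun r => (List.finRange 4).any (fun s =>
        decide ((D.el (c.getD k 0)).entry r s % D.p ≠ M4.one.entry r s % D.p))) = true)) &&
    decide (i = 0 ∨ (List.finRange 4).all (fun r => (List.finRange 4).all (fun s =>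
      decide ((c.map fun k => (D.el k).entry r s).sum % D.p = 0))) = true) &&
    decide (i = 0 ∨ (List.range i).any (fun j => decide (D.succA.getD j 0 = i ∨ D.succB.getD j 0 = i)) = true)) &&
  D.orders.all (fun o => (List.range D.codes.length).any (fun i => decide ((D.chains.getD i []).length = o)))

theorem check_spec (D : Data) [Fact (1 < D.p)] (h : D.check = true) :
    ∃ C : Subgroup (GL (Fin 4) (ZMod D.p)), Finite C ∧ Set.range (orderOf : C → ℕ) = {n | n ∈ D.orders} ∧
      ∀ g : C, g ≠ 1 → ∑ i ∈ Finset.range (orderOf g), ((g : GL (Fin 4) (ZMod D.p)) ^ i).val = 0 := by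
  haveI : NeZero D.p := ⟨by have := (Fact.out : 1 < D.p); omega⟩
  simp only [Data.check, Bool.and_eq_true, decide_eq_true_eq, List.all_eq_true, List.mem_range, Bool.and_assoc] at h
  obtain ⟨hlen, hone, hrow, hall⟩ := h
  set n := D.codes.length
  have hone' : (D.el 0).toMat D.p = 1 := by rw [M4.eq_of_beq hone, M4.toMat_one]
  let E : ℕ → Matrix (Fin 4) (Fin 4) (ZMod D.p) := fun i => (D.el i).toMat D.p
  have hchain : ∀ i, i < n → ∀ k, E i ^ k = E ((D.chains.getD i []).getD (k % (D.chains.getD i []).length) 0) := by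
    intro i hi k
    obtain ⟨-, -, -, -, hpos, h0, -, hsteps, -⟩ := hrow i hi
    induction k with
    | zero => rw [Nat.zero_mod, pow_zero, h0]; exact hone'.symm
    | succ k ih =>
      obtain ⟨-, hs, -⟩ := hsteps _ (Nat.mod_lt k hpos)
      rw [pow_succ, ih]
      show (D.el _).toMat D.p * (D.el i).toMat D.p = _
      rw [← M4.toMat_mul, M4.eq_of_beq hs, Nat.mod_add_mod]
  have horder : ∀ (i : ℕ), i < n → ∀ g : GL (Fin 4) (ZMod D.p), g.val = E i → orderOf g = (D.chains.getD i []).length := by
    intro i hi g hg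
    obtain ⟨-, -, -, -, hpos, h0, -, hsteps, -⟩ := hrow i hi
    rw [orderOf_eq_iff hpos]
    refine ⟨Units.ext ?_, fun k hk hk0 e => ?_⟩
    · rw [Units.val_pow_eq_pow_val, hg, hchain i hi, Nat.mod_self, h0, Units.val_one]; exact hone'
    · obtain ⟨-, -, hne⟩ := hsteps k hk
      have hne := hne.resolve_left (by omega)
      simp only [List.any_eq_true, decide_eq_true_eq] at hne
      obtain ⟨r, -, s, -, hrs⟩ := hne
      apply hrs
      have e' := congrArg Units.val e
      rw [Units.val_pow_eq_pow_val, hg, hchain i hi, Nat.mod_eq_of_lt hk, Units.val_one, ← M4.toMat_one] at e'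
      have := congrFun (congrFun e' r) s
      exact (ZMod.natCast_eq_natCast_iff' _ _ _).mp this
  let A := M4.decode D.codeA
  let B := M4.decode D.codeB
  obtain ⟨hsA, hsB, hmA, hmB, -⟩ := hrow 0 hlen
  have hunit : ∀ (X : M4) (j : ℕ), j < n → ((D.el 0).mul D.p X).beq (D.el j) = true →
      ∃ g : GL (Fin 4) (ZMod D.p), g.val = X.toMat D.p ∧ g ^ (D.chains.getD j []).length = 1 := by
    intro X j hj hX
    have hXj : X.toMat D.p = E j := by
      show _ = (D.el j).toMat D.p
      rw [← M4.eq_of_beq hX, M4.toMat_mul, hone', one_mul]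
    obtain ⟨-, -, -, -, hpos, h0, -⟩ := hrow j hj
    have hp : E j ^ (D.chains.getD j []).length = 1 := by rw [hchain j hj, Nat.mod_self, h0]; exact hone'
    obtain ⟨m, hm⟩ := Nat.exists_eq_add_of_le' hpos
    rw [hm] at hp
    refine ⟨⟨X.toMat D.p, E j ^ m, by rw [hXj, ← pow_succ']; exact hp, by rw [hXj, ← pow_succ]; exact hp⟩, rfl, Units.ext ?_⟩
    rw [Units.val_pow_eq_pow_val, Units.val_one, hm]
    show X.toMat D.p ^ (m + 1) = 1
    rw [hXj]; exact hp
  obtain ⟨a, ha, hao⟩ := hunit A _ hsA hmA
  obtain ⟨b, hb, hbo⟩ := hunit B _ hsB hmB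
  let C := Subgroup.closure ({a, b} : Set (GL (Fin 4) (ZMod D.p)))
  have hmem : ∀ g ∈ C, ∃ i, i < n ∧ g.val = E i := by
    have hstep : ∀ s ∈ ({a, b} : Set (GL (Fin 4) (ZMod D.p))), ∀ (k : ℕ) (g : GL (Fin 4) (ZMod D.p)),
        (∃ i, i < n ∧ g.val = E i) → ∃ i, i < n ∧ (g * s ^ k).val = E i := by
      intro s hs k
      induction k with
      | zero => intro g hg; simpa using hg
      | succ k ih =>
        intro g hg
        obtain ⟨i, hi, he⟩ := ih g hg
        obtain ⟨h1, h2, h3, h4, -⟩ := hrow i hi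
        rw [pow_succ, ← mul_assoc]
        rcases hs with rfl | rfl
        · refine ⟨_, h1, ?_⟩
          rw [Units.val_mul, he, ha]
          show (D.el i).toMat D.p * A.toMat D.p = (D.el _).toMat D.p
          rw [← M4.toMat_mul, M4.eq_of_beq h3]
        · refine ⟨_, h2, ?_⟩
          rw [Units.val_mul, he, hb]
          show (D.el i).toMat D.p * B.toMat D.p = (D.el _).toMat D.p
          rw [← M4.toMat_mul, M4.eq_of_beq h4]
    have hfo : ∀ s ∈ ({a, b} : Set (GL (Fin 4) (ZMod D.p))), IsOfFinOrder s := fun s _ => isOfFinOrder_of_finite s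
    intro g hg
    induction hg using Subgroup.closure_induction_right with
    | one => exact ⟨0, hlen, hone'.symm⟩
    | mul_right g _ s hs ih => simpa using hstep s hs 1 g ih
    | mul_inv_cancel g _ s hs ih =>
      obtain ⟨m, hm⟩ := Nat.exists_eq_add_of_le' (orderOf_pos s)
      rw [show s⁻¹ = s ^ m from inv_eq_of_mul_eq_one_right (by rw [← pow_succ', ← hm]; exact pow_orderOf_eq_one s)]
      exact hstep s hs m g ih
  have hrev : ∀ i, i < n → ∀ g ∈ C, g.val = E i → (D.chains.getD i []).length ∈ Set.range (orderOf : C → ℕ) :=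
    fun i hi g hg he => ⟨⟨g, hg⟩, by rw [← Subgroup.orderOf_coe]; exact horder i hi g he⟩
  refine ⟨C, inferInstance, ?_, ?_⟩
  · ext o
    constructor
    · rintro ⟨g, rfl⟩
      obtain ⟨i, hi, he⟩ := hmem g g.2
      rw [← Subgroup.orderOf_coe, horder i hi g he]
      exact (hrow i hi).2.2.2.2.2.2.1
    · intro ho
      obtain ⟨i, hi, he⟩ := List.any_eq_true.mp (hall o ho)
      simp only [List.mem_range] at hi
      simp only [decide_eq_true_eq] at he
      subst he
      have hin : ∀ i, i < n → ∃ g ∈ C, g.val = E i := by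
        intro i
        induction i using Nat.strong_induction_on with
        | _ i ih =>
          intro hi
          rcases (hrow i hi).2.2.2.2.2.2.2.2.2 with h0 | hex
          · exact ⟨1, C.one_mem, by rw [h0]; exact hone'.symm⟩
          · obtain ⟨j, hj, hji⟩ := List.any_eq_true.mp hex
            simp only [List.mem_range] at hj
            simp only [decide_eq_true_eq] at hji
            obtain ⟨g, hg, hge⟩ := ih j hj (lt_trans hj hi)
            obtain ⟨-, -, h3, h4, -⟩ := hrow j (lt_trans hj hi)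
            rcases hji with e | e
            · refine ⟨g * a, C.mul_mem hg (Subgroup.subset_closure (by simp)), ?_⟩
              rw [Units.val_mul, hge, ha]
              show (D.el j).toMat D.p * A.toMat D.p = (D.el i).toMat D.p
              rw [← M4.toMat_mul, M4.eq_of_beq h3, e]
            · refine ⟨g * b, C.mul_mem hg (Subgroup.subset_closure (by simp)), ?_⟩
              rw [Units.val_mul, hge, hb]
              show (D.el j).toMat D.p * B.toMat D.p = (D.el i).toMat D.p
              rw [← M4.toMat_mul, M4.eq_of_beq h4, e]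
      obtain ⟨g, hg, hge⟩ := hin i hi
      exact hrev i hi g hg hge
  · intro g hg
    obtain ⟨i, hi, he⟩ := hmem g g.2
    have hi0 : i ≠ 0 := fun e => hg (Subtype.ext (Units.ext (by rw [he, e]; exact hone')))
    obtain ⟨-, -, -, -, -, -, -, -, hsum, -⟩ := hrow i hi
    have hsum := hsum.resolve_left hi0
    try simp only [List.all_eq_true, decide_eq_true_eq] at hsum
    rw [← Subgroup.orderOf_coe, horder i hi g he]
    ext r s
    rw [Matrix.sum_apply, Matrix.zero_apply]
    have h' := hsum r (List.mem_finRange r) s (List.mem_finRange s)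
    set c := D.chains.getD i [] with hc
    calc ∑ x ∈ Finset.range c.length, ((g : GL (Fin 4) (ZMod D.p)) ^ x).val r s
        = ∑ x ∈ Finset.range c.length, ((D.el (c.getD x 0)).entry r s : ZMod D.p) :=
          Finset.sum_congr rfl fun x hx => by
            rw [Units.val_pow_eq_pow_val, he, hchain i hi, Nat.mod_eq_of_lt (Finset.mem_range.mp hx)]; rfl
      _ = (((List.range c.length).map fun x => (D.el (c.getD x 0)).entry r s).sum : ℕ) := by
          rw [← List.sum_toFinset _ (List.nodup_range (n := c.length)), List.toFinset_range, Nat.cast_sum]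
      _ = ((c.map fun k => (D.el k).entry r s).sum : ℕ) := by
          congr 2
          apply List.ext_getElem (by simp)
          intro m h1 h2
          simp at h1 h2 ⊢
          simp [h2]
      _ = 0 := by rw [ZMod.natCast_eq_zero_iff]; exact Nat.dvd_of_mod_eq_zero h'

end CfsgLib.Recog.FpfTable
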