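import Mathlib
import Cfsg.Agent.Lib.StructC.FrobComplement

/-! Coprime action of a Frobenius group: if every lift of the complement generator has its order,
the kernel centralizes. -/

namespace CfsgLib.Recog

open scoped commutatorElement

variable {Q : Type*} [Group Q]

theorem pow_mul_formula (V : Subgroup Q) [V.Normal] [IsMulCommutative V] (c : Q) (x : V) (j : ℕ) :
    ((x : Q) * c) ^ j = (((List.range j).map fun i => MulAut.conjNormal (c ^ i) x).prod : V) * c ^ j := by
  induction j with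
  | zero => simp
  | succ j ih =>
    rw [pow_succ, ih, List.range_succ, List.map_append, List.prod_append, List.map_singleton,
      List.prod_singleton, Subgroup.coe_mul, MulAut.conjNormal_apply, pow_succ c]
    group

open scoped IsMulCommutative in
/-- The norm identity of a Frobenius group acting on an abelian group. -/
theorem frobenius_norm_centralizes [Finite Q] (V : Subgroup Q) [V.Normal] [IsMulCommutative V]
    (R : Subgroup Q) (g : Q) (n : ℕ) (hn : 0 < n) (hgR : g ∈ Subgroup.normalizer (R : Set Q))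
    (hfix : ∀ i, 0 < i → i < n → ∀ r ∈ R, r * g ^ i = g ^ i * r → r = 1)
    (hnorm : ∀ c : Q, (∃ r ∈ R, c = r * g * r⁻¹) → c ^ n = 1 ∧ ∀ x ∈ V, (x * c) ^ n = 1)
    (hcop : (Nat.card R).Coprime (Nat.card V)) : ∀ r ∈ R, ∀ v ∈ V, r * v = v * r := by
  classical
  letI : Fintype R := Fintype.ofFinite R
  let φ : Q →* MulAut V := MulAut.conjNormal
  have hN : ∀ r : R, ∀ x : V, ∏ i ∈ Finset.range n, φ (((r : Q) * g * (r : Q)⁻¹) ^ i) x = 1 := by
    intro r x
    obtain ⟨h1, h2⟩ := hnorm _ ⟨r, r.2, rfl⟩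
    have h3 := h2 x x.2
    rw [pow_mul_formula V _ x n, h1, mul_one, ← List.prod_toFinset _ List.nodup_range, List.toFinset_range] at h3
    exact Subtype.ext h3
  let S : V → V := fun v => ∏ r : R, φ (r : Q) v
  -- conjugates of powers of `g` under `R` sweep out a coset of `R`
  have hsweep : ∀ i, 0 < i → i < n → ∀ v : V,
      ∏ r : R, φ (((r : Q) * g * (r : Q)⁻¹) ^ i) v = φ (g ^ i) (S v) := by
    intro i hi hin v
    have hgi : g ^ i ∈ Subgroup.normalizer (R : Set Q) := pow_mem hgR i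
    have hconj : ∀ r : R, (g ^ i)⁻¹ * (r : Q) * g ^ i ∈ R := by
      intro r
      have := (Subgroup.mem_normalizer_iff.mp (inv_mem hgi) r).mp r.2
      rwa [inv_inv] at this
    let ψ : R → R := fun r => ⟨(g ^ i)⁻¹ * (r : Q) * g ^ i, hconj r⟩ * r⁻¹
    have hψ : Function.Bijective ψ := by
      refine Finite.injective_iff_bijective.mp fun a b hab => ?_
      have h : (g ^ i)⁻¹ * (a : Q) * g ^ i * (a : Q)⁻¹ = (g ^ i)⁻¹ * (b : Q) * g ^ i * (b : Q)⁻¹ :=
        congrArg Subtype.val hab
      have h' : ((b : Q)⁻¹ * a) * g ^ i = g ^ i * ((b : Q)⁻¹ * a) := by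
        calc ((b : Q)⁻¹ * a) * g ^ i
            = (b : Q)⁻¹ * g ^ i * ((g ^ i)⁻¹ * (a : Q) * g ^ i * (a : Q)⁻¹) * a := by group
          _ = (b : Q)⁻¹ * g ^ i * ((g ^ i)⁻¹ * (b : Q) * g ^ i * (b : Q)⁻¹) * a := by rw [h]
          _ = g ^ i * ((b : Q)⁻¹ * a) := by group
      exact Subtype.ext (inv_mul_eq_one.mp (hfix i hi hin _ (R.mul_mem (R.inv_mem b.2) a.2) h')).symm
    rw [show S v = ∏ r : R, φ (ψ r : Q) v from (hψ.prod_comp fun r : R => φ (r : Q) v).symm, map_prod]
    refine Finset.prod_congr rfl fun r _ => ?_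
    rw [← MulAut.mul_apply, ← map_mul]
    congr 2
    simp only [ψ, Subgroup.coe_mul, Subgroup.coe_inv]
    rw [conj_pow]
    group
  have key : ∀ v : V, v ^ Fintype.card R * ∏ i ∈ Finset.range (n - 1), φ (g ^ (i + 1)) (S v) = 1 := by
    intro v
    have h1 : (∏ r : R, ∏ i ∈ Finset.range n, φ (((r : Q) * g * (r : Q)⁻¹) ^ i) v) = 1 :=
      Finset.prod_eq_one fun r _ => hN r v
    rw [Finset.prod_comm] at h1
    obtain ⟨m, rfl⟩ : ∃ m, n = m + 1 := ⟨n - 1, by omega⟩
    rw [Finset.prod_range_succ', mul_comm] at h1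
    simp only [pow_zero, map_one, MulAut.one_apply, Finset.prod_const, Finset.card_univ] at h1
    rw [Nat.add_sub_cancel]
    convert h1 using 2
    exact Finset.prod_congr rfl fun i hi =>
      (hsweep (i + 1) (Nat.succ_pos i) (by have := Finset.mem_range.mp hi; omega) v).symm
  intro r hr v hv
  have hS : S (⟨v, hv⟩ * (φ r ⟨v, hv⟩)⁻¹) = 1 := by
    simp only [S, map_mul, map_inv, Finset.prod_mul_distrib, Finset.prod_inv_distrib]
    rw [mul_inv_eq_one]
    refine (Fintype.prod_equiv (Equiv.mulRight (⟨r, hr⟩ : R)) _ _ fun s => ?_).symm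
    simp [← MulAut.mul_apply, ← map_mul]
  have h := key (⟨v, hv⟩ * (φ r ⟨v, hv⟩)⁻¹)
  simp only [hS, map_one, Finset.prod_const_one, mul_one] at h
  have h1 : (⟨v, hv⟩ : V) * (φ r ⟨v, hv⟩)⁻¹ = 1 := by
    rw [← orderOf_eq_one_iff]
    refine Nat.eq_one_of_dvd_coprimes hcop ?_ (orderOf_dvd_natCard _)
    rw [Nat.card_eq_fintype_card]
    exact orderOf_dvd_of_pow_eq_one h
  rw [mul_inv_eq_one] at h1
  have h2 : v = r * v * r⁻¹ := congrArg Subtype.val h1
  exact (eq_mul_inv_iff_mul_eq.mp h2).symm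

/-- An element centralizing a `p`-element modulo a `p`-group it centralizes, of order prime to
`p`, centralizes it. -/
theorem commute_of_commute_mod {p : ℕ} (B : Subgroup Q) (hB : IsPGroup p B)
    {f x : Q} {k : ℕ} (hk : f ^ k = 1) (hkp : k.Coprime p) (hfB : ∀ b ∈ B, f * b = b * f)
    (hx : f * x * f⁻¹ * x⁻¹ ∈ B) : f * x = x * f := by
  set b := f * x * f⁻¹ * x⁻¹ with hb
  have hpow : ∀ j : ℕ, f ^ j * x * (f ^ j)⁻¹ = b ^ j * x := by
    intro j
    induction j with
    | zero => simp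
    | succ j ih =>
      calc f ^ (j + 1) * x * (f ^ (j + 1))⁻¹ = f * (f ^ j * x * (f ^ j)⁻¹) * f⁻¹ := by rw [pow_succ']; group
        _ = f * (b ^ j * x) * f⁻¹ := by rw [ih]
        _ = b ^ j * (f * x * f⁻¹) := by
            rw [← mul_assoc f, hfB _ (B.pow_mem hx j)]; group
        _ = b ^ (j + 1) * x := by rw [pow_succ, hb]; group
  have h1 := hpow k
  rw [hk, one_mul, inv_one, mul_one, eq_comm, mul_eq_right] at h1
  obtain ⟨e, he⟩ := hB ⟨b, hx⟩
  have he' : b ^ p ^ e = 1 := congrArg Subtype.val he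
  have : orderOf b = 1 := Nat.eq_one_of_dvd_coprimes (Nat.Coprime.pow_right e hkp)
    (orderOf_dvd_of_pow_eq_one h1) (orderOf_dvd_of_pow_eq_one he')
  rw [orderOf_eq_one_iff, hb, mul_inv_eq_one, mul_inv_eq_iff_eq_mul] at this
  exact this

variable {G : Type*} [Group G] [Finite G]

/-- If lifts of complement generators keep their order, a coprime subgroup normalising a
`p`-subgroup `P` of the base centralises it. -/
theorem centralizes_of_lifts {p : ℕ} [Fact p.Prime] (N P R : Subgroup G) (hPN : P ≤ N)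
    (hP : IsPGroup p P) (g : G) (n : ℕ) (hn : 0 < n)
    (hgP : g ∈ Subgroup.normalizer (P : Set G)) (hRP : R ≤ Subgroup.normalizer (P : Set G))
    (hgR : g ∈ Subgroup.normalizer (R : Set G))
    (hcop : (Nat.card R).Coprime p)
    (hfix : ∀ i, 0 < i → i < n → ∀ r ∈ R, r * g ^ i * (g ^ i * r)⁻¹ ∈ N → r = 1)
    (hnorm : ∀ x ∈ N, ∀ r ∈ R, (x * (r * g * r⁻¹)) ^ n = 1) :
    ∀ r ∈ R, ∀ x ∈ P, r * x = x * r := by
  classical
  haveI : Group.IsNilpotent P := hP.isNilpotent
  let D : ℕ → Subgroup G := fun i => (derivedSeries P i).map P.subtype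
  have hDP : ∀ i, D i ≤ P := fun i => Subgroup.map_subtype_le _
  have hDN : ∀ i, ∀ l ∈ Subgroup.normalizer (P : Set G), ∀ x ∈ D i, l * x * l⁻¹ ∈ D i := by
    intro i l hl x hx
    obtain ⟨y, hy, rfl⟩ := hx
    let α : P ≃* P := P.normalizerMonoidHom ⟨l, hl⟩
    refine ⟨α y, ?_, rfl⟩
    have := (derivedSeries_characteristic (G := P) i).fixed α
    rw [← this] at hy
    exact hy
  -- the step
  have step : ∀ i, (∀ r ∈ R, ∀ x ∈ D (i + 1), r * x = x * r) → ∀ r ∈ R, ∀ x ∈ D i, r * x = x * r := by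
    intro i ih
    set L := Subgroup.normalizer (P : Set G)
    let A : Subgroup L := (D i).subgroupOf L
    let B : Subgroup L := (D (i + 1)).subgroupOf L
    have hPL : P ≤ L := Subgroup.le_normalizer
    haveI : B.Normal := ⟨fun b hb l => by
      rw [Subgroup.mem_subgroupOf] at hb ⊢
      simpa using hDN (i + 1) l l.2 b hb⟩
    haveI : A.Normal := ⟨fun b hb l => by
      rw [Subgroup.mem_subgroupOf] at hb ⊢
      simpa using hDN i l l.2 b hb⟩
    let π := QuotientGroup.mk' B
    let V := A.map π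
    haveI : V.Normal := (inferInstance : A.Normal).map π (QuotientGroup.mk'_surjective B)
    have hcomm : ∀ a ∈ A, ∀ b ∈ A, π a * π b = π b * π a := by
      intro a ha b hb
      rw [← map_mul, ← map_mul, QuotientGroup.mk'_eq_mk']
      refine ⟨⁅b⁻¹, a⁻¹⁆, ?_, by simp [commutatorElement_def]; group⟩
      rw [Subgroup.mem_subgroupOf] at ha hb ⊢
      obtain ⟨a', ha', haa⟩ := ha
      obtain ⟨b', hb', hbb⟩ := hb
      refine ⟨⁅b'⁻¹, a'⁻¹⁆, ?_, ?_⟩
      · rw [derivedSeries_succ]
        exact Subgroup.commutator_mem_commutator ((derivedSeries P i).inv_mem hb') ((derivedSeries P i).inv_mem ha')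
      · simp only [Subgroup.coe_subtype] at haa hbb
        simp [commutatorElement_def, haa, hbb]
    haveI : IsMulCommutative V := ⟨⟨fun u v => by
      obtain ⟨a, ha, hau⟩ := u.2
      obtain ⟨b, hb, hbv⟩ := v.2
      apply Subtype.ext
      simp only [Subgroup.coe_mul, ← hau, ← hbv]
      exact hcomm a ha b hb⟩⟩
    let R' : Subgroup (L ⧸ B) := (R.subgroupOf L).map π
    have hgR' : π ⟨g, hgP⟩ ∈ Subgroup.normalizer (R' : Set (L ⧸ B)) := by
      refine Subgroup.mem_normalizer_fintype fun y hy => ?_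
      obtain ⟨r, hr, rfl⟩ := hy
      rw [← map_inv, ← map_mul, ← map_mul]
      exact ⟨_, Subgroup.mem_subgroupOf.mpr ((Subgroup.mem_normalizer_iff.mp hgR (r : G)).mp hr), rfl⟩
    have hV : IsPGroup p V := ((hP.to_le (hDP i)).comap_of_injective L.subtype Subtype.val_injective).map π
    have hR'cop : (Nat.card R').Coprime (Nat.card V) := by
      obtain ⟨e, he⟩ := hV.exists_card_eq
      rw [he]
      refine Nat.Coprime.pow_right e (hcop.coprime_dvd_left ?_)
      refine (Subgroup.card_map_dvd (R.subgroupOf L) π).trans ?_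
      exact (Nat.card_congr (Subgroup.subgroupOfEquivOfLe hRP).toEquiv).dvd
    have hres := frobenius_norm_centralizes V R' (π ⟨g, hgP⟩) n hn hgR' ?_ ?_ hR'cop
    · intro r hr x hx
      have h := hres _ ⟨⟨r, hRP hr⟩, hr, rfl⟩ _ ⟨⟨x, hPL (hDP i hx)⟩, hx, rfl⟩
      rw [← map_mul, ← map_mul, eq_comm, QuotientGroup.mk'_eq_mk'] at h
      obtain ⟨b, hb, hxr⟩ := h
      have hxr' : x * r * (b : G) = r * x := congrArg Subtype.val hxr
      have hb' : (b : G) ∈ D (i + 1) := hb
      refine commute_of_commute_mod (D (i + 1)) (hP.to_le (hDP (i + 1))) (f := r) (x := x)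
        (k := Nat.card R) ?_ hcop (fun c hc => ih r hr c hc) ?_
      · exact congrArg Subtype.val (pow_card_eq_one' (x := (⟨r, hr⟩ : R)))
      · have e : r * x * r⁻¹ * x⁻¹ = (x * r) * b * (x * r)⁻¹ := by rw [hxr']; group
        rw [e]
        exact hDN (i + 1) (x * r) (L.mul_mem (hPL (hDP i hx)) (hRP hr)) b hb'
    · rintro j hj hjn _ ⟨r, hr, rfl⟩ h
      rw [← map_pow, ← map_mul, ← map_mul, eq_comm, QuotientGroup.mk'_eq_mk'] at h
      obtain ⟨b, hb, hbe⟩ := h
      have hbe' : g ^ j * (r : G) * b = (r : G) * g ^ j := congrArg Subtype.val hbe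
      have : (r : G) = 1 := by
        refine hfix j hj hjn r hr ?_
        rw [← hbe', show g ^ j * (r : G) * b * (g ^ j * r)⁻¹ = (g ^ j * r) * b * (g ^ j * r)⁻¹ from rfl]
        have := hDN (i + 1) (g ^ j * r) (L.mul_mem (L.pow_mem hgP j) r.2) b hb
        exact hPN (hDP (i + 1) this)
      rw [show r = 1 from Subtype.ext this, map_one]
    · rintro _ ⟨_, ⟨r, hr, rfl⟩, rfl⟩
      rw [← map_inv, ← map_mul, ← map_mul]
      constructor
      · rw [← map_pow, ← map_one π]
        congr 1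
        apply Subtype.ext
        simpa using hnorm 1 N.one_mem r hr
      · rintro _ ⟨x, hx, rfl⟩
        rw [← map_mul, ← map_pow, ← map_one π]
        congr 1
        apply Subtype.ext
        simpa using hnorm x (hPN (hDP i hx)) r hr
  -- descend from the end of the derived series
  obtain ⟨m, hm⟩ := (inferInstance : Group.IsSolvable P).solvable
  have : ∀ j, j ≤ m → ∀ r ∈ R, ∀ x ∈ D (m - j), r * x = x * r := by
    intro j
    induction j with
    | zero =>
      intro _ r _ x hx
      have : x = 1 := by simpa [D, hm] using hx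
      rw [this, mul_one, one_mul]
    | succ j ih =>
      intro hj
      refine step _ ?_
      rw [show m - (j + 1) + 1 = m - j by omega]
      exact ih (by omega)
  intro r hr x hx
  refine this m le_rfl r hr x ?_
  rw [Nat.sub_self]
  exact ⟨⟨x, hx⟩, by rw [derivedSeries_zero]; trivial, rfl⟩

end CfsgLib.Recog
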