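import Cfsg.Agent.Lib.Recog.FpfTable
import Cfsg.Agent.Lib.Recog.PGLTwoSmall
import Mathlib.Tactic.IntervalCases
import Mathlib.Data.Nat.Factorization.Basic

/-! Two fixed-point-free solvable matrix groups and their Frobenius groups. -/

set_option autoImplicit false

namespace CfsgLib.Recog.FpfTable

/-- The binary octahedral group over `ZMod 13`. -/
def dataThirteen : Data where
  p := 13
  codes := [1152922604119523329, 720699085681721408, 11555122517423198978, 5764613020600762376, 678724775467861376, 691953976664689792, 2342155654759729674, 792791864091803744, 12738443901467130627, 12708045121542722307, 536509205004621840, 12688060311894254083, 523280003807793424, 13835071249434279948, 451415923816288704, 462675138656519616, 11535137707774730754, 475904339853348032, 11565536487699139074, 464645125013117120, 2331741684483789578, 11585521297347607298, 216278335230771344, 3495078258879253003, 3515063068527721227, 3484664288603312907, 680694761824458880, 3464679478954844683, 534539218648024336, 667465560627630464,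 11259215058334720, 547768419844852752, 34058848193001472, 42222113100180480, 9223380832953040901, 320459568193280080, 307230366996451664, 318489581836682576, 331718783033510992, 12718459091818662403, 19984809648468224, 50947707690313984, 16889269465421568, 28148074555647232, 45317653283227136, 144185556820689008, 2311756874835321354, 2362140464408197898]
  succA := [1, 3, 5, 7, 9, 11, 12, 13, 15, 17, 18, 19, 21, 22, 24, 25, 26, 27, 29, 23, 31, 4, 34, 36, 37, 38, 39, 35, 2, 8, 43, 16, 44, 41, 45, 6, 47, 20, 46, 14, 30, 32, 33, 42, 40, 0, 10, 28]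
  succB := [2, 4, 6, 8, 10, 7, 0, 14, 16, 13, 1, 20, 19, 23, 5, 22, 3, 28, 27, 30, 32, 33, 35, 9, 34, 21, 38, 40, 41, 42, 12, 36, 11, 25, 46, 15, 45, 29, 44, 43, 18, 17, 37, 47, 26, 31, 24, 39]
  chains := [[0], [0, 1, 3, 7, 13, 22, 34, 45], [0, 2, 6], [0, 3, 13, 34], [0, 4, 13, 35], [0, 5, 13, 36], [0, 6, 2], [0, 7, 34, 1, 13, 45, 3, 22], [0, 8, 21, 13, 46, 27], [0, 9, 2, 13, 6, 23], [0, 10, 40, 19, 13, 15, 33, 28], [0, 11, 16, 13, 47, 24], [0, 12, 43, 14, 13, 17, 32, 31], [0, 13], [0, 14, 32, 12, 13, 31, 43, 17], [0, 15, 40, 28, 13, 10, 33, 19], [0, 16, 47], [0, 17, 43, 31, 13, 12, 32, 14], [0, 18, 20], [0, 19, 33, 10, 13, 28, 40, 15], [0, 20, 18], [0, 21, 46], [0, 22, 3, 45, 13, 1, 34, 7], [0, 23, 6, 13, 2, 9], [0, 24, 47, 13, 16, 11], [0, 25, 20, 13, 18, 39], [0, 26, 13, 37], [0, 27, 46, 13, 21, 8], [0, 28, 33, 15, 13, 19, 40, 10], [0, 29, 13, 38], [0, 30, 13, 41], [0, 31, 32, 17, 13, 14, 43, 12], [0, 32, 13, 43], [0, 33, 13, 40], [0, 34, 13, 3], [0, 35, 13, 4], [0, 36, 13, 5], [0, 37, 13, 26], [0,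 38, 13, 29], [0, 39, 18, 13, 20, 25], [0, 40, 13, 33], [0, 41, 13, 30], [0, 42, 13, 44], [0, 43, 13, 32], [0, 44, 13, 42], [0, 45, 34, 22, 13, 7, 3, 1], [0, 46, 21], [0, 47, 16]]
  codeA := 720699085681721408
  codeB := 11555122517423198978
  orders := [1, 2, 3, 4, 6, 8]

theorem dataThirteen_check : dataThirteen.check = true := by decide +kernel

/-- The group `3:8` over `ZMod 7`. -/
def dataSeven : Data where
  p := 7
  codes := [1152922604119523329, 4611690416475996162, 4503603939139584, 2305845208241143812, 18014415722926080, 9007207911796736, 72163147154260064, 288283152709976144, 144203149006340144, 281888904185344, 1126107407451392, 563294356112128, 6917535624717139974, 3458767812360667141, 5764613020595519491, 27021623634694144, 13510811850907648, 22518019662036992, 432363156414005264, 216243150858289184, 360323154561925184, 1688918848176384, 844700344910336, 1407513396249600]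
  succA := [1, 3, 5, 0, 2, 4, 7, 8, 6, 11, 9, 10, 13, 14, 12, 17, 15, 16, 19, 20, 18, 23, 21, 22]
  succB := [2, 4, 6, 5, 7, 8, 9, 10, 11, 12, 13, 14, 15, 16, 17, 18, 19, 20, 21, 22, 23, 0, 1, 3]
  chains := [[0], [0, 1, 3], [0, 2, 6, 9, 12, 15, 18, 21], [0, 3, 1], [0, 4, 6, 10, 12, 16, 18, 22], [0, 5, 6, 11, 12, 17, 18, 23], [0, 6, 12, 18], [0, 7, 14, 18, 1, 8, 12, 19, 3, 6, 13, 20], [0, 8, 13, 18, 3, 7, 12, 20, 1, 6, 14, 19], [0, 9, 18, 2, 12, 21, 6, 15], [0, 10, 18, 4, 12, 22, 6, 16], [0, 11, 18, 5, 12, 23, 6, 17], [0, 12], [0, 13, 3, 12, 1, 14], [0, 14, 1, 12, 3, 13], [0, 15, 6, 21, 12, 2, 18, 9], [0, 16, 6, 22, 12, 4, 18, 10], [0, 17, 6, 23, 12, 5, 18, 11], [0, 18, 12, 6], [0, 19, 14, 6, 1, 20, 12, 7, 3, 18, 13, 8], [0, 20, 13, 6, 3, 19, 12, 8, 1, 18, 14, 7], [0, 21, 18, 15, 12, 9, 6, 2], [0, 22, 18, 16, 12, 10, 6, 4], [0, 23, 18, 17, 12, 11, 6, 5]]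
  codeA := 4611690416475996162
  codeB := 4503603939139584
  orders := [1, 2, 3, 4, 6, 8, 12]

theorem dataSeven_check : dataSeven.check = true := by decide +kernel

end CfsgLib.Recog.FpfTable

namespace CfsgLib.Recog

open FpfTable

/-- From a checked table over `ZMod p`, whose orders only involve the primes 2 and 3, a solvable Frobenius group. -/
theorem exists_frobenius_of_table (D : Data) [Fact D.p.Prime] (h : D.check = true)
    (h23 : ∀ o ∈ D.orders, ∀ q : ℕ, q.Prime → q ∣ o → q = 2 ∨ q = 3) :
    ∃ (H : Type) (_ : Group H) (_ : Fintype H), Group.IsSolvable H ∧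
      Set.range (orderOf : H → ℕ) = {n | n ∈ D.orders ∨ n = D.p} := by
  haveI : Fact (1 < D.p) := ⟨(Fact.out : D.p.Prime).one_lt⟩
  obtain ⟨C, hfin, hrange, hnorm⟩ := check_spec D h
  letI := glAction 4 D.p
  let A := Fin 4 → ZMod D.p
  let H := Multiplicative A ⋊[mulAutOfAction C A] C
  haveI : Finite (Multiplicative A) := Finite.of_equiv A Multiplicative.ofAdd
  haveI : Finite H := Finite.of_equiv _ SemidirectProduct.equivProd.symm
  have hexp : ∀ a : A, D.p • a = 0 := fun a => funext fun i => by
    rw [Pi.smul_apply, nsmul_eq_mul, ZMod.natCast_self, zero_mul, Pi.zero_apply]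
  have hz : ∀ g : C, g ≠ 1 → ∀ v : A, ∑ i ∈ Finset.range (orderOf g), g ^ i • v = 0 := by
    intro g hg v
    calc ∑ i ∈ Finset.range (orderOf g), g ^ i • v
        = Matrix.mulVec (∑ i ∈ Finset.range (orderOf g), ((g : GL (Fin 4) (ZMod D.p)) ^ i).val) v := by
          rw [Matrix.sum_mulVec]; rfl
      _ = 0 := by rw [hnorm g hg, Matrix.zero_mulVec]
  refine ⟨H, inferInstance, Fintype.ofFinite H, ?_, ?_⟩
  · have hcard : ∃ a b, Nat.card C = 2 ^ a * 3 ^ b := by
      refine ⟨(Nat.card C).factorization 2, (Nat.card C).factorization 3, ?_⟩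
      refine Nat.eq_of_factorization_eq Nat.card_pos.ne' (by positivity) fun q => ?_
      rw [Nat.factorization_mul (by positivity) (by positivity), Finsupp.add_apply, Nat.Prime.factorization_pow Nat.prime_two,
        Nat.Prime.factorization_pow Nat.prime_three]
      by_cases h2 : q = 2
      · subst h2; simp
      by_cases h3 : q = 3
      · subst h3; simp
      rw [Finsupp.single_eq_of_ne h2, Finsupp.single_eq_of_ne h3, add_zero]
      by_cases hq : q.Prime
      · refine Nat.factorization_eq_zero_of_not_dvd fun hd => ?_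
        haveI := Fact.mk hq
        obtain ⟨g, hg⟩ := exists_prime_orderOf_dvd_card' (G := C) q hd
        have : q ∈ Set.range (orderOf : C → ℕ) := ⟨g, hg⟩
        rw [hrange] at this
        rcases h23 q this q hq dvd_rfl with e | e
        · exact h2 e
        · exact h3 e
      · exact Nat.factorization_eq_zero_of_not_prime _ hq
    obtain ⟨a, b, hab⟩ := hcard
    haveI := CfsgLib.Char.burnside_pq 2 3 Nat.prime_two Nat.prime_three a b C hab
    exact Group.isSolvable_of_ker_le_range (SemidirectProduct.inl : Multiplicative A →* H) SemidirectProduct.rightHom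
      (by rw [SemidirectProduct.range_inl_eq_ker_rightHom])
  · ext n
    constructor
    · rintro ⟨x, rfl⟩
      rcases orderOf_semidirect (Fact.out : D.p.Prime) hexp x with ⟨-, e⟩ | ⟨hne, e⟩
      · have : orderOf x.right ∈ Set.range (orderOf : C → ℕ) := ⟨_, rfl⟩
        rw [hrange] at this
        exact Or.inl (e ▸ this)
      · have h1 : x.right = 1 := by by_contra h1; exact hne (hz _ h1 _)
        exact Or.inr (by rw [e, h1, orderOf_one, mul_one])
    · rintro (hn | rfl)
      · obtain ⟨g, hg⟩ : n ∈ Set.range (orderOf : C → ℕ) := by rw [hrange]; exact hn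
        exact ⟨SemidirectProduct.inr g, by rw [orderOf_injective _ SemidirectProduct.inr_injective, hg]⟩
      · refine ⟨⟨Multiplicative.ofAdd (fun _ => 1), 1⟩, ?_⟩
        rcases orderOf_semidirect (Fact.out : D.p.Prime) hexp (⟨Multiplicative.ofAdd (fun _ => 1), 1⟩ : H) with ⟨h0, -⟩ | ⟨-, e⟩
        · simp at h0
          exact absurd (congrFun h0 0) one_ne_zero
        · rw [e]; simp

end CfsgLib.Recog
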