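import Mathlib
import Cfsg.Agent.S1679
import Cfsg.Agent.Lib.Recog.PrimeGraphModule

/-!
The six-dimensional representation of `G₂(4)` and groups with its prime graph.
-/

set_option autoImplicit false
set_option maxRecDepth 100000

namespace CfsgLib.Recog.G2Four

open CfsgLib.InvChar CfsgLib.InvChar.Coset Cfsg.Lie

/-- The six generators. -/
def sixGens : List PMat := [[(20, 22), (12, 46), (3, 16), (32, 4), (32, 28), (24, 27)], [(16, 36), (47, 35), (20, 26), (20, 22), (16, 53), (49, 11)], [(7, 51), (32, 14), (21, 15), (44, 40), (12, 60), (43, 50)], [(62, 46), (30, 4), (40, 42), (7, 7), (25, 41), (25, 25)], [(54, 16), (12, 46), (41, 22), (32, 4), (14, 52), (30, 55)], [(3, 21), (32, 14), (23, 7), (44, 40), (44, 48), (35, 56)]]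

/-- The identity. -/
def sixOne : PMat := (List.range 6).map fun i => (0, 2 ^ i)

/-- A packed matrix as a matrix. -/
def m6 (A : PMat) : Matrix (Fin 6) (Fin 6) FQ4 := PMat.interp A

theorem m6_one : m6 sixOne = 1 := by
  have key : ∀ i j : Fin 6, PMat.rowEntry (sixOne.getD i (0, 0)) j = if i = j then (1 : FQ4) else 0 := by
    decide +kernel
  ext i j
  rw [Matrix.one_apply]
  exact key i j

theorem gens_len : ∀ A ∈ sixGens, A.length = 6 := by decide +kernel

theorem word_eval (L : List ℕ) : (PMat.wordMul sixGens sixOne L).length = 6 ∧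
    m6 (PMat.wordMul sixGens sixOne L) = (L.map fun x => m6 (sixGens.getD x sixOne)).prod :=
  PMat.interp_wordMul sixGens sixOne m6_one rfl gens_len L

theorem gen_sq (x : ℕ) : m6 (sixGens.getD x sixOne) * m6 (sixGens.getD x sixOne) = 1 := by
  rcases lt_or_ge x sixGens.length with h | h
  · have hlen := gens_len _ (List.getElem_mem h)
    rw [List.getD_eq_getElem _ _ h, m6, ← PMat.interp_mul _ _ hlen hlen,
      (by decide +kernel : ∀ A ∈ sixGens, PMat.mul A A = sixOne) _ (List.getElem_mem h)]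
    exact m6_one
  · rw [List.getD_eq_default _ _ h, m6_one, one_mul]

/-- The generators as invertible matrices. -/
def gl6 (x : ℕ) : GL (Fin 6) FQ4 :=
  ⟨m6 (sixGens.getD x sixOne), m6 (sixGens.getD x sixOne), gen_sq x, gen_sq x⟩

theorem coe_gl6_word (L : List ℕ) :
    ((wprod gl6 L : GL (Fin 6) FQ4) : Matrix (Fin 6) (Fin 6) FQ4) = m6 (PMat.wordMul sixGens sixOne L) := by
  rw [(word_eval L).2]
  induction L with
  | nil => rfl
  | cons a L ih =>
    have e : wprod gl6 (a :: L) = gl6 a * wprod gl6 L := rfl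
    rw [e, Units.val_mul, ih, List.map_cons, List.prod_cons]
    rfl

theorem gl6_rel : ∀ r ∈ SuzB.rels, wprod gl6 r = 1 := by
  intro r hr
  refine Units.ext ?_
  rw [coe_gl6_word, (by decide +kernel : ∀ r ∈ SuzB.rels, PMat.wordMul sixGens sixOne r = sixOne) r hr, m6_one]
  rfl

/-- The representation of the presented group. -/
noncomputable def rho : SporSuzG2.Pre →* GL (Fin 6) FQ4 :=
  (SporSuzG2.exists_hom gl6 gl6_rel).choose

theorem rho_gen : ∀ x < 6, rho (SporSuzG2.gen x) = gl6 x :=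
  (SporSuzG2.exists_hom gl6 gl6_rel).choose_spec

theorem rho_word (L : List ℕ) (hL : ∀ x ∈ L, x < 6) :
    (rho (wprod SporSuzG2.gen L) : Matrix (Fin 6) (Fin 6) FQ4) = m6 (PMat.wordMul sixGens sixOne L) := by
  rw [map_wprod rho SporSuzG2.gen gl6 L fun x hx => rho_gen x (hL x hx), coe_gl6_word]

theorem rho_injective : Function.Injective rho := by
  haveI := SporSuzG2.isSimpleGroup
  rw [← MonoidHom.ker_eq_bot_iff]
  refine ((inferInstance : rho.ker.Normal).eq_bot_or_eq_top).resolve_right fun htop => ?_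
  have h1 : rho (SporSuzG2.gen 0) = 1 := by rw [← MonoidHom.mem_ker, htop]; trivial
  rw [rho_gen 0 (by norm_num)] at h1
  have h2 := congrArg (fun g : GL (Fin 6) FQ4 => (g : Matrix (Fin 6) (Fin 6) FQ4) 0 0) h1
  revert h2
  decide +kernel

theorem rho_word_pow (L : List ℕ) (hL : ∀ x ∈ L, x < 6) (n : ℕ) :
    wprod SporSuzG2.gen L ^ n = 1 ↔
      m6 (PMat.wordMul sixGens sixOne (List.replicate n L).flatten) = 1 := by
  have hw : wprod SporSuzG2.gen L ^ n = wprod SporSuzG2.gen (List.replicate n L).flatten := by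
    induction n with
    | zero => simp [wprod]
    | succ n ih => rw [pow_succ', ih, List.replicate_succ, List.flatten_cons, wprod_append]
  have hL' : ∀ x ∈ (List.replicate n L).flatten, x < 6 := by
    intro x hx
    obtain ⟨l, hl, hxl⟩ := List.mem_flatten.1 hx
    exact hL x ((List.mem_replicate.1 hl).2 ▸ hxl)
  rw [hw, ← rho_injective.eq_iff, map_one, Units.ext_iff, rho_word _ hL', Units.val_one]

theorem orderOf_word (L : List ℕ) (hL : ∀ x ∈ L, x < 6) (n : ℕ) (hn : 0 < n)
    (h1 : PMat.wordMul sixGens sixOne (List.replicate n L).flatten = sixOne)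
    (h2 : ∀ d ∈ n.properDivisors,
      ∃ i j : Fin 6, PMat.rowEntry ((PMat.wordMul sixGens sixOne (List.replicate d L).flatten).getD i (0, 0)) j ≠
        if i = j then (1 : FQ4) else 0) :
    orderOf (wprod SporSuzG2.gen L) = n := by
  have hdvd : orderOf (wprod SporSuzG2.gen L) ∣ n :=
    orderOf_dvd_of_pow_eq_one ((rho_word_pow L hL n).2 (by rw [h1, m6_one]))
  rcases (Nat.le_of_dvd hn hdvd).eq_or_lt with h | h
  · exact h
  · exfalso
    obtain ⟨i, j, hij⟩ := h2 _ (Nat.mem_properDivisors.2 ⟨hdvd, h⟩)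
    have := congrFun (congrFun ((rho_word_pow L hL _).1 (pow_orderOf_eq_one (wprod SporSuzG2.gen L))) i) j
    rw [Matrix.one_apply] at this
    exact hij this

theorem conj_power {G : Type*} [Group G] [Finite G] {p : ℕ} [Fact p.Prime] (hp : ¬ p ^ 2 ∣ Nat.card G)
    {g x : G} (hg : orderOf g = p) (hx : orderOf x = p) : ∃ (c : G) (j : ℕ), x = c * g ^ j * c⁻¹ := by
  have hsyl : ∀ y : G, orderOf y = p → ∃ P : Sylow p G, (P : Subgroup G) = Subgroup.zpowers y := by
    intro y hy
    have hcard : Nat.card (Subgroup.zpowers y) = p := by rw [Nat.card_zpowers, hy]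
    have hP : IsPGroup p (Subgroup.zpowers y) := IsPGroup.of_card (n := 1) (by rw [hcard, pow_one])
    obtain ⟨P, hle⟩ := hP.exists_le_sylow
    refine ⟨P, (Subgroup.eq_of_le_of_card_ge hle ?_).symm⟩
    obtain ⟨k, hk⟩ := IsPGroup.iff_card.1 P.isPGroup'
    rw [hcard, hk]
    have hk1 : k ≤ 1 := by
      by_contra h
      exact hp (((pow_dvd_pow p (show 2 ≤ k by omega)).trans hk.symm.dvd).trans
        (Subgroup.card_subgroup_dvd_card _))
    calc p ^ k ≤ p ^ 1 := Nat.pow_le_pow_right (Fact.out : p.Prime).pos hk1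
      _ = p := pow_one p
  obtain ⟨P, hP⟩ := hsyl g hg
  obtain ⟨Q, hQ⟩ := hsyl x hx
  obtain ⟨c, hc⟩ := MulAction.exists_smul_eq G P Q
  have hxQ : x ∈ ((c • P : Sylow p G) : Subgroup G) := by rw [hc, hQ]; exact Subgroup.mem_zpowers x
  rw [Sylow.coe_subgroup_smul, hP] at hxQ
  rw [Subgroup.pointwise_smul_def] at hxQ
  obtain ⟨y, hy, hyx⟩ := Subgroup.mem_map.1 hxQ
  classical
  obtain ⟨j, -, rfl⟩ := Finset.mem_image.1 ((IsOfFinOrder.mem_zpowers_iff_mem_range_orderOf (isOfFinOrder_of_finite g)).1 hy)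
  exact ⟨c, j, by rw [← hyx]; rfl⟩

theorem fpf_word (L : List ℕ) (hL : ∀ x ∈ L, x < 6) (p : ℕ) [Fact p.Prime]
    (hp : ¬ p ^ 2 ∣ 251596800) (ho : orderOf (wprod SporSuzG2.gen L) = p) (B : PMat)
    (hB : m6 B * (m6 (PMat.wordMul sixGens sixOne L) - 1) = 1)
    (g : SporSuzG2.Pre) (hg : orderOf g = p) (v : Fin 6 → FQ4)
    (hv : (rho g : Matrix (Fin 6) (Fin 6) FQ4).mulVec v = v) : v = 0 := by
  haveI : Finite SporSuzG2.Pre := SporSuzG2.card_le.1
  obtain ⟨c, j, hx⟩ := conj_power (by rwa [SporSuzG2.card_eq.1]) hg ho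
  have hj : ((rho (g ^ j) : GL (Fin 6) FQ4) : Matrix (Fin 6) (Fin 6) FQ4).mulVec v = v := by
    rw [map_pow, Units.val_pow_eq_pow_val]
    clear hx
    induction j with
    | zero => rw [pow_zero, Matrix.one_mulVec]
    | succ j ih => rw [pow_succ, ← Matrix.mulVec_mulVec, hv, ih]
  set w := ((rho c : GL (Fin 6) FQ4) : Matrix (Fin 6) (Fin 6) FQ4).mulVec v with hw
  have hxw : (m6 (PMat.wordMul sixGens sixOne L)).mulVec w = w := by
    rw [← rho_word L hL, hx, hw, Matrix.mulVec_mulVec, map_mul, map_mul, ← Units.val_mul]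
    rw [mul_assoc, ← map_mul rho c⁻¹ c, inv_mul_cancel, map_one, mul_one, Units.val_mul,
      ← Matrix.mulVec_mulVec, hj]
  have hw0 : w = 0 := by
    have := congrArg (fun M : Matrix (Fin 6) (Fin 6) FQ4 => M.mulVec w) hB
    simp only [Matrix.one_mulVec, ← Matrix.mulVec_mulVec, Matrix.sub_mulVec, hxw, sub_self,
      Matrix.mulVec_zero] at this
    exact this.symm
  have := congrArg (fun u => ((rho c⁻¹ : GL (Fin 6) FQ4) : Matrix (Fin 6) (Fin 6) FQ4).mulVec u) hw0
  simp only [hw, Matrix.mulVec_mulVec, ← Units.val_mul, ← map_mul, inv_mul_cancel, map_one,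
    Units.val_one, Matrix.one_mulVec, Matrix.mulVec_zero] at this
  exact this

theorem hyp_fix (g : SporSuzG2.Pre) (r : ℕ) (hr : r.Prime) (hr2 : r ≠ 2) (hg : orderOf g = r) :
    (∃ x : SporSuzG2.Pre, orderOf x = 2 * r) ∨
      ∀ v : Fin 6 → FQ4, (rho g : Matrix (Fin 6) (Fin 6) FQ4).mulVec v = v → v = 0 := by
  haveI : Finite SporSuzG2.Pre := SporSuzG2.card_le.1
  have hmem : r ∈ Nat.primeFactors 251596800 := Nat.mem_primeFactors.2
    ⟨hr, SporSuzG2.card_eq.1 ▸ hg ▸ orderOf_dvd_natCard g, by norm_num⟩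
  have hpf : Nat.primeFactors 251596800 = {2, 3, 5, 7, 13} := by
    ext q
    simp only [Nat.mem_primeFactors, Finset.mem_insert, Finset.mem_singleton]
    constructor
    · rintro ⟨hq, hd, -⟩
      rw [show (251596800 : ℕ) = 2 ^ 12 * 3 ^ 3 * 5 ^ 2 * 7 * 13 from by norm_num] at hd
      rcases hq.dvd_mul.1 hd with hd | hd
      · rcases hq.dvd_mul.1 hd with hd | hd
        · rcases hq.dvd_mul.1 hd with hd | hd
          · rcases hq.dvd_mul.1 hd with hd | hd
            · exact Or.inl ((Nat.prime_dvd_prime_iff_eq hq Nat.prime_two).1 (hq.dvd_of_dvd_pow hd))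
            · exact Or.inr (Or.inl ((Nat.prime_dvd_prime_iff_eq hq Nat.prime_three).1 (hq.dvd_of_dvd_pow hd)))
          · exact Or.inr (Or.inr (Or.inl ((Nat.prime_dvd_prime_iff_eq hq (by norm_num)).1 (hq.dvd_of_dvd_pow hd))))
        · exact Or.inr (Or.inr (Or.inr (Or.inl ((Nat.prime_dvd_prime_iff_eq hq (by norm_num)).1 hd))))
      · exact Or.inr (Or.inr (Or.inr (Or.inr ((Nat.prime_dvd_prime_iff_eq hq (by norm_num)).1 hd))))
    · rintro (rfl | rfl | rfl | rfl | rfl) <;> exact ⟨by norm_num, by norm_num, by norm_num⟩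
  rw [hpf] at hmem
  simp only [Finset.mem_insert, Finset.mem_singleton] at hmem
  rcases hmem with rfl | rfl | rfl | rfl | rfl
  · exact absurd rfl hr2
  · exact Or.inl ⟨_, orderOf_word [3, 4, 5] (by decide) 6 (by norm_num) (by decide +kernel) (by decide +kernel)⟩
  · exact Or.inl ⟨_, orderOf_word [1, 3, 0] (by decide) 10 (by norm_num) (by decide +kernel) (by decide +kernel)⟩
  · haveI : Fact (Nat.Prime 7) := ⟨hr⟩
    exact Or.inr (fpf_word [2, 1, 2, 0, 4, 1, 3, 5] (by decide) 7 (by norm_num)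
      (orderOf_word _ (by decide) 7 (by norm_num) (by decide +kernel) (by decide +kernel))
      [(23, 18), (14, 61), (2, 48), (11, 30), (63, 31), (30, 55)] (by decide +kernel) g hg)
  · haveI : Fact (Nat.Prime 13) := ⟨hr⟩
    exact Or.inr (fpf_word [3, 2, 5, 1, 0, 4, 2] (by decide) 13 (by norm_num)
      (orderOf_word _ (by decide) 13 (by norm_num) (by decide +kernel) (by decide +kernel))
      [(38, 29), (1, 43), (43, 52), (54, 20), (41, 2), (9, 13)] (by decide +kernel) g hg)

open Cfsg.Agent.S1679 in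
theorem nonempty_pre_equiv : Nonempty (SporSuzG2.Pre ≃* ↥(chevG2.group FQ4)) := by
  obtain ⟨φ, hφ⟩ := SporSuzG2.exists_hom gl gl_rel
  have hφrange : φ.range = chevG2.group FQ4 := by
    apply le_antisymm
    · rw [MonoidHom.range_eq_map, ← SporSuzG2.closure_gen, MonoidHom.map_closure, Subgroup.closure_le]
      rintro _ ⟨_, ⟨i, hi, rfl⟩, rfl⟩
      rw [hφ i hi]
      exact gl_mem i hi
    · rw [ChevalleyDatum.group, Subgroup.closure_le]
      rintro g ⟨r, t, hg⟩
      obtain ⟨L, hL, hLg⟩ := root_word r t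
      refine ⟨wprod SporSuzG2.gen L, ?_⟩
      rw [map_wprod φ SporSuzG2.gen gl L fun x hx => hφ x (hL x hx)]
      exact Units.ext (hLg.trans hg.symm)
  have hφinj : Function.Injective φ := by
    haveI := SporSuzG2.isSimpleGroup
    rw [← MonoidHom.ker_eq_bot_iff]
    refine ((inferInstance : φ.ker.Normal).eq_bot_or_eq_top).resolve_right fun htop => ?_
    have h1 : φ (SporSuzG2.gen 0) = 1 := by rw [← MonoidHom.mem_ker, htop]; trivial
    rw [hφ 0 (by norm_num)] at h1
    exact gl_ne_one h1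
  exact ⟨(MonoidHom.ofInjective hφinj).trans (MulEquiv.subgroupCongr hφrange)⟩

theorem xMat_map {D : ChevalleyDatum} {F K : Type*} [Field F] [Field K] (e : F ≃+* K)
    (r : Fin D.nroots) (t : F) : (D.xMat F r t).map e = D.xMat K r (e t) := by
  ext i j
  rcases j with j | s
  · rcases i with i | u <;> simp only [ChevalleyDatum.xMat, Matrix.map_apply, Matrix.of_apply] <;>
      split_ifs <;> simp
  · rcases i with i | u <;> simp only [ChevalleyDatum.xMat, Matrix.map_apply, Matrix.of_apply] <;>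
      split_ifs <;> simp [map_list_sum, List.map_map, Function.comp_def]

theorem nonempty_group_congr {F K : Type*} [Field F] [Field K] (e : F ≃+* K) :
    Nonempty (↥(chevG2.group F) ≃* ↥(chevG2.group K)) := by
  let f : GL chevG2.Idx F →* GL chevG2.Idx K := Units.map (RingHom.mapMatrix (e : F →+* K)).toMonoidHom
  have hf : Function.Injective f :=
    Units.map_injective (Matrix.map_injective e.injective)
  have hmap : (chevG2.group F).map f = chevG2.group K := by
    rw [ChevalleyDatum.group, MonoidHom.map_closure, ChevalleyDatum.group]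
    congr 1
    ext g
    constructor
    · rintro ⟨x, ⟨r, t, hx⟩, rfl⟩
      refine ⟨r, e t, ?_⟩
      rw [← xMat_map e r t, ← hx]
      rfl
    · rintro ⟨r, t, hg⟩
      let f' : GL chevG2.Idx K →* GL chevG2.Idx F :=
        Units.map (RingHom.mapMatrix (e.symm : K →+* F)).toMonoidHom
      refine ⟨f' g, ⟨r, e.symm t, ?_⟩, ?_⟩
      · rw [← xMat_map e.symm r t, ← hg]
        rfl
      · refine Units.ext ?_
        ext i j
        exact e.apply_symm_apply _
  exact ⟨((chevG2.group F).equivMapOfInjective f hf).trans (MulEquiv.subgroupCongr hmap)⟩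

theorem primeGraph_unbounded {F : Type*} [Field F] [Fintype F] (hF : Fintype.card F = 4) (N : ℕ) :
    ∃ (H : Type) (_ : Group H) (_ : Finite H), N < Nat.card H ∧
      ((∀ p : ℕ, p.Prime → (p ∣ Nat.card ↥(chevG2.group F) ↔ p ∣ Nat.card H)) ∧
      (∀ p q : ℕ, p.Prime → q.Prime → p ≠ q →
        ((∃ g : ↥(chevG2.group F), orderOf g = p * q) ↔ (∃ g : H, orderOf g = p * q)))) := by
  haveI : Finite SporSuzG2.Pre := SporSuzG2.card_le.1
  haveI : CharP FQ4 2 := charP_of_card_eq_prime_pow (f := 2) FQ4.card_eq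
  obtain ⟨e1⟩ := nonempty_pre_equiv
  obtain ⟨e2⟩ := nonempty_group_congr (FiniteField.ringEquivOfCardEq (K := F) (K' := FQ4) (by rw [hF, FQ4.card_eq]))
  let e : SporSuzG2.Pre ≃* ↥(chevG2.group F) := e1.trans e2.symm
  obtain ⟨H, hH, hfin, hN, hcard, horder⟩ := unbounded_primeGraph' rho
    (by rw [SporSuzG2.card_eq.1]; norm_num) hyp_fix N
  refine ⟨H, hH, Finite.of_fintype H, by rwa [Nat.card_eq_fintype_card], fun p hp => ?_,
    fun p q hp hq hpq => ?_⟩
  · rw [← Nat.card_congr e.toEquiv]; exact hcard p hp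
  · rw [← horder p q hp hq hpq]
    exact ⟨fun ⟨g, hg⟩ => ⟨e.symm g, by rw [MulEquiv.orderOf_eq, hg]⟩,
      fun ⟨g, hg⟩ => ⟨e g, by rw [MulEquiv.orderOf_eq, hg]⟩⟩

end CfsgLib.Recog.G2Four
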