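import Mathlib

/-!
Müller's proof that a permutation of `𝔽_p` mapping the differences from a proper multiplicative
subgroup into that subgroup is affine (Burnside's theorem on groups of prime degree).
-/

set_option autoImplicit false

namespace CfsgLib.Recog

open Polynomial

variable {p : ℕ} [Fact p.Prime]

/-- A short polynomial averaged to itself by the translations from a subgroup is even shorter. -/
theorem natDegree_lt_of_average (D : Subgroup (ZMod p)ˣ) [Fintype D] (Q : (ZMod p)[X])
    (hQ : Q.natDegree < p)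
    (h : ∀ x : ZMod p, ∑ u : D, Q.eval (x + ((u : (ZMod p)ˣ) : ZMod p)) = (Fintype.card D : ZMod p) * Q.eval x) :
    Q.natDegree < Fintype.card D := by
  classical
  have hp : p.Prime := Fact.out
  set d := Fintype.card D with hd
  by_contra hlt
  push Not at hlt
  set N := Q.natDegree
  have hdpos : 0 < d := Fintype.card_pos
  have hd0 : (d : ZMod p) ≠ 0 := by
    rw [Ne, ZMod.natCast_eq_zero_iff]
    exact fun hdv => absurd (Nat.le_of_dvd hdpos hdv) (by omega)
  set R : (ZMod p)[X] := (∑ u : D, taylor ((u : (ZMod p)ˣ) : ZMod p) Q) - C (d : ZMod p) * Q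
  have hR : R = 0 := by
    refine eq_zero_of_natDegree_lt_card_of_eval_eq_zero R (f := id) Function.injective_id (fun x => ?_) ?_
    · simp only [R, id_eq, eval_sub, eval_finsetSum, taylor_eval, eval_mul, eval_C]
      rw [sub_eq_zero]
      simpa [add_comm] using h x
    · rw [ZMod.card]
      refine lt_of_le_of_lt (natDegree_sub_le _ _) (max_lt ?_ ((natDegree_C_mul_le _ _).trans_lt hQ))
      refine lt_of_le_of_lt (natDegree_sum_le_of_forall_le _ _ fun u _ => ?_) hQ
      rw [natDegree_taylor]
  have hk : R.coeff (N - d) = 0 := by rw [hR, coeff_zero]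
  simp only [R, coeff_sub, finsetSum_coeff, taylor_coeff, coeff_C_mul, sub_eq_zero] at hk
  have hev : ∀ u : ZMod p, (hasseDeriv (N - d) Q).eval u =
      ∑ i ∈ Finset.range (d + 1), ((i + (N - d)).choose (N - d) : ZMod p) * Q.coeff (i + (N - d)) * u ^ i := by
    intro u
    rw [eval_eq_sum_range' (n := d + 1) (lt_of_le_of_lt (natDegree_hasseDeriv_le Q (N - d)) (by omega)) u]
    exact Finset.sum_congr rfl fun i _ => by rw [hasseDeriv_coeff]
  simp only [hev] at hk
  rw [Finset.sum_comm] at hk
  have hS : ∀ i ∈ Finset.range (d + 1), i ≠ 0 → i ≠ d →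
      (∑ u : D, ((u : (ZMod p)ˣ) : ZMod p) ^ i) = 0 := fun i hi h0 hne =>
    FiniteField.sum_subgroup_pow_eq_zero h0 (by have := Finset.mem_range.mp hi; omega)
  have hSd : (∑ u : D, ((u : (ZMod p)ˣ) : ZMod p) ^ d) = (d : ZMod p) := by
    have h1 : ∀ u : D, ((u : (ZMod p)ˣ) : ZMod p) ^ d = 1 := fun u => by
      rw [← Units.val_pow_eq_pow_val, ← Subgroup.coe_pow, hd, pow_card_eq_one]
      simp
    rw [Finset.sum_congr rfl (fun u _ => h1 u)]
    simp [hd]
  have hterm : ∀ i ∈ Finset.range (d + 1), i ≠ 0 → i ≠ d →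
      (∑ u : D, ((i + (N - d)).choose (N - d) : ZMod p) * Q.coeff (i + (N - d)) *
        ((u : (ZMod p)ˣ) : ZMod p) ^ i) = 0 := fun i hi h0 hne => by
    rw [← Finset.mul_sum, hS i hi h0 hne, mul_zero]
  rw [Finset.sum_eq_add (0 : ℕ) d (by omega) (fun i hi hne => hterm i hi hne.1 hne.2)
    (fun h => absurd (Finset.mem_range.mpr (by omega)) h) (fun h => absurd (Finset.mem_range.mpr (by omega)) h),
    ← Finset.mul_sum, ← Finset.mul_sum, hSd] at hk
  simp only [pow_zero, Finset.sum_const, Finset.card_univ, nsmul_eq_mul, mul_one, zero_add,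
    Nat.choose_self, Nat.cast_one, one_mul, ← hd] at hk
  rw [show d + (N - d) = N by omega, mul_comm (Q.coeff (N - d))] at hk
  have hlead : Q.coeff N ≠ 0 := by
    rw [show Q.coeff N = Q.leadingCoeff from rfl, Ne, leadingCoeff_eq_zero]
    intro h0
    have : N = 0 := by simp [N, h0]
    omega
  have hchoose : ((N.choose (N - d) : ℕ) : ZMod p) ≠ 0 := by
    rw [Ne, ZMod.natCast_eq_zero_iff]
    intro hdv
    have h1 : p ∣ N.factorial := hdv.trans ⟨(N - d).factorial * (N - (N - d)).factorial, by
      rw [← Nat.choose_mul_factorial_mul_factorial (show N - d ≤ N by omega), mul_assoc]⟩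
    have := hp.dvd_factorial.mp h1
    omega
  exact mul_ne_zero (mul_ne_zero hchoose hlead) hd0 (by linear_combination hk)

/-- Müller's lemma. -/
theorem affine_of_difference_subgroup (D : Subgroup (ZMod p)ˣ) (hD : D ≠ ⊤) (f : ZMod p → ZMod p)
    (hf : Function.Injective f)
    (h : ∀ x : ZMod p, ∀ u ∈ D, ∃ v ∈ D, f (x + (u : ZMod p)) - f x = (v : ZMod p)) :
    ∃ a b : ZMod p, ∀ x, f x = a * x + b := by
  classical
  have hp : p.Prime := Fact.out
  set d := Fintype.card D with hd
  rcases Nat.lt_or_ge 1 d with hd1 | hd1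
  swap
  · -- only the trivial subgroup
    have hbot : ∀ v ∈ D, v = 1 := fun v hv => by
      have := (Fintype.card_le_one_iff_subsingleton.mp hd1).elim ⟨v, hv⟩ ⟨1, one_mem D⟩
      exact congrArg Subtype.val this
    have hstep : ∀ x, f (x + 1) = f x + 1 := fun x => by
      obtain ⟨v, hv, e⟩ := h x 1 (one_mem D)
      rw [hbot v hv, Units.val_one] at e
      linear_combination e
    have hnat : ∀ k : ℕ, f (k : ZMod p) = k + f 0 := by
      intro k
      induction k with
      | zero => simp
      | succ k ih => push_cast; rw [hstep, ih]; ring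
    exact ⟨1, f 0, fun x => by
      obtain ⟨k, rfl⟩ := ZMod.natCast_zmod_surjective x
      rw [hnat, one_mul]⟩
  have hdp : 2 * d ≤ p - 1 := by
    obtain ⟨c, hc⟩ := Subgroup.card_subgroup_dvd_card D
    rw [Nat.card_eq_fintype_card, Nat.card_eq_fintype_card, ZMod.card_units, ← hd] at hc
    rcases c with _ | _ | c
    · have := hp.two_le; omega
    · refine absurd (D.eq_top_of_card_eq ?_) hD
      rw [Nat.card_eq_fintype_card, Nat.card_eq_fintype_card, ZMod.card_units, ← hd]
      omega
    · rw [hc]; nlinarith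
  set P := Lagrange.interpolate (Finset.univ : Finset (ZMod p)) id f with hP
  have hPev : ∀ x, P.eval x = f x := fun x =>
    Lagrange.eval_interpolate_at_node f Function.injective_id.injOn (Finset.mem_univ x)
  have hPdeg : P.natDegree < p := by
    have h1 := Lagrange.degree_interpolate_lt (s := (Finset.univ : Finset (ZMod p))) (r := f)
      Function.injective_id.injOn
    rw [Finset.card_univ, ZMod.card] at h1
    by_cases h0 : P = 0
    · rw [h0, natDegree_zero]; exact hp.pos
    · exact (natDegree_lt_iff_degree_lt h0).mpr h1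
  -- the difference map permutes `D`
  choose v hv hve using h
  have hS : ∀ (x : ZMod p) (i : ℕ), i ≠ 0 → i < d →
      ∑ u : D, (f (x + ((u : (ZMod p)ˣ) : ZMod p)) - f x) ^ i = 0 := by
    intro x i h0 hi
    let g : D → D := fun u => ⟨v x u u.2, hv x u u.2⟩
    have hg : Function.Bijective g := Finite.injective_iff_bijective.mp fun a b hab => by
      have h1 := hve x a a.2
      have h2 := hve x b b.2
      rw [show v x a a.2 = v x b b.2 from congrArg Subtype.val hab, ← h2, sub_left_inj] at h1
      exact Subtype.ext (Units.ext (add_left_cancel (hf h1)))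
    rw [Fintype.sum_bijective g hg (fun u => (f (x + ((u : (ZMod p)ˣ) : ZMod p)) - f x) ^ i)
      (fun u => ((u : (ZMod p)ˣ) : ZMod p) ^ i) (fun u => by rw [hve x u u.2])]
    exact FiniteField.sum_subgroup_pow_eq_zero h0 hi
  have hpow : ∀ w : ℕ, w < d → ∀ x, ∑ u : D, f (x + ((u : (ZMod p)ˣ) : ZMod p)) ^ w = (d : ZMod p) * f x ^ w := by
    intro w hw x
    have e : ∀ y : ZMod p, y ^ w = ∑ i ∈ Finset.range (w + 1), (y - f x) ^ i * f x ^ (w - i) * (w.choose i) :=
      fun y => by conv_lhs => rw [← sub_add_cancel y (f x), add_pow]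
    rw [Finset.sum_congr rfl (fun (u : D) _ => e (f (x + ((u : (ZMod p)ˣ) : ZMod p)))), Finset.sum_comm,
      Finset.sum_eq_single (0 : ℕ) (fun i hi hne => by
        rw [← Finset.sum_mul, ← Finset.sum_mul, hS x i hne (by have := Finset.mem_range.mp hi; omega)]
        ring) (fun h => absurd (Finset.mem_range.mpr (by omega)) h)]
    simp [hd]
  set n := P.natDegree
  have hn : n < d := natDegree_lt_of_average D P hPdeg (fun x => by
    simpa [hPev] using hpow 1 hd1 x)
  rcases Nat.lt_or_ge 1 n with h2 | h2
  swap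
  · exact ⟨P.coeff 1, P.coeff 0, fun x => by
      rw [← hPev]
      conv_lhs => rw [P.eq_X_add_C_of_natDegree_le_one h2]
      simp⟩
  exfalso
  -- a power of `P` with degree in the forbidden range
  set w := (d + n - 1) / n with hw
  have hw1 : d ≤ w * n := by
    have := Nat.div_add_mod (d + n - 1) n
    have := Nat.mod_lt (d + n - 1) (show n > 0 by omega)
    rw [hw, mul_comm]; omega
  have hw2 : w * n ≤ d + n - 1 := Nat.div_mul_le_self _ _
  have hwd : w < d := by
    by_contra hge
    push Not at hge
    obtain ⟨a, ha⟩ : ∃ a, d = a + 2 := ⟨d - 2, by omega⟩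
    obtain ⟨b, hb⟩ : ∃ b, n = b + 2 := ⟨n - 2, by omega⟩
    have h3 := Nat.mul_le_mul_right n hge
    have h4 : d * n + 1 ≤ d + n := by omega
    rw [ha, hb] at h4
    nlinarith
  have hne : (P ^ w).natDegree = w * n := natDegree_pow P w
  have := natDegree_lt_of_average D (P ^ w) (by rw [hne]; omega) (fun x => by
    simpa [hPev] using hpow w hwd x)
  rw [hne] at this
  omega

end CfsgLib.Recog
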