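import Mathlib.GroupTheory.GroupAction.Quotient
import Mathlib.Algebra.Pointwise.Stabilizer
import Mathlib.GroupTheory.GroupAction.ConjAct
import Mathlib.Algebra.Group.Action.Pointwise.Set.Basic
import Mathlib.Tactic

/-!
Half-transitive groups of automorphisms (Wielandt, 10.4).
-/

set_option autoImplicit false
set_option linter.style.haveILetI false

namespace CfsgLib.Recog

open MulAction Pointwise

variable {H N : Type*} [Group H] [Finite H] [Group N] [Finite N] [MulDistribMulAction H N]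

/-- The elements fixed by the stabilizer of `x`. -/
private def comp (H : Type*) {N : Type*} [Group H] [Group N] [MulDistribMulAction H N] (x : N) :
    Subgroup N where
  carrier := {y | ∀ h : H, h • x = x → h • y = y}
  mul_mem' := fun {a b} ha hb h hx => by rw [smul_mul', ha h hx, hb h hx]
  one_mem' := fun h _ => smul_one h
  inv_mem' := fun {a} ha h hx => by rw [smul_inv', ha h hx]

omit [Finite H] [Finite N] in
private theorem self_mem_comp (x : N) : x ∈ comp H x := fun _ h => h

omit [Finite H] in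
/-- The common orbit length is prime to `|N|`. -/
private theorem orbit_coprime (hhalf : ∀ x y : N, x ≠ 1 → y ≠ 1 →
      Nat.card (orbit H x) = Nat.card (orbit H y)) {x : N} (hx : x ≠ 1) :
    Nat.Coprime (Nat.card (orbit H x)) (Nat.card N) := by
  classical
  let C : SubMulAction H N :=
    { carrier := {y | y ≠ 1}
      smul_mem' := fun h y hy => by
        simp only [Set.mem_ofPred_eq] at hy ⊢
        exact fun e => hy (by rw [← inv_smul_smul h y, e, smul_one]) }
  have e := Nat.card_congr (MulAction.selfEquivSigmaOrbits H C)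
  haveI : Fintype (MulAction.orbitRel.Quotient H C) := Fintype.ofFinite _
  rw [Nat.card_sigma] at e
  have ho : ∀ q : MulAction.orbitRel.Quotient H C,
      Nat.card (orbit H (Quotient.out q : C)) = Nat.card (orbit H x) := by
    intro q
    rw [← hhalf ((Quotient.out q : C) : N) x (Quotient.out q : C).2 hx]
    rw [SubMulAction.val_image_orbit (Quotient.out q : C) |>.symm]
    exact (Nat.card_image_of_injective Subtype.val_injective _).symm
  rw [Finset.sum_congr rfl (fun q _ => ho q), Finset.sum_const, smul_eq_mul] at e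
  have hC : Nat.card C + 1 = Nat.card N := by
    haveI : Fintype N := Fintype.ofFinite _
    rw [show Nat.card C = Nat.card {y : N // y ≠ 1} from rfl, Nat.card_eq_fintype_card,
      Nat.card_eq_fintype_card, Fintype.card_subtype_compl, Fintype.card_subtype_eq]
    have := Fintype.card_pos (α := N)
    omega
  rw [← hC, e, Nat.coprime_mul_right_add_right]
  exact Nat.coprime_one_right _

/-- An element stabilizing a block of size dividing `|N|` fixes it pointwise. -/
private theorem smul_eq_of_block (hhalf : ∀ x y : N, x ≠ 1 → y ≠ 1 →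
      Nat.card (orbit H x) = Nat.card (orbit H y)) (C : Set N) (h1 : (1 : N) ∉ C)
    (hblock : ∀ h : H, ∀ y ∈ C, h • y = y → ∀ z ∈ C, h • z ∈ C)
    (hdvd : Nat.card C ∣ Nat.card N) {h : H} {y : N} (hy : y ∈ C) (hfix : h • y = y)
    {z : N} (hz : z ∈ C) : h • z = z := by
  classical
  set S := stabilizer H C with hS
  have hle : ∀ w ∈ C, stabilizer H w ≤ S := by
    intro w hw g hg
    exact (mem_stabilizer_set_iff_smul_set_subset (Set.toFinite C)).2
      (Set.smul_set_subset_iff.2 fun v hv => hblock g w hw hg v hv)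
  let C' : SubMulAction S N :=
    { carrier := C
      smul_mem' := fun g v hv => (mem_stabilizer_set.1 g.2 v).2 hv }
  have ho : ∀ w : C', Nat.card (orbit S w) * S.index = Nat.card (orbit H (w : N)) := by
    intro w
    rw [Nat.card_coe_set_eq, ← index_stabilizer, Nat.card_coe_set_eq, ← index_stabilizer]
    rw [show stabilizer S w = (stabilizer H (w : N)).subgroupOf S by
      ext g; simp [Subgroup.mem_subgroupOf, Subtype.ext_iff, Subgroup.smul_def]]
    exact Subgroup.relIndex_mul_index (hle w w.2)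
  have hz1 : z ≠ 1 := fun e => h1 (e ▸ hz)
  set a := Nat.card (orbit S (⟨z, hz⟩ : C')) with ha
  have hconst : ∀ w : C', Nat.card (orbit S w) = a := by
    intro w
    have hw1 : (w : N) ≠ 1 := fun e => h1 (e ▸ w.2)
    exact Nat.eq_of_mul_eq_mul_right (Nat.pos_of_ne_zero S.index_ne_zero_of_finite)
      ((ho w).trans ((hhalf _ _ hw1 hz1).trans (ho ⟨z, hz⟩).symm))
  have hadvd : a ∣ Nat.card C := by
    have e := Nat.card_congr (MulAction.selfEquivSigmaOrbits S C')
    haveI : Fintype (MulAction.orbitRel.Quotient S C') := Fintype.ofFinite _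
    rw [Nat.card_sigma, Finset.sum_congr rfl (fun q _ => hconst _), Finset.sum_const,
      smul_eq_mul] at e
    exact ⟨_, e.trans (mul_comm _ _)⟩
  have ha1 : a = 1 :=
    Nat.eq_one_of_dvd_coprimes (orbit_coprime hhalf hz1) ⟨_, (ho ⟨z, hz⟩).symm⟩
      (hadvd.trans hdvd)
  have hsub : Subsingleton (orbit S (⟨z, hz⟩ : C')) :=
    (Nat.card_eq_one_iff_unique.1 (ha ▸ ha1)).1
  have := @Subsingleton.elim _ hsub
    ⟨(⟨h, hle y hy hfix⟩ : S) • (⟨z, hz⟩ : C'), mem_orbit _ _⟩ ⟨_, mem_orbit_self _⟩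
  simpa [Subtype.ext_iff, Subgroup.smul_def] using this

/-- A stabilizer fixes the conjugates. -/
private theorem smul_conj (hhalf : ∀ x y : N, x ≠ 1 → y ≠ 1 →
      Nat.card (orbit H x) = Nat.card (orbit H y)) {x : N} (hx : x ≠ 1) {h : H} (hfix : h • x = x)
    (g : N) : h • (g * x * g⁻¹) = g * x * g⁻¹ := by
  refine smul_eq_of_block hhalf (MulAction.orbit (ConjAct N) x) ?_ ?_ ?_ (mem_orbit_self x) hfix
    ⟨ConjAct.toConjAct g, ConjAct.toConjAct_smul g x⟩
  · rintro ⟨k, hk⟩
    exact hx (by rw [← inv_smul_smul k x]; exact (congrArg (k⁻¹ • ·) hk).trans (smul_one _))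
  · rintro j _ ⟨k, rfl⟩ hj _ ⟨l, rfl⟩
    refine ⟨ConjAct.toConjAct ((j • ConjAct.ofConjAct l) * (j • ConjAct.ofConjAct k)⁻¹ *
      ConjAct.ofConjAct k), ?_⟩
    simp only [ConjAct.smul_def, ConjAct.ofConjAct_toConjAct, smul_mul', smul_inv'] at hj ⊢
    have hjx : j • x = (j • ConjAct.ofConjAct k)⁻¹ * (ConjAct.ofConjAct k * x *
        (ConjAct.ofConjAct k)⁻¹) * (j • ConjAct.ofConjAct k) := by
      rw [← hj]; group
    rw [hjx]; group
  · rw [Nat.card_coe_set_eq, ← index_stabilizer]
    exact (stabilizer (ConjAct N) x).index_dvd_card.trans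
      (dvd_of_eq (Nat.card_congr ConjAct.ofConjAct.toEquiv))

/-- **Wielandt.** A half-transitive, not semiregular, faithful group of automorphisms of `N` exists
only for elementary abelian `N`, and is then irreducible. -/
theorem half_transitive_aut [FaithfulSMul H N] (hhalf : ∀ x y : N, x ≠ 1 → y ≠ 1 →
      Nat.card (orbit H x) = Nat.card (orbit H y))
    (hns : ∃ x : N, x ≠ 1 ∧ stabilizer H x ≠ ⊥) :
    (∃ p : ℕ, p.Prime ∧ IsMulCommutative N ∧ ∀ x : N, x ^ p = 1) ∧
      ∀ M : Subgroup N, (∀ h : H, ∀ x ∈ M, h • x ∈ M) → M = ⊥ ∨ M = ⊤ := by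
  classical
  obtain ⟨x₀, hx₀, hne⟩ := hns
  have hcard : ∀ x : N, x ≠ 1 → Nat.card (stabilizer H x) = Nat.card (stabilizer H x₀) := by
    intro x hx
    have e := hhalf x x₀ hx hx₀
    rw [Nat.card_coe_set_eq, ← index_stabilizer, Nat.card_coe_set_eq, ← index_stabilizer] at e
    have h1 := Subgroup.card_mul_index (stabilizer H x)
    have h2 := Subgroup.card_mul_index (stabilizer H x₀)
    rw [e] at h1
    exact Nat.eq_of_mul_eq_mul_right (Nat.pos_of_ne_zero Subgroup.index_ne_zero_of_finite)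
      (h1.trans h2.symm)
  have hstab : ∀ x y : N, x ≠ 1 → y ≠ 1 → y ∈ comp H x → stabilizer H x = stabilizer H y :=
    fun x y hx hy h => Subgroup.eq_of_le_of_card_ge (fun g hg => h g hg)
      (by rw [hcard x hx, hcard y hy])
  have hsymm : ∀ x y : N, x ≠ 1 → y ≠ 1 → y ∈ comp H x → x ∈ comp H y := by
    intro x y hx hy h g hg
    have : g ∈ stabilizer H x := hstab x y hx hy h ▸ mem_stabilizer_iff.2 hg
    exact this
  have hmeet : ∀ x y w : N, x ≠ 1 → w ≠ 1 → w ∈ comp H x → w ∈ comp H y → y ∈ comp H x := by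
    intro x y w hx hw hwx hwy g hg
    by_cases hy : y = 1
    · rw [hy, smul_one]
    exact (hsymm y w hy hw hwy) g (hwx g hg)
  have hout : ∀ x : N, x ≠ 1 → ∃ z : N, z ∉ comp H x := by
    intro x hx
    by_contra hall
    push Not at hall
    have hne' : stabilizer H x ≠ ⊥ := by
      intro hb
      have := hcard x hx
      rw [hb, Subgroup.card_bot] at this
      exact hne (Subgroup.card_eq_one.1 this.symm)
    haveI := (Subgroup.nontrivial_iff_ne_bot (stabilizer H x)).2 hne'
    obtain ⟨⟨g, hg⟩, hg1⟩ := exists_ne (1 : stabilizer H x)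
    exact hg1 (Subtype.ext (FaithfulSMul.eq_of_smul_eq_smul (α := N) fun z => by
      rw [hall z g hg]; exact (one_smul H z).symm))
  have hnormal : ∀ x : N, x ≠ 1 → (comp H x).Normal := by
    intro x hx
    refine ⟨fun y hy g h hh => ?_⟩
    by_cases hy1 : y = 1
    · simp [hy1]
    exact smul_conj hhalf hy1 (hy h hh) g
  have hcomm : ∀ y z : N, y ≠ 1 → z ∉ comp H y → Commute y z := by
    intro y z hy hz
    have hz1 : z ≠ 1 := fun e => hz (e ▸ one_mem _)
    by_contra hc
    have hw : y * z * y⁻¹ * z⁻¹ ≠ 1 := fun e => hc (by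
      have := mul_inv_eq_one.1 e
      exact mul_inv_eq_iff_eq_mul.1 this)
    refine hz (hmeet y z _ hy hw ?_ ?_)
    · rw [mul_assoc y z, mul_assoc]
      exact mul_mem (self_mem_comp y) ((hnormal y hy).conj_mem _ (inv_mem (self_mem_comp y)) z)
    · exact mul_mem ((hnormal z hz1).conj_mem _ (self_mem_comp z) y) (inv_mem (self_mem_comp z))
  have hcomm' : ∀ y z : N, Commute y z := by
    intro y z
    by_cases hy : y = 1
    · exact hy ▸ Commute.one_left z
    by_cases hz : z ∈ comp H y
    · obtain ⟨w, hw⟩ := hout y hy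
      have hzw : z * w ∉ comp H y := fun h => hw ((Subgroup.mul_mem_cancel_left _ hz).1 h)
      have h1 := (hcomm y _ hy hzw).mul_right (hcomm y w hy hw).inv_right
      rwa [mul_inv_cancel_right] at h1
    · exact hcomm y z hy hz
  have hord : ∀ y z : N, y ≠ 1 → z ∉ comp H y → ∀ k : ℕ, y ^ k = 1 → z ^ k = 1 := by
    intro y z hy hz k hk
    by_contra hzk
    have hz1 : z ≠ 1 := fun e => hz (e ▸ one_mem _)
    have hyz : y * z ≠ 1 := fun e => hz (by
      rw [eq_inv_of_mul_eq_one_right e]; exact inv_mem (self_mem_comp y))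
    have e : (y * z) ^ k = z ^ k := by rw [(hcomm' y z).mul_pow, hk, one_mul]
    have h1 : z ∈ comp H (y * z) :=
      hmeet (y * z) z (z ^ k) hyz hzk (e ▸ pow_mem (self_mem_comp _) k) (pow_mem (self_mem_comp z) k)
    have h2 : y ∈ comp H (y * z) := by
      have := mul_mem (self_mem_comp (H := H) (y * z)) (inv_mem h1)
      rwa [mul_inv_cancel_right] at this
    exact hz (hmeet y z z hy hz1 (fun g hg => h1 g (hsymm (y * z) y hyz hy h2 g hg))
      (self_mem_comp z))
  have hsame : ∀ y z : N, y ≠ 1 → z ≠ 1 → orderOf y = orderOf z := by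
    have aux : ∀ y z : N, y ≠ 1 → z ≠ 1 → z ∉ comp H y → orderOf y = orderOf z := fun y z hy hz h =>
      Nat.dvd_antisymm
        (orderOf_dvd_of_pow_eq_one (hord z y hz (fun h' => h (hsymm z y hz hy h')) _
          (pow_orderOf_eq_one z)))
        (orderOf_dvd_of_pow_eq_one (hord y z hy h _ (pow_orderOf_eq_one y)))
    intro y z hy hz
    by_cases h : z ∈ comp H y
    · obtain ⟨w, hw⟩ := hout y hy
      have hw1 : w ≠ 1 := fun e => hw (e ▸ one_mem _)
      refine (aux y w hy hw1 hw).trans (aux z w hz hw1 fun h' => hw ?_).symm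
      exact fun g hg => h' g (h g hg)
    · exact aux y z hy hz h
  obtain ⟨p, hp, hpd⟩ := Nat.exists_prime_and_dvd (fun e => hx₀ (orderOf_eq_one_iff.1 e))
  have hexp : ∀ x : N, x ^ p = 1 := by
    intro x
    by_cases hx : x = 1
    · rw [hx, one_pow]
    have ho := orderOf_pow_orderOf_div (orderOf_pos x₀).ne' hpd
    have hne1 : x₀ ^ (orderOf x₀ / p) ≠ 1 := fun e => by
      rw [e, orderOf_one] at ho; exact hp.one_lt.ne ho
    rw [← ho, ← hsame x _ hx hne1]
    exact pow_orderOf_eq_one x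
  refine ⟨⟨p, hp, ⟨⟨hcomm'⟩⟩, hexp⟩, fun M hM => ?_⟩
  by_contra hcon
  push Not at hcon
  obtain ⟨hMb, hMt⟩ := hcon
  obtain ⟨x, hxM⟩ : ∃ x, x ∉ M := by
    by_contra h
    push Not at h
    exact hMt ((Subgroup.eq_top_iff' M).2 h)
  -- outside `M`, stabilizers fix `M` pointwise
  have key : ∀ z : N, z ∉ M → ∀ g : H, g • z = z → ∀ y ∈ M, g • y = y := by
    intro z hz g hg y hy
    have := smul_eq_of_block hhalf (z • (M : Set N)) ?_ ?_ ?_ (h := g) (y := z)
      ⟨1, one_mem M, mul_one z⟩ hg (z := z * y) ⟨y, hy, rfl⟩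
    · rw [smul_mul', hg] at this
      exact mul_left_cancel this
    · rintro ⟨m, hm, e⟩
      exact hz ((eq_inv_of_mul_eq_one_left e : z = m⁻¹) ▸ inv_mem hm)
    · rintro j _ ⟨m, hm, rfl⟩ hj _ ⟨l, hl, rfl⟩
      refine ⟨m * (j • m)⁻¹ * (j • l), mul_mem (mul_mem hm (inv_mem (hM j m hm))) (hM j l hl), ?_⟩
      simp only [smul_eq_mul, smul_mul'] at hj ⊢
      have hjz : j • z = z * m * (j • m)⁻¹ := eq_mul_inv_of_mul_eq hj
      rw [hjz]; group
    · rw [Nat.card_coe_set_eq, Set.ncard_smul_set, ← Nat.card_coe_set_eq]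
      exact M.card_subgroup_dvd_card
  have hMc : ∀ z : N, z ∉ M → ∀ y ∈ M, y ∈ comp H z := fun z hz y hy g hg => key z hz g hg y hy
  haveI := (Subgroup.nontrivial_iff_ne_bot M).2 hMb
  obtain ⟨⟨y, hy⟩, hy1⟩ := exists_ne (1 : M)
  have hy1' : y ≠ 1 := fun e => hy1 (Subtype.ext e)
  obtain ⟨w, hw⟩ := hout x (fun e => hxM (e ▸ one_mem M))
  have hx1 : x ≠ 1 := fun e => hxM (e ▸ one_mem M)
  by_cases hwM : w ∈ M
  · exact hw (hMc x hxM w hwM)
  · exact hw (hmeet x w y hx1 hy1' (hMc x hxM y hy) (hMc w hwM y hy))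

end CfsgLib.Recog
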