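import Mathlib
import Cfsg.Prelude.Def_CaseTheorems
import Cfsg.Agent.Lib.Recog.HalfTransitiveAut
import Cfsg.Agent.Lib.Recog.PGroupImprimitive

/-!
`p`-groups acting half-transitively on the non-zero vectors (Passman).
-/

set_option autoImplicit false

namespace CfsgLib.Recog.HalfTransP

open Subgroup

theorem exp_one_of_pow_add_one {q d m : ℕ} (hq : 3 ≤ q) (hd : 1 ≤ d) (h : q ^ d + 1 = 2 ^ m) : d = 1 := by
  rcases Nat.even_or_odd d with ⟨k, rfl⟩ | ⟨k, rfl⟩
  · exfalso
    have hm : 2 ≤ m := by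
      by_contra hlt
      have h1 : 2 ^ m ≤ 2 ^ 1 := Nat.pow_le_pow_right (by norm_num) (by omega)
      have h2 : q ≤ q ^ (k + k) := Nat.le_self_pow (by omega) q
      omega
    have h4 : 4 ∣ q ^ (k + k) + 1 := h ▸ (pow_dvd_pow 2 hm : 2 ^ 2 ∣ 2 ^ m)
    have hsq : ∀ t : ℕ, (t * t + 1) % 4 ≠ 0 := fun t => by
      rw [Nat.add_mod, Nat.mul_mod]
      have : t % 4 < 4 := Nat.mod_lt _ (by norm_num)
      interval_cases (t % 4) <;> decide
    rw [pow_add] at h4
    exact hsq _ (Nat.mod_eq_zero_of_dvd h4)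
  · have hdvd : q + 1 ∣ q ^ (2 * k + 1) + 1 := by
      simpa using Odd.nat_add_dvd_pow_add_pow q 1 (odd_two_mul_add_one k)
    obtain ⟨a, ham, ha⟩ := (Nat.dvd_prime_pow Nat.prime_two).1 (h ▸ hdvd)
    have hqZ : (q : ℤ) = 2 ^ a - 1 := by
      have : ((q + 1 : ℕ) : ℤ) = ((2 ^ a : ℕ) : ℤ) := by rw [ha]
      push_cast at this
      linarith
    have ha1 : 2 ≤ a := by
      by_contra hlt
      have h1 : 2 ^ a ≤ 2 ^ 1 := Nat.pow_le_pow_right (by norm_num) (by omega)
      omega
    have hsq : (q : ℤ) * q ≡ 1 [ZMOD 2 ^ (a + 1)] := by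
      rw [Int.modEq_iff_dvd, hqZ]
      obtain ⟨b, hb⟩ : ∃ b, a = b + 1 := ⟨a - 1, by omega⟩
      refine ⟨-(2 ^ b) + 1, ?_⟩
      subst hb
      ring
    have hodd : (q : ℤ) ^ (2 * k + 1) ≡ q [ZMOD 2 ^ (a + 1)] := by
      have := (hsq.pow k).mul_right (q : ℤ)
      rw [one_pow, one_mul] at this
      rwa [← pow_two, ← pow_mul, ← pow_succ] at this
    by_contra hne
    have hlt : a + 1 ≤ m := by
      rcases Nat.lt_or_ge a m with h1 | h1
      · omega
      · exfalso
        have : a = m := by omega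
        subst this
        have : q ^ 1 < q ^ (2 * k + 1) := Nat.pow_lt_pow_right (by omega) (by omega)
        rw [pow_one] at this
        omega
    have h2 : (2 : ℤ) ^ m ≡ 2 ^ a [ZMOD 2 ^ (a + 1)] := by
      have h3 := hodd.add_right 1
      have h4 : (q : ℤ) ^ (2 * k + 1) + 1 = 2 ^ m := by exact_mod_cast h
      rw [h4] at h3
      rwa [hqZ, sub_add_cancel] at h3
    have h5 : (2 : ℤ) ^ (a + 1) ∣ 2 ^ a := by
      have h6 := Int.modEq_iff_dvd.1 h2
      exact (dvd_sub_left (pow_dvd_pow (2 : ℤ) hlt)).1 h6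
    have h7 : 2 ^ (a + 1) ∣ 2 ^ a := by exact_mod_cast h5
    have := Nat.pow_dvd_pow_iff_le_right (show 1 < 2 by norm_num) |>.1 h7
    omega

theorem exp_of_pow_eq_two_pow_add_one {q d m : ℕ} (hq : 3 ≤ q) (hd : 1 ≤ d) (h : q ^ d = 2 ^ m + 1) :
    d = 1 ∨ (q = 3 ∧ d = 2) := by
  rcases Nat.even_or_odd d with ⟨k, rfl⟩ | hodd
  · right
    obtain ⟨t, ht, ht1⟩ : ∃ t, q ^ k = t + 1 ∧ 2 ≤ t := by
      have : q ≤ q ^ k := Nat.le_self_pow (by omega) q
      exact ⟨q ^ k - 1, by omega, by omega⟩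
    have h2 : t * (t + 2) = 2 ^ m := by
      have : q ^ k * q ^ k = 2 ^ m + 1 := by rw [← pow_add]; exact h
      rw [ht] at this
      nlinarith
    obtain ⟨a, -, ha⟩ := (Nat.dvd_prime_pow Nat.prime_two).1 (Dvd.intro _ h2)
    obtain ⟨b, -, hb⟩ := (Nat.dvd_prime_pow Nat.prime_two).1 (Dvd.intro_left _ h2)
    have ht2 : t = 2 := by
      have hab : a < b := by
        by_contra hle
        have := Nat.pow_le_pow_right (show 0 < 2 by norm_num) (Nat.le_of_not_lt hle)
        omega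
      have hd2 : 2 ^ a ∣ 2 := by
        have h3 : 2 ^ a ∣ t + 2 := hb ▸ pow_dvd_pow 2 hab.le
        rw [← ha] at h3 ⊢
        exact (Nat.dvd_add_right (dvd_refl _)).1 h3
      have := Nat.le_of_dvd two_pos hd2
      omega
    subst ht2
    have hk : k = 1 := by
      rcases Nat.lt_or_ge 1 k with h1 | h1
      · exfalso
        have : q ^ 2 ≤ q ^ k := Nat.pow_le_pow_right (by omega) h1
        nlinarith
      · omega
    subst hk
    rw [pow_one] at ht
    omega
  · left
    by_contra hne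
    have hq2 : Odd q := by
      have : Odd (q ^ d) := by
        rw [h]
        rcases Nat.eq_zero_or_pos m with h0 | h0
        · exfalso; rw [h0] at h; have : q ≤ q ^ d := Nat.le_self_pow (by omega) q; omega
        · exact Even.add_one (Nat.even_pow.2 ⟨even_two, by omega⟩)
      exact (Nat.odd_pow_iff (by omega)).1 this
    have hsum := geom_sum_mul_of_one_le (x := q) (by omega) d
    have hsodd : Odd (∑ i ∈ Finset.range d, q ^ i) := by
      rw [Finset.odd_sum_iff_odd_card_odd]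
      rw [Finset.filter_true_of_mem (fun i _ => hq2.pow)]
      simpa using hodd
    rw [h, Nat.add_sub_cancel] at hsum
    obtain ⟨a, -, ha⟩ := (Nat.dvd_prime_pow Nat.prime_two).1 (Dvd.intro _ hsum)
    rw [ha] at hsodd
    have ha0 : a = 0 := by
      by_contra h0
      exact Nat.not_even_iff_odd.2 hsodd (Nat.even_pow.2 ⟨even_two, h0⟩)
    subst ha0
    have : ∑ i ∈ Finset.range 2, q ^ i ≤ ∑ i ∈ Finset.range d, q ^ i :=
      Finset.sum_le_sum_of_subset (Finset.range_subset_range.2 (by omega))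
    rw [ha] at this
    simp [Finset.sum_range_succ] at this
    omega

variable {q : ℕ} [Fact q.Prime] {V : Type*} [AddCommGroup V] [Module (ZMod q) V] [Finite V]
variable {G : Type*} [Group G] [Finite G] {p : ℕ} [Fact p.Prime]
variable (ρ : G →* (V ≃ₗ[ZMod q] V))

/-- The stabilizer of a vector. -/
def st (v : V) : Subgroup G where
  carrier := {g | ρ g v = v}
  one_mem' := by simp
  mul_mem' := fun {a b} ha hb => by
    simp only [Set.mem_setOf_eq] at ha hb ⊢
    rw [map_mul, LinearEquiv.mul_apply, hb, ha]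
  inv_mem' := fun {a} ha => by
    simp only [Set.mem_setOf_eq] at ha ⊢
    conv_lhs => rw [← ha, ← LinearEquiv.mul_apply, ← map_mul, inv_mul_cancel, map_one]
    rfl

omit [Finite V] [Finite G] in
theorem mem_st {v : V} {g : G} : g ∈ st ρ v ↔ ρ g v = v := Iff.rfl

/-- The fixed space of an element. -/
def fixSp (g : G) : Submodule (ZMod q) V := LinearMap.ker ((ρ g : V →ₗ[ZMod q] V) - LinearMap.id)

omit [Finite V] [Finite G] in
theorem mem_fixSp {v : V} {g : G} : v ∈ fixSp ρ g ↔ ρ g v = v := by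
  simp [fixSp, LinearMap.mem_ker, sub_eq_zero]

omit [Finite V] [Finite G] in
theorem act_mul (a b : G) (v : V) : ρ (a * b) v = ρ a (ρ b v) := by rw [map_mul]; rfl

omit [Finite V] [Finite G] in
theorem act_one (v : V) : ρ 1 v = v := by rw [map_one]; rfl

omit [Finite V] in
theorem card_st (hhalf : ∀ v w : V, v ≠ 0 → w ≠ 0 →
      Nat.card {u : V | ∃ g : G, ρ g v = u} = Nat.card {u : V | ∃ g : G, ρ g w = u})
    {v w : V} (hv : v ≠ 0) (hw : w ≠ 0) : Nat.card (st ρ v) = Nat.card (st ρ w) := by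
  letI : MulAction G V :=
    { smul := fun g v => ρ g v
      one_smul := act_one ρ
      mul_smul := fun a b v => act_mul ρ a b v }
  have key : ∀ u : V, Nat.card (st ρ u) * Nat.card {x : V | ∃ g : G, ρ g u = x} = Nat.card G := fun u => by
    rw [← Subgroup.card_mul_index (st ρ u)]
    congr 1
    show Nat.card (MulAction.orbit G u) = (MulAction.stabilizer G u).index
    rw [MulAction.index_stabilizer, Nat.card_coe_set_eq]
  have hpos : 0 < Nat.card {x : V | ∃ g : G, ρ g v = x} := by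
    rcases Nat.eq_zero_or_pos (Nat.card {x : V | ∃ g : G, ρ g v = x}) with h | h
    · have := key v; rw [h, mul_zero] at this; exact absurd this.symm Nat.card_pos.ne'
    · exact h
  exact Nat.eq_of_mul_eq_mul_right hpos ((key v).trans (by rw [← key w, hhalf v w hv hw]))

theorem irreducible (hρ : Function.Injective ρ) (hhalf : ∀ v w : V, v ≠ 0 → w ≠ 0 →
      Nat.card {u : V | ∃ g : G, ρ g v = u} = Nat.card {u : V | ∃ g : G, ρ g w = u})
    (hns : ∃ v : V, v ≠ 0 ∧ st ρ v ≠ ⊥) (W : Submodule (ZMod q) V)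
    (hW : ∀ g : G, ∀ w ∈ W, ρ g w ∈ W) : W = ⊥ ∨ W = ⊤ := by
  letI : MulDistribMulAction G (Multiplicative V) :=
    { smul := fun g v => Multiplicative.ofAdd (ρ g v.toAdd)
      one_smul := fun v => congrArg Multiplicative.ofAdd (act_one ρ v.toAdd)
      mul_smul := fun a b v => congrArg Multiplicative.ofAdd (act_mul ρ a b v.toAdd)
      smul_mul := fun g a b => congrArg Multiplicative.ofAdd ((ρ g).map_add a.toAdd b.toAdd)
      smul_one := fun g => congrArg Multiplicative.ofAdd ((ρ g).map_zero) }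
  haveI : FaithfulSMul G (Multiplicative V) := ⟨fun {a b} h => hρ (LinearEquiv.ext fun v =>
    congrArg Multiplicative.toAdd (h (Multiplicative.ofAdd v)))⟩
  have horb : ∀ x : Multiplicative V, Nat.card (MulAction.orbit G x) =
      Nat.card {u : V | ∃ g : G, ρ g x.toAdd = u} := fun x =>
    Nat.card_congr (Multiplicative.toAdd.subtypeEquiv fun u => by
      show (∃ g : G, g • x = u) ↔ ∃ g : G, ρ g x.toAdd = u.toAdd
      exact exists_congr fun g =>
        ⟨fun h => congrArg Multiplicative.toAdd h, fun h => congrArg Multiplicative.ofAdd h⟩)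
  obtain ⟨v, hv, hst⟩ := hns
  have h := (half_transitive_aut (H := G) (N := Multiplicative V) (fun x y hx hy => by
    rw [horb, horb]
    exact hhalf _ _ (fun e => hx (congrArg Multiplicative.ofAdd e))
      (fun e => hy (congrArg Multiplicative.ofAdd e)))
    ⟨Multiplicative.ofAdd v, fun e => hv (congrArg Multiplicative.toAdd e), fun e => hst (by
      rw [eq_bot_iff]
      intro g hg
      have : g ∈ MulAction.stabilizer G (Multiplicative.ofAdd v) :=
        congrArg Multiplicative.ofAdd (hg : ρ g v = v)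
      rwa [e] at this)⟩).2 (AddSubgroup.toSubgroup W.toAddSubgroup) (fun g x hx => hW g _ hx)
  rcases h with h | h
  · left
    rw [Submodule.eq_bot_iff]
    intro x hx
    have : Multiplicative.ofAdd x ∈ AddSubgroup.toSubgroup W.toAddSubgroup := hx
    rw [h, Subgroup.mem_bot] at this
    exact congrArg Multiplicative.toAdd this
  · right
    rw [eq_top_iff]
    intro x _
    have : Multiplicative.ofAdd x ∈ AddSubgroup.toSubgroup W.toAddSubgroup := h ▸ Subgroup.mem_top _
    exact this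

/-- A semiregular `p`-group is cyclic or generalized quaternion. -/
theorem semiregular_type [Nontrivial V] (hG : IsPGroup p G) (hfree : ∀ v : V, v ≠ 0 → st ρ v = ⊥) :
    IsCyclic G ∨ ∃ n : ℕ, Nonempty (G ≃* QuaternionGroup n) := by
  rcases subsingleton_or_nontrivial G with h | h
  · exact Or.inl inferInstance
  have fix0 : ∀ g : G, g ≠ 1 → ∀ v : V, ρ g v = v → v = 0 := fun g hg v h => by
    by_contra hv
    have : g ∈ st ρ v := h
    rw [hfree v hv, Subgroup.mem_bot] at this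
    exact hg this
  obtain ⟨z, hz, hzc⟩ := PGroupImprimitive.exists_central hG
  have hzp : z ^ p = 1 := by rw [← hz, pow_orderOf_eq_one]
  have hp : p.Prime := Fact.out
  have hz1 : z ≠ 1 := fun e => hp.ne_one (by rw [← hz, e, orderOf_one])
  have hsum : ∀ g : G, g ≠ 1 → g ^ p = 1 → ∀ v : V, ∑ j ∈ Finset.range p, ρ (g ^ j) v = 0 := by
    intro g hg hgp v
    refine fix0 g hg _ ?_
    rw [map_sum]
    have h1 : ∀ j, ρ g (ρ (g ^ j) v) = ρ (g ^ (j + 1)) v := fun j => by rw [← act_mul, ← pow_succ']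
    simp only [h1]
    have h2 := Finset.sum_range_succ' (fun j => ρ (g ^ j) v) p
    have h3 := Finset.sum_range_succ (fun j => ρ (g ^ j) v) p
    rw [h3, hgp, pow_zero] at h2
    exact (add_right_cancel h2).symm
  refine (CfsgLib.Solvable.isCyclic_or_quaternion_of_unique hG ?_).imp id fun ⟨_, n, hn⟩ => ⟨_, hn⟩
  suffices key : ∀ H : Subgroup G, Nat.card H = p → H = zpowers z by
    exact fun H K hH hK => (key H hH).trans (key K hK).symm
  intro H hH
  by_contra hne
  obtain ⟨⟨h, hhH⟩, hho⟩ := exists_prime_orderOf_dvd_card' (G := H) p hH.symm.dvd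
  rw [Subgroup.orderOf_mk] at hho
  have hhp : h ^ p = 1 := by rw [← hho, pow_orderOf_eq_one]
  have hnot : h ∉ zpowers z := fun hh => hne (by
    have e1 : zpowers h = H := eq_of_le_of_card_ge (zpowers_le.2 hhH) (by rw [hH, Nat.card_zpowers, hho])
    rw [← e1]
    exact eq_of_le_of_card_ge (zpowers_le.2 hh) (by rw [Nat.card_zpowers, Nat.card_zpowers, hz, hho]))
  have hcomm : Commute h z := mem_center_iff.1 hzc h
  have hne1 : ∀ i, h * z ^ i ≠ 1 := fun i e => hnot (by
    rw [eq_inv_of_mul_eq_one_left e]; exact inv_mem (pow_mem (mem_zpowers z) i))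
  have hpow : ∀ i, (h * z ^ i) ^ p = 1 := fun i => by
    rw [(hcomm.pow_right i).mul_pow, hhp, ← pow_mul, mul_comm i p, pow_mul, hzp, one_pow, one_mul]
  obtain ⟨v, hv⟩ : ∃ v : V, v ≠ 0 := exists_ne 0
  have hpv : p • v = 0 := by
    have h0 : ∑ i ∈ Finset.range p, ∑ j ∈ Finset.range p, ρ ((h * z ^ i) ^ j) v = 0 :=
      Finset.sum_eq_zero fun i _ => hsum _ (hne1 i) (hpow i) v
    rw [Finset.sum_comm, Finset.sum_eq_single 0] at h0
    · simpa [act_one] using h0
    · intro j hj hj0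
      have hzj : z ^ j ≠ 1 := fun e => by
        have := orderOf_dvd_of_pow_eq_one e
        rw [hz] at this
        exact absurd (Nat.le_of_dvd (Nat.pos_of_ne_zero hj0) this) (not_le.2 (Finset.mem_range.1 hj))
      have h1 : ∀ i, ρ ((h * z ^ i) ^ j) v = ρ (h ^ j) (ρ ((z ^ j) ^ i) v) := fun i => by
        rw [(hcomm.pow_right i).mul_pow, act_mul, ← pow_mul, ← pow_mul, mul_comm i j]
      simp only [h1]
      rw [← map_sum, hsum _ hzj (by rw [← pow_mul, mul_comm, pow_mul, hzp, one_pow]), map_zero]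
    · intro h; simp [hp.pos] at h
  -- p ≠ q
  have hqp : p ≠ q := by
    rintro rfl
    letI : MulAction G V :=
      { smul := fun g v => ρ g v
        one_smul := act_one ρ
        mul_smul := fun a b v => act_mul ρ a b v }
    have hdvd : p ∣ Nat.card V := by
      rw [Module.natCard_eq_pow_finrank (K := ZMod p), Nat.card_zmod]
      exact dvd_pow_self p (Module.finrank_pos (R := ZMod p) (M := V)).ne'
    obtain ⟨w, hw, hw0⟩ := hG.exists_fixed_point_of_prime_dvd_card_of_fixed_point V hdvd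
      (a := (0 : V)) (fun g => map_zero (ρ g))
    exact hw0 (fix0 z hz1 w (hw z)).symm
  rw [← Nat.cast_smul_eq_nsmul (ZMod q), smul_eq_zero] at hpv
  rcases hpv with h1 | h1
  · rw [ZMod.natCast_eq_zero_iff] at h1
    exact hqp ((Nat.prime_dvd_prime_iff_eq (Fact.out : q.Prime) hp).1 h1).symm
  · exact hv h1

/-- Odd `p`: the blocks are impossible. -/
theorem blocks_odd (hρ : Function.Injective ρ)
    (hhalf : ∀ v w : V, v ≠ 0 → w ≠ 0 → Nat.card (st ρ v) = Nat.card (st ρ w))
    (hp2 : p ≠ 2) (H : Subgroup G) (hHne : ∃ g : G, g ∉ H) (W : ZMod p → Submodule (ZMod q) V) (hW : iSup W = ⊤)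
    (hind : iSupIndep W) (hH : ∀ h ∈ H, ∀ i, ∀ w ∈ W i, ρ h w ∈ W i)
    (hK : ∀ i, ∃ h ∈ H, h ≠ 1 ∧ ∀ w ∈ W i, ρ h w = w)
    (hmove : ∀ g : G, g ∉ H → ∃ k : ZMod p, k ≠ 0 ∧
      ∀ i, (W i).map (ρ g : V →ₗ[ZMod q] V) = W (i + k)) : False := by
  have hp : p.Prime := Fact.out
  obtain ⟨h, hhH, hh1, hfix⟩ := hK 0
  have hsplit : ∀ l : ZMod p, ∀ a ∈ W l, ∀ b, b ∈ (⨆ (m) (_ : m ≠ l), W m) → a = b → a = 0 :=
    fun l a ha b hb e => Submodule.disjoint_def.1 (hind l) a ha (e ▸ hb)
  apply hh1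
  apply hρ
  refine LinearEquiv.ext fun v => ?_
  rw [map_one]
  have hv : v ∈ iSup W := hW ▸ Submodule.mem_top
  show ρ h v = v
  induction hv using Submodule.iSup_induction' with
  | zero => exact map_zero _
  | add x y _ _ hx hy => rw [map_add, hx, hy]
  | mem j b hb =>
    by_cases hj : j = 0
    · subst hj; exact hfix b hb
    by_cases hb0 : b = 0
    · rw [hb0, map_zero]
    by_cases hW0 : W 0 = ⊥
    · -- every element outside `H` moves `W 0` to a block
      exfalso
      obtain ⟨g, hg⟩ := hHne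
      obtain ⟨k, hk, hmap⟩ := hmove g hg
      have hall : ∀ n : ℕ, W ((n : ZMod p) * k) = ⊥ := by
        intro n
        induction n with
        | zero => simpa using hW0
        | succ n ih =>
          have := hmap ((n : ZMod p) * k)
          rw [ih, Submodule.map_bot] at this
          rw [Nat.cast_succ, add_mul, one_mul, ← this]
      have := hall ((j / k : ZMod p).val)
      rw [ZMod.natCast_zmod_val, div_mul_cancel₀ _ hk] at this
      exact hb0 ((Submodule.eq_bot_iff _).1 this b hb)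
    obtain ⟨a, ha, ha0⟩ := (Submodule.ne_bot_iff _).1 hW0
    set v := a + b with hv
    have hv0 : v ≠ 0 := fun e => ha0 (hsplit 0 a ha (-b) (Submodule.mem_iSup_of_mem j
      (Submodule.mem_iSup_of_mem hj (Submodule.neg_mem _ hb))) (eq_neg_of_add_eq_zero_left e))
    have hle : st ρ v ≤ st ρ a ⊓ H := by
      intro g hg
      have hg' : ρ g a + ρ g b = a + b := by rw [← map_add]; exact hg
      by_cases hgH : g ∈ H
      · refine ⟨?_, hgH⟩
        show ρ g a = a
        have h1 : ρ g a - a = b - ρ g b := by rw [sub_eq_sub_iff_add_eq_add]; rw [hg', add_comm]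
        exact sub_eq_zero.1 (hsplit 0 _ (Submodule.sub_mem _ (hH g hgH 0 a ha) ha) _
          (Submodule.mem_iSup_of_mem j (Submodule.mem_iSup_of_mem hj
            (Submodule.sub_mem _ hb (hH g hgH j b hb)))) h1)
      · exfalso
        obtain ⟨k, hk, hmap⟩ := hmove g hgH
        have hga : ρ g a ∈ W (0 + k) := (hmap 0) ▸ Submodule.mem_map_of_mem ha
        have hgb : ρ g b ∈ W (j + k) := (hmap j) ▸ Submodule.mem_map_of_mem hb
        rw [zero_add] at hga
        have hjk : j + k ≠ k := fun e => hj (by linear_combination e)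
        -- the block of `a` goes to `j`
        have hkj : k = j := by
          by_contra hkj
          have h1 : ρ g a = a + b - ρ g b := eq_sub_of_add_eq hg'
          have := hsplit k _ hga _ ?_ h1
          · exact ha0 ((ρ g).map_eq_zero_iff.1 this)
          · exact Submodule.sub_mem _ (Submodule.add_mem _
              (Submodule.mem_iSup_of_mem 0 (Submodule.mem_iSup_of_mem hk.symm ha))
              (Submodule.mem_iSup_of_mem j (Submodule.mem_iSup_of_mem (Ne.symm hkj) hb)))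
              (Submodule.mem_iSup_of_mem (j + k) (Submodule.mem_iSup_of_mem hjk hgb))
        subst hkj
        have hj2 : k + k ≠ 0 := by
          intro e
          have h2 : ((2 : ℕ) : ZMod p) * k = 0 := by push_cast; linear_combination e
          rcases mul_eq_zero.1 h2 with h3 | h3
          · rw [ZMod.natCast_eq_zero_iff] at h3
            exact hp2 ((Nat.prime_dvd_prime_iff_eq hp Nat.prime_two).1 h3)
          · exact hk h3
        have h1 : ρ g b = a + b - ρ g a := eq_sub_of_add_eq (by rw [add_comm]; exact hg')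
        have := hsplit (k + k) _ hgb _ ?_ h1
        · exact hb0 ((ρ g).map_eq_zero_iff.1 this)
        · have hkk : k ≠ k + k := fun e => hk (by linear_combination -e)
          exact Submodule.sub_mem _ (Submodule.add_mem _
            (Submodule.mem_iSup_of_mem 0 (Submodule.mem_iSup_of_mem hj2.symm ha))
            (Submodule.mem_iSup_of_mem k (Submodule.mem_iSup_of_mem hkk hb)))
            (Submodule.mem_iSup_of_mem k (Submodule.mem_iSup_of_mem hkk hga))
    have heq : st ρ v = st ρ a := eq_of_le_of_card_ge (hle.trans inf_le_left) (hhalf a v ha0 hv0).le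
    have hmem : h ∈ st ρ v := heq ▸ (hfix a ha : h ∈ st ρ a)
    have h1 : ρ h a + ρ h b = a + b := by rw [← map_add]; exact hmem
    rw [hfix a ha] at h1
    exact add_left_cancel h1

/-- `p = 2`: two blocks give `|V| = q²` monomial, or `|V| = 81`. -/
theorem blocks_two [Nontrivial V] (hρ : Function.Injective ρ) (hG : IsPGroup 2 G) (hq : 3 ≤ q)
    (hhalf : ∀ v w : V, v ≠ 0 → w ≠ 0 → Nat.card (st ρ v) = Nat.card (st ρ w))
    (H : Subgroup G) (hHi : H.index = 2) (W0 W1 : Submodule (ZMod q) V) (hc : IsCompl W0 W1)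
    (h0 : ∀ h ∈ H, ∀ w ∈ W0, ρ h w ∈ W0) (h1 : ∀ h ∈ H, ∀ w ∈ W1, ρ h w ∈ W1)
    (hk : ∃ h ∈ H, h ≠ 1 ∧ ∀ w ∈ W0, ρ h w = w)
    (hsw0 : ∀ g : G, g ∉ H → W0.map (ρ g : V →ₗ[ZMod q] V) = W1)
    (hsw1 : ∀ g : G, g ∉ H → W1.map (ρ g : V →ₗ[ZMod q] V) = W0) :
    (Nat.card V = q ^ 2 ∧ (∃ m : ℕ, q = 2 ^ m + 1) ∧
      ∃ e : V ≃ₗ[ZMod q] (Fin 2 → ZMod q), ∀ f : (Fin 2 → ZMod q) ≃ₗ[ZMod q] (Fin 2 → ZMod q),
        (∃ g : G, f = e.symm.trans ((ρ g).trans e)) ↔
        ∃ a s : ZMod q, a ≠ 0 ∧ (s = 1 ∨ s = -1) ∧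
          ((∀ v, f v = ![a * v 0, s * a⁻¹ * v 1]) ∨ (∀ v, f v = ![s * a⁻¹ * v 1, a * v 0]))) ∨
    (Nat.card V = 81 ∧ q = 3) := by
  classical
  have huniq : ∀ a ∈ W0, ∀ b ∈ W1, ∀ a' ∈ W0, ∀ b' ∈ W1, a + b = a' + b' → a = a' ∧ b = b' := by
    intro a ha b hb a' ha' b' hb' e
    have e1 : a - a' = b' - b := by rw [sub_eq_sub_iff_add_eq_add]; rw [e, add_comm]
    have := Submodule.disjoint_def.1 hc.disjoint _ (Submodule.sub_mem _ ha ha')
      (e1 ▸ Submodule.sub_mem _ hb' hb)
    refine ⟨sub_eq_zero.1 this, ?_⟩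
    rw [this] at e1
    exact (sub_eq_zero.1 e1.symm).symm
  have hdec : ∀ v : V, ∃ a ∈ W0, ∃ b ∈ W1, a + b = v := fun v =>
    Submodule.mem_sup.1 (hc.sup_eq_top.symm ▸ Submodule.mem_top : v ∈ W0 ⊔ W1)
  have h2 : (2 : ZMod q) ≠ 0 := by
    intro e
    have : ((2 : ℕ) : ZMod q) = 0 := by exact_mod_cast e
    rw [ZMod.natCast_eq_zero_iff] at this
    exact absurd (Nat.le_of_dvd two_pos this) (by omega)
  obtain ⟨k, hkH, hk1, hk0⟩ := hk
  -- `H`-stabilizers of vectors of `W0`
  have stab0 : ∀ a ∈ W0, a ≠ 0 → st ρ a ≤ H := by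
    intro a ha ha0 g hg
    by_contra hgH
    exact ha0 (Submodule.disjoint_def.1 hc.disjoint a ha
      (hsw0 g hgH ▸ ((hg : ρ g a = a) ▸ Submodule.mem_map_of_mem ha)))
  have stabsum : ∀ a ∈ W0, ∀ b ∈ W1, ∀ g ∈ H, g ∈ st ρ (a + b) → g ∈ st ρ a ∧ g ∈ st ρ b := by
    intro a ha b hb g hgH hg
    exact huniq _ (h0 g hgH a ha) _ (h1 g hgH b hb) a ha b hb (by rw [← map_add]; exact hg)
  -- elements fixing `W0` pointwise
  let K : Subgroup G :=
    { carrier := {h | h ∈ H ∧ ∀ w ∈ W0, ρ h w = w}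
      one_mem' := ⟨H.one_mem, fun w _ => act_one ρ w⟩
      mul_mem' := fun {a b} ha hb => ⟨H.mul_mem ha.1 hb.1, fun w hw => by
        rw [act_mul, hb.2 w hw, ha.2 w hw]⟩
      inv_mem' := fun {a} ha => ⟨H.inv_mem ha.1, fun w hw => by
        conv_lhs => rw [← ha.2 w hw]
        rw [← act_mul, inv_mul_cancel, act_one]⟩ }
  have hcoset : ∀ g g' : G, g ∉ H → g' ∉ H → g' * g ∈ H ∧ g⁻¹ * g' ∈ H := fun g g' hg hg' =>
    ⟨(mul_mem_iff_of_index_two hHi).2 ⟨fun h => absurd h hg', fun h => absurd h hg⟩,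
      (mul_mem_iff_of_index_two hHi).2
        ⟨fun h => absurd (inv_inv g ▸ H.inv_mem h) hg, fun h => absurd h hg'⟩⟩
  -- orbits of `K` on `W1` have length at most 2
  have hpair : ∀ b ∈ W1, ∀ x ∈ K, ∀ y ∈ K, ρ x b ≠ b → ρ y b ≠ b → ρ x b = ρ y b := by
    intro b hb x hx y hy hxb hyb
    obtain ⟨a, ha, ha0⟩ : ∃ a ∈ W0, a ≠ 0 := by
      by_contra hcon
      push Not at hcon
      obtain ⟨g, hg⟩ : ∃ g, g ∉ H := by
        by_contra h
        push Not at h
        have : H = ⊤ := eq_top_iff.2 fun g _ => h g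
        rw [this, Subgroup.index_top] at hHi
        omega
      have : W1 = ⊥ := by rw [← hsw0 g hg, (Submodule.eq_bot_iff W0).2 hcon, Submodule.map_bot]
      exact hxb (by rw [(Submodule.eq_bot_iff W1).1 this b hb, map_zero])
    -- two of `1, x, y` agree modulo the stabilizer
    have hv0 : a + b ≠ 0 := fun e => ha0 (huniq a ha b hb 0 (zero_mem _) 0 (zero_mem _)
      (by rw [e, add_zero])).1
    set S := st ρ (a + b) ⊓ H with hS
    have hSle : S ≤ st ρ a := fun g hg => (stabsum a ha b hb g hg.2 hg.1).1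
    have hidx : S.relIndex (st ρ a) ≤ 2 := by
      have hle : S ≤ st ρ (a + b) := inf_le_left
      have e1 := Subgroup.card_mul_index (S.subgroupOf (st ρ a))
      have e2 := Subgroup.card_mul_index (S.subgroupOf (st ρ (a + b)))
      rw [Nat.card_congr (subgroupOfEquivOfLe hSle).toEquiv] at e1
      rw [Nat.card_congr (subgroupOfEquivOfLe hle).toEquiv, ← hhalf a (a + b) ha0 hv0] at e2
      have e3 : S.relIndex (st ρ (a + b)) ∣ 2 := by
        rw [hS, Subgroup.inf_relIndex_left, ← hHi]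
        exact (haveI := Subgroup.normal_of_index_eq_two hHi; Subgroup.relIndex_dvd_index_of_normal H _)
      show (S.subgroupOf (st ρ a)).index ≤ 2
      have e4 : (S.subgroupOf (st ρ a)).index = (S.subgroupOf (st ρ (a + b))).index :=
        Nat.eq_of_mul_eq_mul_left (Nat.card_pos (α := S)) (e1.trans e2.symm)
      rw [e4]
      exact Nat.le_of_dvd two_pos e3
    have hxa : x ∈ st ρ a := hx.2 a ha
    have hya : y ∈ st ρ a := hy.2 a ha
    by_contra hne
    let T := S.subgroupOf (st ρ a)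
    have hmap : ∀ u w : st ρ a, (QuotientGroup.mk u : st ρ a ⧸ T) = QuotientGroup.mk w →
        ρ (u : G) b = ρ (w : G) b := by
      intro u w e
      have hm : ((u⁻¹ * w : st ρ a) : G) ∈ S := (QuotientGroup.eq (s := T)).1 e
      have hb' : ρ ((u : G)⁻¹ * w) b = b := (stabsum a ha b hb _ hm.2 hm.1).2
      conv_lhs => rw [← hb']
      rw [← act_mul, mul_inv_cancel_left]
    have hcard : Nat.card (st ρ a ⧸ T) ≤ 2 := hidx
    have h3 : Function.Injective
        ![(QuotientGroup.mk (1 : st ρ a) : st ρ a ⧸ T), QuotientGroup.mk ⟨x, hxa⟩, QuotientGroup.mk ⟨y, hya⟩] := by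
      intro i j e
      fin_cases i <;> fin_cases j <;> simp at e ⊢
      all_goals have e' := hmap _ _ e
      all_goals simp [act_one] at e'
      all_goals first
        | exact hxb e'.symm | exact hyb e'.symm | exact hxb e' | exact hyb e'
        | exact hne e' | exact hne e'.symm
    have := Nat.card_le_card_of_injective _ h3
    simp at this
    omega
  have hKext : ∀ x ∈ K, (∀ b ∈ W1, ρ x b = b) → x = 1 := fun x hx h => hρ (LinearEquiv.ext fun v => by
    obtain ⟨a, ha, b, hb, rfl⟩ := hdec v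
    rw [act_one, map_add, hx.2 a ha, h b hb])
  have hKsq : ∀ x ∈ K, x * x = 1 := fun x hx => hKext _ (K.mul_mem hx hx) fun b hb => by
    by_cases h : ρ x b = b
    · rw [act_mul, h, h]
    · by_contra hne
      have h' := hpair b hb x hx (x * x) (K.mul_mem hx hx) h hne
      rw [act_mul] at h'
      exact h ((ρ x).injective h').symm
  have hkK : k ∈ K := ⟨hkH, hk0⟩
  obtain ⟨b0, hb0, hkb0⟩ : ∃ b ∈ W1, ρ k b ≠ b := by
    by_contra h
    push Not at h
    exact hk1 (hKext k hkK h)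
  have hK2 : ∀ x ∈ K, x = 1 ∨ x = k := by
    intro x hx
    by_contra hne
    push Not at hne
    obtain ⟨hx1, hxk⟩ := hne
    -- adjust `x` to fix `b0`
    obtain ⟨y, hy, hy1, hyb⟩ : ∃ y ∈ K, y ≠ 1 ∧ ρ y b0 = b0 := by
      by_cases h : ρ x b0 = b0
      · exact ⟨x, hx, hx1, h⟩
      · refine ⟨k * x, K.mul_mem hkK hx, fun e => hxk ?_, ?_⟩
        · rw [eq_inv_of_mul_eq_one_right e, inv_eq_of_mul_eq_one_right (hKsq k hkK)]
        · rw [act_mul, ← hpair b0 hb0 k hkK x hx hkb0 h, ← act_mul, hKsq k hkK, act_one]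
    obtain ⟨w', hw', hyw'⟩ : ∃ w ∈ W1, ρ y w ≠ w := by
      by_contra h
      push Not at h
      exact hy1 (hKext y hy h)
    set w := w' - ρ y w' with hw_def
    have hw : w ∈ W1 := Submodule.sub_mem _ hw' (h1 y hy.1 w' hw')
    have hyw : ρ y w = -w := by
      rw [hw_def, map_sub, ← act_mul, hKsq y hy, act_one, neg_sub]
    have hw0 : w ≠ 0 := sub_ne_zero.2 hyw'.symm
    set c := b0 + w with hc'
    have hyc : ρ y c = b0 - w := by rw [hc', map_add, hyb, hyw, ← sub_eq_add_neg]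
    have hyc' : ρ y c ≠ c := by
      rw [hyc, hc', Ne, sub_eq_iff_eq_add, add_assoc, left_eq_add, ← two_smul (ZMod q), smul_eq_zero]
      tauto
    have hkw : ρ y (ρ k w) = -ρ k w := by
      have hcom : y * k = k * y := by
        have h1 := hKsq _ (K.mul_mem hy hkK)
        calc y * k = (y * k)⁻¹ := (inv_eq_of_mul_eq_one_right h1).symm
          _ = k * y := by
            rw [mul_inv_rev, inv_eq_of_mul_eq_one_right (hKsq k hkK), inv_eq_of_mul_eq_one_right (hKsq y hy)]
      rw [← act_mul, hcom, act_mul, hyw, map_neg]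
    have hku : ρ y (ρ k b0) = ρ k b0 := by
      by_contra hne'
      have hcom : y * k = k * y := by
        have h1 := hKsq _ (K.mul_mem hy hkK)
        calc y * k = (y * k)⁻¹ := (inv_eq_of_mul_eq_one_right h1).symm
          _ = k * y := by
            rw [mul_inv_rev, inv_eq_of_mul_eq_one_right (hKsq k hkK), inv_eq_of_mul_eq_one_right (hKsq y hy)]
      exact hne' (by rw [← act_mul, hcom, act_mul, hyb])
    have hkc : ρ k c = c ∨ ρ k c = ρ y c := by
      by_cases h : ρ k c = c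
      · exact Or.inl h
      · exact Or.inr (hpair c (Submodule.add_mem _ hb0 hw) k hkK y hy h hyc')
    -- project to the fixed space of `y`
    have hproj : ρ k c + ρ y (ρ k c) = (2 : ZMod q) • ρ k b0 := by
      rw [hc', map_add (ρ k), map_add (ρ y), hkw, hku, two_smul]; abel
    apply hkb0
    have hfin : (2 : ZMod q) • ρ k b0 = (2 : ZMod q) • b0 := by
      rw [← hproj]
      rcases hkc with h | h <;> rw [h]
      · rw [hyc, hc', two_smul]; abel
      · rw [← act_mul, hKsq y hy, act_one, hyc, hc', two_smul]; abel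
    exact smul_right_injective V h2 hfin
  -- swappers
  have hswap : ∀ a ∈ W0, a ≠ 0 → ∀ b ∈ W1, ρ k b ≠ b → ∃ g, g ∉ H ∧ ρ g a = b ∧ ρ g b = a := by
    intro a ha ha0 b hb hkb
    have hv0 : a + b ≠ 0 := fun e => ha0 (huniq a ha b hb 0 (zero_mem _) 0 (zero_mem _)
      (by rw [e, add_zero])).1
    by_contra hcon
    push Not at hcon
    have hle : st ρ (a + b) ≤ st ρ a := by
      intro g hg
      by_cases hgH : g ∈ H
      · exact (stabsum a ha b hb g hgH hg).1
      · exfalso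
        have e := huniq (ρ g b) (hsw1 g hgH ▸ Submodule.mem_map_of_mem hb) (ρ g a)
          (hsw0 g hgH ▸ Submodule.mem_map_of_mem ha) a ha b hb
          (by rw [add_comm, ← map_add]; exact hg)
        exact hcon g hgH e.2 e.1
    have heq := eq_of_le_of_card_ge hle (hhalf a (a + b) ha0 hv0).le
    have hkm : k ∈ st ρ (a + b) := heq ▸ (hk0 a ha : k ∈ st ρ a)
    exact hkb (stabsum a ha b hb k hkH hkm).2
  have hW0ne : ∃ a ∈ W0, a ≠ 0 := by
    by_contra hcon
    push Not at hcon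
    obtain ⟨g, hg⟩ : ∃ g, g ∉ H := by
      by_contra h
      push Not at h
      have : H = ⊤ := eq_top_iff.2 fun g _ => h g
      rw [this, Subgroup.index_top] at hHi
      omega
    have : W1 = ⊥ := by rw [← hsw0 g hg, (Submodule.eq_bot_iff W0).2 hcon, Submodule.map_bot]
    exact hkb0 (by rw [(Submodule.eq_bot_iff W1).1 this b0 hb0, map_zero])
  obtain ⟨a0, ha0, ha0ne⟩ := hW0ne
  obtain ⟨g0, hg0, hg0a, hg0b⟩ := hswap a0 ha0 ha0ne b0 hb0 hkb0
  have htrans : ∀ a ∈ W0, a ≠ 0 → ∃ h ∈ H, ρ h a0 = a := by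
    intro a ha hane
    obtain ⟨g, hg, hga, hgb⟩ := hswap a ha hane b0 hb0 hkb0
    refine ⟨g * g0, (hcoset g0 g hg0 hg).1, ?_⟩
    rw [act_mul, hg0a, hgb]
  have hmovek : ∀ b ∈ W1, b ≠ 0 → ρ k b ≠ b := by
    intro b hb hbne hkb
    -- transitivity on `W1`
    obtain ⟨a, ha, hab⟩ : ∃ a ∈ W0, ρ g0 a = b := by
      have : b ∈ W0.map (ρ g0 : V →ₗ[ZMod q] V) := hsw0 g0 hg0 ▸ hb
      exact Submodule.mem_map.1 this
    have hane : a ≠ 0 := fun e => hbne (by rw [← hab, e, map_zero])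
    obtain ⟨h, hh, hha⟩ := htrans a ha hane
    set h' := g0 * h * g0⁻¹ with hh'
    have hn := Subgroup.normal_of_index_eq_two hHi
    have hh'H : h' ∈ H := hn.conj_mem h hh g0
    have hh'b : ρ h' b0 = b := by
      rw [hh', ← hg0a, ← act_mul, inv_mul_cancel_right, act_mul, hha, hab]
    have hkk : h'⁻¹ * k * h' ∈ K := ⟨H.mul_mem (H.mul_mem (H.inv_mem hh'H) hkH) hh'H, fun w hw => by
      rw [act_mul, act_mul, hk0 _ (h0 _ hh'H w hw), ← act_mul, inv_mul_cancel, act_one]⟩
    have : ρ (h'⁻¹ * k * h') b0 = b0 := by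
      rw [act_mul, hh'b, act_mul, hkb, ← hh'b, ← act_mul, inv_mul_cancel, act_one]
    rcases hK2 _ hkk with e | e
    · exact hk1 (by rwa [mul_eq_one_iff_eq_inv, inv_mul_eq_iff_eq_mul, mul_inv_cancel] at e)
    · rw [e] at this; exact hkb0 this
  -- the size
  have hcard0 : ∃ m : ℕ, Nat.card W0 = 2 ^ m + 1 := by
    letI : MulAction H {a : W0 // a ≠ 0} :=
      { smul := fun h a => ⟨⟨ρ (h : G) a.1.1, h0 _ h.2 _ a.1.2⟩, fun e => a.2 (Subtype.ext
          ((ρ (h : G)).map_eq_zero_iff.1 (congrArg Subtype.val e)))⟩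
        one_smul := fun a => Subtype.ext (Subtype.ext (act_one ρ _))
        mul_smul := fun x y a => Subtype.ext (Subtype.ext (act_mul ρ _ _ _)) }
    let A0 : {a : W0 // a ≠ 0} := ⟨⟨a0, ha0⟩, fun e => ha0ne (congrArg Subtype.val e)⟩
    have hpre : MulAction.orbit H A0 = Set.univ := Set.eq_univ_of_forall fun a => by
      obtain ⟨h, hh, e⟩ := htrans a.1.1 a.1.2 (fun e => a.2 (Subtype.ext e))
      exact ⟨⟨h, hh⟩, Subtype.ext (Subtype.ext e)⟩
    have hidx := MulAction.index_stabilizer H A0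
    rw [hpre, Set.ncard_univ] at hidx
    obtain ⟨n, hn⟩ := (hG.to_subgroup H).index (MulAction.stabilizer H A0)
    refine ⟨n, ?_⟩
    rw [← hn, hidx]
    haveI := Fintype.ofFinite W0
    rw [Nat.card_eq_fintype_card, Nat.card_eq_fintype_card, Fintype.card_subtype_compl,
      Fintype.card_subtype_eq]
    have := Fintype.card_pos (α := W0)
    omega
  obtain ⟨m, hm⟩ := hcard0
  have hfr := Module.natCard_eq_pow_finrank (K := ZMod q) (V := W0)
  rw [Nat.card_zmod] at hfr
  have hfrpos : 1 ≤ Module.finrank (ZMod q) W0 := by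
    by_contra h
    rw [Nat.not_le, Nat.lt_one_iff] at h
    rw [h, pow_zero, hm] at hfr
    have := Nat.one_le_two_pow (n := m)
    omega
  have hcardV : Nat.card V = Nat.card W0 * Nat.card W0 := by
    have e1 : Nat.card W1 = Nat.card W0 := by
      rw [← hsw0 g0 hg0]
      exact Nat.card_congr ((ρ g0).submoduleMap W0).toEquiv.symm
    rw [← Nat.card_congr (Submodule.prodEquivOfIsCompl W0 W1 hc).toEquiv, Nat.card_prod, e1]
  rcases exp_of_pow_eq_two_pow_add_one hq hfrpos (hfr.symm.trans hm) with hd | ⟨hq3, hd⟩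
  swap
  · right
    rw [hcardV, hfr, hd, hq3]
    exact ⟨rfl, rfl⟩
  left
  rw [hd, pow_one] at hfr
  refine ⟨by rw [hcardV, hfr, sq], ⟨m, hfr ▸ hm⟩, ?_⟩
  have hline : ∀ a ∈ W0, ∃ c : ZMod q, a = c • a0 := by
    let φ : ZMod q → W0 := fun c => ⟨c • a0, Submodule.smul_mem _ c ha0⟩
    have hb : Function.Bijective φ := (Nat.bijective_iff_injective_and_card φ).2
      ⟨fun c d e => smul_left_injective _ ha0ne (congrArg Subtype.val e), by rw [Nat.card_zmod, hfr]⟩
    intro a ha
    obtain ⟨c, hc⟩ := hb.2 ⟨a, ha⟩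
    exact ⟨c, (congrArg Subtype.val hc).symm⟩
  have hb0ne : b0 ≠ 0 := fun e => hkb0 (by rw [e, map_zero])
  have hline1 : ∀ b ∈ W1, ∃ c : ZMod q, b = c • b0 := by
    intro b hb
    obtain ⟨a, ha, rfl⟩ := Submodule.mem_map.1 (hsw0 g0 hg0 ▸ hb : b ∈ W0.map (ρ g0 : V →ₗ[ZMod q] V))
    obtain ⟨c, rfl⟩ := hline a ha
    exact ⟨c, by simp [hg0a]⟩
  let φ : (Fin 2 → ZMod q) →ₗ[ZMod q] V :=
    { toFun := fun u => u 0 • a0 + u 1 • b0
      map_add' := fun u u' => by simp [add_smul]; abel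
      map_smul' := fun c u => by simp [mul_smul, smul_add] }
  have hφ : Function.Bijective φ := by
    refine ⟨fun u u' e => ?_, fun v => ?_⟩
    · obtain ⟨e1, e2⟩ := huniq _ (Submodule.smul_mem _ _ ha0) _ (Submodule.smul_mem _ _ hb0) _
        (Submodule.smul_mem _ _ ha0) _ (Submodule.smul_mem _ _ hb0) e
      funext i
      fin_cases i
      · exact smul_left_injective _ ha0ne e1
      · exact smul_left_injective _ hb0ne e2
    · obtain ⟨a, ha, b, hb, rfl⟩ := hdec v
      obtain ⟨c, rfl⟩ := hline a ha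
      obtain ⟨d, rfl⟩ := hline1 b hb
      exact ⟨![c, d], by simp [φ]⟩
  refine ⟨(LinearEquiv.ofBijective φ hφ).symm, fun f => ?_⟩
  have key : ∀ (g : G) (f' : (Fin 2 → ZMod q) → (Fin 2 → ZMod q)),
      (∀ u, ρ g (φ u) = φ (f' u)) → ∀ u, ((LinearEquiv.ofBijective φ hφ).symm.symm.trans
        ((ρ g).trans (LinearEquiv.ofBijective φ hφ).symm)) u = f' u := by
    intro g f' h u
    show (LinearEquiv.ofBijective φ hφ).symm (ρ g (φ u)) = f' u
    rw [h u]
    exact (LinearEquiv.ofBijective φ hφ).symm_apply_apply (f' u)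
  have hφapp : ∀ (g : G) (u : Fin 2 → ZMod q), ρ g (φ u) = u 0 • ρ g a0 + u 1 • ρ g b0 := fun g u => by
    show ρ g (u 0 • a0 + u 1 • b0) = _
    rw [map_add, map_smul, map_smul]
  -- the elements `d(a, s)`
  have hdiag : ∀ t : ZMod q, t ≠ 0 → ∃ h ∈ H, ρ h a0 = t • a0 ∧ ρ h b0 = t⁻¹ • b0 := by
    intro t ht
    have hne : t⁻¹ • b0 ≠ 0 := smul_ne_zero (inv_ne_zero ht) hb0ne
    obtain ⟨g, hg, hga, hgb⟩ := hswap a0 ha0 ha0ne (t⁻¹ • b0) (Submodule.smul_mem _ _ hb0)
      (hmovek _ (Submodule.smul_mem _ _ hb0) hne)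
    refine ⟨g * g0, (hcoset g0 g hg0 hg).1, ?_, ?_⟩
    · rw [map_smul] at hgb
      rw [act_mul, hg0a, ← hgb, smul_smul, mul_inv_cancel₀ ht, one_smul]
    · rw [act_mul, hg0b, hga]
  have hkb : ρ k b0 = -b0 := by
    obtain ⟨c, hc⟩ := hline1 _ (h1 k hkH b0 hb0)
    have h2' : ρ k (ρ k b0) = b0 := by rw [← act_mul, hKsq k hkK, act_one]
    rw [hc, map_smul, hc, smul_smul] at h2'
    have hcc : c * c = 1 := smul_left_injective _ hb0ne (h2'.trans (one_smul _ _).symm)
    rcases mul_self_eq_one_iff.1 hcc with e | e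
    · exact absurd (by rw [hc, e, one_smul]) hkb0
    · rw [hc, e, neg_one_smul]
  have hHform : ∀ g ∈ H, ∃ a s : ZMod q, a ≠ 0 ∧ (s = 1 ∨ s = -1) ∧
      ρ g a0 = a • a0 ∧ ρ g b0 = (s * a⁻¹) • b0 := by
    intro g hg
    obtain ⟨a, ha⟩ := hline _ (h0 g hg a0 ha0)
    have hane : a ≠ 0 := fun e => ha0ne ((ρ g).map_eq_zero_iff.1 (by rw [ha, e, zero_smul]))
    obtain ⟨h, hh, hha, hhb⟩ := hdiag a hane
    have hxK : h⁻¹ * g ∈ K := by
      refine ⟨H.mul_mem (H.inv_mem hh) hg, fun w hw => ?_⟩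
      obtain ⟨c, rfl⟩ := hline w hw
      rw [map_smul, act_mul, ha, ← hha, ← act_mul, inv_mul_cancel, act_one]
    rcases hK2 _ hxK with e | e
    · rw [inv_mul_eq_one] at e
      subst e
      exact ⟨a, 1, hane, Or.inl rfl, hha, by rw [one_mul, hhb]⟩
    · rw [inv_mul_eq_iff_eq_mul] at e
      subst e
      exact ⟨a, -1, hane, Or.inr rfl, ha, by
        rw [act_mul, hkb, map_neg, hhb, ← neg_smul, neg_mul, one_mul]⟩
  constructor
  · rintro ⟨g, rfl⟩
    by_cases hg : g ∈ H
    · obtain ⟨a, s, hane, hs, e1, e2⟩ := hHform g hg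
      refine ⟨a, s, hane, hs, Or.inl fun u =>
        key g (fun u => ![a * u 0, s * a⁻¹ * u 1]) (fun u => ?_) u⟩
      rw [hφapp, e1, e2, smul_smul, smul_smul]
      simp [φ, mul_comm]
    · obtain ⟨a, s, hane, hs, e1, e2⟩ := hHform (g * g0) (hcoset g0 g hg0 hg).1
      rw [act_mul, hg0a] at e1
      rw [act_mul, hg0b] at e2
      have hs0 : s ≠ 0 := by rcases hs with rfl | rfl <;> simp
      refine ⟨s * a⁻¹, s, mul_ne_zero hs0 (inv_ne_zero hane), hs, Or.inr fun u =>
        key g (fun u => ![s * (s * a⁻¹)⁻¹ * u 1, s * a⁻¹ * u 0]) (fun u => ?_) u⟩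
      rw [hφapp, e1, e2, smul_smul, smul_smul]
      have hinv : s * (s * a⁻¹)⁻¹ = a := by
        rw [mul_inv, inv_inv, ← mul_assoc, mul_inv_cancel₀ hs0, one_mul]
      simp only [hinv]
      simp [φ]
      rw [add_comm, mul_comm (u 1), mul_comm (u 0)]
  · rintro ⟨a, s, hane, hs, hf⟩
    have hsK : ∀ t : ZMod q, t ≠ 0 → ∃ h ∈ H, ρ h a0 = t • a0 ∧ ρ h b0 = (s * t⁻¹) • b0 := by
      intro t ht
      obtain ⟨h, hh, hha, hhb⟩ := hdiag t ht
      rcases hs with rfl | rfl
      · exact ⟨h, hh, hha, by rw [one_mul, hhb]⟩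
      · exact ⟨h * k, H.mul_mem hh hkH, by rw [act_mul, hk0 a0 ha0, hha],
          by rw [act_mul, hkb, map_neg, hhb, ← neg_smul, neg_mul, one_mul]⟩
    have hs0 : s ≠ 0 := by rcases hs with rfl | rfl <;> simp
    rcases hf with hf | hf
    · obtain ⟨h, hh, hha, hhb⟩ := hsK a hane
      refine ⟨h, LinearEquiv.ext fun u => (hf u).trans (key h (fun u => ![a * u 0, s * a⁻¹ * u 1])
        (fun u => ?_) u).symm⟩
      rw [hφapp, hha, hhb, smul_smul, smul_smul]
      simp [φ, mul_comm]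
    · obtain ⟨h, hh, hha, hhb⟩ := hsK (s * a⁻¹) (mul_ne_zero hs0 (inv_ne_zero hane))
      refine ⟨h * g0, LinearEquiv.ext fun u => (hf u).trans
        (key (h * g0) (fun u => ![s * a⁻¹ * u 1, a * u 0]) (fun u => ?_) u).symm⟩
      have hinv : s * (s * a⁻¹)⁻¹ = a := by
        rw [mul_inv, inv_inv, ← mul_assoc, mul_inv_cancel₀ hs0, one_mul]
      rw [hinv] at hhb
      rw [hφapp, act_mul, act_mul, hg0a, hg0b, hha, hhb, smul_smul, smul_smul]
      simp [φ]
      rw [add_comm, mul_comm (u 1), mul_comm (u 0)]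

/-- Reflection count for groups with a cyclic subgroup of index 2. -/
theorem reflections (hρ : Function.Injective ρ) (hq : 3 ≤ q)
    (hhalf : ∀ v w : V, v ≠ 0 → w ≠ 0 → Nat.card (st ρ v) = Nat.card (st ρ w))
    (hns : ∃ v : V, v ≠ 0 ∧ st ρ v ≠ ⊥)
    (hirr : ∀ W : Submodule (ZMod q) V, (∀ g : G, ∀ w ∈ W, ρ g w ∈ W) → W = ⊥ ∨ W = ⊤)
    {n : ℕ} (hn : 2 ≤ n) {x y : G} (hx : orderOf x = 2 ^ n) (hcard : Nat.card G = 2 ^ (n + 1))
    (hy : y * y = 1) (hyx : y ∉ zpowers x) {r : ℕ} (hconj : y * x * y⁻¹ = x ^ r)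
    (hr : x ^ r = x⁻¹ ∨ (3 ≤ n ∧ x ^ r = x ^ (2 ^ (n - 1)) * x⁻¹)) :
    Nat.card V = q ^ 2 ∧ (x ^ r = x⁻¹ → q + 1 = 2 ^ n) ∧ (x ^ r ≠ x⁻¹ → q + 1 = 2 ^ (n - 1)) := by
  classical
  set A := zpowers x with hA
  set z := x ^ (2 ^ (n - 1)) with hz
  have hxN : x ^ (2 ^ n) = 1 := by rw [← hx, pow_orderOf_eq_one]
  have hnn : 2 ^ n = 2 ^ (n - 1) + 2 ^ (n - 1) := by
    rw [← two_mul, ← pow_succ', Nat.sub_add_cancel (by omega)]
  have hz2 : z * z = 1 := by rw [hz, ← pow_add, ← hnn, hxN]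
  have hz1 : z ≠ 1 := fun e => by
    have := orderOf_dvd_of_pow_eq_one e
    rw [hx, Nat.pow_dvd_pow_iff_le_right (by norm_num)] at this
    omega
  have hAcard : Nat.card A = 2 ^ n := by rw [hA, Nat.card_zpowers, hx]
  have hAidx : A.index = 2 := by
    have := A.card_mul_index
    rw [hAcard, hcard, pow_succ] at this
    exact Nat.eq_of_mul_eq_mul_left (by positivity) this
  have hzy : y * z = z * y := by
    have h1 : y * z * y⁻¹ = z := by
      rw [hz, ← conj_pow, hconj]
      rcases hr with h | ⟨h3, h⟩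
      · rw [h, inv_pow, ← hz, inv_eq_of_mul_eq_one_right hz2]
      · have hze : z ^ (2 ^ (n - 1)) = 1 := by
          obtain ⟨c, hc⟩ : 2 ∣ 2 ^ (n - 1) := dvd_pow_self 2 (by omega)
          rw [hc, pow_mul, sq, hz2, one_pow]
        rw [h, ((((Commute.refl x).pow_left _)).inv_right).mul_pow, ← hz, hze, one_mul, inv_pow, ← hz,
          inv_eq_of_mul_eq_one_right hz2]
    calc y * z = y * z * y⁻¹ * y := by group
      _ = z * y := by rw [h1]
  have hgen : ∀ g : G, g ∈ A ∨ g * y ∈ A := fun g => by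
    by_cases hg : g ∈ A
    · exact Or.inl hg
    · exact Or.inr ((mul_mem_iff_of_index_two hAidx).2 ⟨fun h => absurd h hg, fun h => absurd h hyx⟩)
  have hzA : ∀ a ∈ A, a * z = z * a := by
    intro a ha
    obtain ⟨i, rfl⟩ := mem_zpowers_iff.1 ha
    exact (((Commute.refl x).pow_right _).zpow_left i).eq
  have hzc : ∀ g : G, g * z = z * g := by
    intro g
    rcases hgen g with h | h
    · exact hzA g h
    · have hg : g = g * y * y := by rw [mul_assoc, hy, mul_one]
      rw [hg]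
      calc g * y * y * z = g * y * (y * z) := by group
        _ = (g * y * z) * y := by rw [hzy]; group
        _ = z * (g * y * y) := by rw [hzA _ h]; group
  have hzfix : fixSp ρ z = ⊥ := by
    refine (hirr _ fun g w hw => ?_).resolve_right fun e => hz1 (hρ (LinearEquiv.ext fun v => ?_))
    · rw [mem_fixSp] at hw ⊢
      rw [← act_mul, ← hzc, act_mul, hw]
    · rw [act_one]
      exact (mem_fixSp ρ).1 (e ▸ Submodule.mem_top : v ∈ fixSp ρ z)
  have hzneg : ∀ v : V, ρ z v = -v := fun v => by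
    have : v + ρ z v ∈ fixSp ρ z := by
      rw [mem_fixSp, map_add, ← act_mul, hz2, act_one, add_comm]
    rw [hzfix, Submodule.mem_bot] at this
    exact eq_neg_of_add_eq_zero_right this
  have h2 : (2 : ZMod q) ≠ 0 := by
    intro e
    have : ((2 : ℕ) : ZMod q) = 0 := by exact_mod_cast e
    rw [ZMod.natCast_eq_zero_iff] at this
    exact absurd (Nat.le_of_dvd two_pos this) (by omega)
  -- `A` is semiregular
  have hAfree : ∀ v : V, v ≠ 0 → ∀ a ∈ A, ρ a v = v → a = 1 := by
    intro v hv a ha hfix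
    by_contra ha1
    obtain ⟨j, hj⟩ := (IsPGroup.of_card (p := 2) hAcard) ⟨a, ha⟩
    have hj' : a ^ (2 ^ j) = 1 := congrArg Subtype.val hj
    obtain ⟨i, -, hi⟩ := (Nat.dvd_prime_pow Nat.prime_two).1 (orderOf_dvd_of_pow_eq_one hj')
    have hi0 : i ≠ 0 := fun e => ha1 (orderOf_eq_one_iff.1 (by rw [hi, e, pow_zero]))
    set c := a ^ (2 ^ (i - 1)) with hc
    have hc2 : orderOf c = 2 := by
      rw [hc, orderOf_pow' _ (by positivity), hi, Nat.gcd_eq_right (pow_dvd_pow 2 (Nat.sub_le i 1)),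
        Nat.pow_div (Nat.sub_le i 1) two_pos]
      rw [show i - (i - 1) = 1 by omega, pow_one]
    have hzo : orderOf z = 2 := orderOf_eq_prime (by rw [sq, hz2]) hz1
    have hcA : c ∈ A := pow_mem ha _
    have hzA' : z ∈ A := pow_mem (mem_zpowers x) _
    have heq := PGroupImprimitive.eq_of_isCyclic (A := A) two_pos
      (H := zpowers ⟨c, hcA⟩) (K := zpowers ⟨z, hzA'⟩)
      (by rw [Nat.card_zpowers, Subgroup.orderOf_mk, hc2])
      (by rw [Nat.card_zpowers, Subgroup.orderOf_mk, hzo])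
    have hzc' : (⟨z, hzA'⟩ : A) ∈ zpowers ⟨c, hcA⟩ := heq ▸ mem_zpowers _
    obtain ⟨l, hl⟩ := mem_zpowers_iff.1 hzc'
    have hzfix' : ρ z v = v := by
      have hcv : c ∈ st ρ v := pow_mem (show a ∈ st ρ v from hfix) _
      have := zpow_mem hcv l
      rwa [show c ^ l = z from congrArg Subtype.val hl] at this
    rw [hzneg, neg_eq_iff_add_eq_zero, ← two_smul (ZMod q), smul_eq_zero] at hzfix'
    exact hzfix'.elim h2 hv
  have hAst : ∀ v : V, v ≠ 0 → st ρ v ⊓ A = ⊥ := fun v hv => (eq_bot_iff).2 fun a ha =>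
    mem_bot.2 (hAfree v hv a ha.2 ha.1)
  have hst2 : ∀ v : V, v ≠ 0 → Nat.card (st ρ v) = 2 := by
    obtain ⟨v0, hv0, hne⟩ := hns
    intro v hv
    have hle : Nat.card (st ρ v) ≤ 2 := by
      have h1 : A.relIndex (st ρ v) ∣ 2 := hAidx ▸
        (haveI := Subgroup.normal_of_index_eq_two hAidx; Subgroup.relIndex_dvd_index_of_normal A _)
      have h3 : A.subgroupOf (st ρ v) = ⊥ := by
        rw [← Subgroup.inf_subgroupOf_left, hAst v hv, Subgroup.bot_subgroupOf]
      rw [Subgroup.relIndex, h3, Subgroup.index_bot] at h1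
      exact Nat.le_of_dvd two_pos h1
    have h1 : 1 < Nat.card (st ρ v) := by
      rw [hhalf v v0 hv hv0]
      exact (Subgroup.one_lt_card_iff_ne_bot _).2 hne
    omega
  -- the reflections
  let S := {s : G // s * s = 1 ∧ s ∉ A}
  have hsx : ∀ s : S, x * (s : G) * x = s ∨ (3 ≤ n ∧ x * (s : G) * x = z * s) := by
    intro s
    obtain ⟨i, hi⟩ := mem_zpowers_iff.1 ((hgen s.1).resolve_left s.2.2)
    have hyinv : y⁻¹ = y := inv_eq_of_mul_eq_one_right hy
    have hs : (s : G) = x ^ i * y := by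
      rw [hi, mul_assoc, hy, mul_one]
    have key : x * (s : G) * x = x * x ^ r * s := by
      rw [hs, ← hconj]
      calc x * (x ^ i * y) * x = x * x ^ i * (y * x * y⁻¹) * y := by group
        _ = x * (y * x * y⁻¹) * (x ^ i * y) := by
          rw [hconj]
          have : x ^ i * x ^ r = x ^ r * x ^ i := (((Commute.refl x).pow_right r).zpow_left i).eq
          calc x * x ^ i * x ^ r * y = x * (x ^ i * x ^ r) * y := by group
            _ = _ := by rw [this]; group
    rcases hr with h | ⟨h3, h⟩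
    · exact Or.inl (by rw [key, h, mul_inv_cancel, one_mul])
    · refine Or.inr ⟨h3, ?_⟩
      rw [key, h, ← mul_assoc x z, hzA x (mem_zpowers x), mul_inv_cancel_right]
  -- `s` and `-s` are conjugate
  have hconjneg : ∀ s : S, ∃ g : G, g * (s : G) * g⁻¹ = z * s := by
    intro s
    have hstep : ∀ i : ℕ, x ^ i * (s : G) * x ^ i = s ∨ (3 ≤ n ∧ x ^ i * (s : G) * x ^ i = z ^ i * s) := by
      intro i
      rcases hsx s with h | ⟨h3, h⟩
      · left
        induction i with
        | zero => simp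
        | succ i ih =>
          calc x ^ (i + 1) * (s : G) * x ^ (i + 1) = x ^ i * (x * s * x) * x ^ i := by
                rw [pow_succ]; rw [((Commute.refl x).pow_left i).eq]; group
            _ = s := by rw [h, ih]
      · right
        refine ⟨h3, ?_⟩
        induction i with
        | zero => simp
        | succ i ih =>
          calc x ^ (i + 1) * (s : G) * x ^ (i + 1) = x ^ i * (x * s * x) * x ^ i := by
                rw [pow_succ]; rw [((Commute.refl x).pow_left i).eq]; group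
            _ = (x ^ i * z) * (s : G) * x ^ i := by rw [h]; group
            _ = z * (x ^ i * s * x ^ i) := by rw [hzA _ (pow_mem (mem_zpowers x) i)]; group
            _ = z ^ (i + 1) * s := by rw [ih, pow_succ']; group
    set i := 2 ^ (n - 2) with hi
    refine ⟨x ^ i, ?_⟩
    have h4 : x ^ i * (s : G) * x ^ i = s := by
      rcases hstep i with h | ⟨h3, h⟩
      · exact h
      · rw [h]
        obtain ⟨c, hc⟩ : 2 ∣ i := dvd_pow_self 2 (by omega)
        rw [hc, pow_mul, sq, hz2, one_pow, one_mul]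
    have hii : x ^ i * x ^ i = z := by
      rw [← pow_add, hz]
      congr 1
      rw [hi, ← two_mul, ← pow_succ']
      congr 1
      omega
    calc x ^ i * (s : G) * (x ^ i)⁻¹ = (x ^ i * s * x ^ i) * (x ^ i * x ^ i)⁻¹ := by group
      _ = (s : G) * z⁻¹ := by rw [h4, hii]
      _ = z * s := by rw [inv_eq_of_mul_eq_one_right hz2, hzc]
  have hfixsq : ∀ s : S, Nat.card (fixSp ρ (s : G)) * Nat.card (fixSp ρ (s : G)) = Nat.card V := by
    intro s
    obtain ⟨g, hg⟩ := hconjneg s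
    have hss : ∀ v, ρ (s : G) (ρ (s : G) v) = v := fun v => by rw [← act_mul, s.2.1, act_one]
    have hcompl : IsCompl (fixSp ρ (s : G)) (fixSp ρ (z * s)) := by
      refine IsCompl.of_eq ?_ ?_
      · rw [Submodule.eq_bot_iff]
        rintro v ⟨hv1, hv2⟩
        rw [SetLike.mem_coe, mem_fixSp] at hv1 hv2
        rw [act_mul, hv1, hzneg, neg_eq_iff_add_eq_zero, ← two_smul (ZMod q), smul_eq_zero] at hv2
        exact hv2.resolve_left h2
      · rw [eq_top_iff]
        intro v _
        refine Submodule.mem_sup.2 ⟨(2 : ZMod q)⁻¹ • (v + ρ (s : G) v), ?_,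
          (2 : ZMod q)⁻¹ • (v - ρ (s : G) v), ?_, ?_⟩
        · rw [mem_fixSp, map_smul, map_add, hss, add_comm]
        · rw [mem_fixSp, map_smul, act_mul, map_sub, hss, hzneg, neg_sub]
        · rw [← smul_add, add_add_sub_cancel, ← two_smul (ZMod q), smul_smul, inv_mul_cancel₀ h2, one_smul]
    have e1 : Nat.card (fixSp ρ (z * s)) = Nat.card (fixSp ρ (s : G)) := by
      refine (Nat.card_congr ((ρ g).toEquiv.subtypeEquiv (p := fun v => v ∈ fixSp ρ (s : G))
        (q := fun v => v ∈ fixSp ρ (z * s)) fun v => ?_)).symm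
      rw [mem_fixSp, mem_fixSp, ← hg]
      show ρ (s : G) v = v ↔ ρ (g * s * g⁻¹) (ρ g v) = ρ g v
      rw [← act_mul, inv_mul_cancel_right, act_mul]
      exact ⟨fun h => by rw [h], fun h => (ρ g).injective h⟩
    rw [← Nat.card_congr (Submodule.prodEquivOfIsCompl _ _ hcompl).toEquiv, Nat.card_prod, e1]
  have hSne : Nonempty S := ⟨⟨y, hy, hyx⟩⟩
  obtain ⟨s0⟩ := hSne
  set Q := Nat.card (fixSp ρ (s0 : G)) with hQ
  have hQall : ∀ s : S, Nat.card (fixSp ρ (s : G)) = Q := fun s =>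
    Nat.mul_self_inj.1 ((hfixsq s).trans (hfixsq s0).symm)
  -- counting
  have hequiv : Function.Bijective
      (fun t : Σ s : S, {v : fixSp ρ (s : G) // v ≠ 0} =>
        (⟨t.2.1.1, fun e => t.2.2 (Subtype.ext e)⟩ : {v : V // v ≠ 0})) := by
    constructor
    · rintro ⟨s, ⟨⟨v, hv⟩, hv0⟩⟩ ⟨s', ⟨⟨v', hv'⟩, hv0'⟩⟩ e
      have e' : v = v' := congrArg Subtype.val e
      subst e'
      have hvne : v ≠ 0 := fun e => hv0 (Subtype.ext e)
      have h1 : ((s : G)) ∈ st ρ v := (mem_fixSp ρ).1 hv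
      have h1' : ((s' : G)) ∈ st ρ v := (mem_fixSp ρ).1 hv'
      have hss' : s = s' := by
        haveI : IsCyclic (st ρ v) := isCyclic_of_prime_card (hst2 v hvne)
        have key : ∀ u : S, ((u : G)) ∈ st ρ v → (u : G) ≠ 1 := fun u _ e => u.2.2 (by rw [e]; exact A.one_mem)
        have hc := hst2 v hvne
        rw [Nat.card_eq_two_iff' (1 : st ρ v)] at hc
        obtain ⟨t, -, ht⟩ := hc
        have ea := ht ⟨_, h1⟩ fun e => key s h1 (congrArg Subtype.val e)
        have eb := ht ⟨_, h1'⟩ fun e => key s' h1' (congrArg Subtype.val e)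
        exact Subtype.ext (congrArg (fun w : st ρ v => (w : G)) (ea.trans eb.symm))
      subst hss'
      rfl
    · rintro ⟨v, hv⟩
      have hc := hst2 v hv
      rw [Nat.card_eq_two_iff' (1 : st ρ v)] at hc
      obtain ⟨t, ht1, ht⟩ := hc
      have htA : (t : G) ∉ A := fun h => ht1 (Subtype.ext (hAfree v hv _ h t.2))
      have ht2 : (t : G) * t = 1 := by
        by_contra hne
        have := ht (t * t) fun e => hne (congrArg Subtype.val e)
        exact ht1 (by simpa using this)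
      exact ⟨⟨⟨t, ht2, htA⟩, ⟨⟨v, (mem_fixSp ρ).2 t.2⟩, fun e => hv (congrArg Subtype.val e)⟩⟩, rfl⟩
  have hcount := Nat.card_congr (Equiv.ofBijective _ hequiv)
  have hne0 : ∀ (M : Type _) [Zero M] [Finite M], Nat.card {v : M // v ≠ 0} = Nat.card M - 1 := by
    intro M _ _
    haveI := Fintype.ofFinite M
    rw [Nat.card_eq_fintype_card, Nat.card_eq_fintype_card, Fintype.card_subtype_compl,
      Fintype.card_subtype_eq]
  haveI : Fintype S := Fintype.ofFinite S
  rw [Nat.card_sigma, Finset.sum_congr rfl (fun s _ => (hne0 _).trans (by rw [hQall])),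
    Finset.sum_const, Finset.card_univ, smul_eq_mul, ← Nat.card_eq_fintype_card, hne0 V,
    ← hfixsq s0, ← hQ] at hcount
  obtain ⟨v0, hv0, -⟩ := hns
  have hQ2 : 2 ≤ Q := by
    by_contra h
    have h1 : Q = 1 := by
      have : 0 < Q := Nat.card_pos
      omega
    have h3 := hfixsq s0
    rw [← hQ, h1] at h3
    have : Subsingleton V := (Nat.card_eq_one_iff_unique.1 h3.symm).1
    exact hv0 (Subsingleton.elim _ _)
  have hR : Nat.card S = Q + 1 := by
    obtain ⟨u, hu⟩ : ∃ u, Q = u + 1 := ⟨Q - 1, by omega⟩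
    rw [hu] at hcount ⊢
    have h3 : (u + 1) * (u + 1) - 1 = (u + 2) * u := Nat.sub_eq_of_eq_add (by ring)
    rw [h3, Nat.add_sub_cancel] at hcount
    exact Nat.eq_of_mul_eq_mul_right (by omega) hcount
  obtain ⟨j, hj, hj1, hj2⟩ : ∃ j, Nat.card S = 2 ^ j ∧ (x ^ r = x⁻¹ → j = n) ∧
      (x ^ r ≠ x⁻¹ → j = n - 1) := by
    rcases hr with hr | ⟨h3, hr⟩
    · refine ⟨n, ?_, fun _ => rfl, fun h => absurd hr h⟩
      rw [← hAcard]
      refine Nat.card_congr ⟨fun s => ⟨(s : G) * y, (hgen s.1).resolve_left s.2.2⟩,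
        fun a => ⟨(a : G) * y, ?_, ?_⟩, fun s => Subtype.ext ?_, fun a => Subtype.ext ?_⟩
      · obtain ⟨i, hi⟩ := mem_zpowers_iff.1 a.2
        rw [← hi]
        have : y * x ^ i * y⁻¹ = (x ^ i)⁻¹ := by rw [← conj_zpow, hconj, hr, inv_zpow]
        calc x ^ i * y * (x ^ i * y) = x ^ i * (y * x ^ i * y⁻¹) * (y * y) := by group
          _ = 1 := by rw [this, hy]; group
      · intro h
        exact hyx ((A.mul_mem_cancel_left a.2).1 h)
      · show (s : G) * y * y = s
        rw [mul_assoc, hy, mul_one]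
      · show (a : G) * y * y = a
        rw [mul_assoc, hy, mul_one]
    · refine ⟨n - 1, ?_, fun h => ?_, fun _ => rfl⟩
      swap
      · exfalso
        rw [h, ← one_mul x⁻¹, ← mul_assoc] at hr
        exact hz1 (by rw [mul_one] at hr; exact (mul_right_cancel hr).symm)
      have hx2 : orderOf (x ^ 2) = 2 ^ (n - 1) := by
        rw [orderOf_pow' _ two_ne_zero, hx, Nat.gcd_eq_right (dvd_pow_self 2 (by omega))]
        conv_lhs => rw [show n = n - 1 + 1 by omega, pow_succ, Nat.mul_div_cancel _ two_pos]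
      rw [← hx2, ← Nat.card_zpowers]
      have hsq : ∀ i : ℤ, (x ^ i * y) * (x ^ i * y) = z ^ i := by
        intro i
        have : y * x ^ i * y⁻¹ = z ^ i * (x ^ i)⁻¹ := by
          rw [← conj_zpow, hconj, hr, ((((Commute.refl x).pow_left _).inv_right)).mul_zpow, inv_zpow]
        calc x ^ i * y * (x ^ i * y) = x ^ i * (y * x ^ i * y⁻¹) * (y * y) := by group
          _ = (x ^ i * z ^ i) * (x ^ i)⁻¹ := by rw [this, hy]; group
          _ = z ^ i := by
            rw [((((Commute.refl x).pow_right _)).zpow_zpow i i).eq, mul_inv_cancel_right]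
      have hzi : ∀ i : ℤ, z ^ i = 1 ↔ (2 : ℤ) ∣ i := fun i => by
        rw [← orderOf_dvd_iff_zpow_eq_one, orderOf_eq_prime (by rw [sq, hz2]) hz1]
        norm_num
      refine Nat.card_congr ⟨fun s => ⟨(s : G) * y, ?_⟩, fun a => ⟨(a : G) * y, ?_, ?_⟩,
        fun s => Subtype.ext ?_, fun a => Subtype.ext ?_⟩
      · obtain ⟨i, hi⟩ := mem_zpowers_iff.1 ((hgen s.1).resolve_left s.2.2)
        have hs : (s : G) = x ^ i * y := by rw [hi, mul_assoc, hy, mul_one]
        have h1 := hsq i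
        rw [← hs, s.2.1] at h1
        obtain ⟨c, hc⟩ := (hzi i).1 h1.symm
        refine mem_zpowers_iff.2 ⟨c, ?_⟩
        rw [← hi, hc, zpow_mul]
        norm_num
      · obtain ⟨i, hi⟩ := mem_zpowers_iff.1 a.2
        have hi' : x ^ (2 * i) = (a : G) := by
          rw [← hi, zpow_mul]; norm_num
        rw [← hi', hsq, (hzi _).2 ⟨i, rfl⟩]
      · intro h
        exact hyx ((A.mul_mem_cancel_left (zpowers_le.2 (pow_mem (mem_zpowers x) 2) a.2)).1 h)
      · show (s : G) * y * y = s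
        rw [mul_assoc, hy, mul_one]
      · show (a : G) * y * y = a
        rw [mul_assoc, hy, mul_one]
  have hfr := Module.natCard_eq_pow_finrank (K := ZMod q) (V := fixSp ρ (s0 : G))
  rw [Nat.card_zmod, ← hQ] at hfr
  have hfrpos : 1 ≤ Module.finrank (ZMod q) (fixSp ρ (s0 : G)) := by
    by_contra h
    rw [Nat.not_le, Nat.lt_one_iff] at h
    rw [h, pow_zero] at hfr
    omega
  have hd := exp_one_of_pow_add_one hq hfrpos ((congrArg (· + 1) hfr.symm).trans (hR.symm.trans hj))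
  rw [hd, pow_one] at hfr
  have hq1 : q + 1 = 2 ^ j := by rw [← hj, hR, hfr]
  exact ⟨by rw [← hfixsq s0, ← hQ, hfr, sq], fun h => by rw [hq1, hj1 h], fun h => by rw [hq1, hj2 h]⟩

end CfsgLib.Recog.HalfTransP
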