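import Mathlib

/-!
Coordinates in an extraspecial group of order 27 and exponent 3.
-/

set_option autoImplicit false

namespace CfsgLib.Recog.HeisThree

variable {X : Type*} [Group X]

/-- `g ^ i` for `i : ZMod 3`. -/
def pw (g : X) (i : ZMod 3) : X := g ^ i.val

theorem pw_add {g : X} (hg : g ^ 3 = 1) (i j : ZMod 3) : pw g (i + j) = pw g i * pw g j := by
  simp only [pw, ← pow_add, ZMod.val_add]
  exact (pow_eq_pow_mod _ hg).symm

theorem pw_zero (g : X) : pw g 0 = 1 := by simp [pw]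

theorem pw_one (g : X) : pw g 1 = g := by simp [pw, ZMod.val_one]

theorem pw_neg {g : X} (hg : g ^ 3 = 1) (i : ZMod 3) : pw g (-i) = (pw g i)⁻¹ :=
  eq_inv_of_mul_eq_one_left (by rw [← pw_add hg, neg_add_cancel, pw_zero])

theorem pw_mem {H : Subgroup X} {g : X} (hg : g ∈ H) (i : ZMod 3) : pw g i ∈ H := pow_mem hg _

theorem conj_pw (g h : X) (i : ZMod 3) : h * pw g i * h⁻¹ = pw (h * g * h⁻¹) i := by
  simp [pw, conj_pow]

theorem commute_pw {g h : X} (hc : Commute g h) (i j : ZMod 3) : Commute (pw g i) (pw h j) :=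
  hc.pow_pow _ _

theorem mul_pow_comm {a b w : X} (hab : b * a = a * b * w) (hwa : Commute w a) (hwb : Commute w b)
    (i j : ℕ) : b ^ j * a ^ i = a ^ i * b ^ j * w ^ (i * j) := by
  have h1 : ∀ j : ℕ, b ^ j * a = a * b ^ j * w ^ j := by
    intro j
    induction j with
    | zero => simp
    | succ j ih =>
      calc b ^ (j + 1) * a = b ^ j * (b * a) := by rw [pow_succ, mul_assoc]
        _ = (b ^ j * a) * (b * w) := by rw [hab]; group
        _ = a * b ^ j * (w ^ j * b) * w := by rw [ih]; group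
        _ = a * b ^ j * (b * w ^ j) * w := by rw [(hwb.pow_left j).eq]
        _ = a * b ^ (j + 1) * w ^ (j + 1) := by rw [pow_succ, pow_succ]; group
  induction i with
  | zero => simp
  | succ i ih =>
    calc b ^ j * a ^ (i + 1) = a ^ i * b ^ j * (w ^ (i * j) * a) := by rw [pow_succ, ← mul_assoc, ih, mul_assoc]
      _ = a ^ i * (b ^ j * a) * w ^ (i * j) := by rw [(hwa.pow_left _).eq]; group
      _ = a ^ (i + 1) * b ^ j * (w ^ j * w ^ (i * j)) := by rw [h1, pow_succ]; group
      _ = _ := by rw [← pow_add, show j + i * j = (i + 1) * j by ring]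

variable (R : Subgroup X)

/-- A frame of `R`. -/
structure Frame where
  a : X
  b : X
  w : X
  ha : a ∈ R
  hb : b ∈ R
  hw : w ∈ R
  hcard : Nat.card R = 27
  hexp : ∀ r ∈ R, r ^ 3 = 1
  hrel : b * a = a * b * w⁻¹
  hcen : ∀ r ∈ R, Commute w r
  hne : w ≠ 1

variable {R}

theorem exists_frame [Finite X] (hcard : Nat.card R = 27) (hexp : ∀ r ∈ R, r ^ 3 = 1)
    (hcc : commutator R = Subgroup.center R) {a b : X} (ha : a ∈ R) (hb : b ∈ R)
    (hab : a * b ≠ b * a) : ∃ f : Frame R, f.a = a ∧ f.b = b := by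
  let w : X := (a⁻¹ * b⁻¹ * a * b)
  have hw : w ∈ R := R.mul_mem (R.mul_mem (R.mul_mem (R.inv_mem ha) (R.inv_mem hb)) ha) hb
  have hwc : (⟨w, hw⟩ : R) ∈ Subgroup.center R := by
    rw [← hcc]
    have := Subgroup.commutator_mem_commutator (Subgroup.mem_top (⟨a, ha⟩ : R)⁻¹)
      (Subgroup.mem_top (⟨b, hb⟩ : R)⁻¹)
    rw [← commutator_def] at this
    convert this using 1
    apply Subtype.ext
    simp [w, commutatorElement_def, mul_assoc]
  refine ⟨⟨a, b, w, ha, hb, hw, hcard, hexp, by simp [w, mul_assoc], fun r hr => ?_, fun h => hab ?_⟩,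
    rfl, rfl⟩
  · exact (congrArg Subtype.val (Subgroup.mem_center_iff.1 hwc ⟨r, hr⟩)).symm
  · calc a * b = b * a * w := by simp [w, mul_assoc]
      _ = b * a := by rw [h, mul_one]

namespace Frame

variable (f : Frame R)

/-- The element with given coordinates. -/
def el (u : Fin 2 → ZMod 3) (k : ZMod 3) : X := pw f.a (u 0) * pw f.b (u 1) * pw f.w k

theorem el_mem (u : Fin 2 → ZMod 3) (k : ZMod 3) : f.el u k ∈ R :=
  R.mul_mem (R.mul_mem (pw_mem f.ha _) (pw_mem f.hb _)) (pw_mem f.hw _)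

theorem wcube : f.w ^ 3 = 1 := f.hexp _ f.hw

theorem comm_w (k : ZMod 3) {r : X} (hr : r ∈ R) : Commute (pw f.w k) r := (f.hcen r hr).pow_left _

theorem swap (i j : ZMod 3) : pw f.b j * pw f.a i = pw f.a i * pw f.b j * pw f.w (-(i * j)) := by
  rw [pw_neg f.wcube]
  have hw : Commute f.w⁻¹ f.a := (f.hcen _ f.ha).inv_left
  have hw' : Commute f.w⁻¹ f.b := (f.hcen _ f.hb).inv_left
  simp only [pw]
  rw [mul_pow_comm f.hrel hw hw', inv_pow, ZMod.val_mul]
  congr 2
  exact pow_eq_pow_mod _ f.wcube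

theorem el_mul (u v : Fin 2 → ZMod 3) (k l : ZMod 3) :
    f.el u k * f.el v l = f.el (u + v) (k + l - u 1 * v 0) := by
  have hA := f.hexp _ f.ha
  have hB := f.hexp _ f.hb
  show pw f.a (u 0) * pw f.b (u 1) * pw f.w k * (pw f.a (v 0) * pw f.b (v 1) * pw f.w l) = _
  calc _ = pw f.a (u 0) * (pw f.b (u 1) * pw f.a (v 0)) * pw f.b (v 1) * (pw f.w k * pw f.w l) := by
        have e := (f.comm_w k (R.mul_mem (pw_mem f.ha (v 0)) (pw_mem f.hb (v 1)))).eq
        calc _ = pw f.a (u 0) * pw f.b (u 1) * (pw f.w k * (pw f.a (v 0) * pw f.b (v 1))) * pw f.w l := by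
              group
          _ = _ := by rw [e]; group
    _ = pw f.a (u 0) * pw f.a (v 0) * pw f.b (u 1) * (pw f.w (-(v 0 * u 1)) * pw f.b (v 1)) *
          (pw f.w k * pw f.w l) := by rw [f.swap]; group
    _ = pw f.a (u 0 + v 0) * pw f.b (u 1 + v 1) * pw f.w (-(v 0 * u 1) + (k + l)) := by
        rw [(f.comm_w _ (pw_mem f.hb (v 1))).eq, pw_add hA, pw_add hB, pw_add f.wcube,
          pw_add f.wcube]
        group
    _ = _ := by
        simp only [el, Pi.add_apply]
        congr 2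
        ring

theorem el_zero : f.el 0 0 = 1 := by simp [el, pw_zero]

theorem el_w (k : ZMod 3) : f.el 0 k = pw f.w k := by simp [el, pw_zero]

theorem el_a : f.el ![1, 0] 0 = f.a := by simp [el, pw_zero, pw_one]

theorem el_b : f.el ![0, 1] 0 = f.b := by simp [el, pw_zero, pw_one]

theorem el_inv (u : Fin 2 → ZMod 3) (k : ZMod 3) :
    (f.el u k)⁻¹ = f.el (-u) (-k - u 1 * u 0) := by
  refine inv_eq_of_mul_eq_one_right ?_
  rw [el_mul, ← f.el_zero]
  congr 1
  · exact add_neg_cancel u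
  · simp only [Pi.neg_apply]; ring

theorem el_inj {u v : Fin 2 → ZMod 3} {k l : ZMod 3} (h : f.el u k = f.el v l) : u = v ∧ k = l := by
  have hw1 : ∀ m : ZMod 3, pw f.w m = 1 → m = 0 := by
    intro m hm
    have h3 : orderOf f.w = 3 := orderOf_eq_prime f.wcube f.hne
    have hd := orderOf_dvd_of_pow_eq_one hm
    rw [h3] at hd
    exact (ZMod.val_eq_zero m).1 (Nat.eq_zero_of_dvd_of_lt hd (ZMod.val_lt m))
  have key : ∀ (d : Fin 2 → ZMod 3) (m : ZMod 3), f.el d m = 1 → d = 0 ∧ m = 0 := by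
    intro d m hd
    have h2 : ∀ e : Fin 2 → ZMod 3, d 1 * e 0 = e 1 * d 0 := by
      intro e
      have h1 : f.el d m * f.el e 0 = f.el e 0 * f.el d m := by rw [hd, one_mul, mul_one]
      rw [el_mul, el_mul, add_comm e d] at h1
      have h2 : f.el (d + e) (m + 0 - d 1 * e 0) =
          f.el (d + e) (0 + m - e 1 * d 0) := h1
      unfold el at h2
      have h3 := mul_left_cancel h2
      have h4 : pw f.w ((m + 0 - d 1 * e 0) + -(0 + m - e 1 * d 0)) = 1 := by
        rw [pw_add f.wcube, h3, ← pw_add f.wcube, add_neg_cancel, pw_zero]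
      have := hw1 _ h4
      linear_combination -this
    have h0 : d = 0 := by
      have e0 := h2 ![1, 0]
      have e1 := h2 ![0, 1]
      simp at e0 e1
      funext i
      fin_cases i
      · exact e1.symm
      · exact e0
    refine ⟨h0, hw1 _ ?_⟩
    rw [h0, el_w] at hd
    exact hd
  have h1 : f.el u k * (f.el v l)⁻¹ = 1 := by rw [h, mul_inv_cancel]
  rw [el_inv, el_mul] at h1
  obtain ⟨hd, hm⟩ := key _ _ h1
  have huv : u = v := by
    have := hd
    rwa [← sub_eq_add_neg, sub_eq_zero] at this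
  subst huv
  refine ⟨rfl, ?_⟩
  simp only [Pi.neg_apply] at hm
  linear_combination hm

theorem exists_el [Finite X] {r : X} (hr : r ∈ R) : ∃ u k, r = f.el u k := by
  let φ : (Fin 2 → ZMod 3) × ZMod 3 → R := fun p => ⟨f.el p.1 p.2, f.el_mem _ _⟩
  have hi : Function.Injective φ := fun p q h =>
    Prod.ext (f.el_inj (congrArg Subtype.val h)).1 (f.el_inj (congrArg Subtype.val h)).2
  have hb := (Nat.bijective_iff_injective_and_card φ).2 ⟨hi, by simp [f.hcard]⟩
  obtain ⟨p, hp⟩ := hb.2 ⟨r, hr⟩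
  exact ⟨p.1, p.2, (congrArg Subtype.val hp).symm⟩

/-- The coordinates of the image in `R / Z`. -/
noncomputable def pr (r : X) : Fin 2 → ZMod 3 := by
  classical exact if h : ∃ u k, r = f.el u k then h.choose else 0

theorem pr_el (u : Fin 2 → ZMod 3) (k : ZMod 3) : f.pr (f.el u k) = u := by
  have h : ∃ u' k', f.el u k = f.el u' k' := ⟨u, k, rfl⟩
  rw [pr, dif_pos h]
  obtain ⟨k', hk⟩ := h.choose_spec
  exact (f.el_inj hk).1.symm

theorem pr_mul [Finite X] {r s : X} (hr : r ∈ R) (hs : s ∈ R) : f.pr (r * s) = f.pr r + f.pr s := by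
  obtain ⟨u, k, rfl⟩ := f.exists_el hr
  obtain ⟨v, l, rfl⟩ := f.exists_el hs
  rw [el_mul, pr_el, pr_el, pr_el]

theorem pr_pw [Finite X] {r : X} (hr : r ∈ R) (i : ZMod 3) : f.pr (pw r i) = i • f.pr r := by
  have h : ∀ n : ℕ, f.pr (r ^ n) = (n : ZMod 3) • f.pr r := by
    intro n
    induction n with
    | zero => rw [pow_zero, ← f.el_zero, pr_el, Nat.cast_zero, zero_smul]
    | succ n ih => rw [pow_succ, f.pr_mul (pow_mem hr n) hr, ih, Nat.cast_succ, add_smul, one_smul]
  rw [pw, h, ZMod.natCast_zmod_val]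

/-- The element of the coset of `u` inverted by the involution. -/
def sv (u : Fin 2 → ZMod 3) : X := f.el u (u 0 * u 1)

theorem sv_mul (u v : Fin 2 → ZMod 3) :
    f.sv u * f.sv v = pw f.w (-(u 0 * v 1 - u 1 * v 0)) * f.sv (u + v) := by
  simp only [sv]
  rw [el_mul, ← el_w, el_mul, zero_add]
  congr 1
  simp only [Pi.add_apply, Pi.zero_apply]
  have h3 : (3 : ZMod 3) = 0 := rfl
  linear_combination -(u 1 * v 0) * h3

end Frame

end CfsgLib.Recog.HeisThree
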