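import Mathlib
import Cfsg.Prelude.Def_Solvable
import Cfsg.Prelude.Def_Transfer
import Cfsg.Agent.Lib.Solvable.PCore
import Cfsg.Agent.Lib.Recog.HeisFrame

set_option maxHeartbeats 1600000

/-!
Groups of shape `3^{1+2} SL_2(3)` with trivial `O_2` and elementary abelian subgroup of order 27: coordinates.
-/

set_option autoImplicit false

namespace CfsgLib.Recog.HeisThree

open Matrix

theorem card_sl23 : Nat.card (SpecialLinearGroup (Fin 2) (ZMod 3)) = 24 := by
  rw [Nat.card_eq_fintype_card]; decide +kernel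

theorem sl23_transvections : ∀ a b c d : ZMod 3, a * d - b * c = 1 → ∃ p q r s : ZMod 3,
    !![a, b; c, d] = (!![1, p; 0, 1] * !![1, 0; q, 1] * !![1, r; 0, 1] * !![1, 0; s, 1] :
      Matrix (Fin 2) (Fin 2) (ZMod 3)) := by decide +kernel

theorem sl23_sq_one : ∀ a b c d : ZMod 3, a * d - b * c = 1 →
    !![a, b; c, d] * !![a, b; c, d] = (1 : Matrix (Fin 2) (Fin 2) (ZMod 3)) →
    !![a, b; c, d] = (1 : Matrix (Fin 2) (Fin 2) (ZMod 3)) ∨
    !![a, b; c, d] = (-1 : Matrix (Fin 2) (Fin 2) (ZMod 3)) := by decide +kernel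

theorem sl23_reach_neg : ∀ a b c d : ZMod 3, a * d - b * c = 1 → !![a, b; c, d] ≠ 1 →
    (!![a, b; c, d] = (-1 : Matrix (Fin 2) (Fin 2) (ZMod 3)) ∨ !![a, b; c, d] ^ 2 = -1 ∨
      !![a, b; c, d] ^ 3 = -1 ∨ ∃ p q r s : ZMod 3, p * s - q * r = 1 ∧
      (!![a, b; c, d] * !![p, q; r, s] * !![d, -b; -c, a] * !![s, -q; -r, p]) ^ 2 = -1) := by
  decide +kernel

theorem eq_smul_of_area : ∀ x y : Fin 2 → ZMod 3, y ≠ 0 → x 0 * y 1 - x 1 * y 0 = 0 →
    ∃ l : ZMod 3, x = l • y := by decide +kernel

theorem coe_comm_sq (A B : Matrix.SpecialLinearGroup (Fin 2) (ZMod 3)) :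
    ((A * B * A⁻¹ * B⁻¹) ^ 2).1 =
      (!![A.1 0 0, A.1 0 1; A.1 1 0, A.1 1 1] * !![B.1 0 0, B.1 0 1; B.1 1 0, B.1 1 1] *
        !![A.1 1 1, -A.1 0 1; -A.1 1 0, A.1 0 0] * !![B.1 1 1, -B.1 0 1; -B.1 1 0, B.1 0 0]) ^ 2 := by
  rw [← Matrix.adjugate_fin_two A.1, ← Matrix.adjugate_fin_two B.1, ← Matrix.eta_fin_two A.1,
    ← Matrix.eta_fin_two B.1]
  rfl

variable {X : Type*} [Group X] [Finite X]

theorem exists_coords (hR : Cfsg.IsExtraspecial 3 (Cfsg.pCore 3 X))
    (hRcard : Nat.card (Cfsg.pCore 3 X) = 27) (hRexp : ∀ r ∈ Cfsg.pCore 3 X, r ^ 3 = 1)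
    [(Cfsg.pCore 3 X).Normal]
    (e : X ⧸ Cfsg.pCore 3 X ≃* SpecialLinearGroup (Fin 2) (ZMod 3))
    (hO2 : Cfsg.pCore 2 X = ⊥)
    (hE : ∃ E : Subgroup X, IsMulCommutative E ∧ (∀ a ∈ E, a ^ 3 = 1) ∧ Nat.card E = 27) :
    ∃ f : X → (Fin 2 → ZMod 3) × ZMod 3 × SpecialLinearGroup (Fin 2) (ZMod 3), Function.Bijective f ∧
      ∀ x y, f (x * y) =
        ((f x).1 + ((f x).2.2 : Matrix (Fin 2) (Fin 2) (ZMod 3)) *ᵥ (f y).1,
          (f x).2.1 + (f y).2.1 -
            ((f x).1 0 * (((f x).2.2 : Matrix (Fin 2) (Fin 2) (ZMod 3)) *ᵥ (f y).1) 1 -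
             (f x).1 1 * (((f x).2.2 : Matrix (Fin 2) (Fin 2) (ZMod 3)) *ᵥ (f y).1) 0),
          (f x).2.2 * (f y).2.2) := by
  classical
  set R := Cfsg.pCore 3 X with hRdef
  have hcc : commutator R = Subgroup.center R := hR.1.2.2
  have hnc : ¬ IsMulCommutative R := by
    intro h
    have hcen : Nat.card (Subgroup.center R) = 3 := hR.2
    have htop : Subgroup.center R = ⊤ :=
      (eq_top_iff.2 fun r _ => Subgroup.mem_center_iff.2 fun s => h.is_comm.comm _ _)
    rw [htop, Subgroup.card_top, hRcard] at hcen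
    omega
  -- the involution
  let q : X →* X ⧸ R := QuotientGroup.mk' R
  let π : X →* SpecialLinearGroup (Fin 2) (ZMod 3) := e.toMonoidHom.comp q
  have hπsurj : Function.Surjective π := e.surjective.comp (QuotientGroup.mk'_surjective R)
  have hπker : ∀ x, π x = 1 ↔ x ∈ R := fun x => by
    show e (q x) = 1 ↔ _
    rw [e.map_eq_one_iff]
    exact QuotientGroup.eq_one_iff x
  let N1 : SpecialLinearGroup (Fin 2) (ZMod 3) := ⟨-1, by rw [Matrix.det_fin_two]; decide⟩
  have hN1 : N1 * N1 = 1 := Subtype.ext (show (-1 : Matrix (Fin 2) (Fin 2) (ZMod 3)) * -1 = 1 by simp)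
  have hN1c : ∀ A, N1 * A = A * N1 := fun A => Subtype.ext
    (show (-1 : Matrix (Fin 2) (Fin 2) (ZMod 3)) * A.1 = A.1 * -1 by simp)
  have hN1ne : N1 ≠ 1 := fun h => by
    have := congrFun (congrFun (congrArg Subtype.val h) 0) 0
    simp [N1] at this
    exact absurd this (by decide)
  obtain ⟨g, hg⟩ := hπsurj N1
  let t : X := g ^ 3
  have hπt : π t = N1 := by rw [map_pow, hg, pow_three, hN1, mul_one]
  have ht2 : t * t = 1 := by
    have hgR : g ^ 2 ∈ R := (hπker _).1 (by rw [map_pow, hg, pow_two, hN1])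
    have := hRexp _ hgR
    rw [← pow_mul] at this
    rw [← pow_add]; exact this
  have htinv : t⁻¹ = t := inv_eq_of_mul_eq_one_right ht2
  have hconjR : ∀ (x : X) {r}, r ∈ R → x * r * x⁻¹ ∈ R := fun x r hr =>
    Subgroup.Normal.conj_mem inferInstance r hr x
  have hxt : ∀ x, x * t * x⁻¹ * t ∈ R := fun x => (hπker _).1 (by
    rw [map_mul, map_mul, map_mul, map_inv, hπt, ← hN1c (π x), mul_inv_cancel_right, hN1])
  have htR : t ∉ R := fun h => hN1ne (hπt ▸ (hπker t).2 h)
  have ht_not : ¬ ∀ r ∈ R, t * r * t = r := by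
    intro hcom
    have hcent : ∀ x, x * t = t * x := by
      intro x
      have h1 := hxt x
      have h2 := hcom _ h1
      set r := x * t * x⁻¹ * t with hr
      have h3 : r * r = 1 := by
        calc r * r = r * (t * r * t) := by rw [h2]
          _ = (r * t) * (r * t) := by group
          _ = x * (t * t) * x⁻¹ := by
            have : r * t = x * t * x⁻¹ := by rw [hr, mul_assoc, ht2, mul_one]
            rw [this]; group
          _ = 1 := by rw [ht2]; group
      have h4 : r = 1 := by
        have h5 := hRexp r h1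
        rwa [pow_three, h3, mul_one] at h5
      calc x * t = r * t * x := by
            have : r * t = x * t * x⁻¹ := by rw [hr, mul_assoc, ht2, mul_one]
            rw [this]; group
        _ = t * x := by rw [h4, one_mul]
    have hnorm : (Subgroup.zpowers t).Normal := ⟨fun y hy x => by
      obtain ⟨k, rfl⟩ := Subgroup.mem_zpowers_iff.1 hy
      refine Subgroup.mem_zpowers_iff.2 ⟨k, ?_⟩
      have hc : Commute x t := hcent x
      rw [(hc.zpow_right k).eq, mul_inv_cancel_right]⟩
    have hp : IsPGroup 2 (Subgroup.zpowers t) := by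
      refine IsPGroup.of_card (n := 1) ?_
      rw [Nat.card_zpowers, pow_one]
      exact orderOf_eq_prime (by rw [pow_two, ht2]) fun h => htR (h ▸ R.one_mem)
    have := CfsgLib.Solvable.le_pCore hnorm hp (Subgroup.mem_zpowers t)
    rw [hO2, Subgroup.mem_bot] at this
    exact htR (this ▸ R.one_mem)
  -- first frame
  obtain ⟨a0, ha0, b0, hb0, hab0⟩ : ∃ a ∈ R, ∃ b ∈ R, a * b ≠ b * a := by
    by_contra hcon
    push Not at hcon
    exact hnc ⟨⟨fun u v => Subtype.ext (hcon _ u.2 _ v.2)⟩⟩
  obtain ⟨f0, hf0a, hf0b⟩ := exists_frame hRcard hRexp hcc ha0 hb0 hab0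
  -- the action on the frame
  let act : Frame R → X → Matrix (Fin 2) (Fin 2) (ZMod 3) := fun f x =>
    !![f.pr (x * f.a * x⁻¹) 0, f.pr (x * f.b * x⁻¹) 0; f.pr (x * f.a * x⁻¹) 1, f.pr (x * f.b * x⁻¹) 1]
  have prw : ∀ (f : Frame R) (x : X) (k : ZMod 3), f.pr (x * pw f.w k * x⁻¹) = 0 := by
    intro f x k
    obtain ⟨u, l, hu⟩ := f.exists_el (hconjR x (pw_mem f.hw k))
    rw [hu, Frame.pr_el]
    have hcom : ∀ r ∈ R, f.el u l * r = r * f.el u l := by
      intro r hr
      have h1 := (f.comm_w k (hconjR x⁻¹ hr)).eq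
      rw [inv_inv] at h1
      rw [← hu]
      calc x * pw f.w k * x⁻¹ * r = x * (pw f.w k * (x⁻¹ * r * x)) * x⁻¹ := by group
        _ = r * (x * pw f.w k * x⁻¹) := by rw [h1]; group
    have hcomp : ∀ d : Fin 2 → ZMod 3, u 1 * d 0 = d 1 * u 0 := by
      intro d
      have h2 := hcom _ (f.el_mem d 0)
      rw [Frame.el_mul, Frame.el_mul, add_comm d u] at h2
      have := (f.el_inj h2).2
      linear_combination -this
    have e0 := hcomp ![1, 0]
    have e1 := hcomp ![0, 1]
    simp at e0 e1
    funext i; fin_cases i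
    · exact e1.symm
    · exact e0
  have act_spec : ∀ (f : Frame R) (x : X) (u : Fin 2 → ZMod 3) (k : ZMod 3),
      f.pr (x * f.el u k * x⁻¹) = act f x *ᵥ u := by
    intro f x u k
    have : x * f.el u k * x⁻¹ =
        pw (x * f.a * x⁻¹) (u 0) * pw (x * f.b * x⁻¹) (u 1) * (x * pw f.w k * x⁻¹) := by
      rw [← conj_pw, ← conj_pw, Frame.el]; group
    rw [this, f.pr_mul (R.mul_mem (pw_mem (hconjR x f.ha) _) (pw_mem (hconjR x f.hb) _))
      (hconjR x (pw_mem f.hw k)), f.pr_mul (pw_mem (hconjR x f.ha) _) (pw_mem (hconjR x f.hb) _),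
      f.pr_pw (hconjR x f.ha), f.pr_pw (hconjR x f.hb), prw, add_zero]
    funext i
    fin_cases i <;> simp [act, Matrix.mulVec, dotProduct, Fin.sum_univ_two, mul_comm]
  have act_mul : ∀ (f : Frame R) (x y : X), act f (x * y) = act f x * act f y := by
    intro f x y
    apply Matrix.ext_of_mulVec_single
    intro i
    obtain ⟨u', k', hu⟩ := f.exists_el (hconjR y (f.el_mem (Pi.single i 1) 0))
    rw [← Matrix.mulVec_mulVec, ← act_spec f (x * y) _ 0, ← act_spec f y _ 0, hu, Frame.pr_el,
      ← act_spec f x u' k', ← hu]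
    congr 1
    group
  have act_R : ∀ (f : Frame R) (r : X), r ∈ R → act f r = 1 := by
    intro f r hr
    apply Matrix.ext_of_mulVec_single
    intro i
    rw [← act_spec f r _ 0, Matrix.one_mulVec, f.pr_mul (R.mul_mem hr (f.el_mem _ _)) (R.inv_mem hr),
      f.pr_mul hr (f.el_mem _ _), Frame.pr_el]
    have hinv : f.pr r + f.pr r⁻¹ = 0 := by
      rw [← f.pr_mul hr (R.inv_mem hr), mul_inv_cancel, ← f.el_zero, Frame.pr_el]
    linear_combination (norm := module) hinv
  have act_one : ∀ (f : Frame R), act f 1 = 1 := fun f => act_R f 1 R.one_mem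
  have conj_w : ∀ (f : Frame R) (x : X), x * f.w * x⁻¹ = pw f.w (act f x).det := by
    intro f x
    obtain ⟨ua, ka, hua⟩ := f.exists_el (hconjR x f.ha)
    obtain ⟨ub, kb, hub⟩ := f.exists_el (hconjR x f.hb)
    have hact : act f x = !![ua 0, ub 0; ua 1, ub 1] := by
      simp only [act, hua, hub, Frame.pr_el]
    have h1 : x * f.w * x⁻¹ = (x * f.a * x⁻¹)⁻¹ * (x * f.b * x⁻¹)⁻¹ * (x * f.a * x⁻¹) * (x * f.b * x⁻¹) := by
      have hw : f.w = f.a⁻¹ * f.b⁻¹ * f.a * f.b := by
        have h := f.hrel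
        calc f.w = (f.b * f.a)⁻¹ * (f.a * f.b) := by rw [h]; group
          _ = _ := by group
      rw [hw]; group
    rw [h1, hua, hub, Frame.el_inv, Frame.el_inv, Frame.el_mul, Frame.el_mul, Frame.el_mul,
      ← Frame.el_w, hact, Matrix.det_fin_two_of]
    congr 1
    · abel
    · simp only [Pi.neg_apply, Pi.add_apply]; ring
  have act_det : ∀ (f : Frame R) (x : X), (act f x).det = 1 := by
    intro f
    let D : X →* ZMod 3 :=
      { toFun := fun x => (act f x).det
        map_one' := by rw [act_one, Matrix.det_one]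
        map_mul' := fun x y => by rw [act_mul, Matrix.det_mul] }
    let D' : X ⧸ R →* ZMod 3 := QuotientGroup.lift R D fun r hr => by
      show D r = 1
      show (act f r).det = 1
      rw [act_R f r hr, Matrix.det_one]
    let D'' : SpecialLinearGroup (Fin 2) (ZMod 3) →* ZMod 3 := D'.comp e.symm.toMonoidHom
    have hD : ∀ x, (act f x).det = D'' (π x) := fun x => by
      show _ = D' (e.symm (e (q x)))
      rw [e.symm_apply_apply]; rfl
    have h3 : ∀ d : ZMod 3, d ^ 3 = 1 → d = 1 := by decide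
    have hgen : ∀ A : SpecialLinearGroup (Fin 2) (ZMod 3), A ^ 3 = 1 → D'' A = 1 := fun A hA =>
      h3 _ (by rw [← map_pow, hA, map_one])
    intro x
    rw [hD]
    set A := π x
    have hdet := A.2
    rw [Matrix.det_fin_two] at hdet
    obtain ⟨p, q, r, s, hfac⟩ := sl23_transvections _ _ _ _ hdet
    let up : ZMod 3 → SpecialLinearGroup (Fin 2) (ZMod 3) := fun p => ⟨!![1, p; 0, 1], by simp⟩
    let lo : ZMod 3 → SpecialLinearGroup (Fin 2) (ZMod 3) := fun p => ⟨!![1, 0; p, 1], by simp⟩
    have hup : ∀ p, up p ^ 3 = 1 := fun p => Subtype.ext (by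
      revert p; simp only [up]; decide +kernel)
    have hlo : ∀ p, lo p ^ 3 = 1 := fun p => Subtype.ext (by
      revert p; simp only [lo]; decide +kernel)
    have : A = up p * lo q * up r * lo s := Subtype.ext (by
      show A.1 = !![1, p; 0, 1] * !![1, 0; q, 1] * !![1, r; 0, 1] * !![1, 0; s, 1]
      rw [← hfac]; exact Matrix.eta_fin_two _)
    rw [this, map_mul, map_mul, map_mul, hgen _ (hup p), hgen _ (hlo q), hgen _ (hup r),
      hgen _ (hlo s)]
    simp
  have act_t : ∀ f : Frame R, act f t = -1 := by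
    intro f
    have hd := act_det f t
    rw [Matrix.eta_fin_two (act f t), Matrix.det_fin_two_of] at hd
    have hsq := act_mul f t t
    rw [ht2, act_one, Matrix.eta_fin_two (act f t)] at hsq
    rcases sl23_sq_one _ _ _ _ hd hsq.symm with h | h <;> rw [← Matrix.eta_fin_two] at h
    · exfalso
      have hw : t * f.w * t = f.w := by
        have := conj_w f t
        rwa [htinv, act_det, pw_one] at this
      have hfix : ∀ u : Fin 2 → ZMod 3, t * f.el u 0 * t = f.el u 0 := by
        intro u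
        obtain ⟨u', k, hk⟩ := f.exists_el (hconjR t (f.el_mem u 0))
        have hu' := act_spec f t u 0
        rw [hk, Frame.pr_el, h, Matrix.one_mulVec] at hu'
        subst hu'
        rw [htinv] at hk
        have h2 : f.el u' 0 = t * (f.el u' 0 * pw f.w k) * t := by
          have e1 : f.el u' 0 * pw f.w k = t * f.el u' 0 * t := by
            rw [hk, ← f.el_w, Frame.el_mul]; simp
          rw [e1]
          calc f.el u' 0 = (t * t) * f.el u' 0 * (t * t) := by rw [ht2]; group
            _ = _ := by group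
        have hwk : t * pw f.w k * t = pw f.w k := by
          have := conj_pw f.w t k
          rw [htinv, hw] at this
          exact this
        have h3 : f.el u' 0 = f.el u' (k + k) := by
          calc f.el u' 0 = t * (f.el u' 0 * pw f.w k) * t := h2
            _ = (t * f.el u' 0 * t) * (t * pw f.w k * t) := by
              calc _ = t * f.el u' 0 * 1 * pw f.w k * t := by group
                _ = _ := by rw [← ht2]; group
            _ = f.el u' (k + k) := by rw [hwk, hk, ← f.el_w, Frame.el_mul]; simp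
        have hk0 : k + k = 0 := (f.el_inj h3).2.symm
        have h2z : ∀ k : ZMod 3, k + k = 0 → k = 0 := by decide
        have : k = 0 := h2z k hk0
        rw [hk, this]
      apply ht_not
      intro r hr
      obtain ⟨u, k, rfl⟩ := f.exists_el hr
      have e1 : f.el u k = f.el u 0 * pw f.w k := by rw [← f.el_w, Frame.el_mul]; simp
      have hwk : t * pw f.w k * t = pw f.w k := by
        have := conj_pw f.w t k
        rw [htinv, hw] at this
        exact this
      calc t * f.el u k * t = (t * f.el u 0 * t) * (t * pw f.w k * t) := by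
            rw [e1]
            calc _ = t * f.el u 0 * 1 * pw f.w k * t := by group
              _ = _ := by rw [← ht2]; group
        _ = f.el u k := by rw [hfix, hwk, e1]
    · exact h
  -- adjust the frame
  have adjust : ∀ (f : Frame R) (r : X), r ∈ R → ∃ k, t * (r * pw f.w k) * t = (r * pw f.w k)⁻¹ := by
    intro f r hr
    obtain ⟨u, k, rfl⟩ := f.exists_el hr
    obtain ⟨u', l, hl⟩ := f.exists_el (hconjR t (f.el_mem u k))
    have hu' := act_spec f t u k
    rw [hl, Frame.pr_el, act_t, Matrix.neg_mulVec, Matrix.one_mulVec] at hu'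
    subst hu'
    rw [htinv] at hl
    refine ⟨l + k + u 1 * u 0, ?_⟩
    have hwk : t * pw f.w (l + k + u 1 * u 0) * t = pw f.w (l + k + u 1 * u 0) := by
      have := conj_pw f.w t (l + k + u 1 * u 0)
      have hw := conj_w f t
      rw [act_det, pw_one, htinv] at hw
      rw [htinv, hw] at this
      exact this
    calc t * (f.el u k * pw f.w (l + k + u 1 * u 0)) * t
        = (t * f.el u k * t) * (t * pw f.w (l + k + u 1 * u 0) * t) := by
          calc _ = t * f.el u k * 1 * pw f.w (l + k + u 1 * u 0) * t := by group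
            _ = _ := by rw [← ht2]; group
      _ = _ := by
        rw [hwk, hl, ← f.el_w, Frame.el_mul, Frame.el_mul, Frame.el_inv]
        congr 1
        · simp
        · simp only [Pi.add_apply, Pi.zero_apply, Pi.neg_apply]
          have h3 : (3 : ZMod 3) = 0 := rfl
          linear_combination (l + k + u 1 * u 0) * h3
  obtain ⟨ka, hka⟩ := adjust f0 a0 ha0
  obtain ⟨kb, hkb⟩ := adjust f0 b0 hb0
  obtain ⟨f, hfa, hfb⟩ := exists_frame hRcard hRexp hcc (R.mul_mem ha0 (pw_mem f0.hw ka))
    (R.mul_mem hb0 (pw_mem f0.hw kb)) (fun h => hab0 (by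
      have e1 := (f0.comm_w ka (R.mul_mem hb0 (pw_mem f0.hw kb))).eq
      have e2 := (f0.comm_w kb ha0).eq
      have e3 : pw f0.w kb * pw f0.w ka = pw f0.w ka * pw f0.w kb := (f0.comm_w kb (pw_mem f0.hw ka)).eq
      rw [mul_assoc a0, e1] at h
      have h' : a0 * b0 * (pw f0.w kb * pw f0.w ka) = b0 * a0 * (pw f0.w kb * pw f0.w ka) := by
        calc a0 * b0 * (pw f0.w kb * pw f0.w ka) = a0 * (b0 * pw f0.w kb * pw f0.w ka) := by group
          _ = b0 * pw f0.w kb * (a0 * pw f0.w ka) := h
          _ = b0 * (pw f0.w kb * a0) * pw f0.w ka := by group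
          _ = _ := by rw [e2]; group
      exact mul_right_cancel h'))
  have tw : ∀ k, t * pw f.w k * t = pw f.w k := fun k => by
    have := conj_pw f.w t k
    have hw := conj_w f t
    rw [act_det, pw_one, htinv] at hw
    rw [htinv, hw] at this
    exact this
  have t_el : ∀ u k, t * f.el u k * t = f.el (-u) k := by
    intro u k
    have ea : t * f.a * t = f.a⁻¹ := by rw [hfa]; exact hka
    have eb : t * f.b * t = f.b⁻¹ := by rw [hfb]; exact hkb
    have ea' : t * pw f.a (u 0) * t = pw f.a (-(u 0)) := by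
      have := conj_pw f.a t (u 0)
      rw [htinv, ea] at this
      rw [this, pw_neg (hRexp _ f.ha)]; exact inv_pow _ _
    have eb' : t * pw f.b (u 1) * t = pw f.b (-(u 1)) := by
      have := conj_pw f.b t (u 1)
      rw [htinv, eb] at this
      rw [this, pw_neg (hRexp _ f.hb)]; exact inv_pow _ _
    calc t * f.el u k * t = (t * pw f.a (u 0) * t) * (t * pw f.b (u 1) * t) * (t * pw f.w k * t) := by
          rw [Frame.el]
          calc _ = t * pw f.a (u 0) * 1 * pw f.b (u 1) * 1 * pw f.w k * t := by group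
            _ = _ := by rw [← ht2]; group
      _ = _ := by rw [ea', eb', tw]; rfl
  have inverted : ∀ r ∈ R, t * r * t = r⁻¹ → r = f.sv (f.pr r) := by
    intro r hr h
    obtain ⟨u, k, rfl⟩ := f.exists_el hr
    rw [t_el, Frame.el_inv] at h
    have hk := (f.el_inj h).2
    rw [Frame.pr_el, Frame.sv]
    congr 1
    have h3 : (3 : ZMod 3) = 0 := rfl
    linear_combination -hk + k * h3
  have sv_mem : ∀ u, f.sv u ∈ R := fun u => f.el_mem _ _
  have sv_inv : ∀ u, (f.sv u)⁻¹ = f.sv (-u) := fun u => by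
    rw [Frame.sv, Frame.sv, Frame.el_inv]
    congr 1
    simp only [Pi.neg_apply]
    have h3 : (3 : ZMod 3) = 0 := rfl
    linear_combination -(u 0 * u 1) * h3
  have sv_t : ∀ u, t * f.sv u * t = f.sv (-u) := fun u => by
    rw [Frame.sv, t_el, Frame.sv]
    congr 1
    simp
  have pr_sv : ∀ u, f.pr (f.sv u) = u := fun u => Frame.pr_el _ _ _
  let C : Subgroup X := Subgroup.centralizer {t}
  have hC : ∀ {c}, c ∈ C ↔ c * t = t * c := fun {c} =>
    ⟨fun h => (Subgroup.mem_centralizer_iff.1 h t rfl).symm,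
      fun h => Subgroup.mem_centralizer_iff.2 fun y hy => by rw [Set.mem_singleton_iff.1 hy, h]⟩
  have hwC : f.w ∈ C := hC.2 (by
    have := tw 1
    rw [pw_one] at this
    calc f.w * t = (t * f.w * t) * t := by rw [this]
      _ = t * f.w * (t * t) := by group
      _ = t * f.w := by rw [ht2, mul_one])
  have conjC : ∀ c ∈ C, ∀ u, c * f.sv u * c⁻¹ = f.sv (act f c *ᵥ u) := by
    intro c hc u
    have h1 : t * (c * f.sv u * c⁻¹) * t = (c * f.sv u * c⁻¹)⁻¹ := by
      have hc' := hC.1 hc
      have hc'' : c⁻¹ * t = t * c⁻¹ := by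
        calc c⁻¹ * t = c⁻¹ * (t * c) * c⁻¹ := by group
          _ = _ := by rw [← hc']; group
      calc t * (c * f.sv u * c⁻¹) * t = (t * c) * f.sv u * (c⁻¹ * t) := by group
        _ = c * (t * f.sv u * t) * c⁻¹ := by rw [← hc', hc'']; group
        _ = _ := by rw [sv_t, ← sv_inv]; group
    rw [inverted _ (hconjR c (sv_mem u)) h1]
    congr 1
    exact act_spec f c _ _
  have conjCw : ∀ c k, c * pw f.w k * c⁻¹ = pw f.w k := fun c k => by
    rw [conj_pw, conj_w, act_det, pw_one]
  have wC : ∀ k, pw f.w k ∈ C := fun k => pw_mem hwC k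
  -- decomposition
  have decomp : ∀ x, ∃ u, (f.sv u)⁻¹ * x ∈ C := by
    intro x
    have hr := hxt x
    set r := x * t * x⁻¹ * t with hrdef
    have hrt : r * t = x * t * x⁻¹ := by rw [hrdef, mul_assoc, ht2, mul_one]
    have h1 : t * r * t = r⁻¹ := by
      apply eq_inv_of_mul_eq_one_left
      calc t * r * t * r = t * ((r * t) * (r * t)) * t⁻¹ := by group
        _ = t * (x * (t * t) * x⁻¹) * t⁻¹ := by rw [hrt]; group
        _ = 1 := by rw [ht2]; group
    have hs := inverted r hr h1
    refine ⟨-(f.pr r), hC.2 ?_⟩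
    rw [sv_inv, neg_neg, ← hs]
    have h2 : r⁻¹ * t = t * r := by
      rw [← h1]
      calc t * r * t * t = t * r * (t * t) := by group
        _ = t * r := by rw [ht2, mul_one]
    calc r * x * t = r * (r * t) * x := by rw [hrt]; group
      _ = (r * r * r) * (r⁻¹ * t) * x := by group
      _ = t * (r * x) := by
        have h3 : r * r * r = 1 := by have := hRexp r hr; rwa [pow_three, ← mul_assoc] at this
        rw [h3, h2]; group
  have uniq : ∀ u u' c c', c ∈ C → c' ∈ C → f.sv u * c = f.sv u' * c' → u = u' ∧ c = c' := by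
    intro u u' c c' hc hc' h
    have hh : (f.sv u')⁻¹ * f.sv u = c' * c⁻¹ := by
      calc (f.sv u')⁻¹ * f.sv u = (f.sv u')⁻¹ * (f.sv u * c) * c⁻¹ := by group
        _ = _ := by rw [h]; group
    have hm : (f.sv u')⁻¹ * f.sv u ∈ C := hh ▸ C.mul_mem hc' (C.inv_mem hc)
    rw [sv_inv, Frame.sv_mul] at hm
    have hm' : f.sv (-u' + u) ∈ C := by
      have := C.mul_mem (C.inv_mem (wC (-((-u') 0 * u 1 - (-u') 1 * u 0)))) hm
      rwa [inv_mul_cancel_left] at this
    have h2 : f.sv (-u' + u) = f.sv (-(-u' + u)) := by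
      refine Eq.trans ?_ (sv_t _)
      rw [← hC.1 hm', mul_assoc, ht2, mul_one]
    have h3 := congrArg f.pr h2
    rw [pr_sv, pr_sv] at h3
    have h4 : ∀ d : Fin 2 → ZMod 3, d = -d → d = 0 := by decide
    have := h4 _ h3
    have huu : u = u' := by
      rw [neg_add_eq_zero] at this; exact this.symm
    subst huu
    exact ⟨rfl, mul_left_cancel h⟩
  choose v hv using decomp
  let cc : X → C := fun x => ⟨(f.sv (v x))⁻¹ * x, hv x⟩
  have split : ∀ x, x = f.sv (v x) * (cc x : X) := fun x => by simp [cc]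
  have v_eq : ∀ (u : Fin 2 → ZMod 3) (c : C), v (f.sv u * c) = u ∧ cc (f.sv u * c) = c := fun u c => by
    obtain ⟨h1, h2⟩ := uniq _ _ _ _ (cc (f.sv u * c)).2 c.2 (split (f.sv u * c)).symm
    exact ⟨h1, Subtype.ext h2⟩
  have act_cc : ∀ x, act f x = act f (cc x : X) := fun x => by
    conv_lhs => rw [split x]
    rw [act_mul, act_R f _ (sv_mem _), one_mul]
  -- kernel of the action
  have act_ker : ∀ x, act f x = 1 → x ∈ R := by
    intro x hx
    by_contra hxR
    have hA : π x ≠ 1 := fun h => hxR ((hπker x).1 h)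
    let K : X ⧸ R →* Matrix (Fin 2) (Fin 2) (ZMod 3) := QuotientGroup.lift R
      { toFun := act f
        map_one' := act_one f
        map_mul' := act_mul f } fun r hr => act_R f r hr
    let K' : SpecialLinearGroup (Fin 2) (ZMod 3) →* Matrix (Fin 2) (Fin 2) (ZMod 3) :=
      K.comp e.symm.toMonoidHom
    have hK : ∀ y, K' (π y) = act f y := fun y => by
      show K (e.symm (e (q y))) = _
      rw [e.symm_apply_apply]; rfl
    have hA1 : K' (π x) = 1 := by rw [hK, hx]
    have hinv : ∀ B, K' B = 1 → K' B⁻¹ = 1 := fun B hB => by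
      have := map_mul K' B B⁻¹
      rw [mul_inv_cancel, map_one, hB, one_mul] at this
      exact this.symm
    have key : ∀ B, K' B = 1 → B = N1 → False := fun B hB hBN => by
      rw [hBN, ← hπt, hK, act_t] at hB
      have := congrFun (congrFun hB 0) 0
      simp at this
      exact absurd this (by decide)
    set A := π x with hAdef
    have hd := A.2
    rw [Matrix.det_fin_two] at hd
    have hne : !![A.1 0 0, A.1 0 1; A.1 1 0, A.1 1 1] ≠ (1 : Matrix (Fin 2) (Fin 2) (ZMod 3)) := fun h =>
      hA (Subtype.ext (by rw [← Matrix.eta_fin_two] at h; exact h))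
    rcases sl23_reach_neg _ _ _ _ hd hne with h | h | h | ⟨p, q, r, s, hps, h⟩
    · exact key A hA1 (Subtype.ext (by rw [← Matrix.eta_fin_two] at h; exact h))
    · exact key (A ^ 2) (by rw [map_pow, hA1, one_pow]) (Subtype.ext (by
        rw [← Matrix.eta_fin_two] at h; exact (Matrix.SpecialLinearGroup.coe_pow A 2).trans h))
    · exact key (A ^ 3) (by rw [map_pow, hA1, one_pow]) (Subtype.ext (by
        rw [← Matrix.eta_fin_two] at h; exact (Matrix.SpecialLinearGroup.coe_pow A 3).trans h))
    · let B : SpecialLinearGroup (Fin 2) (ZMod 3) := ⟨!![p, q; r, s], by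
        rw [Matrix.det_fin_two_of]; exact hps⟩
      refine key ((A * B * A⁻¹ * B⁻¹) ^ 2) ?_ (Subtype.ext ?_)
      · rw [map_pow, map_mul, map_mul, map_mul, hA1, hinv A hA1, one_mul, mul_one, ← map_mul,
          mul_inv_cancel, map_one, one_pow]
      · exact (coe_comm_sq A B).trans h
  -- an element of order 3 in C outside R
  obtain ⟨y, hyC, hy3, hyR⟩ : ∃ y, y ∈ C ∧ y ^ 3 = 1 ∧ y ∉ R := by
    obtain ⟨E, hEc, hE3, hEcard⟩ := hE
    have hnle : ¬ E ≤ R := fun h => by
      have hEq : E = R := SetLike.coe_injective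
        (Set.eq_of_subset_of_ncard_le (show (E : Set X) ⊆ R from h)
          (by rw [← Nat.card_coe_set_eq, ← Nat.card_coe_set_eq]; exact le_of_eq (hRcard.trans hEcard.symm))
          (Set.toFinite _))
      exact hnc (hEq ▸ hEc)
    obtain ⟨x, hxE, hxR⟩ := SetLike.not_le_iff_exists.1 hnle
    -- E meets R in more than the centre
    obtain ⟨r, hrE, hrR, hru⟩ : ∃ r, r ∈ E ∧ r ∈ R ∧ f.pr r ≠ 0 := by
      by_contra hcon
      push Not at hcon
      have hle : ∀ r, r ∈ E → r ∈ R → r ∈ Subgroup.zpowers f.w := fun r h1 h2 => by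
        obtain ⟨u, k, rfl⟩ := f.exists_el h2
        have := hcon _ h1 h2
        rw [Frame.pr_el] at this
        subst this
        rw [Frame.el_w]; exact pow_mem (Subgroup.mem_zpowers _) _
      let φ : E →* SpecialLinearGroup (Fin 2) (ZMod 3) := π.comp E.subtype
      have hcardE := φ.ker.card_eq_card_quotient_mul_card_subgroup
      rw [hEcard, Nat.card_congr (QuotientGroup.quotientKerEquivRange φ).toEquiv] at hcardE
      have hker : Nat.card φ.ker ≤ 3 := by
        have hz : Nat.card (Subgroup.zpowers f.w) = 3 := by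
          rw [Nat.card_zpowers]; exact orderOf_eq_prime f.wcube f.hne
        refine le_trans ?_ (le_of_eq hz)
        refine Nat.card_le_card_of_injective
          (fun z => ⟨z.1.1, hle _ z.1.2 ((hπker _).1 z.2)⟩) fun a b h => ?_
        have := congrArg Subtype.val h
        exact Subtype.ext (Subtype.ext this)
      have hdvd : Nat.card φ.range ∣ 24 := card_sl23 ▸ Subgroup.card_subgroup_dvd_card φ.range
      have hdvd2 : Nat.card φ.range ∣ 27 := ⟨_, hcardE⟩
      have : Nat.card φ.range ∣ 3 := by simpa using Nat.dvd_gcd hdvd hdvd2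
      have := Nat.le_of_dvd (by norm_num) this
      nlinarith
    obtain ⟨u, k, rfl⟩ := f.exists_el hrR
    rw [Frame.pr_el] at hru
    have hcom : x * f.el u k = f.el u k * x := congrArg Subtype.val (hEc.is_comm.comm ⟨x, hxE⟩ ⟨_, hrE⟩)
    set c := (cc x : X) with hcdef
    have hc : c ∈ C := (cc x).2
    have hfix : act f c *ᵥ u = u := by
      rw [← act_cc, ← act_spec f x u k, hcom, mul_inv_cancel_right, Frame.pr_el]
    have hxs := split x
    rw [← hcdef] at hxs
    have hel : f.el u k = f.sv u * pw f.w (k - u 0 * u 1) := by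
      rw [Frame.sv, ← f.el_w, Frame.el_mul]; simp
    have hcu : c * f.el u k = f.el u k * c := by
      rw [hel]
      calc c * (f.sv u * pw f.w (k - u 0 * u 1)) =
            (c * f.sv u * c⁻¹) * (c * pw f.w (k - u 0 * u 1) * c⁻¹) * c := by group
        _ = _ := by rw [conjC c hc, hfix, conjCw]
    have hvu : f.sv (v x) * f.el u k = f.el u k * f.sv (v x) := by
      apply mul_right_cancel (b := c)
      calc f.sv (v x) * f.el u k * c = f.sv (v x) * (c * f.el u k) := by rw [hcu]; group
        _ = x * f.el u k := by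
          conv_rhs => rw [hxs]
          group
        _ = f.el u k * x := hcom
        _ = _ := by conv_lhs => rw [hxs]
                    group
    rw [Frame.sv, Frame.el_mul, Frame.el_mul] at hvu
    have harea := (f.el_inj hvu).2
    obtain ⟨l, hl⟩ := eq_smul_of_area (v x) u hru (by linear_combination harea)
    have hcv : Commute c (f.sv (v x)) := by
      show c * f.sv (v x) = f.sv (v x) * c
      calc c * f.sv (v x) = (c * f.sv (v x) * c⁻¹) * c := by group
        _ = _ := by rw [conjC c hc, hl, Matrix.mulVec_smul, hfix]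
    refine ⟨c, hc, ?_, fun h => hxR ?_⟩
    · have h1 := hE3 x hxE
      rw [hxs, hcv.symm.mul_pow, hRexp _ (sv_mem _), one_mul] at h1
      exact h1
    · rw [hxs]; exact R.mul_mem (sv_mem _) h
  -- the character of C
  have hyw : Commute y f.w := by
    have h := conjCw y 1
    rw [pw_one] at h
    show y * f.w = f.w * y
    calc y * f.w = (y * f.w * y⁻¹) * y := by group
      _ = _ := by rw [h]
  let yC : C := ⟨y, hyC⟩
  let wC' : C := ⟨f.w, hwC⟩
  have hyC3 : yC ^ 3 = 1 := Subtype.ext hy3
  have hwC3 : wC' ^ 3 = 1 := Subtype.ext f.wcube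
  have hywC : Commute yC wC' := Subtype.ext hyw
  let φ : Multiplicative (ZMod 3 × ZMod 3) →* C :=
    { toFun := fun p => pw yC p.toAdd.1 * pw wC' p.toAdd.2
      map_one' := by simp [pw_zero]
      map_mul' := fun p p' => by
        simp only [toAdd_mul, Prod.fst_add, Prod.snd_add, pw_add hyC3, pw_add hwC3]
        exact (commute_pw hywC.symm p.toAdd.2 p'.toAdd.1).mul_mul_mul_comm _ _ ▸ rfl }
  have hφinj : Function.Injective φ := by
    rw [injective_iff_map_eq_one]
    intro p hp
    have h1 : pw y p.toAdd.1 * pw f.w p.toAdd.2 = 1 := congrArg Subtype.val hp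
    have hy1 : p.toAdd.1 = 0 := by
      by_contra hne
      apply hyR
      have hyR' : pw y p.toAdd.1 ∈ R := by
        rw [eq_inv_of_mul_eq_one_left h1]; exact R.inv_mem (pw_mem f.hw _)
      have : y = pw (pw y p.toAdd.1) p.toAdd.1 := by
        have hval : ∀ i : ZMod 3, i ≠ 0 → (i.val * i.val) % 3 = 1 := by decide
        rw [pw, pw, ← pow_mul, pow_eq_pow_mod _ hy3, hval _ hne, pow_one]
      rw [this]; exact pw_mem hyR' _
    rw [hy1, pw_zero, one_mul, ← f.el_w, ← f.el_zero] at h1
    have := (f.el_inj h1).2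
    apply Multiplicative.toAdd.injective
    exact Prod.ext hy1 this
  let P : Subgroup C := φ.range
  have hPcard : Nat.card P = 9 := by
    rw [Nat.card_congr (MonoidHom.ofInjective hφinj).toEquiv.symm]
    simp
  let pr2 : Multiplicative (ZMod 3 × ZMod 3) →* Multiplicative (ZMod 3) :=
    { toFun := fun p => Multiplicative.ofAdd p.toAdd.2
      map_one' := rfl
      map_mul' := fun p p' => rfl }
  let πP : P →* Multiplicative (ZMod 3) := pr2.comp (MonoidHom.ofInjective hφinj).symm.toMonoidHom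
  have hcardX : Nat.card X = 648 := by
    rw [R.card_eq_card_quotient_mul_card_subgroup, hRcard, Nat.card_congr e.toEquiv, card_sl23]
  have hcardC : Nat.card C = 72 := by
    have hbij : Function.Bijective (fun p : (Fin 2 → ZMod 3) × C => f.sv p.1 * (p.2 : X)) :=
      ⟨fun a b h => by
        obtain ⟨h1, h2⟩ := uniq _ _ _ _ a.2.2 b.2.2 h
        exact Prod.ext h1 (Subtype.ext h2), fun x => ⟨(v x, cc x), (split x).symm⟩⟩
    have := Nat.card_congr (Equiv.ofBijective _ hbij)
    rw [hcardX] at this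
    simp at this
    omega
  have hidx : P.index = 8 := by
    have := P.card_mul_index
    rw [hPcard, hcardC] at this
    omega
  have : P.FiniteIndex := ⟨by omega⟩
  have hwcen : ∀ (k : ℕ) (g₀ : C), g₀⁻¹ * wC' ^ k * g₀ ∈ P → g₀⁻¹ * wC' ^ k * g₀ = wC' ^ k := by
    intro k g₀ _
    have hcom : Commute g₀ wC' := Subtype.ext (by
      have h := conjCw (g₀ : X) 1
      rw [pw_one] at h
      show (g₀ : X) * f.w = f.w * g₀
      calc (g₀ : X) * f.w = ((g₀ : X) * f.w * (g₀ : X)⁻¹) * g₀ := by group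
        _ = _ := by rw [h])
    rw [mul_assoc, ← (hcom.pow_right k).eq, inv_mul_cancel_left]
  let T : C →* Multiplicative (ZMod 3) := MonoidHom.transfer πP
  let χ : C → ZMod 3 := fun c => -(T c).toAdd
  have χ_mul : ∀ a b, χ (a * b) = χ a + χ b := fun a b => by
    show -(T (a * b)).toAdd = -(T a).toAdd + -(T b).toAdd
    rw [map_mul, toAdd_mul, neg_add]
  have χ_w : χ wC' = 1 := by
    have h := MonoidHom.transfer_eq_pow πP wC' hwcen
    have hmem : wC' ^ P.index = φ (Multiplicative.ofAdd ((0 : ZMod 3), (2 : ZMod 3))) := by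
      rw [hidx]
      show wC' ^ 8 = pw yC 0 * pw wC' 2
      rw [pw_zero, one_mul, pw, pow_eq_pow_mod 8 hwC3]; rfl
    show -(T wC').toAdd = 1
    have h2 : πP ⟨wC' ^ P.index, MonoidHom.transfer_eq_pow_aux wC' hwcen⟩ =
        Multiplicative.ofAdd (2 : ZMod 3) := by
      have : (⟨wC' ^ P.index, MonoidHom.transfer_eq_pow_aux wC' hwcen⟩ : P) =
          MonoidHom.ofInjective hφinj (Multiplicative.ofAdd ((0 : ZMod 3), (2 : ZMod 3))) :=
        Subtype.ext hmem
      rw [this]
      simp [πP, pr2]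
    show -(MonoidHom.transfer πP wC').toAdd = 1
    rw [h, h2]
    rfl
  have χ_pw : ∀ k, χ ⟨pw f.w k, wC k⟩ = k := by
    intro k
    have h : ∀ n : ℕ, χ (wC' ^ n) = n := by
      intro n
      induction n with
      | zero => simp [χ]
      | succ n ih => rw [pow_succ, χ_mul, ih, χ_w]; push_cast; rfl
    have : (⟨pw f.w k, wC k⟩ : C) = wC' ^ k.val := Subtype.ext rfl
    rw [this, h, ZMod.natCast_zmod_val]
  -- the coordinates
  let A : X → SpecialLinearGroup (Fin 2) (ZMod 3) := fun x => ⟨act f x, act_det f x⟩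
  let F : X → (Fin 2 → ZMod 3) × ZMod 3 × SpecialLinearGroup (Fin 2) (ZMod 3) :=
    fun x => (v x, χ (cc x), A x)
  have hFinj : Function.Injective F := by
    intro x y h
    simp only [F, Prod.mk.injEq] at h
    obtain ⟨h1, h2, h3⟩ := h
    have h3' : act f x = act f y := congrArg Subtype.val h3
    have hd : ((cc x)⁻¹ * cc y : C).1 ∈ R := by
      apply act_ker
      rw [Subgroup.coe_mul, Subgroup.coe_inv, act_mul, ← act_cc y, ← h3', act_cc x, ← act_mul,
        inv_mul_cancel, act_one]
    obtain ⟨u, k, hu⟩ := f.exists_el hd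
    have hm := hC.1 ((cc x)⁻¹ * cc y : C).2
    rw [hu] at hm
    have hu2 : f.el (-u) k = f.el u k := by
      rw [← t_el, ← hm, mul_assoc, ht2, mul_one]
    have h4 : ∀ d : Fin 2 → ZMod 3, -d = d → d = 0 := by decide
    have := h4 _ (f.el_inj hu2).1
    subst this
    rw [Frame.el_w] at hu
    have hu' : (cc x)⁻¹ * cc y = ⟨pw f.w k, wC k⟩ := Subtype.ext hu
    have hcy : cc y = cc x * ⟨pw f.w k, wC k⟩ := by rw [← hu', mul_inv_cancel_left]
    have hk : k = 0 := by
      have := congrArg χ hcy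
      rw [χ_mul, χ_pw, ← h2] at this
      linear_combination -this
    subst hk
    rw [split x, split y, h1, hcy]
    simp [pw_zero]
  refine ⟨F, (Nat.bijective_iff_injective_and_card F).2 ⟨hFinj, ?_⟩, fun x y => ?_⟩
  · rw [Nat.card_prod, Nat.card_prod, card_sl23, hcardX]; simp
  · set c : X := (cc x : X) with hcdef
    set u := act f x *ᵥ v y with hudef
    have hc : c * f.sv (v y) * c⁻¹ = f.sv u := by rw [conjC c (cc x).2, ← act_cc]
    have hxy : x * y = f.sv (v x + u) *
        ((⟨pw f.w (-(v x 0 * u 1 - v x 1 * u 0)), wC _⟩ : C) * cc x * cc y : C) := by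
      calc x * y = (f.sv (v x) * c) * (f.sv (v y) * (cc y : X)) := by rw [← split x, ← split y]
        _ = f.sv (v x) * (c * f.sv (v y) * c⁻¹) * c * (cc y : X) := by group
        _ = pw f.w (-(v x 0 * u 1 - v x 1 * u 0)) * f.sv (v x + u) * c * (cc y : X) := by
          rw [hc, Frame.sv_mul]
        _ = _ := by
          rw [(f.comm_w _ (sv_mem _)).eq]
          simp only [Subgroup.coe_mul]
          group
          rfl
    obtain ⟨hv1, hc1⟩ := v_eq (v x + u)
      ((⟨pw f.w (-(v x 0 * u 1 - v x 1 * u 0)), wC _⟩ : C) * cc x * cc y)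
    rw [← hxy] at hv1 hc1
    refine Prod.ext hv1 (Prod.ext ?_ (Subtype.ext (act_mul f x y)))
    show χ (cc (x * y)) = χ (cc x) + χ (cc y) - (v x 0 * u 1 - v x 1 * u 0)
    rw [hc1, χ_mul, χ_mul, χ_pw]
    ring

end CfsgLib.Recog.HeisThree
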