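import Cfsg.Agent.Lib.KnownB.PSL2Elem
import Mathlib.NumberTheory.LegendreSymbol.AddCharacter
import Mathlib.FieldTheory.Finite.GaloisField
import Mathlib.RingTheory.IntegralDomain
import Mathlib.Algebra.CharP.Two

/-!
A function on `SL₂(p)`, with values in a field of characteristic two, whose sums over all cosets of all
subgroups of order `p` vanish, but whose sums over suitable tori do not.
-/

set_option autoImplicit false

namespace CfsgLib.Recog.Horo

open Matrix
open CfsgLib.KnownB.SL2 (negSL coe_negSL mk_negSL mk_eq_one_iff mk_eq_mk_iff)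
open scoped MatrixGroups

variable {p : ℕ} [Fact p.Prime] {L : Type*} [Field L]

local notation "S2" => Matrix.SpecialLinearGroup (Fin 2) (ZMod p)

/-- Upper unitriangular. -/
def up (t : ZMod p) : S2 := ⟨!![1, t; 0, 1], by simp [det_fin_two_of]⟩

/-- Lower unitriangular. -/
def low (t : ZMod p) : S2 := ⟨!![1, 0; t, 1], by simp [det_fin_two_of]⟩

theorem coe_up (t : ZMod p) : (up t : S2).1 = !![1, t; 0, 1] := rfl

theorem coe_low (t : ZMod p) : (low t : S2).1 = !![1, 0; t, 1] := rfl

theorem up_add (s t : ZMod p) : up (s + t) = up s * up t := by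
  apply Subtype.ext
  ext i j
  fin_cases i <;> fin_cases j <;> simp [coe_up, Matrix.mul_apply, Fin.sum_univ_two, add_comm]

theorem low_add (s t : ZMod p) : low (s + t) = low s * low t := by
  apply Subtype.ext
  ext i j
  fin_cases i <;> fin_cases j <;> simp [coe_low, Matrix.mul_apply, Fin.sum_univ_two, add_comm]

theorem low_zero : low (0 : ZMod p) = 1 := by
  apply Subtype.ext; ext i j; fin_cases i <;> fin_cases j <;> simp [coe_low]

theorem up_zero : up (0 : ZMod p) = 1 := by
  apply Subtype.ext; ext i j; fin_cases i <;> fin_cases j <;> simp [coe_up]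

theorem low_pow (c : ZMod p) (i : ℕ) : low c ^ i = low ((i : ZMod p) * c) := by
  induction i with
  | zero => simp [low_zero]
  | succ i ih => rw [pow_succ, ih, ← low_add]; push_cast; ring_nf

theorem up_pow (c : ZMod p) (i : ℕ) : up c ^ i = up ((i : ZMod p) * c) := by
  induction i with
  | zero => simp [up_zero]
  | succ i ih => rw [pow_succ, ih, ← up_add]; push_cast; ring_nf

theorem sum_range_cast (F : ZMod p → L) : ∑ i ∈ Finset.range p, F (i : ZMod p) = ∑ t : ZMod p, F t :=
  Finset.sum_nbij' (fun i => (i : ZMod p)) (fun t => t.val) (by simp)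
    (fun t _ => Finset.mem_range.mpr t.val_lt)
    (fun i hi => ZMod.val_cast_of_lt (Finset.mem_range.mp hi)) (fun t _ => ZMod.natCast_rightInverse t) (fun _ _ => rfl)

theorem sum_mul_left (F : ZMod p → L) {c : ZMod p} (hc : c ≠ 0) : ∑ t : ZMod p, F (t * c) = ∑ t : ZMod p, F t :=
  Fintype.sum_equiv (Equiv.mulRight₀ c hc) _ _ (fun _ => rfl)

variable (ψ : AddChar (ZMod p) L)

theorem sum_shift (hψ : ψ ≠ 1) {c : ZMod p} (hc : c ≠ 0) (K : ZMod p) : ∑ t : ZMod p, ψ (t * c + K) = 0 := by
  simp only [AddChar.map_add_eq_mul, ← Finset.sum_mul]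
  rw [sum_mul_left (fun t => ψ t) hc, AddChar.sum_eq_zero_of_ne_one hψ, zero_mul]

/-- One half of the function. -/
noncomputable def phi (X Y T : ZMod p) (s : S2) : L :=
  if s.1 1 0 = 0 then 0 else ψ ((s.1 0 0 * X + s.1 1 1 * Y + T) / s.1 1 0)

/-- The function. -/
noncomputable def kern (X Y T : ZMod p) (s : S2) : L := phi ψ X Y T s + phi ψ X Y (-T) s

theorem phi_negSL (X Y T : ZMod p) (s : S2) : phi ψ X Y T (negSL s) = phi ψ X Y (-T) s := by
  by_cases h : s.1 1 0 = 0
  · simp [phi, coe_negSL, h]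
  · simp only [phi, coe_negSL, Matrix.neg_apply, neg_eq_zero, if_neg h]
    congr 1
    rw [div_neg, ← neg_div]
    ring_nf

theorem kern_negSL (X Y T : ZMod p) (s : S2) : kern ψ X Y T (negSL s) = kern ψ X Y T s := by
  rw [kern, kern, phi_negSL, phi_negSL, neg_neg, add_comm]

theorem phi_mul_up (X Y T σ : ZMod p) (s : S2) : phi ψ X Y T (s * up σ) = ψ (σ * Y) * phi ψ X Y T s := by
  by_cases h : s.1 1 0 = 0
  · simp [phi, coe_up, Matrix.SpecialLinearGroup.coe_mul, Matrix.mul_apply, Fin.sum_univ_two, h]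
  · simp [phi, coe_up, Matrix.SpecialLinearGroup.coe_mul, Matrix.mul_apply, Fin.sum_univ_two, h,
      ← AddChar.map_add_eq_mul]
    congr 1
    field_simp
    ring

theorem kern_mul_up (X Y T σ : ZMod p) (s : S2) : kern ψ X Y T (s * up σ) = ψ (σ * Y) * kern ψ X Y T s := by
  rw [kern, kern, phi_mul_up, phi_mul_up, mul_add]

theorem sum_kern_up (hψ : ψ ≠ 1) (X : ZMod p) {Y : ZMod p} (hY : Y ≠ 0) (T : ZMod p) (g : S2) :
    ∑ t : ZMod p, kern ψ X Y T (g * up t) = 0 := by
  simp only [kern_mul_up, ← Finset.sum_mul]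
  rw [sum_mul_left (fun t => ψ t) hY, AddChar.sum_eq_zero_of_ne_one hψ, zero_mul]

theorem sum_phi_low [CharP L 2] (hψ : ψ ≠ 1) {X : ZMod p} (hX : X ≠ 0) (Y T : ZMod p) (g : S2)
    (hne : ∀ d : ZMod p, X + d * T + d * d * Y ≠ 0) :
    ∑ t : ZMod p, phi ψ X Y T (g * low t) = if g.1 1 1 = 0 then 0 else ψ (g.1 0 1 * X / g.1 1 1) := by
  set a := g.1 0 0 with ha
  set b := g.1 0 1 with hb
  set c := g.1 1 0 with hc
  set d := g.1 1 1 with hd
  have hdet : a * d - b * c = 1 := by
    have := g.2
    rwa [det_fin_two] at this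
  have hval : ∀ t : ZMod p, phi ψ X Y T (g * low t) =
      if c + d * t = 0 then 0 else ψ (((a + b * t) * X + d * Y + T) / (c + d * t)) := fun t => by
    simp [phi, coe_low, Matrix.SpecialLinearGroup.coe_mul, Matrix.mul_apply, Fin.sum_univ_two, ← ha, ← hb, ← hc, ← hd]
  simp only [hval]
  by_cases hd0 : d = 0
  · rw [if_pos hd0]
    have hc0 : c ≠ 0 := by rintro e; rw [hd0, e] at hdet; simp at hdet
    have hb0 : b ≠ 0 := by rintro e; rw [hd0, e] at hdet; simp at hdet
    rw [← sum_shift ψ hψ (c := b * X / c) (div_ne_zero (mul_ne_zero hb0 hX) hc0) ((a * X + T) / c)]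
    refine Finset.sum_congr rfl fun t _ => ?_
    simp only [hd0, zero_mul, add_zero, if_neg hc0]
    congr 1
    field_simp
    ring
  · rw [if_neg hd0]
    let e : ZMod p ≃ ZMod p := (Equiv.mulRight₀ d hd0).trans (Equiv.addLeft c)
    rw [Fintype.sum_equiv e _ (fun u => if u = 0 then 0 else ψ ((X / d + d * Y + T) / u + b * X / d)) fun t => by
      rw [show e t = c + d * t from by simp [e, mul_comm]]
      by_cases h0 : c + d * t = 0
      · simp [h0]
      · rw [if_neg h0, if_neg h0]
        congr 1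
        rw [show a + b * t = (1 + b * (c + d * t)) / d from by rw [eq_div_iff hd0]; linear_combination hdet]
        generalize c + d * t = u at h0 ⊢
        field_simp
        ring]
    set M := X / d + d * Y + T with hM
    have hM0 : M ≠ 0 := by
      intro h0
      refine hne d ?_
      rw [hM] at h0
      field_simp at h0
      linear_combination h0
    have hinv : ∑ u : ZMod p, (if u = 0 then (0 : L) else ψ (M / u + b * X / d)) =
        ∑ u : ZMod p, ψ (u * M + b * X / d) - ψ (b * X / d) := by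
      rw [← Fintype.sum_equiv (Equiv.inv (ZMod p)) (fun u => if u = 0 then (0 : L) else ψ (u * M + b * X / d)) _
        fun u => by
          simp only [Equiv.inv_apply]
          by_cases hu : u = 0
          · simp [hu]
          · simp [hu, mul_comm]]
      rw [eq_sub_iff_add_eq, ← Finset.add_sum_erase Finset.univ _ (Finset.mem_univ (0 : ZMod p)),
        ← Finset.add_sum_erase Finset.univ (fun u => ψ (u * M + b * X / d)) (Finset.mem_univ (0 : ZMod p)),
        if_pos rfl, zero_add, zero_mul, zero_add, add_comm]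
      congr 1
      exact Finset.sum_congr rfl fun u hu => by rw [if_neg (Finset.ne_of_mem_erase hu)]
    rw [hinv, sum_shift ψ hψ hM0, CharTwo.sub_eq_add, zero_add]

theorem sum_kern_low [CharP L 2] (hψ : ψ ≠ 1) {X : ZMod p} (hX : X ≠ 0) (Y T : ZMod p) (g : S2)
    (hne : ∀ d : ZMod p, X + d * T + d * d * Y ≠ 0) :
    ∑ t : ZMod p, kern ψ X Y T (g * low t) = 0 := by
  simp only [kern, Finset.sum_add_distrib]
  rw [sum_phi_low ψ hψ hX Y T g hne, sum_phi_low ψ hψ hX Y (-T) g (fun d e => hne (-d) (by linear_combination e)),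
    CharTwo.add_self_eq_zero]

/-- Sums over the powers of an element of order `p` vanish. -/
theorem sum_kern_unipotent [CharP L 2] (hp : Odd p) (hψ : ψ ≠ 1) {X Y : ZMod p} (hX : X ≠ 0) (hY : Y ≠ 0) (T : ZMod p)
    (hne : ∀ d : ZMod p, X + d * T + d * d * Y ≠ 0) (g s : S2)
    (hs : orderOf (QuotientGroup.mk' (Subgroup.center S2) s) = p) :
    ∑ i ∈ Finset.range p, kern ψ X Y T (g * s ^ i) = 0 := by
  classical
  have hpow : QuotientGroup.mk' (Subgroup.center S2) (s ^ p) = 1 := by
    rw [map_pow]; conv_lhs => arg 2; rw [← hs]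
    exact pow_orderOf_eq_one _
  obtain ⟨a, ha⟩ := mk_eq_one_iff.mp hpow
  have ha1 : a = 1 ∨ a = -1 := by
    have := (s ^ p).2
    rw [ha] at this
    simpa using this
  -- pass to the lift of order p
  suffices key : ∀ M : S2, QuotientGroup.mk' (Subgroup.center S2) M ≠ 1 → M ^ p = 1 →
      ∑ i ∈ Finset.range p, kern ψ X Y T (g * M ^ i) = 0 by
    have hs1 : QuotientGroup.mk' (Subgroup.center S2) s ≠ 1 := fun e => by
      rw [e, orderOf_one] at hs; exact (Fact.out : p.Prime).one_lt.ne hs
    rcases ha1 with rfl | rfl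
    · exact key s hs1 (Subtype.ext (by rw [ha, one_smul]; rfl))
    · have hneg : negSL s ^ p = 1 := by
        apply Subtype.ext
        rw [Matrix.SpecialLinearGroup.coe_pow, coe_negSL, hp.neg_pow, ← Matrix.SpecialLinearGroup.coe_pow, ha,
          neg_smul, one_smul, neg_neg]
        rfl
      have h := key (negSL s) (by rwa [mk_negSL]) hneg
      rw [← h]
      refine Finset.sum_congr rfl fun i _ => ?_
      have hi : QuotientGroup.mk' (Subgroup.center S2) (g * negSL s ^ i) =
          QuotientGroup.mk' (Subgroup.center S2) (g * s ^ i) := by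
        rw [map_mul, map_mul, map_pow, map_pow, mk_negSL]
      rcases mk_eq_mk_iff.mp hi with e | e
      · rw [e]
      · rw [e, kern_negSL]
  intro M hM1 hMp
  set N : Matrix (Fin 2) (Fin 2) (ZMod p) := M.1 - 1 with hN
  have hNp : N ^ p = 0 := by
    rw [hN, sub_pow_char_of_commute p (Commute.one_right _), ← Matrix.SpecialLinearGroup.coe_pow, hMp]
    simp
  have hdetN : N.det = 0 := by
    have := congrArg Matrix.det hNp
    rw [Matrix.det_pow, Matrix.det_zero] at this
    exact (pow_eq_zero_iff (Fact.out : p.Prime).ne_zero).mp this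
  have hsq : N * N = N.trace • N := by
    rw [det_fin_two] at hdetN
    ext i j
    fin_cases i <;> fin_cases j <;>
      simp [Matrix.mul_apply, Fin.sum_univ_two, Matrix.trace_fin_two] <;>
      first
        | linear_combination -hdetN
        | ring
  have hNne : N ≠ 0 := fun e => hM1 (mk_eq_one_iff.mpr ⟨1, by rw [one_smul]; exact sub_eq_zero.mp e⟩)
  have htr : N.trace = 0 := by
    have hk : ∀ k : ℕ, N ^ (k + 1) = N.trace ^ k • N := by
      intro k
      induction k with
      | zero => simp
      | succ k ih => rw [pow_succ, ih, smul_mul_assoc, hsq, smul_smul, ← pow_succ]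
    obtain ⟨k, hk'⟩ := Nat.exists_eq_add_of_le' (Fact.out : p.Prime).one_lt.le
    replace hNp : N ^ (k + 1) = 0 := (congrArg (fun n : ℕ => N ^ n) hk').symm.trans hNp
    rw [hk k] at hNp
    rcases smul_eq_zero.mp hNp with h | h
    · by_cases hk0 : k = 0
      · have := (Fact.out : p.Prime).one_lt; omega
      · exact (pow_eq_zero_iff hk0).mp h
    · exact absurd h hNne
  rw [Matrix.trace_fin_two] at htr
  rw [det_fin_two] at hdetN
  have e00 : M.1 0 0 = 1 + N 0 0 := by simp [hN]
  have e01 : M.1 0 1 = N 0 1 := by simp [hN]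
  have e10 : M.1 1 0 = N 1 0 := by simp [hN]
  have e11 : M.1 1 1 = 1 + N 1 1 := by simp [hN]
  by_cases hc : N 1 0 = 0
  · have h00 : N 0 0 = 0 := by
      have : N 0 0 * N 0 0 = 0 := by linear_combination N 0 0 * htr - hdetN - N 0 1 * hc
      exact mul_self_eq_zero.mp this
    have h11 : N 1 1 = 0 := by linear_combination htr - h00
    have hM : M = up (N 0 1) := by
      apply Subtype.ext; ext i j
      fin_cases i <;> fin_cases j <;> simp [coe_up, e00, e01, e10, e11, h00, h11, hc]
    have hb : N 0 1 ≠ 0 := by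
      intro e; apply hNne; ext i j
      fin_cases i <;> fin_cases j <;> simp [h00, h11, hc, e]
    simp only [hM, up_pow]
    rw [sum_range_cast (fun t => kern ψ X Y T (g * up (t * N 0 1))), sum_mul_left (fun t => kern ψ X Y T (g * up t)) hb]
    exact sum_kern_up ψ hψ X hY T g
  · set c := N 1 0 with hc'
    set σ := N 0 0 / c with hσ
    have hM : M = up σ * low c * (up σ)⁻¹ := by
      rw [eq_mul_inv_iff_mul_eq]
      apply Subtype.ext; ext i j
      fin_cases i <;> fin_cases j <;>
        simp [coe_up, coe_low, Matrix.mul_apply, Fin.sum_univ_two, e00, e01, e10, e11, hσ]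
      · field_simp
      · field_simp
        linear_combination -hdetN + N 0 0 * htr
      · field_simp
        linear_combination htr
    have hinv : (up σ)⁻¹ = up (-σ) := inv_eq_of_mul_eq_one_right (by rw [← up_add, add_neg_cancel, up_zero])
    simp only [hM, conj_pow, low_pow]
    simp only [hinv, ← mul_assoc, kern_mul_up, ← Finset.mul_sum]
    rw [sum_range_cast (fun t => kern ψ X Y T (g * up σ * low (t * c))),
      sum_mul_left (fun t => kern ψ X Y T (g * up σ * low t)) hc, sum_kern_low ψ hψ hX Y T _ hne, mul_zero]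

/-- `x ↦ x² - K` does not take squares only. -/
theorem exists_nonsquare (hp : Odd p) {K : ZMod p} (hK : K ≠ 0) : ∃ m : ZMod p, ¬ IsSquare (m * m - K) := by
  by_contra h
  push Not at h
  have hall : ∀ n : ℕ, IsSquare ((n : ZMod p) * -K) := by
    intro n
    induction n with
    | zero => simp
    | succ n ih =>
      obtain ⟨r, hr⟩ := ih
      have := h r
      convert this using 1
      rw [← hr]; push_cast; ring
  have h2 : ringChar (ZMod p) ≠ 2 := by
    rw [ZMod.ringChar_zmod_n]; rintro rfl; exact absurd hp (by decide)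
  obtain ⟨x, hx⟩ := FiniteField.exists_nonsquare h2
  apply hx
  have := hall (x / -K).val
  rwa [ZMod.natCast_rightInverse, div_mul_cancel₀ x (neg_ne_zero.mpr hK)] at this

theorem psi_pair_ne [CharP L 2] (hψ : Function.Injective ψ) {u v : ZMod p} (h1 : u ≠ v) (h2 : u + v ≠ 0) :
    ψ u + ψ (-u) + (ψ v + ψ (-v)) ≠ 0 := by
  intro h
  have hinv : ∀ w, ψ w * ψ (-w) = 1 := fun w => by rw [← AddChar.map_add_eq_mul, add_neg_cancel, AddChar.map_zero_eq_one]
  have hs : ψ u + ψ (-u) = ψ v + ψ (-v) := CharTwo.add_eq_zero.mp h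
  have h0 : (ψ u - ψ v) * (ψ u * ψ v - 1) = 0 := by
    linear_combination ψ u * ψ v * hs - ψ v * hinv u + ψ u * hinv v
  rcases mul_eq_zero.mp h0 with e | e
  · exact h1 (hψ (sub_eq_zero.mp e))
  · rw [sub_eq_zero, ← AddChar.map_add_eq_mul, ← AddChar.map_zero_eq_one ψ] at e
    exact h2 (hψ e)

theorem sum_kloosterman [CharP L 2] (hp : Odd p) {e : ZMod p} (he : e ≠ 0) :
    ∑ z ∈ Finset.univ.filter (fun z : ZMod p => z ≠ 0), ψ (z + e * e / z) = ψ (2 * e) + ψ (-(2 * e)) := by
  classical
  have h2 : (2 : ZMod p) ≠ 0 := by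
    intro h
    have : ((2 : ℕ) : ZMod p) = 0 := by exact_mod_cast h
    rw [ZMod.natCast_eq_zero_iff, Nat.prime_dvd_prime_iff_eq (Fact.out : p.Prime) Nat.prime_two] at this
    subst this; exact absurd hp (by decide)
  have hne : e ≠ -e := fun h => he (by
    have : (2 : ZMod p) * e = 0 := by linear_combination h
    exact (mul_eq_zero.mp this).resolve_left h2)
  have hsub : ({e, -e} : Finset (ZMod p)) ⊆ Finset.univ.filter (fun z : ZMod p => z ≠ 0) := by
    intro z hz; simp at hz; rcases hz with rfl | rfl <;> simp [he]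
  rw [← Finset.sum_sdiff hsub, Finset.sum_pair hne]
  have h0 : ∑ z ∈ Finset.univ.filter (fun z : ZMod p => z ≠ 0) \ {e, -e}, ψ (z + e * e / z) = 0 := by
    refine Finset.sum_involution (fun z _ => e * e / z) (fun z hz => ?_) (fun z hz _ => ?_) (fun z hz => ?_) (fun z hz => ?_)
    · simp at hz
      rw [show e * e / z + e * e / (e * e / z) = z + e * e / z by
        field_simp; ring, CharTwo.add_self_eq_zero]
    · simp at hz
      intro h
      rw [div_eq_iff hz.1] at h
      rcases mul_self_eq_mul_self_iff.mp h.symm with h' | h'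
      · exact hz.2.1 h'
      · exact hz.2.2 h'
    · simp at hz ⊢
      refine ⟨⟨he, hz.1⟩, fun h => hz.2.1 ?_, fun h => hz.2.2 ?_⟩
      · rw [div_eq_iff hz.1] at h; exact (mul_left_cancel₀ he h).symm
      · rw [div_eq_iff hz.1, neg_mul_comm] at h
        have := mul_left_cancel₀ he h
        linear_combination this
    · simp at hz
      field_simp
  rw [h0, zero_add]
  congr 1 <;> congr 1 <;> field_simp <;> ring

/-- The torus of discriminant `δ`. -/
def torus (δ : ZMod p) : Subgroup S2 where
  carrier := {s | s.1 0 0 = s.1 1 1 ∧ s.1 0 1 = δ * s.1 1 0}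
  one_mem' := by simp
  mul_mem' := by
    rintro s t ⟨h1, h2⟩ ⟨h3, h4⟩
    simp [Matrix.mul_apply, Fin.sum_univ_two, h1, h2, h3, h4]
    constructor <;> ring
  inv_mem' := by
    rintro s ⟨h1, h2⟩
    simp [Matrix.SpecialLinearGroup.coe_inv, Matrix.adjugate_fin_two, h1, h2]

noncomputable instance (δ : ZMod p) : Fintype (torus δ) := Fintype.ofFinite _

/-- The torus inside a field containing a square root of `δ`. -/
def torusHom {E : Type*} [Field E] [Algebra (ZMod p) E] (δ : ZMod p) (r : E) (hr : r * r = algebraMap (ZMod p) E δ) :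
    torus δ →* E where
  toFun s := algebraMap (ZMod p) E (s.1.1 0 0) + algebraMap (ZMod p) E (s.1.1 1 0) * r
  map_one' := by simp
  map_mul' s t := by
    simp only [Subgroup.coe_mul, Matrix.SpecialLinearGroup.coe_mul, Matrix.mul_apply, Fin.sum_univ_two]
    rw [s.2.2, ← s.2.1]
    simp only [map_add, map_mul, ← hr]
    ring

theorem torusHom_injective {E : Type*} [Field E] [Algebra (ZMod p) E] (hp : Odd p) (δ : ZMod p) (hδ : δ ≠ 0) (r : E)
    (hr : r * r = algebraMap (ZMod p) E δ) : Function.Injective (torusHom δ r hr) := by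
  have h2 : (2 : E) ≠ 0 := by
    rw [← map_ofNat (algebraMap (ZMod p) E) 2, Ne, map_eq_zero_iff _ (algebraMap (ZMod p) E).injective]
    intro h
    have : ((2 : ℕ) : ZMod p) = 0 := by exact_mod_cast h
    rw [ZMod.natCast_eq_zero_iff, Nat.prime_dvd_prime_iff_eq (Fact.out : p.Prime) Nat.prime_two] at this
    subst this; exact absurd hp (by decide)
  have hr0 : r ≠ 0 := fun e => hδ ((algebraMap (ZMod p) E).injective (by rw [map_zero, ← hr, e, mul_zero]))
  rintro ⟨⟨s, hs⟩, h1, h2s⟩ ⟨⟨t, ht⟩, h3, h4⟩ h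
  set F := algebraMap (ZMod p) E
  simp only [torusHom, MonoidHom.coe_mk, OneHom.coe_mk] at h
  simp only at h1 h2s h3 h4
  rw [det_fin_two, ← h1, h2s] at hs
  rw [det_fin_two, ← h3, h4] at ht
  have hsE : (F (s 0 0) + F (s 1 0) * r) * (F (s 0 0) - F (s 1 0) * r) = 1 := by
    have := congrArg F hs
    simp only [map_sub, map_mul, map_one] at this
    linear_combination this - F (s 1 0) * F (s 1 0) * hr
  have htE : (F (t 0 0) + F (t 1 0) * r) * (F (t 0 0) - F (t 1 0) * r) = 1 := by
    have := congrArg F ht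
    simp only [map_sub, map_mul, map_one] at this
    linear_combination this - F (t 1 0) * F (t 1 0) * hr
  have h' : F (s 0 0) - F (s 1 0) * r = F (t 0 0) - F (t 1 0) * r := by
    rw [← h] at htE
    exact mul_left_cancel₀ (left_ne_zero_of_mul_eq_one hsE) (hsE.trans htE.symm)
  have e10 : s 1 0 = t 1 0 := F.injective (mul_right_cancel₀ hr0 (mul_left_cancel₀ h2 (by linear_combination h - h')))
  have e00 : s 0 0 = t 0 0 := F.injective (mul_left_cancel₀ h2 (by linear_combination h + h'))
  refine Subtype.ext (Subtype.ext ?_)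
  ext i j
  fin_cases i <;> fin_cases j <;> simp [e00, e10, h2s, h4, ← h1, ← h3]

variable (p) in
theorem exists_sqrt (δ : ZMod p) :
    ∃ (E : Type) (_ : Field E) (_ : Algebra (ZMod p) E) (r : E), r * r = algebraMap (ZMod p) E δ := by
  obtain ⟨r, hr⟩ := IsAlgClosed.exists_eq_mul_self (algebraMap (ZMod p) (AlgebraicClosure (ZMod p)) δ)
  exact ⟨AlgebraicClosure (ZMod p), inferInstance, inferInstance, r, hr.symm⟩

theorem sum_phi_torus [CharP L 2] (hp : Odd p) {δ e m : ZMod p} (hδ : δ ≠ 0) (he : e ≠ 0) :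
    Fintype.card (torus δ) = 2 + (Finset.univ.filter (fun z : ZMod p => z ≠ 0 ∧ z * z ≠ δ)).card ∧
    ∑ s : torus δ, phi ψ ((1 + e * e / δ + m) / 2) ((1 + e * e / δ - m) / 2) (1 - e * e / δ) s.1 =
      ∑ z ∈ Finset.univ.filter (fun z : ZMod p => z ≠ 0 ∧ z * z ≠ δ), ψ (z + e * e / z) := by
  classical
  have h2 : (2 : ZMod p) ≠ 0 := by
    intro h
    have : ((2 : ℕ) : ZMod p) = 0 := by exact_mod_cast h
    rw [ZMod.natCast_eq_zero_iff, Nat.prime_dvd_prime_iff_eq (Fact.out : p.Prime) Nat.prime_two] at this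
    subst this; exact absurd hp (by decide)
  have hdet : ∀ s : torus δ, s.1.1 0 0 * s.1.1 0 0 - δ * (s.1.1 1 0 * s.1.1 1 0) = 1 := by
    rintro ⟨⟨s, hs⟩, h1, h2'⟩
    simp only at h1 h2'
    rw [det_fin_two, ← h1, h2'] at hs
    linear_combination hs
  let A := Finset.univ.filter (fun s : torus δ => s.1.1 1 0 ≠ 0)
  let Z := Finset.univ.filter (fun z : ZMod p => z ≠ 0 ∧ z * z ≠ δ)
  let inv : ∀ z ∈ Z, torus δ := fun z hz => ⟨⟨!![(z * z + δ) / (z * z - δ), δ * (2 * z / (z * z - δ)); 2 * z / (z * z - δ), (z * z + δ) / (z * z - δ)], by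
      have : z * z - δ ≠ 0 := sub_ne_zero.mpr (Finset.mem_filter.mp hz).2.2
      rw [det_fin_two_of, div_mul_div_comm, mul_assoc δ, div_mul_div_comm, ← mul_div_assoc, div_sub_div_same,
        div_eq_one_iff_eq (mul_ne_zero this this)]
      ring⟩, by simp, by simp⟩
  have hne1 : ∀ s ∈ A, s.1.1 0 0 + 1 ≠ 0 := by
    intro s hs h
    have hb := (Finset.mem_filter.mp hs).2
    have := hdet s
    rw [eq_neg_of_add_eq_zero_left h] at this
    have h0 : δ * (s.1.1 1 0 * s.1.1 1 0) = 0 := by linear_combination -this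
    simp [hδ, hb] at h0
  let f : ∀ s ∈ A, ZMod p := fun s _ => (s.1.1 0 0 + 1) / s.1.1 1 0
  have hf : ∀ s hs, f s hs ∈ Z := by
    intro s hs
    have hb := (Finset.mem_filter.mp hs).2
    refine Finset.mem_filter.mpr ⟨Finset.mem_univ _, div_ne_zero (hne1 s hs) hb, fun h => hne1 s hs ?_⟩
    simp only [f] at h
    field_simp at h
    have := hdet s
    have h0 : 2 * (s.1.1 0 0 + 1) = 0 := by linear_combination h - this
    exact (mul_eq_zero.mp h0).resolve_left h2
  have hinv : ∀ z hz, inv z hz ∈ A := by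
    intro z hz
    have h := (Finset.mem_filter.mp hz).2
    simp [A, inv, h2, h.1, sub_ne_zero.mpr h.2]
  have hl : ∀ s hs, inv (f s hs) (hf s hs) = s := by
    intro s hs
    have hb := (Finset.mem_filter.mp hs).2
    have hz := sub_ne_zero.mpr (Finset.mem_filter.mp (hf s hs)).2.2
    have hd := hdet s
    obtain ⟨⟨m', hm'⟩, h1, h2'⟩ := s
    simp only [f] at hz ⊢
    simp only at h1 h2' hb hd
    have hq : (m' 0 0 + 1) / m' 1 0 * ((m' 0 0 + 1) / m' 1 0) - δ = 2 * (m' 0 0 + 1) / (m' 1 0 * m' 1 0) := by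
      field_simp
      linear_combination hd
    have hn := hne1 ⟨⟨m', hm'⟩, h1, h2'⟩ hs
    simp only at hn
    apply Subtype.ext; apply Subtype.ext
    ext i j
    fin_cases i <;> fin_cases j <;> simp [inv, hq, h2'] <;> field_simp
    all_goals first
      | linear_combination -hd
      | (rw [← h1]; linear_combination -hd)
      | ring1
      | simp
  have hr : ∀ z hz, f (inv z hz) (hinv z hz) = z := by
    intro z hz
    have h := (Finset.mem_filter.mp hz).2
    have : z * z - δ ≠ 0 := sub_ne_zero.mpr h.2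
    simp [f, inv]
    rw [div_add_one this, div_div_div_cancel_right₀ this, div_eq_iff (mul_ne_zero h2 h.1)]
    ring
  refine ⟨?_, ?_⟩
  · have hcard : A.card = Z.card := Finset.card_bij' f inv hf hinv hl hr
    have hB : (Finset.univ.filter (fun s : torus δ => ¬ s.1.1 1 0 ≠ 0)).card = 2 := by
      rw [Finset.card_eq_two]
      refine ⟨1, ⟨negSL 1, by simp [torus, coe_negSL]⟩, fun e => ?_, ?_⟩
      · have := congrArg (fun s : torus δ => s.1.1 0 0) e
        simp [coe_negSL] at this
        exact h2 (by linear_combination this)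
      · ext s
        simp only [Finset.mem_filter, Finset.mem_univ, true_and, not_not, Finset.mem_insert, Finset.mem_singleton]
        constructor
        · intro hb
          have hd := hdet s
          rw [hb, mul_zero, mul_zero, sub_zero, mul_self_eq_one_iff] at hd
          obtain ⟨⟨m', hm'⟩, h1, h2'⟩ := s
          simp only at h1 h2' hb hd
          rcases hd with hd | hd
          · left; apply Subtype.ext; apply Subtype.ext; ext i j
            fin_cases i <;> fin_cases j <;> simp [hd, hb, h2', ← h1]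
          · right; apply Subtype.ext; apply Subtype.ext; ext i j
            fin_cases i <;> fin_cases j <;> simp [coe_negSL, hd, hb, h2', ← h1]
        · rintro (rfl | rfl) <;> simp [coe_negSL]
    rw [← Finset.card_univ, ← Finset.card_filter_add_card_filter_not (fun s : torus δ => s.1.1 1 0 ≠ 0)]
    change A.card + _ = 2 + Z.card
    omega
  · rw [← Finset.sum_filter_add_sum_filter_not Finset.univ (fun s : torus δ => s.1.1 1 0 ≠ 0),
      Finset.sum_eq_zero (s := Finset.univ.filter (fun s : torus δ => ¬ s.1.1 1 0 ≠ 0)) (fun s hs => by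
        simp only [Finset.mem_filter, not_not] at hs; simp [phi, hs.2]), add_zero]
    refine Finset.sum_bij' f inv hf hinv hl hr fun s hs => ?_
    have hb := (Finset.mem_filter.mp hs).2
    have hn := hne1 s hs
    have hd := hdet s
    rw [phi, if_neg hb]
    congr 1
    rw [← s.2.1]
    simp only [f]
    field_simp
    linear_combination (2 * e * e) * hd

/-- For `δ = 1` and for non-square `δ` there are a function killed on unipotent cosets and an element of
the largest torus order, on whose powers its sum is non-zero. -/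
theorem exists_witness [CharP L 2] (hp5 : 5 ≤ p) (hψ : Function.Injective ψ) {δ e : ZMod p} (hδ : δ ≠ 0) (he : e ≠ 0)
    (hsum : ∑ z ∈ Finset.univ.filter (fun z : ZMod p => z ≠ 0 ∧ z * z ≠ δ), ψ (z + e * e / z) ≠ 0) :
    ∃ (X Y T : ZMod p) (y : S2), X ≠ 0 ∧ Y ≠ 0 ∧ (∀ d : ZMod p, X + d * T + d * d * Y ≠ 0) ∧
      2 * orderOf (QuotientGroup.mk' (Subgroup.center S2) y) =
        2 + (Finset.univ.filter (fun z : ZMod p => z ≠ 0 ∧ z * z ≠ δ)).card ∧
      ∑ i ∈ Finset.range (orderOf (QuotientGroup.mk' (Subgroup.center S2) y)), kern ψ X Y T (y ^ i) ≠ 0 := by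
  classical
  have hp : Odd p := (Fact.out : p.Prime).odd_of_ne_two (by omega)
  have h2 : (2 : ZMod p) ≠ 0 := by
    intro h
    have : ((2 : ℕ) : ZMod p) = 0 := by exact_mod_cast h
    rw [ZMod.natCast_eq_zero_iff, Nat.prime_dvd_prime_iff_eq (Fact.out : p.Prime) Nat.prime_two] at this
    omega
  set S := 1 + e * e / δ with hS
  set T := 1 - e * e / δ with hT
  obtain ⟨m, hm⟩ := exists_nonsquare hp (K := 4 * (e * e) / δ)
    (div_ne_zero (mul_ne_zero (by rw [show (4 : ZMod p) = 2 * 2 by norm_num]; exact mul_ne_zero h2 h2) (mul_ne_zero he he)) hδ)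
  set X := (S + m) / 2 with hX'
  set Y := (S - m) / 2 with hY'
  have hD : T * T - 4 * X * Y = m * m - 4 * (e * e) / δ := by
    rw [hX', hY', hS, hT]; field_simp; ring
  rw [← hD] at hm
  have hX : X ≠ 0 := fun h => hm ⟨T, by rw [h]; ring⟩
  have hY : Y ≠ 0 := fun h => hm ⟨T, by rw [h]; ring⟩
  have hne : ∀ d : ZMod p, X + d * T + d * d * Y ≠ 0 := fun d h =>
    hm ⟨2 * Y * d + T, by linear_combination -4 * Y * h⟩
  obtain ⟨E, _, _, r, hr⟩ := exists_sqrt p δ
  haveI : IsCyclic (torus δ) :=
    isCyclic_of_injective_ringHom (torusHom δ r hr) (torusHom_injective hp δ hδ r hr)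
  obtain ⟨y, hy⟩ := IsCyclic.exists_monoid_generator (α := torus δ)
  obtain ⟨hcard, hphi⟩ := sum_phi_torus (L := L) ψ hp (m := m) hδ he
  set n := orderOf y with hn
  have hny : n = Fintype.card (torus δ) := by
    rw [hn, orderOf_eq_card_of_forall_mem_zpowers fun x => ?_, Nat.card_eq_fintype_card]
    obtain ⟨k, hk⟩ := hy x
    exact ⟨k, by simpa using hk⟩
  -- the central involution of the torus
  let neg1 : torus δ := ⟨negSL 1, by simp [torus, coe_negSL]⟩
  have hneg1 : neg1 ≠ 1 := fun h => by
    have := congrArg (fun s : torus δ => s.1.1 0 0) h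
    simp [neg1, coe_negSL] at this
    exact h2 (by linear_combination -this)
  have hneg2 : neg1 ^ 2 = 1 := by
    apply Subtype.ext; apply Subtype.ext
    simp [neg1, coe_negSL, pow_two]
  obtain ⟨k, hk⟩ : 2 ∣ n := by
    rw [hny, ← Nat.card_eq_fintype_card]
    exact (dvd_of_eq (orderOf_eq_prime (p := 2) hneg2 hneg1).symm).trans (orderOf_dvd_natCard neg1)
  have huniq : ∀ s : torus δ, s ^ 2 = 1 → s = 1 ∨ s = neg1 := by
    intro s hs
    have hθ := torusHom_injective hp δ hδ r hr
    have h1 : torusHom δ r hr s * torusHom δ r hr s = 1 := by rw [← map_mul, ← pow_two, hs, map_one]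
    rcases mul_self_eq_one_iff.mp h1 with h | h
    · exact Or.inl (hθ (by rw [h, map_one]))
    · exact Or.inr (hθ (by rw [h]; simp [torusHom, neg1, coe_negSL]))
  have hk0 : 0 < k := by have := orderOf_pos y; omega
  have hyk : y ^ k = neg1 := by
    rcases huniq (y ^ k) (by rw [← pow_mul, mul_comm, ← hk, hn, pow_orderOf_eq_one]) with h | h
    · have := Nat.le_of_dvd hk0 (hn ▸ orderOf_dvd_of_pow_eq_one h); omega
    · exact h
  have hord : orderOf (QuotientGroup.mk' (Subgroup.center S2) y.1) = k := by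
    rw [orderOf_eq_iff hk0]
    refine ⟨?_, fun i hi hi0 h => ?_⟩
    · rw [← map_pow, ← Subgroup.coe_pow, hyk, mk_negSL, map_one]
    · rw [← map_pow, ← map_one (QuotientGroup.mk' (Subgroup.center S2)), mk_eq_mk_iff, ← Subgroup.coe_pow] at h
      have h' : (y ^ i) ^ 2 = 1 := by
        rcases h with h | h
        · rw [show y ^ i = 1 from Subtype.ext h, one_pow]
        · rw [show y ^ i = neg1 from Subtype.ext h, hneg2]
      rw [← pow_mul] at h'
      have := Nat.le_of_dvd (by omega) (hn ▸ orderOf_dvd_of_pow_eq_one h')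
      omega
  refine ⟨X, Y, T, y.1, hX, hY, hne, ?_, ?_⟩
  · rw [hord, ← hcard, ← hny, hk]
  · rw [hord]
    have : ∑ i ∈ Finset.range k, kern ψ X Y T ((y : S2) ^ i) = ∑ s : torus δ, phi ψ X Y T s.1 := by
      have hpos : ∑ s : torus δ, phi ψ X Y T s.1 = ∑ i ∈ Finset.range n, phi ψ X Y T ((y : S2) ^ i) := by
        symm
        refine Finset.sum_bij (fun i _ => y ^ i) (fun i _ => Finset.mem_univ _) (fun i hi j hj h => ?_) (fun s _ => ?_) (fun i _ => by simp)
        · exact pow_injOn_Iio_orderOf (Finset.mem_range.mp hi) (Finset.mem_range.mp hj) h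
        · obtain ⟨i, hi⟩ := hy s
          exact ⟨i % n, Finset.mem_range.mpr (Nat.mod_lt _ (orderOf_pos y)), (pow_mod_orderOf y i).trans hi⟩
      rw [hpos, hk, two_mul, Finset.sum_range_add, ← Finset.sum_add_distrib]
      refine Finset.sum_congr rfl fun i _ => ?_
      rw [kern, ← phi_negSL]
      congr 2
      rw [pow_add, show (y : S2) ^ k = (neg1 : S2) from by rw [← hyk]; simp]
      apply Subtype.ext
      simp [neg1, coe_negSL]
    rw [this, hphi]
    exact hsum

end CfsgLib.Recog.Horo
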