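import Cfsg.Agent.Lib.Recog.IcosahedralSevenTable
import Mathlib.Data.Matrix.Mul
import Mathlib.Algebra.BigOperators.Fin

/-! Verification of the tables for `2.S₅` over `ZMod 7`. -/

namespace CfsgLib.Recog.IcoSeven

/-- The element with a given index. -/
def el (i : ℕ) : Matrix (Fin 4) (Fin 4) (ZMod 7) := dec (codes.getD i 0)

/-- Its list of powers. -/
def chain (i : ℕ) : List ℕ := chains.getD i []

theorem succ_check : ∀ i : Fin 240, succA.getD i 0 < 240 ∧ succB.getD i 0 < 240 ∧
    el i * dec codeA = el (succA.getD i 0) ∧ el i * dec codeB = el (succB.getD i 0) := by decide +kernel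

theorem chain_length : ∀ i : Fin 240, i.1 = 0 ∨ (chain i).length ∈ [2, 3, 4, 5, 6, 8, 10, 12] := by decide +kernel

theorem chain_step : ∀ i : Fin 240, ∀ k : Fin (chain i).length,
    el ((chain i).getD k 0) * el i = el ((chain i).getD ((k.1 + 1) % (chain i).length) 0) := by decide +kernel

theorem chain_ne_one : ∀ i : Fin 240, ∀ k : Fin (chain i).length, k.1 = 0 ∨ el ((chain i).getD k 0) ≠ el 0 := by
  decide +kernel

theorem chain_sum : ∀ i : Fin 240, i.1 = 0 ∨ ∀ r c : Fin 4,
    ((chain i).map (fun j => el j r c)).sum = 0 := by decide +kernel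

theorem chain_half : ∀ i : Fin 240, i.1 = 0 ∨ (chain i).length % 2 = 1 ∨
    el ((chain i).getD ((chain i).length / 2) 0) = -el 0 := by decide +kernel

theorem chain_zero : ∀ i : Fin 240, (chain i).getD 0 0 = 0 := by decide +kernel

theorem el_zero : el 0 = 1 := by decide +kernel

theorem codeA_pow : dec codeA * dec codeA * dec codeA * dec codeA = -1 := by decide +kernel

theorem codeA_pow_eight : dec codeA * dec codeA * dec codeA * dec codeA * (dec codeA * dec codeA * dec codeA * dec codeA) = 1 := by
  rw [codeA_pow]; decide +kernel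

theorem codeB_pow_three : dec codeB * (dec codeB * dec codeB) = 1 ∧ dec codeB * dec codeB * dec codeB = 1 := by decide +kernel

end CfsgLib.Recog.IcoSeven
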