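import Cfsg.Agent.Lib.Recog.JankoOneTable
import Cfsg.Prelude.Def_Spor_J1
import Mathlib.Data.Matrix.Basic

/-! Kernel evaluation of the checks on the tables for the first Janko group. -/

set_option autoImplicit false
set_option maxRecDepth 20000
set_option Elab.async false

namespace CfsgLib.Recog.JankoOne

/-- An element of `K`. -/
def kEl (i : ℕ) : M7 := M7.decode (kTree.get 512 i)

/-- A coset representative. -/
def rEl (j : ℕ) : M7 := M7.decode (rTree.get 256 j)

/-- One generator step in `K`. -/
def kStep (i l : ℕ) : ℕ := if l = 1 then sATree.get 512 i else sBTree.get 512 i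

/-- Following a word in `K`. -/
def kFold (i : ℕ) (w : List ℕ) : ℕ := w.foldl kStep i

/-- Digits to a word. -/
def digitsThree : ℕ → ℕ → List ℕ
  | 0, _ => []
  | f + 1, n => if n = 0 then [] else (n % 3) :: digitsThree f (n / 3)

/-- The word of an element. -/
def kWord (i : ℕ) : List ℕ := digitsThree 22 (wTree.get 512 i)

/-- The double coset representative. -/
def dEl (d : ℕ) : M7 := rEl (dList.getD d 0)

/-- Power by squaring, with fuel. -/
def M7.powAux : ℕ → M7 → M7 → ℕ → M7
  | 0, acc, _, _ => acc
  | f + 1, acc, g, n => if n = 0 then acc else M7.powAux f (if n % 2 = 1 then acc.mul g else acc) (g.mul g) (n / 2)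

/-- The identity code. -/
def oneM : M7 := kEl 0

/-- The power. -/
def M7.powNat (g : M7) (n : ℕ) : M7 := M7.powAux 6 oneM g n

/-- Evaluation of a word in the generators of the whole group. -/
def wordEval : List ℕ → M7
  | [] => oneM
  | l :: w => (if l = 1 then M7.decode codeX else M7.decode codeY).mul (wordEval w)

/-- The orbit lists of the five double cosets. -/
def hLists : List (List ℕ) := [hList0, hList1, hList2, hList3, hList4]

/-- The representatives of the five double cosets. -/
def repLists : List (List ℕ) := [repList0, repList1, repList2, repList3, repList4]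

/-- The orbit tables of the five double cosets. -/
def orbTrees : List NTree := [orbTree0, orbTree1, orbTree2, orbTree3, orbTree4]

/-- The allowed orders. -/
def allowedOrders : List ℕ := [1, 2, 3, 5, 6, 7, 10, 11, 15, 19]

theorem check_succ : ((List.range 660).all fun i =>
    decide (sATree.get 512 i < 660) && decide (sBTree.get 512 i < 660) &&
    ((kEl i).mul (M7.decode codeKA)).beq (kEl (sATree.get 512 i)) &&
    ((kEl i).mul (M7.decode codeKB)).beq (kEl (sBTree.get 512 i))) = true := by decide +kernel

theorem check_word : ((List.range 660).all fun i =>
    decide (kFold 0 (kWord i) = i) && (kWord i).all (fun l => decide (l = 1 ∨ l = 2))) = true := by decide +kernel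

theorem check_base : (((M7.decode codeKA).mul (M7.decode codeKA)).beq oneM &&
    ((M7.decode codeKB).mul ((M7.decode codeKB).mul (M7.decode codeKB))).beq oneM &&
    ((M7.decode codeX).powNat 7).beq oneM && ((M7.decode codeY).powNat 5).beq oneM &&
    (rEl 0).beq oneM) = true := by decide +kernel

theorem check_table : ((List.range 266).all fun j =>
    decide (tXTree.get 256 j / 1000 < 266) && decide (tXTree.get 256 j % 1000 < 660) &&
    decide (tYTree.get 256 j / 1000 < 266) && decide (tYTree.get 256 j % 1000 < 660) &&
    ((rEl j).mul (M7.decode codeX)).beq ((kEl (tXTree.get 256 j % 1000)).mul (rEl (tXTree.get 256 j / 1000))) &&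
    ((rEl j).mul (M7.decode codeY)).beq ((kEl (tYTree.get 256 j % 1000)).mul (rEl (tYTree.get 256 j / 1000)))) = true := by
  decide +kernel

theorem check_cert : ((List.range 266).all fun j =>
    decide (certTree.get 256 j / 1000000 < 5) && decide (certTree.get 256 j / 1000 % 1000 < 660) &&
    decide (certTree.get 256 j % 1000 < 660) &&
    (rEl j).beq (((kEl (certTree.get 256 j % 1000)).mul (dEl (certTree.get 256 j / 1000000))).mul
      (kEl (certTree.get 256 j / 1000 % 1000)))) = true := by decide +kernel

/-- The check of one double coset: pairs, orbits, orders. -/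
def checkDouble (d : ℕ) : Bool :=
  let hs := hLists.getD d []
  let rs := repLists.getD d []
  let t := orbTrees.getD d (.leaf 0)
  hs.all (fun e => decide (e / 1000 < 660) && decide (e % 1000 < 660) &&
    ((kEl (e / 1000)).mul (dEl d)).beq ((dEl d).mul (kEl (e % 1000)))) &&
  rs.all (fun e => decide (e / 100 < 660) && decide (e % 100 ∈ allowedOrders) &&
    (((dEl d).mul (kEl (e / 100))).powNat (e % 100)).beq oneM) &&
  (List.range 660).all (fun m =>
    decide (t.get 512 m / 1000 < rs.length) && decide (t.get 512 m % 1000 < hs.length) &&
    decide (kFold (hs.getD (t.get 512 m % 1000) 0 % 1000) (kWord m) =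
      kFold (rs.getD (t.get 512 m / 1000) 0 / 100) (kWord (hs.getD (t.get 512 m % 1000) 0 / 1000))))

theorem check_double_zero : checkDouble 0 = true := by decide +kernel

theorem check_double_one : checkDouble 1 = true := by decide +kernel

theorem check_double_two : checkDouble 2 = true := by decide +kernel

theorem check_double_three : checkDouble 3 = true := by decide +kernel

theorem check_double_four : checkDouble 4 = true := by decide +kernel

theorem check_double : ((List.range 5).all checkDouble) = true := by
  simp [List.range_succ, check_double_zero, check_double_one, check_double_two, check_double_three, check_double_four]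

theorem check_witness : (witnessList.all fun e =>
    let g := wordEval (digitsThree 22 (e / 100))
    decide (0 < e % 100) && (g.powNat (e % 100)).beq oneM &&
    (List.range (e % 100)).all (fun i => decide (i = 0) || decide ((g.powNat i).toMat ≠ 1))) = true := by decide +kernel

theorem oneM_toMat : oneM.toMat = 1 := by decide +kernel

theorem codeX_eq : M7.toMat (M7.decode codeX) = Cfsg.jankoMatrixX := by decide +kernel

theorem codeY_eq : M7.toMat (M7.decode codeY) = Cfsg.jankoMatrixY := by decide +kernel

end CfsgLib.Recog.JankoOne
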