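import Mathlib.Data.ZMod.Basic
import Mathlib.Data.Matrix.Mul
import Mathlib.Algebra.BigOperators.Fin

/-! Machine-sized arithmetic of `7 × 7` matrices over `ZMod 11`, for evaluation in the kernel. -/

set_option autoImplicit false

namespace CfsgLib.Recog.JankoOne

/-- Seven numbers. -/
structure R7 where
  a : ℕ
  b : ℕ
  c : ℕ
  d : ℕ
  e : ℕ
  f : ℕ
  g : ℕ

/-- Seven rows. -/
structure M7 where
  a : R7
  b : R7
  c : R7
  d : R7
  e : R7
  f : R7
  g : R7

/-- A row times a matrix. -/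
def R7.mul (v : R7) (M : M7) : R7 :=
  ⟨(v.a * M.a.a + v.b * M.b.a + v.c * M.c.a + v.d * M.d.a + v.e * M.e.a + v.f * M.f.a + v.g * M.g.a) % 11,
    (v.a * M.a.b + v.b * M.b.b + v.c * M.c.b + v.d * M.d.b + v.e * M.e.b + v.f * M.f.b + v.g * M.g.b) % 11,
    (v.a * M.a.c + v.b * M.b.c + v.c * M.c.c + v.d * M.d.c + v.e * M.e.c + v.f * M.f.c + v.g * M.g.c) % 11,
    (v.a * M.a.d + v.b * M.b.d + v.c * M.c.d + v.d * M.d.d + v.e * M.e.d + v.f * M.f.d + v.g * M.g.d) % 11,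
    (v.a * M.a.e + v.b * M.b.e + v.c * M.c.e + v.d * M.d.e + v.e * M.e.e + v.f * M.f.e + v.g * M.g.e) % 11,
    (v.a * M.a.f + v.b * M.b.f + v.c * M.c.f + v.d * M.d.f + v.e * M.e.f + v.f * M.f.f + v.g * M.g.f) % 11,
    (v.a * M.a.g + v.b * M.b.g + v.c * M.c.g + v.d * M.d.g + v.e * M.e.g + v.f * M.f.g + v.g * M.g.g) % 11⟩

/-- Product. -/
def M7.mul (A M : M7) : M7 :=
  ⟨A.a.mul M, A.b.mul M, A.c.mul M, A.d.mul M, A.e.mul M, A.f.mul M, A.g.mul M⟩

/-- Comparison of rows. -/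
def R7.beq (v w : R7) : Bool :=
  v.a.beq w.a && v.b.beq w.b && v.c.beq w.c && v.d.beq w.d && v.e.beq w.e && v.f.beq w.f && v.g.beq w.g

/-- Comparison of matrices. -/
def M7.beq (A M : M7) : Bool :=
  A.a.beq M.a && A.b.beq M.b && A.c.beq M.c && A.d.beq M.d && A.e.beq M.e && A.f.beq M.f && A.g.beq M.g

/-- The row as a function. -/
def R7.get (v : R7) : Fin 7 → ℕ := ![v.a, v.b, v.c, v.d, v.e, v.f, v.g]

/-- The matrix over `ZMod 11`. -/
def M7.toMat (A : M7) : Matrix (Fin 7) (Fin 7) (ZMod 11) :=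
  Matrix.of fun i j => (((![A.a, A.b, A.c, A.d, A.e, A.f, A.g] i).get j : ℕ) : ZMod 11)

/-- Decoding a row from base 16. -/
def R7.decode (n : ℕ) : R7 :=
  ⟨n % 16, n / 16 % 16, n / 256 % 16, n / 4096 % 16, n / 65536 % 16, n / 1048576 % 16, n / 16777216 % 16⟩

/-- Decoding a matrix from base 16. -/
def M7.decode (n : ℕ) : M7 :=
  ⟨R7.decode n, R7.decode (n / 268435456), R7.decode (n / 72057594037927936), R7.decode (n / 19342813113834066795298816), R7.decode (n / 5192296858534827628530496329220096), R7.decode (n / 1393796574908163946345982392040522594123776), R7.decode (n / 374144419156711147060143317175368453031918731001856)⟩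

/-- A binary tree with numbers at the leaves. -/
inductive NTree where
  | leaf (n : ℕ)
  | node (l r : NTree)

/-- Lookup by the binary digits of the index, most significant first. -/
def NTree.get : NTree → ℕ → ℕ → ℕ
  | .leaf n, _, _ => n
  | .node l r, h, k => if k < h then l.get (h / 2) k else r.get (h / 2) (k - h)

theorem R7.eq_of_beq {v w : R7} (h : v.beq w = true) : v = w := by
  obtain ⟨a, b, c, d, e, f, g⟩ := v
  obtain ⟨a', b', c', d', e', f', g'⟩ := w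
  simp only [R7.beq, Bool.and_eq_true, Nat.beq_eq] at h
  obtain ⟨⟨⟨⟨⟨⟨h1, h2⟩, h3⟩, h4⟩, h5⟩, h6⟩, h7⟩ := h
  subst h1 h2 h3 h4 h5 h6 h7
  rfl

theorem M7.eq_of_beq {A M : M7} (h : A.beq M = true) : A = M := by
  obtain ⟨a, b, c, d, e, f, g⟩ := A
  obtain ⟨a', b', c', d', e', f', g'⟩ := M
  simp only [M7.beq, Bool.and_eq_true] at h
  obtain ⟨⟨⟨⟨⟨⟨h1, h2⟩, h3⟩, h4⟩, h5⟩, h6⟩, h7⟩ := h
  obtain rfl := R7.eq_of_beq h1
  obtain rfl := R7.eq_of_beq h2
  obtain rfl := R7.eq_of_beq h3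
  obtain rfl := R7.eq_of_beq h4
  obtain rfl := R7.eq_of_beq h5
  obtain rfl := R7.eq_of_beq h6
  obtain rfl := R7.eq_of_beq h7
  rfl

theorem M7.toMat_mul (A M : M7) : (A.mul M).toMat = A.toMat * M.toMat := by
  ext i j
  rw [Matrix.mul_apply, Fin.sum_univ_seven]
  fin_cases i <;> fin_cases j <;>
    simp [M7.toMat, M7.mul, R7.mul, R7.get, ZMod.natCast_mod]

end CfsgLib.Recog.JankoOne
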