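import Cfsg.Agent.Lib.Recog.JankoOneMat

/-! Tables for the first Janko group: a subgroup `K` of order 660, its 266 cosets, five double cosets. -/

set_option autoImplicit false
set_option maxRecDepth 100000
set_option maxHeartbeats 0

namespace CfsgLib.Recog.JankoOne

/-- The elements of `K`. -/
def kTree : NTree :=
  (.node (.node (.node (.node (.node (.node (.node (.node (.node (.node (.leaf 6277101736848182401506974708411517874814724153223283736577) (.leaf 64784004624209959424027547915657384855870906562786958587719)) (.node (.leaf 9594347019925375324632109963677608098393469975926614208550) (.leaf 62972182844236142437454827887464295833070841197130698692451))) (.node (.node (.leaf 47091027794589592010530495740961179786357627607660536223062) (.leaf 7267617846165642705932646892777395839832019278243935199830)) (.node (.leaf 29237576111445676058235747515500050740353308277945239512979) (.leaf 45639759100464618245332856387414502377618431662736342742022)))) (.node (.node (.node (.leaf 65654153822903919783383012058775247569552591806439414636918) (.leaf 62849888502814665399493022710530993014182837115509529678931))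 (.node (.leaf 46013707038730590164174179937038174388242474685327394580648) (.leaf 29283165608445727875126358859267489929372409844171375269139))) (.node (.node (.leaf 38937745271223687678200344754063473397953485815811196605702) (.leaf 52698452236931361163943716827278211576461963630164624824112)) (.node (.leaf 20427316721357635266673746918898061198424325321706089502298) (.leaf 50817654733407765866464068176797186969195896272929526739464))))) (.node (.node (.node (.node (.leaf 47162012326508714748188762072364288737710631242801852158995) (.leaf 59835722523199323566849989648225128130744351830533467179316)) (.node (.leaf 40241000650835152988799139188310408215792876429678535256162) (.leaf 45376458712841814105871968967148841352665892098815231174915))) (.node (.node (.leaf 60132395453433279752141834492930180303523536119940104086916) (.leaf 65251034186511495494153995700092736029683810955389933543718)) (.node (.leaf 46358601618579351140881177152217221611207584068608455086680) (.leaf 33165259533710646477370569547442223019543996932866913102384)))) (.node (.node (.node (.leaf 28800209872600587975557188560903409754516472513605353968516)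 (.leaf 40644196921206633154491458108843751042038573791431757359222)) (.node (.leaf 59368111761075496484493819351341352193355876372664325399415) (.leaf 14602540259036388807184454370589100129196608712750725208137))) (.node (.node (.leaf 60184309514869604619038668020732880700485070564060645763171) (.leaf 7288604385432901627332821895192046003792274130593119381797)) (.node (.leaf 46087332673655680297325287294615426210470649324717619716888) (.leaf 57311742005136274268780203186261851939749801168313151301237)))))) (.node (.node (.node (.node (.node (.leaf 46710710419695479036534174951276554319151663392145475312152) (.leaf 50857702930697059768517535727327438246428550995320688939656)) (.node (.leaf 3559275290862761673852632998063795676015346056634055479683) (.leaf 51652876354868672748336464132601510274882238580797388137864))) (.node (.node (.leaf 35488522326277873244194484754477435102581145800976709671048) (.leaf 19449508360496292590104989996320359399054749189474293408150)) (.node (.leaf 41744246732998223406554711520819326323562207719384161547620) (.leaf 14173291125277967692089494716832838851805029868997082912537))))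 (.node (.node (.node (.leaf 39847006008469304678399393662779651030404985914730914072359) (.leaf 60281319176439689088672069851635598062871568428655112231251)) (.node (.leaf 9838097626645551074649068680706887804778519905024943208597) (.leaf 2806014094175759448615570906411240503275231377864565266806))) (.node (.node (.leaf 52016098420638846564309008333296876702711447574982780226067) (.leaf 34285759722720712318663839131051403793324008184616429507910)) (.node (.leaf 22546130547042012161277713619215257642769714384445414533270) (.leaf 53429062817568009351021802200923410160930677089563790955314))))) (.node (.node (.node (.node (.leaf 40928695754205764249269683068497884982342238430184992081540) (.leaf 40511917089880703329341789042318149995636276005918332748679)) (.node (.leaf 51875873982365884826437771917171320766965327818290385996434) (.leaf 13145005991839049538620522116912059659596779450402531084611))) (.node (.node (.leaf 47530732418069082956871269810414282732537980964559834977348) (.leaf 32670137879605433547168528235914564114909497610822460375140)) (.node (.leaf 46376497334793073775010638017526096216525765320525859100072)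 (.leaf 46377972513193195343212115190454348197929675072714032902264)))) (.node (.node (.node (.leaf 54399778820678028338617821264188863915689360518120981244296) (.leaf 2484292595542218269255753832517611631735255362135535489043)) (.node (.leaf 40513378886760296900335151533785894573413140883032583395202) (.leaf 35560422549617117363087817137967429938496518060691067177280))) (.node (.node (.leaf 65939398780312247845480565219742181290674502947260146619440) (.leaf 26515664873368177819043182553343999486269398908910357980009)) (.node (.leaf 53752588022103442281314887897280268636128584244147419426936) (.leaf 51495543830791934933662060900411997096523702720275908096547))))))) (.node (.node (.node (.node (.node (.node (.leaf 2580101457987829514986783172711187326861243429237364822869) (.leaf 35487079764417589244418401742520010977455320722057602828390)) (.node (.leaf 53960060900428636602978916967268243113924285394290278356354) (.leaf 56752345571359398691109780734631260408816886782173435687335))) (.node (.node (.leaf 44805820263004606306463384999034660167708347031962633140021) (.leaf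 22611334312774214514440392865722763191412105159403984330890)) (.node (.leaf 29134274812343514360740798388927716295881377728549171299588) (.leaf 27988500131170440042669116204102988003836883703716439791140)))) (.node (.node (.node (.leaf 26316342676494589787817521532171671039914078023366622062103) (.leaf 27467166154349346128344706708172551756867352692572476769382)) (.node (.leaf 8370696901860173484468775865078866295491434092971910728020) (.leaf 34210911576182870143222555804941190033877960105234281932057))) (.node (.node (.leaf 8042575263176559876577375919112946436437251712954646202420) (.leaf 3383987177041126088637084465755046224225044517773981591872)) (.node (.leaf 26910924110196898772689701234375226036031178393826637684874) (.leaf 46530139351968094085765765972392252165084499433791651256680))))) (.node (.node (.node (.node (.leaf 20530198218315590978862347582995071984572768176610808764770) (.leaf 16142270271291227491334303386308485244075875505956272043350)) (.node (.leaf 22491882748606211997532882945904854889779580600351777104275) (.leaf 47722142364234947598190828879588380707219714992769845036151)))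 (.node (.node (.leaf 46105826229157083316409693340865532845402953067043349800343) (.leaf 16527158890156116932856669451085342709959208542616357061440)) (.node (.leaf 53981036067612598340515898661187520559896120668199188064536) (.leaf 10012003721275139089545495631885327938468505116222704468885)))) (.node (.node (.node (.leaf 28717877430880209149004742357843576077821248604234576443653) (.leaf 32987272652231708927543614639560360539717939351212613895178)) (.node (.leaf 26531390145584206195403091209070567135381723530243656414728) (.leaf 59868682614038886465881066211866335448742761624984790275477))) (.node (.node (.leaf 51996439381022532316802910945435017917481697952982175459606) (.leaf 45612295590592671140732874201746875227727638963447293952917)) (.node (.leaf 27908620556749102219127852921290398680583396037045229594264) (.leaf 26514114746295330630382615306113419653493147913630616195847)))))) (.node (.node (.node (.node (.node (.leaf 44041240936715047217401690957089898704889633574528634984311) (.leaf 45966183512082016666136571429815568839733143335385736383126)) (.node (.leaf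 12751952140650493233094953424836447077050720701387260528400) (.leaf 27131728177261931030096058710460157840424054376601654282293))) (.node (.node (.leaf 13520489824806240496271294492108904964209165201832013081171) (.leaf 32661505617020151775113351810945978620089441888818269935894)) (.node (.leaf 51504347191916035996370030533032382748376434370788338411576) (.leaf 32762704835466171056848845057325706911551061254474423154858)))) (.node (.node (.node (.leaf 45744002119994687970392872336017327040173761891448236803988) (.leaf 26788753217903766824824361720613306580985139173624579856168)) (.node (.leaf 35022711079288813096892620111125806176928049609666692868180) (.leaf 45591971460597238367916544720393659468301999688242836211224))) (.node (.node (.leaf 9598039028257315075115517407110603822669569451712011777573) (.leaf 6332466331934781618853770526282207859553877070708021986424)) (.node (.leaf 58658501300900416047030546495402531029534342140727617291385) (.leaf 41403761349622084629450019470224678455380493100073375573123))))) (.node (.node (.node (.node (.leaf 63686685359081064069349277794717828679482000858926832699172)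 (.leaf 25991340054606405890632108000193519409355069715223527507735)) (.node (.leaf 57428188701850047838042910195085997489085934407361390453762) (.leaf 54144745362895506322241204509462035539762865486028738089010))) (.node (.node (.leaf 21359258588259439325324682947749132265475315863997937912490) (.leaf 38706487430022670715025752326749167208295236335021090611617)) (.node (.leaf 54303315998540592957919341037167439632232076504694307370770) (.leaf 58561361856437501635818223365923551445573385178651056964645)))) (.node (.node (.node (.leaf 28771768926778163742501586441628811404490247668494024386868) (.leaf 7270302942904341379941260996491709083895625708416595559331)) (.node (.leaf 25356910743500399012036968304103177621179884805531131684663) (.leaf 32350318809414422095979654948304679753575684400563642509337))) (.node (.node (.leaf 6363330238484371095488112716827384759196258705911820920213) (.leaf 33916431854834720037000187365112504546622032166891474557587)) (.node (.leaf 54202220496990926517164620383983653746380033448113281336082) (.leaf 47918480713280379263102620112202225598906206623619735360531))))))))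 (.node (.node (.node (.node (.node (.node (.node (.leaf 58716732041059627347418314308795643910673692222700033175556) (.leaf 63422921565748596368532210723087037070039453445313263707777)) (.node (.leaf 64449223659472876083951814897418739985778857715106267624826) (.leaf 33579405546752870268367449257299812453321636432151311897490))) (.node (.node (.leaf 33872217735632753816043885687018759095276721442908409251397) (.leaf 26905320599031028496926961024037597646682653874007050516776)) (.node (.leaf 392615932053916131918860534122643872231031883544662523904) (.leaf 63384839249666578084489495693726244383461070099209447236400)))) (.node (.node (.node (.leaf 39311014990499459672609364439280432168666361736601765565001) (.leaf 40052191975717905898238651613176791061547319644573221148807)) (.node (.leaf 31964064826117294389204675167621015580644077078045199251873) (.leaf 50712195922476263147807010507936754578581904541567080289042))) (.node (.node (.leaf 27154810125393935318903965249656870563843173148487035876169) (.leaf 25211222956216878904687157144919811596298960246746541725846)) (.node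 (.leaf 52283411279641410977536953901119909919933567283521462077496) (.leaf 912740042590375464233583009433039257126869157105298126709))))) (.node (.node (.node (.node (.leaf 31884092650479921256917289125281491728090990551755852571448) (.leaf 20554065639104152966623603979405100937643427052710431953490)) (.node (.leaf 57067674507265112918644937256149823239624513479936450077736) (.leaf 58457637067352327036163091601769863258277109813749941406114))) (.node (.node (.leaf 1777797797722944248152376905162979619266572442957153704025) (.leaf 53068216542641224563085585617769872564145114830677289886801)) (.node (.leaf 51420591938670321805809883059169793009239608334069312555074) (.leaf 63561919796845010717009699477798544423497292651586070857120)))) (.node (.node (.node (.leaf 2556732175591777411886497108967170407182788920545735038823) (.leaf 7652673264728077556397825032892885811157710865201338073427)) (.node (.leaf 9969388755580558107070839796734474390488918673408173369208) (.leaf 44876763720517017744165034955611853467282839523311768080675))) (.node (.node (.leaf 14605024686305411777204810204705882059435942087156433061430)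 (.leaf 19015510913429302891378164257909276002081781621879066363050)) (.node (.leaf 27663131680352069656894053161521118311040856862675937874755) (.leaf 40959405086838071421840639409616260088777542061483283318627)))))) (.node (.node (.node (.node (.node (.leaf 53971955363930417781546915029687406626959055916022486112837) (.leaf 21587645698956935780038632906821001739723009412416636397475)) (.node (.leaf 64351831406561523460065944591776175464655519598403549291577) (.leaf 45682208716685832821108950655717738418854289403125667366743))) (.node (.node (.leaf 7678697837656668476442895083236074651015240753483271468645) (.leaf 51792993137143361126507338766906439323443607477620461086754)) (.node (.leaf 51409826974602996485190516699428889271670535256359102054966) (.leaf 63005706422376963144244520669017963899043552619435614761264)))) (.node (.node (.node (.leaf 1263178325266396321352854727590952013924536501076763887667) (.leaf 40547582002077856151629856035588938616902868598029637985793)) (.node (.leaf 37695598425262336423428163504484711215478957437175794276899) (.leaf 51452424788819277315226380349321625041579423143669227214930)))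 (.node (.node (.leaf 15452854514546634940402389744231163689204365008396258726993) (.leaf 14995678984690751992376488668762301061918177019827490887074)) (.node (.leaf 45177317402008302435986591822041866779324590279279195099491) (.leaf 19249976951045824977443942242580850091936432158323748651392))))) (.node (.node (.node (.node (.leaf 9969089076016450255795890093131093613829450922305157095957) (.leaf 66429288893498227393510508035850133525474315522506663430497)) (.node (.leaf 26742874637089106788482108484022436390744761325680911750537) (.leaf 32714998470858800901172650421917564332574334131912465219637))) (.node (.node (.leaf 39388328872693474451455125768524573364290898867639720302247) (.leaf 38183881268855656129864196258607172311770345827764246046742)) (.node (.leaf 21686488307016698714263061501217799402573471940119885841252) (.leaf 37750845341241315356079740710033379915628676881653759965571)))) (.node (.node (.node (.leaf 66409892950491713938944115436734709476021288009098238306666) (.leaf 21579095629964579934857983745586537761179086532981168294003)) (.node (.leaf 27589716000333565049487418435457063131242734375955784665256)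 (.leaf 34361836916486662246699970581516411933915821537262642043473))) (.node (.node (.leaf 25565110821298833908823553927161049551126326430954548581226) (.leaf 9222312371709297554746597988062892046689135047341572864)) (.node (.leaf 54389040128371697917345316237064654280341030954456675549442) (.leaf 25146088528705989668630458107003490920416323865848114145046))))))) (.node (.node (.node (.node (.node (.node (.leaf 2977695498837254426470096347126215500766228001094706008646) (.leaf 45348976916776740870752082645279910072141922304713149670661)) (.node (.leaf 39688032283326400016888907296466336110363415304527428072102) (.leaf 53210174066031490618751542047922421489593643272602254461061))) (.node (.node (.leaf 39880643113318405247899223407912609886539408658210865185798) (.leaf 57145275051526025818670305494421226120355607356889165420966)) (.node (.leaf 31593362749282036127135566603564922155951884315280055414839) (.leaf 27546644511893206390272707445938788935977628078105512212488)))) (.node (.node (.node (.leaf 51570403486509199387177668874079425311860141284667897829521) (.leaf 39067143327703233363337023268036798502899794627508575691059))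 (.node (.leaf 39460540520625052589537678969550747380165878094907299201561) (.leaf 56891449138220426351398934773025018220118706455903825663089))) (.node (.node (.leaf 13839118095947249250868876826014770075600434105754958431553) (.leaf 38603761798926843830603214871768695869644635094287250974106)) (.node (.leaf 9256897737980763802526511848649077293491029133672195959077) (.leaf 22833666658068540084571779338582197019033724274385866695812))))) (.node (.node (.node (.node (.leaf 34160284608972409118606403993947501311910336572095266899509) (.leaf 44927046848789423205418796913944253193582771573868149807176)) (.node (.leaf 53944275206714625678382749825124928143940996214589219674260) (.leaf 16242259276910214446425148719500850933435696084007009293954))) (.node (.node (.leaf 34634932450394584125681756747363807650450784242592173758310) (.leaf 9096926294839493053328863982076168388332173811910215487608)) (.node (.leaf 39075915894634508592117489028058586082481911460979857039411) (.leaf 60429885397420221841094776794563495331907999125290879625073)))) (.node (.node (.node (.leaf 28747176649279192011846287974930240479945601414236569110297)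 (.leaf 20499451094896889557815973581397690645907977147071115446163)) (.node (.leaf 25218869367736648109340463308331175859700348441340790646346) (.leaf 34171066502061965047507436910429309129827116288991377519760))) (.node (.node (.leaf 47188740496888573249871825231769141546123503027187159176310) (.leaf 14550197052814780510042365424447524390622735311099759109690)) (.node (.leaf 22543105772082490982967320574761826048498279658035943393159) (.leaf 3223263722806561282009278295408110865532495561837138907688)))))) (.node (.node (.node (.node (.node (.leaf 8042568148570530407080616034530276759160775470288693647910) (.leaf 1618317606230842651068933006422727429003241240465367933728)) (.node (.leaf 32598342391868707780758518360387559129312229514959826130194) (.leaf 29228067775435924659588568344964850948227346777826293527157))) (.node (.node (.leaf 54198537574873081372923001651098948806970976708197629920037) (.leaf 65937407012035071904842787493153900908017668289867177945386)) (.node (.leaf 1256871308725949933722588520580859340198833552921922602025) (.leaf 40069630595542684618451613790905693462124432113965889360290))))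 (.node (.node (.node (.leaf 41032583155036297990336750220717021472750576875673359587493) (.leaf 58250168384468823492689752550788550232233165237416352625209)) (.node (.leaf 53580032934546274664661209019541772371698501843966346344354) (.leaf 15743820692486523715767248882429126405974927950774091921752))) (.node (.node (.leaf 6333134811576948328856172034517639678976791273080495343427) (.leaf 26052851608901616467657572991382399274782610298208839019155)) (.node (.leaf 44024114732986479836180809695905365143933446989962660094997) (.leaf 66928153967577166408226433855663504528287137218960166519824))))) (.node (.node (.node (.node (.leaf 6848066048881464585150979861686836281853764363221092803591) (.leaf 59449054216445042773765057417433413716158145314058224672931)) (.node (.leaf 52286371365587969983477549288286987911321147012870098545223) (.leaf 63679048699712310249305347105008428081694615150362135528320))) (.node (.node (.leaf 21250178486508056580486752473810558381955717831766408848199) (.leaf 40619299976192051788068564774412246580192358714181978982307)) (.node (.leaf 26094203571443001256641859050712184737646059856295506220824)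 (.leaf 51053685260177372442011387066263836770372238688671384569146)))) (.node (.node (.node (.leaf 46494439505940003026995421917076294103669518599666350580595) (.leaf 26436149409529067000834677053445969630356208349161768297847)) (.node (.leaf 62857534233821507423769831709808860040111050687857536889497) (.leaf 44850501760941740177362879559106678901503369478280888594966))) (.node (.node (.leaf 35092849685815938758734703837769306726315647595663540701014) (.leaf 32650342212697841108019013505961899927637250301279423576469)) (.node (.leaf 15108320392099682990118662088014734252727948791391563561543) (.leaf 7503615003848892791844848225086143470097210154492383205673))))))))) (.node (.node (.node (.node (.node (.node (.node (.node (.leaf 38142989269287273954278988624056582002707965385409254472066) (.leaf 8325432654275747286248459635094336581554438588464643524136)) (.node (.leaf 53774272561801243049212838781897549498660591508578686478473) (.leaf 39305764576032431956902941363211824129148134444395703649873))) (.node (.node (.leaf 58564750450652363410963015427033106340335037477628190132032)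 (.leaf 32793017346277886007167598277332390481707521569495747601990)) (.node (.leaf 40888717493131746800284502991673790790700946228651300767866) (.leaf 59731175911071685513646778487511090097299757930496428029206)))) (.node (.node (.node (.leaf 15802444583468640218910264976907808188308465415723116884896) (.leaf 26737798628292547851546966384020889130660447942414572987680)) (.node (.leaf 41049449953221766284194224680988944979383941624651032134262) (.leaf 27208634235657284520426699192288720511297200365479767925608))) (.node (.node (.leaf 2849220979477951730851406653942633941430105606158609832467) (.leaf 60080398195249282109728025936089857985294657331206876047489)) (.node (.leaf 45955444448206797711579434297625294726832176275500881816216) (.leaf 32380922299713077235520447065679889606234700417347650561347))))) (.node (.node (.node (.node (.leaf 46150064027087945357312604259087488602686399976327885112150) (.leaf 20237335890155982304433140987951906489620213289920812390784)) (.node (.leaf 7261060430217280310879304262103575269673147263786528355109) (.leaf 20927053572771643590593798293598446563593588617420988897347)))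 (.node (.node (.leaf 53357574901124529285836923952758164148453366840409166809681) (.leaf 66924130934089281770895403796745739663157275608684364843141)) (.node (.leaf 50830203298168687991150432326451824470908422827657706812740) (.leaf 51139763308409047643847551623424090991517057203452361990962)))) (.node (.node (.node (.leaf 32572673859104708862555046985284890062829740773776793630040) (.leaf 39097272481886917757555589171511594631983742694990493014106)) (.node (.leaf 58234855378925631198291454514093174136284073301905580376596) (.leaf 57339051225553425347097514776336398178582423723117992514433))) (.node (.node (.leaf 32246923940993283101558092077369965469303756778984537810210) (.leaf 41258259979054465958395582852021651910481830607500424518041)) (.node (.leaf 22592394421317695528403973918523674509442070552672502817841) (.leaf 16527115851032021608492209511854219326455964451077791762496)))))) (.node (.node (.node (.node (.node (.leaf 35122028954717764905510021833259767367100816304167705608356) (.leaf 33902580728942052463964687322113499666524580085316785296264)) (.node (.leaf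 46870432719733440329041025438558680843061746225582854074458) (.leaf 52326048706259336942870653686250210711487567170910745425703))) (.node (.node (.leaf 40122848072516786339340339659635630881576906753273005225832) (.leaf 14957493385164504224004571048357313153738829298167961957235)) (.node (.leaf 32651596281773109570901862532412916751787854430813123352162) (.leaf 26851301196458300350687636373627838363566102448722905866833)))) (.node (.node (.node (.leaf 19817717943596598758098449227353029783664707080330745513844) (.leaf 57851728231151718796447296020834706135499044045484827617844)) (.node (.leaf 39414573622763201629933516210356286690153236900178680239449) (.leaf 40485876681319277986460524341772767218620241446143381640277))) (.node (.node (.leaf 54178611275099784306680248830659427865220799762592720005462) (.leaf 1384068359318869194899615059570475769251734646402133957281)) (.node (.leaf 60627159804236368338343877506673178339591193371829945529364) (.leaf 65310992947218897448738616397648975648661442299168792679078))))) (.node (.node (.node (.node (.leaf 65668039398774440970530647887587009056973708578615075154261)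 (.leaf 2973056118361579675664055234668126840322110057395050320453)) (.node (.leaf 1335309609371319922272216589957904581985564152698454217813) (.leaf 7273627660769492294017856965001300085744777234029247399449))) (.node (.node (.leaf 9505406496838225959759161047172302019876880136606530751064) (.leaf 44810571519740152712503481413142034476209003816819797202018)) (.node (.leaf 39295599895189247518399825304656053064391880674798407804422) (.leaf 40533205502512962479625872907059538903021228318828393682729)))) (.node (.node (.node (.leaf 28431182265477887521931469571245967036448800507785791440690) (.leaf 63690712743201752357034607761874303613317846860414600693398)) (.node (.leaf 26506860084076814729916522653212482125456558250033656928260) (.leaf 14310458923049400657445256572571900274983230145985982268487))) (.node (.node (.leaf 2506441059970763825989086093017037006838959809296371574853) (.leaf 35139005384690713259985074898902862245716160390009292424727)) (.node (.leaf 57735252851272524067525959820906076946106595150038846969145) (.leaf 20976059847889602932333796713284936856852163587489270891560)))))))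 (.node (.node (.node (.node (.node (.node (.leaf 8299279788265196441147460162613044247634183781079526364809) (.leaf 34556931350946023024090267470230520329947932570315422575207)) (.node (.leaf 38848243238419089129144893216539616633310954087425806792323) (.leaf 22782863526862158371684747661828213075810897113831224484403))) (.node (.node (.leaf 28089599458715372967768554846393548554831316835638419138935) (.leaf 41642750195842948139931033334272635888989460988024163812897)) (.node (.leaf 7675025011621804053542684636183847730580712461593525371029) (.leaf 15449096532909770692191454340653482876741669999350368389187)))) (.node (.node (.node (.leaf 46919470959462530987514568070644187640791932367820675973239) (.leaf 41683993351884608165980648464330773998656747449900415324986)) (.node (.leaf 40177634852026988729532191525266620200740192033126129940649) (.leaf 65961897749023537730398775465312744010909911601802791905913))) (.node (.node (.leaf 64178848222102835549066462311679589214080951337664409256562) (.leaf 59810740697623116878168454603933476250987455760579433762835)) (.node (.leaf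 57821944284552600323816454642663404526464797120194274145620) (.leaf 46374992020818857155833231799981559160260268906835462858817))))) (.node (.node (.node (.node (.leaf 3295284608292915274265786581962681566941878069318526718564) (.leaf 60567704300918148466704538694446242012050464361264919756853)) (.node (.leaf 13540288051470345702625432803537848717876808657762024696163) (.leaf 15743538519041385982316340836805483527575031761995605251622))) (.node (.node (.leaf 44780190335006781563423799966573181327280506695638022006596) (.leaf 1773673905013023124889198533423235220173286826263381820576)) (.node (.leaf 52214567977206187041999620612114291465610728854784335565722) (.leaf 32002389543480874544206733375016920852184836701110810257302)))) (.node (.node (.node (.leaf 19792236270836083526849721586167472725121524866866258072470) (.leaf 7584622451935339710418438337025331535342088327171825891635)) (.node (.leaf 59857942776844195667934512678797217181644115453459925927576) (.leaf 64893943517989896147915307175231123498438145409142491342195))) (.node (.node (.leaf 25979075650136842725408183381663293001855137917491106710179)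 (.leaf 22394567820253497150304215806043527760210065616695458375062)) (.node (.leaf 51452737500222775568817611302655051336492063744972337418856) (.leaf 7919974491337019270276151285979361012316223245977499685270)))))) (.node (.node (.node (.node (.node (.leaf 53910511695125582549564352601920986057834792045628970150051) (.leaf 3293365665245236521259102027464957040682224418727319849080)) (.node (.leaf 50297216477684388732495858494127174336570686289278339719432) (.leaf 39428844154152351378705049995759847505969472944959074563685))) (.node (.node (.leaf 58956112271994934748403399040731630610901864783059461895794) (.leaf 40659265267144887722979540976875882353862646471685894007347)) (.node (.leaf 16236943117506713355964457613581191104849133885557870565400) (.leaf 60466541778259912385090884866819330413356959258042431076464)))) (.node (.node (.node (.leaf 52794881993658998676846218127166171927968651525164991017041) (.leaf 1423063233972494870698283550104599808452439847122379051584)) (.node (.leaf 3296921862988090380078028184421121776191970803213471667623) (.leaf 22043727901341932858689235657500990819114323036803459978890)))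 (.node (.node (.leaf 33031836278149806319455128402683321315441368460658961819475) (.leaf 7539940733551326086769338013447791097003883904462947001912)) (.node (.leaf 57328602832327372763728419383835549811135461235147734680394) (.leaf 59007930443002132394118178511579350428548192323495765032996))))) (.node (.node (.node (.node (.leaf 22817548973303690481664860460819742019541911908362816202042) (.leaf 48019844616561710238166668627821459222644718443187563734137)) (.node (.leaf 51624035781547385015094579302170534379646671974660050557272) (.leaf 54370087235363422414784139960481556317632563136415002866339))) (.node (.node (.leaf 3399081097704108925925968531482211304156855614945617774853) (.leaf 7197470919293538748835007913453436016439386574912189196337)) (.node (.leaf 51407566849831332039943688091280492384691288862343463739400) (.leaf 57452331900940503404197162626234914605936646172202410463780)))) (.node (.node (.node (.leaf 51890437506456993078558977296327064584574541096976977699463) (.leaf 46910326843237272062253110149475145011587656659233318110356)) (.node (.leaf 22559024120489284553978980635242575931135764462869374193799)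 (.leaf 9523553308420153321429902440956758714331322131277944394792))) (.node (.node (.leaf 57747829081309946576055476273724472023479006454536028043911) (.leaf 1696859535160739141918592619684341029147345383291190670953)) (.node (.leaf 58120780577951860763549999930708368910174662223692237796132) (.leaf 2383056208682277357947230594248418072119875140087325369204)))))))) (.node (.node (.node (.node (.node (.node (.node (.leaf 8298979022927158227862770983853897225083197083588359255350) (.leaf 8470708318803050072195301178021727110005872346986975950470)) (.node (.leaf 796063013933519426204105597503844039151385116368390093168) (.leaf 33971056545065688620437564895740711945424092024948677564742))) (.node (.node (.leaf 25549780869493830387387061195917141609788755074557129396357) (.leaf 39039037420079612875456180758791953279602943912009434159413)) (.node (.leaf 7904750463423430761451784838399529140479450057632621666711) (.leaf 53827404165501680195040344406558112804758674513201379685226)))) (.node (.node (.node (.leaf 40829049079929876458166499554212495147803989441014467594802) (.leaf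 25314242340782331491680153124236645830444597520625436100212)) (.node (.leaf 157987820272078011701328287123248263478460384576157288016) (.leaf 51250617041374382163641034968107491699130645565758164703891))) (.node (.node (.leaf 1177107449978376378623892940998693410506500222232973221888) (.leaf 21384826873268163576382545994918120458871984855480228075540)) (.node (.leaf 22987944620518291510273113180551841490001866146523486640790) (.leaf 56691663152159735903639417931495834073962189170516465039264))))) (.node (.node (.node (.node (.leaf 59045731071841816939017657122631619331237121435908532367529) (.leaf 57499376914575991193590220419571673156224995072888226223891)) (.node (.leaf 6282663088194092694751941661677796555177906012239126134789) (.leaf 38924239715458242949555563580750165502343060108570316313925))) (.node (.node (.leaf 66169483931237425718668192698626206025176913613503029733786) (.leaf 51598121528965499926148075827720578976876641627053902492983)) (.node (.leaf 14750495016868413491402181983403243460726148791405936775832) (.leaf 19861397148341424363414512256654614994718357666625172963639))))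 (.node (.node (.node (.leaf 52045777031023548049714722612004739845489949774049428636026) (.leaf 8028978755791063566401493242590569683072553957578246752150)) (.node (.leaf 40546989430089296654136756950872809340250167226508713002037) (.leaf 53368063036453738218710756351117988027436126125175502627753))) (.node (.node (.leaf 60057388715179808844634370428746852712270339879370499663218) (.leaf 20162231201834840351980722432681800257285214395447732863865)) (.node (.leaf 8003321081454981297433310818127151240486298657363504289937) (.leaf 28652497890212757566564201591990621232379564458885306219049)))))) (.node (.node (.node (.node (.node (.leaf 47609132261419394321276409419430511194164402881572548720169) (.leaf 2060478054078736102956049148135135836451974144514213811975)) (.node (.leaf 47915389585382665756514571354109085351015998325778019332881) (.leaf 9284571961014947197391092930659150602003754193675516799561))) (.node (.node (.leaf 34604645238669611418435520060608390085803678628740295391396) (.leaf 26808553006216141419673800598334021409042454645514914260277)) (.node (.leaf 2611397927242692899208366590710983482678889722265190508615)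 (.leaf 8021309691736574502014840950706685990327509042764064112761)))) (.node (.node (.node (.leaf 40978370118396376423618394542845306578453306969510228562962) (.leaf 47108940036382231740513968047878818139341869750473682343578)) (.node (.leaf 51150979009235869397884234857202100179583824368800918575717) (.leaf 3683493935859061322238368320944060111652104603762105603153))) (.node (.node (.leaf 33165233316111508169325891344881623376901910818038052373842) (.leaf 51811035633073512277208892140648626652191265942045005619862)) (.node (.leaf 45228753461444979301354521789546809891110585861266501804418) (.leaf 15756126645846481871396312006348129017086188184934776059249))))) (.node (.node (.node (.node (.leaf 14746095023670644470556106316367147977858521121660241076304) (.leaf 26807041779890870537385310023972126088607036571534186947876)) (.node (.leaf 52753329465786336912860808971348428322951665786283737957143) (.leaf 57084265532119478724020467431116404715201770162695020185956))) (.node (.node (.leaf 19237811766467340998740773144482274493151712004156285400096) (.leaf 566306187553786402433709333983529078097076562733923656081))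 (.node (.leaf 41660071261324734380314225743689156124440969452197839374422) (.leaf 6706787992228022377525107393028652284620950392225252672150)))) (.node (.node (.node (.leaf 21435232910112576629679220470343540155618440407923463254416) (.leaf 19703517094118865171043583858304765492072959901041741005444)) (.node (.leaf 29167425103483656500645469933803493625479628186179311045170) (.leaf 64501714581812958412794224138845405869963010221042699506261))) (.node (.node (.leaf 16212570122694842764533997969450545924127171896440529330327) (.leaf 22023518608913565113584025421461593953033912692030201940280)) (.node (.leaf 8733914918765556295609625346498495770181310288705736037478) (.leaf 27542042888953366155294574629995640281707611628082425189477))))))) (.node (.node (.node (.node (.node (.node (.leaf 22620049263125755433708467475649653868082953306985500984340) (.leaf 18911207570387768663348258800592736261210377710873507138105)) (.node (.leaf 50252178228731023511323577226151750189174341592099457632553) (.leaf 32207798124176377214211276164581124737922672231016856893298))) (.node (.node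 (.leaf 13372670405919964583725934677889204354816273365788723357302) (.leaf 10012413023633782137873392779710224516274076887826808838486)) (.node (.leaf 45203368508195104222538019668776206901451397450695061033217) (.leaf 60478655647760199007135466711036983857132303045467033794835)))) (.node (.node (.node (.leaf 34531873744507495949445720269411399815932424485476750673496) (.leaf 28750617617132000586203943051366182916338512298859304555139)) (.node (.leaf 57826343264632840042880707166107253408178491237960412836385) (.leaf 66095030491316843534153251206654300343212377965121263370826))) (.node (.node (.leaf 66904975791447976805207642374453557919198333992266782377122) (.leaf 8713129182504841734743619506793942611013560661048170215433)) (.node (.leaf 60207155028886711909002613516913360862823943832347885205762) (.leaf 6782079645861792863273709627617142092072615639481941460389))))) (.node (.node (.node (.node (.leaf 66452989639101275009152221517366236234258805952279653012130) (.leaf 65626961637486156954510137786984390167863180473551604435065)) (.node (.leaf 59787683349106751522067107431436958908034964609243632646554)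 (.leaf 10057009973439448676997646971026740753540125348850360203336))) (.node (.node (.leaf 53947905178731048885161449471813104742688326881234919977877) (.leaf 32636942517361528353195865970158207745898042662839641389720)) (.node (.leaf 27099899151253187478103586720229961623972509832186584076593) (.leaf 58150940385904029084794716057961666315736138682239500170832)))) (.node (.node (.node (.leaf 28788554412193176248944215200137032826613147384056442460800) (.leaf 20181459291110934358831662105811649711979306639914653332624)) (.node (.leaf 41675558338372822110881555974571784069416986115147619864867) (.leaf 28285589536288840207896674877508339446814622743048158814723))) (.node (.node (.leaf 3346132749418508253277764394669743623396047454770226829720) (.leaf 29105964996593117848356980633731668274602114118550150592837)) (.node (.leaf 65323486204033917510479687361139177330190828151714719417221) (.leaf 15800469521976448954129909127769694813168409286517706852150)))))) (.node (.node (.node (.node (.node (.leaf 12707453039476274178906299579783435702781011432981570080768) (.leaf 40096561531434126089597118399210653466388278169284303389306))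 (.node (.leaf 56594055191366820355758228097072791293309909832502903802240) (.leaf 39098583247259139185916271544795849015228656469223749532022))) (.node (.node (.leaf 2780243682238845408168612367647686775548052799645257437347) (.leaf 21996677585003551640309656569982904239630055967283887696161)) (.node (.leaf 62826381966704754514662736789866300255240646041310372970535) (.leaf 22853006237531764330027501652387808055362131001200362473826)))) (.node (.node (.node (.leaf 38452636756030466431734453456476131036476907303148839985706) (.leaf 20502146384597671224437835231421654462826526395580434946307)) (.node (.leaf 39307890457752451670197735159652729567871091719990016356433) (.leaf 1781163697259052140509983836198563652548663106379872506467))) (.node (.node (.leaf 51397070870588377044438361436068631837320388121354290033490) (.leaf 19263813185770759097823375961005500411789392864038526339712)) (.node (.leaf 22543333232668693581939272411267031028002920947526676906136) (.leaf 13082160953941763270741127882839139176127269262705497896003))))) (.node (.node (.node (.node (.leaf 12554780790455675265754144186845602292712657817348392325248)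 (.leaf 39385740485900580944971700433606904417280563660434180499302)) (.node (.leaf 41256852114251799974720987516977500644716225132795015636329) (.leaf 38071075880225098414147487143583070183050738028751570367285))) (.node (.node (.leaf 34342318949503123541299601396884593646575925683004451666585) (.leaf 4123999587724852410695622663032145002380376461983271092741)) (.node (.leaf 66071402721168630257133646322818265018712583402771615720834) (.leaf 40421713047353993575042279455084119010045468583369165456743)))) (.node (.node (.node (.leaf 18904874358922350500570097427785738343565231822636424102051) (.leaf 47673587617742096391323249646158451710683026188837121755289)) (.node (.leaf 45273013366620082348407889873458588646828691967902610700119) (.leaf 65332614412125396082432780777626409069575939838078552076870))) (.node (.node (.leaf 34631645719894790496941412852679945329582865563526209291592) (.leaf 12629351361155049959417183463155696771373263744960667268256)) (.node (.leaf 58637316541093342998590668040792338558888157943876291953813) (.leaf 39698304182368305458318095668943150519618667995309483364867))))))))))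 (.node (.node (.node (.node (.node (.node (.node (.node (.node (.leaf 1751834809267444961471775607860689809033977761329597978441) (.leaf 56570795756894992788575373426108506488199804605077080074355)) (.node (.leaf 63606715428407302201014498895606829876034816061078286992675) (.leaf 53759943998889498525470656953294367587519634106032438906888))) (.node (.node (.leaf 58494358520095163608035300527101229639861564414823553505881) (.leaf 59059837102446874517476360749100456191122534174170234890858)) (.node (.leaf 40567198836997504548413921778850058840019761398467133789286) (.leaf 57336898005256619251326966337286089850400003022575996868658)))) (.node (.node (.node (.leaf 33485805817744389940486666065663832813555875409714745465218) (.leaf 33485742339349690859067493956462631651050259118281102747704)) (.node (.leaf 13956690310859637775397483659340335869487742042661555874090) (.leaf 33571526110275464801856242792698638434294694569260034056195))) (.node (.node (.leaf 57870889671142021396391929118987917081660926220915169046839) (.leaf 8346506996783147156706678874768212700720848135125791549587))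 (.node (.leaf 44395534693489719083386393235861051270546164999270451742737) (.leaf 50419510818285532656669866612627845082171343380589321005576))))) (.node (.node (.node (.node (.leaf 3268851722902021507367210387894090183601289970960924951368) (.leaf 54364741041376459879931207163385376045276236252625508014122)) (.node (.leaf 32427860892148010063576203544835103484267188709889759392834) (.leaf 41445398091961370568905989094115047693903014030907719983650))) (.node (.node (.leaf 3569964204595866441702070110269426435682531787853471701635) (.leaf 58715091755416040104742485256936222544957756177849303699817)) (.node (.leaf 15375955561456816014445140100371024966156845649528713744435) (.leaf 20012233170200545767151105013891886871628277462735650058821)))) (.node (.node (.node (.leaf 65546702186106761834844609493238132980069997290548240081812) (.leaf 19051991683072728299447851282656053457422642987413681995794)) (.node (.leaf 50667580709297703939588803843311769873514780540113475900231) (.leaf 14134439946424887792299599859093172231377748611373089301616))) (.node (.node (.leaf 21441387047148060191136178196037119485239950298045871431977)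 (.leaf 2821758088772185365901345500391317643341295239829585017194)) (.node (.leaf 34597866458968978496448629959377766232959484286632553054616) (.leaf 28329847827535511766745352913804279898810459863772395218083)))))) (.node (.node (.node (.node (.node (.leaf 33399653143491372110274274171829367949015174583808368795651) (.leaf 31808875946701698082523251342337741537946636824151109927026)) (.node (.leaf 13499235450759060723580172597695017204858946729620411687704) (.leaf 44925395316366534595831702775333457253028450515628391110497))) (.node (.node (.leaf 53562551162391841393423367130110880729413037306150375622793) (.leaf 41785844325388846304376858940992629403330014946240063217666)) (.node (.leaf 14910273660687817717757951312606903239365549059616249829415) (.leaf 26512397789757321221488154032714829312270363408732048020808)))) (.node (.node (.node (.leaf 62854506001134853133680435799468626878551479489748924930106) (.leaf 25721462273608689705614217003017415628869015058880218599477)) (.node (.leaf 66514189352642568109032689038544910381667175032647132468615) (.leaf 9160331365665155029028846981961625618878050636456076524178)))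 (.node (.node (.leaf 3613968398814603861663621451101987710684524089582703450211) (.leaf 45589648731097498547229852098641781573727005889906732120074)) (.node (.leaf 56690084034527703538439048888789911265414863242483124994072) (.leaf 63314530019128314307732207017073381252231492960979871420985))))) (.node (.node (.node (.node (.leaf 52034702522735260653964191036471822982449365241562600400902) (.leaf 25752938179912738506063468204070165274297554454476012927073)) (.node (.leaf 40483199986396110239704314945107435902197954822697863443793) (.leaf 53065170280680348357088464159146045796559586046210544394261))) (.node (.node (.leaf 864477366942487254261384924062151563512781938445618870817) (.leaf 59830455673211511991109774268275451324895882368899079178881)) (.node (.leaf 14625325372753469262027443666873295012291116772491382756950) (.leaf 22463854160339319293945083866961186073604420696477283018546)))) (.node (.node (.node (.leaf 41002524063414931910818018934975913684405684781825101149558) (.leaf 59833272795687178441438235514046746687353007729613573014800)) (.node (.leaf 31592551977840459345791729003023953692968558776935512571959)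 (.leaf 38480241782293883793543824961087801829603373967011642487881))) (.node (.node (.leaf 14160864680929197408788304349122809480689173393720762341495) (.leaf 53757487049774862011509882787909517808005069896020371539062)) (.node (.leaf 3096608663659689893763652566555048147692330994876051493) (.leaf 34600068651804437305537028120214249523297439326250888406370))))))) (.node (.node (.node (.node (.node (.node (.leaf 33134775414298499825505427129273518054784184923508529198853) (.leaf 2801654187696495038627707022999388890213166166449564684930)) (.node (.leaf 52800609298675485137161094092483081852202839348858055754344) (.leaf 1206475663128723313066389501888337384617142981033615983251))) (.node (.node (.leaf 63007905037316184631255364039952594125138567989724810089520) (.leaf 3677992150946836111887085651815985539093539116018731974661)) (.node (.leaf 12762937315477201788784152970891921523018936085414206964787) (.leaf 21395556835834147812187807879792901013939488062082575180676)))) (.node (.node (.node (.leaf 3611529337092731148154461962037670696358477502778996836897) (.leaf 34331584491341564029959818839034317401568759961826307887408))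 (.node (.leaf 22082215091462368396465412489645492361736953640919439090053) (.leaf 21337172860035084780147161402321858777105293006348713666695))) (.node (.node (.leaf 16171612944355173028826873421395750795952115113174659851063) (.leaf 66481635656856898292615404191496363514450931851007515172983)) (.node (.leaf 22069495063215528440584537253690051410374128511785929959496) (.leaf 13759374848990640433700394360809506217653185797702178932576))))) (.node (.node (.node (.node (.leaf 31933514320449726437216210736597687130709943273378174051682) (.leaf 63362899807931212792511386975693189251221202077511244199842)) (.node (.leaf 32370149581631844382745669109949456299836630611626468469145) (.leaf 9596987381397640537856242931765695008427605731664163248024))) (.node (.node (.leaf 57711250352960638670246182552511565440496900575120776730137) (.leaf 154234429573070861882435054214345691357107175472589066855)) (.node (.leaf 33890496209950770396333320363323993376827236662543384855173) (.leaf 45985067896274038247724834882586944794386902761288818004801)))) (.node (.node (.node (.leaf 26387421211866775669359857745569521134748504082034157131174)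 (.leaf 31908305966884110129539802397342262407878747647558221473362)) (.node (.leaf 60449485361010542222162486668376572302244781517225157804679) (.leaf 57931983586999623655100573917484704757000151449065557104041))) (.node (.node (.leaf 3537410357042629159132876834385460455112671772028807692912) (.leaf 32762306671994096197945896739244265920029458429617371128467)) (.node (.leaf 15140345192543044056374422120063366206195897718891937556544) (.leaf 34131794739803244841774395200955643949321682860350680740355)))))) (.node (.node (.node (.node (.node (.leaf 2116491051564693674113562564209361326898139026980797489315) (.leaf 23009089109743575178866370568328490546818051797782556219417)) (.node (.leaf 44534704902131312213652893160268531086230897732008828097897) (.leaf 60670889062584001154145534148654117788606655279581556787511))) (.node (.node (.leaf 22979100686542751825231355011462244504809423350491284658215) (.leaf 22536151417984080498144998489700893624202601423661884973141)) (.node (.leaf 32818884064605338956737528080282750936890003680156987168418) (.leaf 7636679910489082117838765098161682059877819369668349493286))))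 (.node (.node (.node (.leaf 32204491386211369741132017058771596814574699514194444785282) (.leaf 53358433556433465025988470814715227205148426765262531858440)) (.node (.leaf 51867565101551861447269992966521499050661046160806183072586) (.leaf 65649746787105551269942920701578502899524201896101240112772))) (.node (.node (.leaf 66457101486007347121345358287439724056106017674197214585490) (.leaf 53222465522669677899092411741116353711314340855827172788339)) (.node (.leaf 58215412551395726236429840694251590647374667255119336637492) (.leaf 31914623837782079061212609919843792707944867690899441193618))))) (.node (.node (.node (.node (.leaf 51038437004300173803474994651025370861665489685292471419703) (.leaf 28800590541129286408987270710283305595012694490750273423732)) (.node (.leaf 20631449966664717824286373069096825615087188500761936401476) (.leaf 59764980078942062839879900415855562174070978809577476859475))) (.node (.node (.leaf 66138047779032860654066534598405839681056808899806706563442) (.leaf 58614174953379120086175328202805488680209304424877706846758)) (.node (.leaf 38580985477702498535184295194936468453974721542718135304263)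 (.leaf 54244896139248816351490043590422117159499914665500520691591)))) (.node (.node (.node (.leaf 66799093806276198993454990739253765932663171377313972111783) (.leaf 20233949260333841704012587240569645590578366361123537688693)) (.node (.leaf 33154705305492325001042152682431761474956946572751640405091) (.leaf 8810811285455331078508364122218295509519879648016977257058))) (.node (.node (.leaf 32425033058857237635453865315965368382256322691986907370802) (.leaf 58074822666640239786318711388334791439028198060436021029282)) (.node (.leaf 7662486500300165983679910220057821882163305354943407957384) (.leaf 41295165730131911303824963847144711183275982939299481203347)))))))) (.node (.node (.node (.node (.node (.node (.node (.leaf 9871417894680688023892327101925458875512744037328556167718) (.leaf 60246444293661281440308787533333944096623797445613911705665)) (.node (.leaf 45509383642665071179857000529131131281329242901573588697418) (.leaf 66302129237148378902207238176074806324131386919366192036400))) (.node (.node (.leaf 64025217694019634395166893138592600483609662548104738510470)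 (.leaf 59767963405772021764410065896216846396125284635854305827477)) (.node (.leaf 51006049675641667083891332405439255430595931375166711439368) (.leaf 51494385896481991707241886209441060758098799943875838747784)))) (.node (.node (.node (.leaf 1309457730227672548116183063527083827796660148821685723735) (.leaf 34331558319962286816741636247322259933668336669583338731090)) (.node (.leaf 26493209942029717345625434587909356857863309393570569618089) (.leaf 38057242638666994068603409138458667299266218559148465027125))) (.node (.node (.leaf 14126933947929012897359562748321035286184683570942417967489) (.leaf 58923538953327721036862288557748335164751605194354557620757)) (.node (.leaf 66020006920557209051874008401921196782958934605155623048490) (.leaf 64037781910159664882339816606266376953164161974019410719600))))) (.node (.node (.node (.node (.leaf 31815002607149201576855621196591394656504040569935336200307) (.leaf 65697068573160281721715067053525421468297911322784699928932)) (.node (.leaf 47506727691566087506934087327590672916169800039544579848858) (.leaf 66891055115055723835570093412493704813554076616664779215770)))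 (.node (.node (.leaf 0) (.leaf 0)) (.node (.leaf 0) (.leaf 0)))) (.node (.node (.node (.leaf 0) (.leaf 0)) (.node (.leaf 0) (.leaf 0))) (.node (.node (.leaf 0) (.leaf 0)) (.node (.leaf 0) (.leaf 0)))))) (.node (.node (.node (.node (.node (.leaf 0) (.leaf 0)) (.node (.leaf 0) (.leaf 0))) (.node (.node (.leaf 0) (.leaf 0)) (.node (.leaf 0) (.leaf 0)))) (.node (.node (.node (.leaf 0) (.leaf 0)) (.node (.leaf 0) (.leaf 0))) (.node (.node (.leaf 0) (.leaf 0)) (.node (.leaf 0) (.leaf 0))))) (.node (.node (.node (.node (.leaf 0) (.leaf 0)) (.node (.leaf 0) (.leaf 0))) (.node (.node (.leaf 0) (.leaf 0)) (.node (.leaf 0) (.leaf 0)))) (.node (.node (.node (.leaf 0) (.leaf 0)) (.node (.leaf 0) (.leaf 0))) (.node (.node (.leaf 0) (.leaf 0)) (.node (.leaf 0) (.leaf 0))))))) (.node (.node (.node (.node (.node (.node (.leaf 0) (.leaf 0)) (.node (.leaf 0) (.leaf 0))) (.node (.node (.leaf 0) (.leaf 0)) (.node (.leaf 0) (.leaf 0)))) (.node (.node (.node (.leaf 0) (.leaf 0)) (.node (.leaf 0) (.leaf 0))) (.node (.node (.leaf 0) (.leaf 0)) (.node (.leaf 0) (.leaf 0))))) (.node (.node (.node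 (.node (.leaf 0) (.leaf 0)) (.node (.leaf 0) (.leaf 0))) (.node (.node (.leaf 0) (.leaf 0)) (.node (.leaf 0) (.leaf 0)))) (.node (.node (.node (.leaf 0) (.leaf 0)) (.node (.leaf 0) (.leaf 0))) (.node (.node (.leaf 0) (.leaf 0)) (.node (.leaf 0) (.leaf 0)))))) (.node (.node (.node (.node (.node (.leaf 0) (.leaf 0)) (.node (.leaf 0) (.leaf 0))) (.node (.node (.leaf 0) (.leaf 0)) (.node (.leaf 0) (.leaf 0)))) (.node (.node (.node (.leaf 0) (.leaf 0)) (.node (.leaf 0) (.leaf 0))) (.node (.node (.leaf 0) (.leaf 0)) (.node (.leaf 0) (.leaf 0))))) (.node (.node (.node (.node (.leaf 0) (.leaf 0)) (.node (.leaf 0) (.leaf 0))) (.node (.node (.leaf 0) (.leaf 0)) (.node (.leaf 0) (.leaf 0)))) (.node (.node (.node (.leaf 0) (.leaf 0)) (.node (.leaf 0) (.leaf 0))) (.node (.node (.leaf 0) (.leaf 0)) (.node (.leaf 0) (.leaf 0))))))))) (.node (.node (.node (.node (.node (.node (.node (.node (.leaf 0) (.leaf 0)) (.node (.leaf 0) (.leaf 0))) (.node (.node (.leaf 0) (.leaf 0)) (.node (.leaf 0) (.leaf 0)))) (.node (.node (.node (.leaf 0) (.leaf 0)) (.node (.leaf 0) (.leaf 0))) (.node (.node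 (.leaf 0) (.leaf 0)) (.node (.leaf 0) (.leaf 0))))) (.node (.node (.node (.node (.leaf 0) (.leaf 0)) (.node (.leaf 0) (.leaf 0))) (.node (.node (.leaf 0) (.leaf 0)) (.node (.leaf 0) (.leaf 0)))) (.node (.node (.node (.leaf 0) (.leaf 0)) (.node (.leaf 0) (.leaf 0))) (.node (.node (.leaf 0) (.leaf 0)) (.node (.leaf 0) (.leaf 0)))))) (.node (.node (.node (.node (.node (.leaf 0) (.leaf 0)) (.node (.leaf 0) (.leaf 0))) (.node (.node (.leaf 0) (.leaf 0)) (.node (.leaf 0) (.leaf 0)))) (.node (.node (.node (.leaf 0) (.leaf 0)) (.node (.leaf 0) (.leaf 0))) (.node (.node (.leaf 0) (.leaf 0)) (.node (.leaf 0) (.leaf 0))))) (.node (.node (.node (.node (.leaf 0) (.leaf 0)) (.node (.leaf 0) (.leaf 0))) (.node (.node (.leaf 0) (.leaf 0)) (.node (.leaf 0) (.leaf 0)))) (.node (.node (.node (.leaf 0) (.leaf 0)) (.node (.leaf 0) (.leaf 0))) (.node (.node (.leaf 0) (.leaf 0)) (.node (.leaf 0) (.leaf 0))))))) (.node (.node (.node (.node (.node (.node (.leaf 0) (.leaf 0)) (.node (.leaf 0) (.leaf 0))) (.node (.node (.leaf 0) (.leaf 0)) (.node (.leaf 0) (.leaf 0)))) (.node (.node (.node (.leaf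 0) (.leaf 0)) (.node (.leaf 0) (.leaf 0))) (.node (.node (.leaf 0) (.leaf 0)) (.node (.leaf 0) (.leaf 0))))) (.node (.node (.node (.node (.leaf 0) (.leaf 0)) (.node (.leaf 0) (.leaf 0))) (.node (.node (.leaf 0) (.leaf 0)) (.node (.leaf 0) (.leaf 0)))) (.node (.node (.node (.leaf 0) (.leaf 0)) (.node (.leaf 0) (.leaf 0))) (.node (.node (.leaf 0) (.leaf 0)) (.node (.leaf 0) (.leaf 0)))))) (.node (.node (.node (.node (.node (.leaf 0) (.leaf 0)) (.node (.leaf 0) (.leaf 0))) (.node (.node (.leaf 0) (.leaf 0)) (.node (.leaf 0) (.leaf 0)))) (.node (.node (.node (.leaf 0) (.leaf 0)) (.node (.leaf 0) (.leaf 0))) (.node (.node (.leaf 0) (.leaf 0)) (.node (.leaf 0) (.leaf 0))))) (.node (.node (.node (.node (.leaf 0) (.leaf 0)) (.node (.leaf 0) (.leaf 0))) (.node (.node (.leaf 0) (.leaf 0)) (.node (.leaf 0) (.leaf 0)))) (.node (.node (.node (.leaf 0) (.leaf 0)) (.node (.leaf 0) (.leaf 0))) (.node (.node (.leaf 0) (.leaf 0)) (.node (.leaf 0) (.leaf 0)))))))) (.node (.node (.node (.node (.node (.node (.node (.leaf 0) (.leaf 0)) (.node (.leaf 0) (.leaf 0))) (.node (.node (.leaf 0) (.leaf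 0)) (.node (.leaf 0) (.leaf 0)))) (.node (.node (.node (.leaf 0) (.leaf 0)) (.node (.leaf 0) (.leaf 0))) (.node (.node (.leaf 0) (.leaf 0)) (.node (.leaf 0) (.leaf 0))))) (.node (.node (.node (.node (.leaf 0) (.leaf 0)) (.node (.leaf 0) (.leaf 0))) (.node (.node (.leaf 0) (.leaf 0)) (.node (.leaf 0) (.leaf 0)))) (.node (.node (.node (.leaf 0) (.leaf 0)) (.node (.leaf 0) (.leaf 0))) (.node (.node (.leaf 0) (.leaf 0)) (.node (.leaf 0) (.leaf 0)))))) (.node (.node (.node (.node (.node (.leaf 0) (.leaf 0)) (.node (.leaf 0) (.leaf 0))) (.node (.node (.leaf 0) (.leaf 0)) (.node (.leaf 0) (.leaf 0)))) (.node (.node (.node (.leaf 0) (.leaf 0)) (.node (.leaf 0) (.leaf 0))) (.node (.node (.leaf 0) (.leaf 0)) (.node (.leaf 0) (.leaf 0))))) (.node (.node (.node (.node (.leaf 0) (.leaf 0)) (.node (.leaf 0) (.leaf 0))) (.node (.node (.leaf 0) (.leaf 0)) (.node (.leaf 0) (.leaf 0)))) (.node (.node (.node (.leaf 0) (.leaf 0)) (.node (.leaf 0) (.leaf 0))) (.node (.node (.leaf 0) (.leaf 0)) (.node (.leaf 0) (.leaf 0))))))) (.node (.node (.node (.node (.node (.node (.leaf 0) (.leaf 0))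 (.node (.leaf 0) (.leaf 0))) (.node (.node (.leaf 0) (.leaf 0)) (.node (.leaf 0) (.leaf 0)))) (.node (.node (.node (.leaf 0) (.leaf 0)) (.node (.leaf 0) (.leaf 0))) (.node (.node (.leaf 0) (.leaf 0)) (.node (.leaf 0) (.leaf 0))))) (.node (.node (.node (.node (.leaf 0) (.leaf 0)) (.node (.leaf 0) (.leaf 0))) (.node (.node (.leaf 0) (.leaf 0)) (.node (.leaf 0) (.leaf 0)))) (.node (.node (.node (.leaf 0) (.leaf 0)) (.node (.leaf 0) (.leaf 0))) (.node (.node (.leaf 0) (.leaf 0)) (.node (.leaf 0) (.leaf 0)))))) (.node (.node (.node (.node (.node (.leaf 0) (.leaf 0)) (.node (.leaf 0) (.leaf 0))) (.node (.node (.leaf 0) (.leaf 0)) (.node (.leaf 0) (.leaf 0)))) (.node (.node (.node (.leaf 0) (.leaf 0)) (.node (.leaf 0) (.leaf 0))) (.node (.node (.leaf 0) (.leaf 0)) (.node (.leaf 0) (.leaf 0))))) (.node (.node (.node (.node (.leaf 0) (.leaf 0)) (.node (.leaf 0) (.leaf 0))) (.node (.node (.leaf 0) (.leaf 0)) (.node (.leaf 0) (.leaf 0)))) (.node (.node (.node (.leaf 0) (.leaf 0)) (.node (.leaf 0) (.leaf 0))) (.node (.node (.leaf 0) (.leaf 0)) (.node (.leaf 0) (.leaf 0)))))))))))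

/-- Right multiplication by the first generator of `K`. -/
def sATree : NTree :=
  (.node (.node (.node (.node (.node (.node (.node (.node (.node (.node (.leaf 1) (.leaf 0)) (.node (.leaf 4) (.leaf 6))) (.node (.node (.leaf 2) (.leaf 9)) (.node (.leaf 3) (.leaf 11)))) (.node (.node (.node (.leaf 12) (.leaf 5)) (.node (.leaf 15) (.leaf 7))) (.node (.node (.leaf 8) (.leaf 19)) (.node (.leaf 20) (.leaf 10))))) (.node (.node (.node (.node (.leaf 23) (.leaf 24)) (.node (.leaf 26) (.leaf 13))) (.node (.node (.leaf 14) (.leaf 30)) (.node (.leaf 31) (.leaf 16)))) (.node (.node (.node (.leaf 17) (.leaf 35)) (.node (.leaf 18) (.leaf 37))) (.node (.node (.leaf 38) (.leaf 40)) (.node (.leaf 21) (.leaf 22)))))) (.node (.node (.node (.node (.node (.leaf 44) (.leaf 45)) (.node (.leaf 47) (.leaf 25))) (.node (.node (.leaf 50) (.leaf 27)) (.node (.leaf 28) (.leaf 54)))) (.node (.node (.node (.leaf 29) (.leaf 56)) (.node (.leaf 57) (.leaf 59))) (.node (.node (.leaf 32) (.leaf 33)) (.node (.leaf 63) (.leaf 34))))) (.node (.node (.node (.node (.leaf 65) (.leaf 66)) (.node (.leaf 36) (.leaf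 69))) (.node (.node (.leaf 70) (.leaf 72)) (.node (.leaf 39) (.leaf 75)))) (.node (.node (.node (.leaf 41) (.leaf 42)) (.node (.leaf 79) (.leaf 43))) (.node (.node (.leaf 81) (.leaf 82)) (.node (.leaf 84) (.leaf 46))))))) (.node (.node (.node (.node (.node (.node (.leaf 87) (.leaf 48)) (.node (.leaf 49) (.leaf 91))) (.node (.node (.leaf 92) (.leaf 51)) (.node (.leaf 52) (.leaf 96)))) (.node (.node (.node (.leaf 53) (.leaf 98)) (.node (.leaf 99) (.leaf 55))) (.node (.node (.leaf 102) (.leaf 103)) (.node (.leaf 105) (.leaf 58))))) (.node (.node (.node (.node (.leaf 108) (.leaf 60)) (.node (.leaf 61) (.leaf 112))) (.node (.node (.leaf 62) (.leaf 114)) (.node (.leaf 115) (.leaf 64)))) (.node (.node (.node (.leaf 118) (.leaf 119)) (.node (.leaf 121) (.leaf 67))) (.node (.node (.leaf 68) (.leaf 125)) (.node (.leaf 126) (.leaf 128)))))) (.node (.node (.node (.node (.node (.leaf 71) (.leaf 131)) (.node (.leaf 73) (.leaf 74))) (.node (.node (.leaf 135) (.leaf 136)) (.node (.leaf 76) (.leaf 77)))) (.node (.node (.node (.leaf 140) (.leaf 78)) (.node (.leaf 142) (.leaf 143))) (.node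 (.node (.leaf 80) (.leaf 146)) (.node (.leaf 147) (.leaf 149))))) (.node (.node (.node (.node (.leaf 83) (.leaf 152)) (.node (.leaf 85) (.leaf 86))) (.node (.node (.leaf 156) (.leaf 157)) (.node (.leaf 88) (.leaf 89)))) (.node (.node (.node (.leaf 161) (.leaf 90)) (.node (.leaf 163) (.leaf 164))) (.node (.node (.leaf 166) (.leaf 93)) (.node (.leaf 94) (.leaf 170)))))))) (.node (.node (.node (.node (.node (.node (.node (.leaf 95) (.leaf 172)) (.node (.leaf 173) (.leaf 97))) (.node (.node (.leaf 176) (.leaf 154)) (.node (.leaf 178) (.leaf 100)))) (.node (.node (.node (.leaf 101) (.leaf 182)) (.node (.leaf 183) (.leaf 185))) (.node (.node (.leaf 104) (.leaf 188)) (.node (.leaf 106) (.leaf 107))))) (.node (.node (.node (.node (.leaf 192) (.leaf 193)) (.node (.leaf 109) (.leaf 110))) (.node (.node (.leaf 197) (.leaf 111)) (.node (.leaf 199) (.leaf 200)))) (.node (.node (.node (.leaf 113) (.leaf 203)) (.node (.leaf 133) (.leaf 205))) (.node (.node (.leaf 116) (.leaf 117)) (.node (.leaf 209) (.leaf 210)))))) (.node (.node (.node (.node (.node (.leaf 212) (.leaf 120)) (.node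 (.leaf 215) (.leaf 122))) (.node (.node (.leaf 123) (.leaf 219)) (.node (.leaf 124) (.leaf 220)))) (.node (.node (.node (.leaf 221) (.leaf 223)) (.node (.leaf 127) (.leaf 226))) (.node (.node (.leaf 129) (.leaf 130)) (.node (.leaf 230) (.leaf 231))))) (.node (.node (.node (.node (.leaf 132) (.leaf 234)) (.node (.leaf 134) (.leaf 236))) (.node (.node (.leaf 237) (.leaf 239)) (.node (.leaf 137) (.leaf 138)))) (.node (.node (.node (.leaf 243) (.leaf 139)) (.node (.leaf 213) (.leaf 245))) (.node (.node (.leaf 141) (.leaf 248)) (.node (.leaf 228) (.leaf 250))))))) (.node (.node (.node (.node (.node (.node (.leaf 144) (.leaf 145)) (.node (.leaf 253) (.leaf 254))) (.node (.node (.leaf 256) (.leaf 148)) (.node (.leaf 259) (.leaf 150)))) (.node (.node (.node (.leaf 151) (.leaf 263)) (.node (.leaf 264) (.leaf 153))) (.node (.node (.leaf 267) (.leaf 155)) (.node (.leaf 269) (.leaf 270))))) (.node (.node (.node (.node (.leaf 272) (.leaf 158)) (.node (.leaf 159) (.leaf 276))) (.node (.node (.leaf 160) (.leaf 186)) (.node (.leaf 278) (.leaf 162)))) (.node (.node (.node (.leaf 281)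 (.leaf 261)) (.node (.leaf 283) (.leaf 165))) (.node (.node (.leaf 167) (.leaf 168)) (.node (.leaf 288) (.leaf 169)))))) (.node (.node (.node (.node (.node (.leaf 290) (.leaf 291)) (.node (.leaf 171) (.leaf 294))) (.node (.node (.leaf 190) (.leaf 296)) (.node (.leaf 174) (.leaf 175)))) (.node (.node (.node (.leaf 300) (.leaf 301)) (.node (.leaf 177) (.leaf 304))) (.node (.node (.leaf 179) (.leaf 180)) (.node (.leaf 308) (.leaf 181))))) (.node (.node (.node (.node (.leaf 309) (.leaf 310)) (.node (.leaf 312) (.leaf 184))) (.node (.node (.leaf 315) (.leaf 187)) (.node (.leaf 318) (.leaf 319)))) (.node (.node (.node (.leaf 189) (.leaf 322)) (.node (.leaf 191) (.leaf 324))) (.node (.node (.leaf 325) (.leaf 194)) (.node (.leaf 195) (.leaf 328))))))))) (.node (.node (.node (.node (.node (.node (.node (.node (.leaf 196) (.leaf 329)) (.node (.leaf 330) (.leaf 198))) (.node (.node (.leaf 333) (.leaf 217)) (.node (.leaf 335) (.leaf 201)))) (.node (.node (.node (.leaf 202) (.leaf 339)) (.node (.leaf 289) (.leaf 204))) (.node (.node (.leaf 342) (.leaf 206)) (.node (.leaf 207) (.leaf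 346))))) (.node (.node (.node (.node (.leaf 208) (.leaf 347)) (.node (.leaf 348) (.leaf 350))) (.node (.node (.leaf 211) (.leaf 353)) (.node (.leaf 214) (.leaf 356)))) (.node (.node (.node (.leaf 357) (.leaf 216)) (.node (.leaf 360) (.leaf 218))) (.node (.node (.leaf 362) (.leaf 363)) (.node (.leaf 364) (.leaf 366)))))) (.node (.node (.node (.node (.node (.leaf 222) (.leaf 266)) (.node (.leaf 224) (.leaf 225))) (.node (.node (.leaf 331) (.leaf 372)) (.node (.leaf 227) (.leaf 375)))) (.node (.node (.node (.leaf 229) (.leaf 377)) (.node (.leaf 349) (.leaf 379))) (.node (.node (.leaf 232) (.leaf 233)) (.node (.leaf 383) (.leaf 384))))) (.node (.node (.node (.node (.leaf 235) (.leaf 387)) (.node (.leaf 370) (.leaf 358))) (.node (.node (.leaf 238) (.leaf 240)) (.node (.leaf 241) (.leaf 337)))) (.node (.node (.node (.leaf 242) (.leaf 394)) (.node (.leaf 395) (.leaf 244))) (.node (.node (.leaf 398) (.leaf 399)) (.node (.leaf 246) (.leaf 247))))))) (.node (.node (.node (.node (.node (.node (.leaf 345) (.leaf 403)) (.node (.leaf 249) (.leaf 361))) (.node (.node (.leaf 251) (.leaf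 252)) (.node (.leaf 409) (.leaf 411)))) (.node (.node (.node (.leaf 255) (.leaf 257)) (.node (.leaf 258) (.leaf 292))) (.node (.node (.leaf 416) (.leaf 260)) (.node (.leaf 381) (.leaf 262))))) (.node (.node (.node (.node (.leaf 419) (.leaf 311)) (.node (.leaf 421) (.leaf 265))) (.node (.node (.leaf 423) (.leaf 424)) (.node (.leaf 268) (.leaf 427)))) (.node (.node (.node (.leaf 414) (.leaf 320)) (.node (.leaf 271) (.leaf 273))) (.node (.node (.leaf 274) (.leaf 298)) (.node (.leaf 275) (.leaf 392)))))) (.node (.node (.node (.node (.node (.leaf 433) (.leaf 277)) (.node (.leaf 373) (.leaf 436))) (.node (.node (.leaf 279) (.leaf 280)) (.node (.leaf 307) (.leaf 440)))) (.node (.node (.node (.leaf 282) (.leaf 323)) (.node (.leaf 284) (.leaf 285))) (.node (.node (.leaf 286) (.leaf 447)) (.node (.leaf 287) (.leaf 448))))) (.node (.node (.node (.node (.leaf 449) (.leaf 451)) (.node (.leaf 306) (.leaf 453))) (.node (.node (.leaf 293) (.leaf 354)) (.node (.leaf 393) (.leaf 295)))) (.node (.node (.node (.leaf 458) (.leaf 297)) (.node (.leaf 461) (.leaf 299))) (.node (.node (.leaf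 462) (.leaf 334)) (.node (.leaf 464) (.leaf 302)))))))) (.node (.node (.node (.node (.node (.node (.node (.leaf 303) (.leaf 467)) (.node (.leaf 468) (.leaf 305))) (.node (.node (.leaf 471) (.leaf 472)) (.node (.leaf 473) (.leaf 474)))) (.node (.node (.node (.leaf 351) (.leaf 374)) (.node (.leaf 313) (.leaf 314))) (.node (.node (.leaf 450) (.leaf 480)) (.node (.leaf 316) (.leaf 317))))) (.node (.node (.node (.node (.leaf 483) (.leaf 463)) (.node (.leaf 485) (.leaf 321))) (.node (.node (.leaf 488) (.leaf 489)) (.node (.leaf 491) (.leaf 478)))) (.node (.node (.node (.leaf 469) (.leaf 326)) (.node (.leaf 495) (.leaf 327))) (.node (.node (.leaf 496) (.leaf 497)) (.node (.leaf 344) (.leaf 499)))))) (.node (.node (.node (.node (.node (.leaf 332) (.leaf 432)) (.node (.leaf 503) (.leaf 336))) (.node (.node (.leaf 506) (.leaf 338)) (.node (.leaf 507) (.leaf 340)))) (.node (.node (.node (.leaf 341) (.leaf 481)) (.node (.leaf 510) (.leaf 343))) (.node (.node (.leaf 513) (.leaf 452)) (.node (.leaf 514) (.leaf 515))))) (.node (.node (.node (.node (.leaf 417) (.leaf 352)) (.node (.leaf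 498) (.leaf 519))) (.node (.node (.leaf 355) (.leaf 521)) (.node (.leaf 457) (.leaf 523)))) (.node (.node (.node (.leaf 359) (.leaf 526)) (.node (.leaf 527) (.leaf 529))) (.node (.node (.leaf 476) (.leaf 511)) (.node (.leaf 520) (.leaf 365))))))) (.node (.node (.node (.node (.node (.node (.leaf 367) (.leaf 368)) (.node (.leaf 396) (.leaf 369))) (.node (.node (.leaf 429) (.leaf 371)) (.node (.leaf 501) (.leaf 500)))) (.node (.node (.node (.leaf 539) (.leaf 438)) (.node (.leaf 376) (.leaf 541))) (.node (.node (.leaf 534) (.leaf 378)) (.node (.leaf 380) (.leaf 401))))) (.node (.node (.node (.node (.leaf 382) (.leaf 546)) (.node (.leaf 548) (.leaf 385))) (.node (.node (.leaf 386) (.leaf 408)) (.node (.leaf 551) (.leaf 388)))) (.node (.node (.node (.leaf 389) (.leaf 390)) (.node (.leaf 391) (.leaf 556))) (.node (.node (.leaf 444) (.leaf 557)) (.node (.leaf 407) (.leaf 558)))))) (.node (.node (.node (.node (.node (.leaf 397) (.leaf 425)) (.node (.leaf 494) (.leaf 400))) (.node (.node (.leaf 563) (.leaf 402)) (.node (.leaf 564) (.leaf 565)))) (.node (.node (.node (.leaf 404)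 (.leaf 405)) (.node (.leaf 568) (.leaf 406))) (.node (.node (.leaf 570) (.leaf 571)) (.node (.leaf 482) (.leaf 410))))) (.node (.node (.node (.node (.leaf 412) (.leaf 413)) (.node (.leaf 434) (.leaf 415))) (.node (.node (.leaf 455) (.leaf 454)) (.node (.leaf 542) (.leaf 418)))) (.node (.node (.node (.leaf 552) (.leaf 574)) (.node (.leaf 420) (.leaf 422))) (.node (.node (.leaf 559) (.leaf 582)) (.node (.leaf 426) (.leaf 445)))))))))) (.node (.node (.node (.node (.node (.node (.node (.node (.node (.leaf 561) (.leaf 428)) (.node (.leaf 430) (.leaf 431))) (.node (.node (.leaf 586) (.leaf 553)) (.node (.leaf 566) (.leaf 435)))) (.node (.node (.node (.leaf 446) (.leaf 437)) (.node (.leaf 588) (.leaf 439))) (.node (.node (.leaf 589) (.leaf 567)) (.node (.leaf 441) (.leaf 442))))) (.node (.node (.node (.node (.leaf 549) (.leaf 443)) (.node (.leaf 562) (.leaf 591))) (.node (.node (.leaf 592) (.leaf 593)) (.node (.leaf 460) (.leaf 595)))) (.node (.node (.node (.leaf 545) (.leaf 598)) (.node (.leaf 600) (.leaf 456))) (.node (.node (.leaf 601) (.leaf 459)) (.node (.leaf 502) (.leaf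 603)))))) (.node (.node (.node (.node (.node (.leaf 604) (.leaf 536)) (.node (.leaf 465) (.leaf 594))) (.node (.node (.leaf 466) (.leaf 528)) (.node (.leaf 608) (.leaf 470)))) (.node (.node (.node (.leaf 504) (.leaf 517)) (.node (.leaf 602) (.leaf 607))) (.node (.node (.leaf 475) (.leaf 477)) (.node (.leaf 479) (.leaf 508))))) (.node (.node (.node (.node (.leaf 596) (.leaf 512)) (.node (.leaf 530) (.leaf 484))) (.node (.node (.leaf 486) (.leaf 487)) (.node (.leaf 518) (.leaf 525)))) (.node (.node (.node (.leaf 490) (.leaf 623)) (.node (.leaf 492) (.leaf 493))) (.node (.node (.leaf 626) (.leaf 612)) (.node (.leaf 505) (.leaf 619))))))) (.node (.node (.node (.node (.node (.node (.leaf 629) (.leaf 631)) (.node (.leaf 605) (.leaf 633))) (.node (.node (.leaf 634) (.leaf 627)) (.node (.leaf 509) (.leaf 616)))) (.node (.node (.node (.leaf 632) (.leaf 635)) (.node (.leaf 516) (.leaf 628))) (.node (.node (.leaf 522) (.leaf 524)) (.node (.leaf 640) (.leaf 531))))) (.node (.node (.node (.node (.leaf 532) (.leaf 533)) (.node (.leaf 547) (.leaf 535))) (.node (.node (.leaf 560) (.leaf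 617)) (.node (.leaf 537) (.leaf 624)))) (.node (.node (.node (.leaf 538) (.leaf 540)) (.node (.leaf 554) (.leaf 543))) (.node (.node (.leaf 544) (.leaf 578)) (.node (.leaf 625) (.leaf 555)))))) (.node (.node (.node (.node (.node (.leaf 550) (.leaf 647)) (.node (.leaf 622) (.leaf 648))) (.node (.node (.leaf 573) (.leaf 649)) (.node (.leaf 620) (.leaf 651)))) (.node (.node (.node (.leaf 583) (.leaf 597)) (.node (.leaf 652) (.leaf 575))) (.node (.node (.leaf 614) (.leaf 650)) (.node (.leaf 610) (.leaf 569))))) (.node (.node (.node (.node (.leaf 599) (.leaf 606)) (.node (.leaf 572) (.leaf 581))) (.node (.node (.leaf 587) (.leaf 576)) (.node (.leaf 641) (.leaf 577)))) (.node (.node (.node (.leaf 584) (.leaf 579)) (.node (.leaf 580) (.leaf 585))) (.node (.node (.leaf 656) (.leaf 644)) (.node (.leaf 657) (.leaf 646)))))))) (.node (.node (.node (.node (.node (.node (.node (.leaf 590) (.leaf 630)) (.node (.leaf 654) (.leaf 653))) (.node (.node (.leaf 637) (.leaf 658)) (.node (.leaf 639) (.leaf 609)))) (.node (.node (.node (.leaf 611) (.leaf 613)) (.node (.leaf 621) (.leaf 615)))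 (.node (.node (.leaf 618) (.leaf 643)) (.node (.leaf 642) (.leaf 659))))) (.node (.node (.node (.node (.leaf 636) (.leaf 638)) (.node (.leaf 645) (.leaf 655))) (.node (.node (.leaf 0) (.leaf 0)) (.node (.leaf 0) (.leaf 0)))) (.node (.node (.node (.leaf 0) (.leaf 0)) (.node (.leaf 0) (.leaf 0))) (.node (.node (.leaf 0) (.leaf 0)) (.node (.leaf 0) (.leaf 0)))))) (.node (.node (.node (.node (.node (.leaf 0) (.leaf 0)) (.node (.leaf 0) (.leaf 0))) (.node (.node (.leaf 0) (.leaf 0)) (.node (.leaf 0) (.leaf 0)))) (.node (.node (.node (.leaf 0) (.leaf 0)) (.node (.leaf 0) (.leaf 0))) (.node (.node (.leaf 0) (.leaf 0)) (.node (.leaf 0) (.leaf 0))))) (.node (.node (.node (.node (.leaf 0) (.leaf 0)) (.node (.leaf 0) (.leaf 0))) (.node (.node (.leaf 0) (.leaf 0)) (.node (.leaf 0) (.leaf 0)))) (.node (.node (.node (.leaf 0) (.leaf 0)) (.node (.leaf 0) (.leaf 0))) (.node (.node (.leaf 0) (.leaf 0)) (.node (.leaf 0) (.leaf 0))))))) (.node (.node (.node (.node (.node (.node (.leaf 0) (.leaf 0)) (.node (.leaf 0) (.leaf 0))) (.node (.node (.leaf 0) (.leaf 0)) (.node (.leaf 0) (.leaf 0))))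 (.node (.node (.node (.leaf 0) (.leaf 0)) (.node (.leaf 0) (.leaf 0))) (.node (.node (.leaf 0) (.leaf 0)) (.node (.leaf 0) (.leaf 0))))) (.node (.node (.node (.node (.leaf 0) (.leaf 0)) (.node (.leaf 0) (.leaf 0))) (.node (.node (.leaf 0) (.leaf 0)) (.node (.leaf 0) (.leaf 0)))) (.node (.node (.node (.leaf 0) (.leaf 0)) (.node (.leaf 0) (.leaf 0))) (.node (.node (.leaf 0) (.leaf 0)) (.node (.leaf 0) (.leaf 0)))))) (.node (.node (.node (.node (.node (.leaf 0) (.leaf 0)) (.node (.leaf 0) (.leaf 0))) (.node (.node (.leaf 0) (.leaf 0)) (.node (.leaf 0) (.leaf 0)))) (.node (.node (.node (.leaf 0) (.leaf 0)) (.node (.leaf 0) (.leaf 0))) (.node (.node (.leaf 0) (.leaf 0)) (.node (.leaf 0) (.leaf 0))))) (.node (.node (.node (.node (.leaf 0) (.leaf 0)) (.node (.leaf 0) (.leaf 0))) (.node (.node (.leaf 0) (.leaf 0)) (.node (.leaf 0) (.leaf 0)))) (.node (.node (.node (.leaf 0) (.leaf 0)) (.node (.leaf 0) (.leaf 0))) (.node (.node (.leaf 0) (.leaf 0)) (.node (.leaf 0) (.leaf 0))))))))) (.node (.node (.node (.node (.node (.node (.node (.node (.leaf 0) (.leaf 0)) (.node (.leaf 0) (.leaf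 0))) (.node (.node (.leaf 0) (.leaf 0)) (.node (.leaf 0) (.leaf 0)))) (.node (.node (.node (.leaf 0) (.leaf 0)) (.node (.leaf 0) (.leaf 0))) (.node (.node (.leaf 0) (.leaf 0)) (.node (.leaf 0) (.leaf 0))))) (.node (.node (.node (.node (.leaf 0) (.leaf 0)) (.node (.leaf 0) (.leaf 0))) (.node (.node (.leaf 0) (.leaf 0)) (.node (.leaf 0) (.leaf 0)))) (.node (.node (.node (.leaf 0) (.leaf 0)) (.node (.leaf 0) (.leaf 0))) (.node (.node (.leaf 0) (.leaf 0)) (.node (.leaf 0) (.leaf 0)))))) (.node (.node (.node (.node (.node (.leaf 0) (.leaf 0)) (.node (.leaf 0) (.leaf 0))) (.node (.node (.leaf 0) (.leaf 0)) (.node (.leaf 0) (.leaf 0)))) (.node (.node (.node (.leaf 0) (.leaf 0)) (.node (.leaf 0) (.leaf 0))) (.node (.node (.leaf 0) (.leaf 0)) (.node (.leaf 0) (.leaf 0))))) (.node (.node (.node (.node (.leaf 0) (.leaf 0)) (.node (.leaf 0) (.leaf 0))) (.node (.node (.leaf 0) (.leaf 0)) (.node (.leaf 0) (.leaf 0)))) (.node (.node (.node (.leaf 0) (.leaf 0)) (.node (.leaf 0) (.leaf 0))) (.node (.node (.leaf 0) (.leaf 0)) (.node (.leaf 0) (.leaf 0))))))) (.node (.node (.node (.node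 (.node (.node (.leaf 0) (.leaf 0)) (.node (.leaf 0) (.leaf 0))) (.node (.node (.leaf 0) (.leaf 0)) (.node (.leaf 0) (.leaf 0)))) (.node (.node (.node (.leaf 0) (.leaf 0)) (.node (.leaf 0) (.leaf 0))) (.node (.node (.leaf 0) (.leaf 0)) (.node (.leaf 0) (.leaf 0))))) (.node (.node (.node (.node (.leaf 0) (.leaf 0)) (.node (.leaf 0) (.leaf 0))) (.node (.node (.leaf 0) (.leaf 0)) (.node (.leaf 0) (.leaf 0)))) (.node (.node (.node (.leaf 0) (.leaf 0)) (.node (.leaf 0) (.leaf 0))) (.node (.node (.leaf 0) (.leaf 0)) (.node (.leaf 0) (.leaf 0)))))) (.node (.node (.node (.node (.node (.leaf 0) (.leaf 0)) (.node (.leaf 0) (.leaf 0))) (.node (.node (.leaf 0) (.leaf 0)) (.node (.leaf 0) (.leaf 0)))) (.node (.node (.node (.leaf 0) (.leaf 0)) (.node (.leaf 0) (.leaf 0))) (.node (.node (.leaf 0) (.leaf 0)) (.node (.leaf 0) (.leaf 0))))) (.node (.node (.node (.node (.leaf 0) (.leaf 0)) (.node (.leaf 0) (.leaf 0))) (.node (.node (.leaf 0) (.leaf 0)) (.node (.leaf 0) (.leaf 0)))) (.node (.node (.node (.leaf 0) (.leaf 0)) (.node (.leaf 0) (.leaf 0))) (.node (.node (.leaf 0) (.leaf 0)) (.node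 (.leaf 0) (.leaf 0)))))))) (.node (.node (.node (.node (.node (.node (.node (.leaf 0) (.leaf 0)) (.node (.leaf 0) (.leaf 0))) (.node (.node (.leaf 0) (.leaf 0)) (.node (.leaf 0) (.leaf 0)))) (.node (.node (.node (.leaf 0) (.leaf 0)) (.node (.leaf 0) (.leaf 0))) (.node (.node (.leaf 0) (.leaf 0)) (.node (.leaf 0) (.leaf 0))))) (.node (.node (.node (.node (.leaf 0) (.leaf 0)) (.node (.leaf 0) (.leaf 0))) (.node (.node (.leaf 0) (.leaf 0)) (.node (.leaf 0) (.leaf 0)))) (.node (.node (.node (.leaf 0) (.leaf 0)) (.node (.leaf 0) (.leaf 0))) (.node (.node (.leaf 0) (.leaf 0)) (.node (.leaf 0) (.leaf 0)))))) (.node (.node (.node (.node (.node (.leaf 0) (.leaf 0)) (.node (.leaf 0) (.leaf 0))) (.node (.node (.leaf 0) (.leaf 0)) (.node (.leaf 0) (.leaf 0)))) (.node (.node (.node (.leaf 0) (.leaf 0)) (.node (.leaf 0) (.leaf 0))) (.node (.node (.leaf 0) (.leaf 0)) (.node (.leaf 0) (.leaf 0))))) (.node (.node (.node (.node (.leaf 0) (.leaf 0)) (.node (.leaf 0) (.leaf 0))) (.node (.node (.leaf 0) (.leaf 0)) (.node (.leaf 0) (.leaf 0)))) (.node (.node (.node (.leaf 0) (.leaf 0)) (.node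 (.leaf 0) (.leaf 0))) (.node (.node (.leaf 0) (.leaf 0)) (.node (.leaf 0) (.leaf 0))))))) (.node (.node (.node (.node (.node (.node (.leaf 0) (.leaf 0)) (.node (.leaf 0) (.leaf 0))) (.node (.node (.leaf 0) (.leaf 0)) (.node (.leaf 0) (.leaf 0)))) (.node (.node (.node (.leaf 0) (.leaf 0)) (.node (.leaf 0) (.leaf 0))) (.node (.node (.leaf 0) (.leaf 0)) (.node (.leaf 0) (.leaf 0))))) (.node (.node (.node (.node (.leaf 0) (.leaf 0)) (.node (.leaf 0) (.leaf 0))) (.node (.node (.leaf 0) (.leaf 0)) (.node (.leaf 0) (.leaf 0)))) (.node (.node (.node (.leaf 0) (.leaf 0)) (.node (.leaf 0) (.leaf 0))) (.node (.node (.leaf 0) (.leaf 0)) (.node (.leaf 0) (.leaf 0)))))) (.node (.node (.node (.node (.node (.leaf 0) (.leaf 0)) (.node (.leaf 0) (.leaf 0))) (.node (.node (.leaf 0) (.leaf 0)) (.node (.leaf 0) (.leaf 0)))) (.node (.node (.node (.leaf 0) (.leaf 0)) (.node (.leaf 0) (.leaf 0))) (.node (.node (.leaf 0) (.leaf 0)) (.node (.leaf 0) (.leaf 0))))) (.node (.node (.node (.node (.leaf 0) (.leaf 0)) (.node (.leaf 0) (.leaf 0))) (.node (.node (.leaf 0) (.leaf 0)) (.node (.leaf 0) (.leaf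 0)))) (.node (.node (.node (.leaf 0) (.leaf 0)) (.node (.leaf 0) (.leaf 0))) (.node (.node (.leaf 0) (.leaf 0)) (.node (.leaf 0) (.leaf 0)))))))))))

/-- Right multiplication by the second generator of `K`. -/
def sBTree : NTree :=
  (.node (.node (.node (.node (.node (.node (.node (.node (.node (.node (.leaf 2) (.leaf 3)) (.node (.leaf 5) (.leaf 7))) (.node (.node (.leaf 8) (.leaf 0)) (.node (.leaf 10) (.leaf 1)))) (.node (.node (.node (.leaf 13) (.leaf 14)) (.node (.leaf 16) (.leaf 17))) (.node (.node (.leaf 18) (.leaf 4)) (.node (.leaf 21) (.leaf 22))))) (.node (.node (.node (.node (.leaf 6) (.leaf 25)) (.node (.leaf 27) (.leaf 28))) (.node (.node (.leaf 29) (.leaf 9)) (.node (.leaf 32) (.leaf 33)))) (.node (.node (.node (.leaf 34) (.leaf 11)) (.node (.leaf 36) (.leaf 12))) (.node (.node (.leaf 39) (.leaf 41)) (.node (.leaf 42) (.leaf 43)))))) (.node (.node (.node (.node (.node (.leaf 15) (.leaf 46)) (.node (.leaf 48) (.leaf 49))) (.node (.node (.leaf 51) (.leaf 52)) (.node (.leaf 53) (.leaf 19)))) (.node (.node (.node (.leaf 55) (.leaf 20)) (.node (.leaf 58) (.leaf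 60))) (.node (.node (.leaf 61) (.leaf 62)) (.node (.leaf 23) (.leaf 64))))) (.node (.node (.node (.node (.leaf 24) (.leaf 67)) (.node (.leaf 68) (.leaf 26))) (.node (.node (.leaf 71) (.leaf 73)) (.node (.leaf 74) (.leaf 76)))) (.node (.node (.node (.leaf 77) (.leaf 78)) (.node (.leaf 30) (.leaf 80))) (.node (.node (.leaf 31) (.leaf 83)) (.node (.leaf 85) (.leaf 86))))))) (.node (.node (.node (.node (.node (.node (.leaf 88) (.leaf 89)) (.node (.leaf 90) (.leaf 35))) (.node (.node (.leaf 93) (.leaf 94)) (.node (.leaf 95) (.leaf 37)))) (.node (.node (.node (.leaf 97) (.leaf 38)) (.node (.leaf 100) (.leaf 101))) (.node (.node (.leaf 40) (.leaf 104)) (.node (.leaf 106) (.leaf 107))))) (.node (.node (.node (.node (.leaf 109) (.leaf 110)) (.node (.leaf 111) (.leaf 44))) (.node (.node (.leaf 113) (.leaf 45)) (.node (.leaf 116) (.leaf 117)))) (.node (.node (.node (.leaf 47) (.leaf 120)) (.node (.leaf 122) (.leaf 123))) (.node (.node (.leaf 124) (.leaf 50)) (.node (.leaf 127) (.leaf 129)))))) (.node (.node (.node (.node (.node (.leaf 130) (.leaf 132)) (.node (.leaf 133) (.leaf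 134))) (.node (.node (.leaf 54) (.leaf 137)) (.node (.leaf 138) (.leaf 139)))) (.node (.node (.node (.leaf 56) (.leaf 141)) (.node (.leaf 57) (.leaf 144))) (.node (.node (.leaf 145) (.leaf 59)) (.node (.leaf 148) (.leaf 150))))) (.node (.node (.node (.node (.leaf 151) (.leaf 153)) (.node (.leaf 154) (.leaf 155))) (.node (.node (.leaf 63) (.leaf 158)) (.node (.leaf 159) (.leaf 160)))) (.node (.node (.node (.leaf 65) (.leaf 162)) (.node (.leaf 66) (.leaf 165))) (.node (.node (.leaf 167) (.leaf 168)) (.node (.leaf 169) (.leaf 69)))))))) (.node (.node (.node (.node (.node (.node (.node (.leaf 171) (.leaf 70)) (.node (.leaf 174) (.leaf 175))) (.node (.node (.leaf 72) (.leaf 177)) (.node (.leaf 179) (.leaf 180)))) (.node (.node (.node (.leaf 181) (.leaf 75)) (.node (.leaf 184) (.leaf 186))) (.node (.node (.leaf 187) (.leaf 189)) (.node (.leaf 190) (.leaf 191))))) (.node (.node (.node (.node (.leaf 79) (.leaf 194)) (.node (.leaf 195) (.leaf 196))) (.node (.node (.leaf 81) (.leaf 198)) (.node (.leaf 82) (.leaf 201)))) (.node (.node (.node (.leaf 202) (.leaf 84)) (.node (.leaf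 204) (.leaf 206))) (.node (.node (.leaf 207) (.leaf 208)) (.node (.leaf 87) (.leaf 211)))))) (.node (.node (.node (.node (.node (.leaf 213) (.leaf 214)) (.node (.leaf 216) (.leaf 217))) (.node (.node (.leaf 218) (.leaf 91)) (.node (.leaf 219) (.leaf 92)))) (.node (.node (.node (.leaf 222) (.leaf 224)) (.node (.leaf 225) (.leaf 227))) (.node (.node (.leaf 228) (.leaf 229)) (.node (.leaf 96) (.leaf 232))))) (.node (.node (.node (.node (.leaf 233) (.leaf 98)) (.node (.leaf 235) (.leaf 99))) (.node (.node (.leaf 238) (.leaf 240)) (.node (.leaf 241) (.leaf 242)))) (.node (.node (.node (.leaf 102) (.leaf 244)) (.node (.leaf 103) (.leaf 246))) (.node (.node (.leaf 247) (.leaf 105)) (.node (.leaf 249) (.leaf 251))))))) (.node (.node (.node (.node (.node (.node (.leaf 252) (.leaf 192)) (.node (.leaf 108) (.leaf 255))) (.node (.node (.leaf 257) (.leaf 258)) (.node (.leaf 260) (.leaf 261)))) (.node (.node (.node (.leaf 262) (.leaf 112)) (.node (.leaf 265) (.leaf 266))) (.node (.node (.leaf 114) (.leaf 268)) (.node (.leaf 115) (.leaf 271))))) (.node (.node (.node (.node (.leaf 273)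 (.leaf 274)) (.node (.leaf 275) (.leaf 118))) (.node (.node (.leaf 277) (.leaf 119)) (.node (.leaf 279) (.leaf 280)))) (.node (.node (.node (.leaf 121) (.leaf 282)) (.node (.leaf 284) (.leaf 285))) (.node (.node (.leaf 286) (.leaf 287)) (.node (.leaf 125) (.leaf 289)))))) (.node (.node (.node (.node (.node (.leaf 126) (.leaf 292)) (.node (.leaf 293) (.leaf 128))) (.node (.node (.leaf 295) (.leaf 297)) (.node (.leaf 298) (.leaf 299)))) (.node (.node (.node (.leaf 131) (.leaf 302)) (.node (.leaf 303) (.leaf 305))) (.node (.node (.leaf 306) (.leaf 307)) (.node (.leaf 135) (.leaf 308))))) (.node (.node (.node (.node (.leaf 136) (.leaf 311)) (.node (.leaf 313) (.leaf 314))) (.node (.node (.leaf 316) (.leaf 317)) (.node (.leaf 140) (.leaf 320)))) (.node (.node (.node (.leaf 321) (.leaf 142)) (.node (.leaf 323) (.leaf 143))) (.node (.node (.leaf 193) (.leaf 326)) (.node (.leaf 327) (.leaf 146))))))))) (.node (.node (.node (.node (.node (.node (.node (.node (.leaf 301) (.leaf 147)) (.node (.leaf 331) (.leaf 332))) (.node (.node (.leaf 149) (.leaf 334)) (.node (.leaf 336) (.leaf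 337)))) (.node (.node (.node (.leaf 338) (.leaf 152)) (.node (.leaf 340) (.leaf 341))) (.node (.node (.leaf 343) (.leaf 344)) (.node (.leaf 345) (.leaf 156))))) (.node (.node (.node (.node (.leaf 346) (.leaf 157)) (.node (.leaf 349) (.leaf 351))) (.node (.node (.leaf 352) (.leaf 354)) (.node (.leaf 355) (.leaf 161)))) (.node (.node (.node (.leaf 358) (.leaf 359)) (.node (.leaf 163) (.leaf 361))) (.node (.node (.leaf 164) (.leaf 166)) (.node (.leaf 365) (.leaf 367)))))) (.node (.node (.node (.node (.node (.leaf 368) (.leaf 369)) (.node (.leaf 370) (.leaf 371))) (.node (.node (.leaf 170) (.leaf 373)) (.node (.leaf 374) (.leaf 172)))) (.node (.node (.node (.leaf 376) (.leaf 173)) (.node (.leaf 378) (.leaf 380))) (.node (.node (.leaf 381) (.leaf 382)) (.node (.leaf 176) (.leaf 385))))) (.node (.node (.node (.node (.leaf 386) (.leaf 178)) (.node (.leaf 388) (.leaf 389))) (.node (.node (.leaf 390) (.leaf 391)) (.node (.leaf 392) (.leaf 182)))) (.node (.node (.node (.leaf 393) (.leaf 183)) (.node (.leaf 396) (.leaf 397))) (.node (.node (.leaf 185) (.leaf 400)) (.node (.leaf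 401) (.leaf 402))))))) (.node (.node (.node (.node (.node (.node (.leaf 188) (.leaf 404)) (.node (.leaf 405) (.leaf 406))) (.node (.node (.leaf 407) (.leaf 408)) (.node (.leaf 410) (.leaf 412)))) (.node (.node (.node (.leaf 413) (.leaf 414)) (.node (.leaf 415) (.leaf 197))) (.node (.node (.leaf 398) (.leaf 417)) (.node (.leaf 199) (.leaf 418))))) (.node (.node (.node (.node (.leaf 200) (.leaf 420)) (.node (.leaf 422) (.leaf 375))) (.node (.node (.leaf 203) (.leaf 425)) (.node (.leaf 426) (.leaf 205)))) (.node (.node (.node (.leaf 428) (.leaf 429)) (.node (.leaf 430) (.leaf 431))) (.node (.node (.leaf 394) (.leaf 209)) (.node (.leaf 432) (.leaf 210)))))) (.node (.node (.node (.node (.node (.leaf 434) (.leaf 435)) (.node (.leaf 212) (.leaf 437))) (.node (.node (.leaf 438) (.leaf 439)) (.node (.leaf 215) (.leaf 441)))) (.node (.node (.node (.leaf 442) (.leaf 443)) (.node (.leaf 444) (.leaf 445))) (.node (.node (.leaf 446) (.leaf 220)) (.node (.leaf 403) (.leaf 221))))) (.node (.node (.node (.node (.leaf 450) (.leaf 223)) (.node (.leaf 452) (.leaf 454))) (.node (.node (.leaf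 455) (.leaf 226)) (.node (.leaf 456) (.leaf 457)))) (.node (.node (.node (.leaf 459) (.leaf 460)) (.node (.leaf 230) (.leaf 461))) (.node (.node (.leaf 231) (.leaf 463)) (.node (.leaf 256) (.leaf 465)))))))) (.node (.node (.node (.node (.node (.node (.node (.leaf 466) (.leaf 234)) (.node (.leaf 469) (.leaf 470))) (.node (.node (.leaf 236) (.leaf 237)) (.node (.leaf 239) (.leaf 475)))) (.node (.node (.node (.leaf 476) (.leaf 477)) (.node (.leaf 478) (.leaf 479))) (.node (.node (.leaf 243) (.leaf 481)) (.node (.leaf 259) (.leaf 482))))) (.node (.node (.node (.node (.leaf 245) (.leaf 484)) (.node (.leaf 486) (.leaf 487))) (.node (.node (.leaf 248) (.leaf 490)) (.node (.leaf 250) (.leaf 492)))) (.node (.node (.node (.leaf 493) (.leaf 494)) (.node (.leaf 253) (.leaf 440))) (.node (.node (.leaf 254) (.leaf 498)) (.node (.leaf 472) (.leaf 500)))))) (.node (.node (.node (.node (.node (.leaf 501) (.leaf 502)) (.node (.leaf 504) (.leaf 505))) (.node (.node (.leaf 263) (.leaf 506)) (.node (.leaf 264) (.leaf 508)))) (.node (.node (.node (.leaf 509) (.leaf 267)) (.node (.leaf 511)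 (.leaf 512))) (.node (.node (.leaf 269) (.leaf 270)) (.node (.leaf 272) (.leaf 516))))) (.node (.node (.node (.node (.leaf 517) (.leaf 518)) (.node (.leaf 276) (.leaf 467))) (.node (.node (.leaf 520) (.leaf 278)) (.node (.leaf 522) (.leaf 524)))) (.node (.node (.node (.leaf 525) (.leaf 281)) (.node (.leaf 528) (.leaf 283))) (.node (.node (.leaf 530) (.leaf 531)) (.node (.leaf 532) (.leaf 533))))))) (.node (.node (.node (.node (.node (.node (.leaf 534) (.leaf 535)) (.node (.leaf 288) (.leaf 536))) (.node (.node (.leaf 290) (.leaf 537)) (.node (.leaf 291) (.leaf 538)))) (.node (.node (.node (.leaf 294) (.leaf 339)) (.node (.leaf 540) (.leaf 296))) (.node (.node (.leaf 542) (.leaf 543)) (.node (.leaf 544) (.leaf 300))))) (.node (.node (.node (.node (.leaf 545) (.leaf 547)) (.node (.leaf 549) (.leaf 353))) (.node (.node (.leaf 550) (.leaf 304)) (.node (.leaf 552) (.leaf 553)))) (.node (.node (.node (.leaf 329) (.leaf 554)) (.node (.leaf 555) (.leaf 309))) (.node (.node (.leaf 310) (.leaf 312)) (.node (.leaf 348) (.leaf 559)))))) (.node (.node (.node (.node (.node (.leaf 560)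 (.leaf 315)) (.node (.leaf 561) (.leaf 562))) (.node (.node (.leaf 318) (.leaf 563)) (.node (.leaf 319) (.leaf 366)))) (.node (.node (.node (.leaf 566) (.leaf 567)) (.node (.leaf 322) (.leaf 569))) (.node (.node (.leaf 324) (.leaf 325)) (.node (.leaf 572) (.leaf 573))))) (.node (.node (.node (.node (.leaf 574) (.leaf 575)) (.node (.leaf 328) (.leaf 576))) (.node (.node (.leaf 330) (.leaf 577)) (.node (.leaf 333) (.leaf 578)))) (.node (.node (.node (.leaf 335) (.leaf 539)) (.node (.leaf 579) (.leaf 580))) (.node (.node (.leaf 581) (.leaf 568)) (.node (.leaf 583) (.leaf 342)))))))))) (.node (.node (.node (.node (.node (.node (.node (.node (.node (.leaf 541) (.leaf 557)) (.node (.leaf 584) (.leaf 585))) (.node (.node (.leaf 347) (.leaf 350)) (.node (.leaf 546) (.leaf 587)))) (.node (.node (.node (.leaf 551) (.leaf 570)) (.node (.leaf 356) (.leaf 588))) (.node (.node (.leaf 357) (.leaf 411)) (.node (.leaf 558) (.leaf 565))))) (.node (.node (.node (.node (.leaf 360) (.leaf 590)) (.node (.leaf 362) (.leaf 363))) (.node (.node (.leaf 364) (.leaf 594)) (.node (.leaf 571) (.leaf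 596)))) (.node (.node (.node (.leaf 597) (.leaf 599)) (.node (.leaf 372) (.leaf 419))) (.node (.node (.leaf 602) (.leaf 427)) (.node (.leaf 377) (.leaf 379)))))) (.node (.node (.node (.node (.node (.leaf 605) (.leaf 606)) (.node (.leaf 433) (.leaf 383))) (.node (.node (.leaf 607) (.leaf 384)) (.node (.leaf 609) (.leaf 436)))) (.node (.node (.node (.leaf 387) (.leaf 610)) (.node (.leaf 611) (.leaf 612))) (.node (.node (.leaf 613) (.leaf 614)) (.node (.leaf 615) (.leaf 395))))) (.node (.node (.node (.node (.leaf 616) (.leaf 399)) (.node (.leaf 617) (.leaf 618))) (.node (.node (.leaf 619) (.leaf 620)) (.node (.leaf 621) (.leaf 622)))) (.node (.node (.node (.leaf 424) (.leaf 624)) (.node (.leaf 625) (.leaf 448))) (.node (.node (.leaf 409) (.leaf 627)) (.node (.leaf 591) (.leaf 628))))))) (.node (.node (.node (.node (.node (.node (.leaf 630) (.leaf 416)) (.node (.leaf 632) (.leaf 421))) (.node (.node (.leaf 601) (.leaf 423)) (.node (.leaf 635) (.leaf 636)))) (.node (.node (.node (.leaf 637) (.leaf 593)) (.node (.leaf 638) (.leaf 608))) (.node (.node (.leaf 639) (.leaf 595))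 (.node (.leaf 641) (.leaf 496))))) (.node (.node (.node (.node (.leaf 631) (.leaf 515)) (.node (.leaf 447) (.leaf 642))) (.node (.node (.leaf 449) (.leaf 451)) (.node (.leaf 643) (.leaf 453)))) (.node (.node (.node (.leaf 644) (.leaf 507)) (.node (.leaf 458) (.leaf 645))) (.node (.node (.leaf 646) (.leaf 462)) (.node (.leaf 464) (.leaf 623)))))) (.node (.node (.node (.node (.node (.leaf 519) (.leaf 468)) (.node (.leaf 471) (.leaf 473))) (.node (.node (.leaf 474) (.leaf 650)) (.node (.leaf 513) (.leaf 526)))) (.node (.node (.node (.leaf 480) (.leaf 483)) (.node (.leaf 485) (.leaf 653))) (.node (.node (.leaf 527) (.leaf 488)) (.node (.leaf 489) (.leaf 548))))) (.node (.node (.node (.node (.leaf 491) (.leaf 521)) (.node (.leaf 600) (.leaf 495))) (.node (.node (.leaf 497) (.leaf 654)) (.node (.leaf 499) (.leaf 648)))) (.node (.node (.node (.leaf 503) (.leaf 655)) (.node (.leaf 652) (.leaf 640))) (.node (.node (.leaf 510) (.leaf 514)) (.node (.leaf 651) (.leaf 523)))))))) (.node (.node (.node (.node (.node (.node (.node (.leaf 582) (.leaf 529)) (.node (.leaf 589) (.leaf 658)))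 (.node (.node (.leaf 626) (.leaf 656)) (.node (.leaf 649) (.leaf 633)))) (.node (.node (.node (.leaf 592) (.leaf 604)) (.node (.leaf 556) (.leaf 586))) (.node (.node (.leaf 657) (.leaf 564)) (.node (.leaf 659) (.leaf 647))))) (.node (.node (.node (.node (.leaf 603) (.leaf 634)) (.node (.leaf 598) (.leaf 629))) (.node (.node (.leaf 0) (.leaf 0)) (.node (.leaf 0) (.leaf 0)))) (.node (.node (.node (.leaf 0) (.leaf 0)) (.node (.leaf 0) (.leaf 0))) (.node (.node (.leaf 0) (.leaf 0)) (.node (.leaf 0) (.leaf 0)))))) (.node (.node (.node (.node (.node (.leaf 0) (.leaf 0)) (.node (.leaf 0) (.leaf 0))) (.node (.node (.leaf 0) (.leaf 0)) (.node (.leaf 0) (.leaf 0)))) (.node (.node (.node (.leaf 0) (.leaf 0)) (.node (.leaf 0) (.leaf 0))) (.node (.node (.leaf 0) (.leaf 0)) (.node (.leaf 0) (.leaf 0))))) (.node (.node (.node (.node (.leaf 0) (.leaf 0)) (.node (.leaf 0) (.leaf 0))) (.node (.node (.leaf 0) (.leaf 0)) (.node (.leaf 0) (.leaf 0)))) (.node (.node (.node (.leaf 0) (.leaf 0)) (.node (.leaf 0) (.leaf 0))) (.node (.node (.leaf 0) (.leaf 0)) (.node (.leaf 0) (.leaf 0)))))))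 (.node (.node (.node (.node (.node (.node (.leaf 0) (.leaf 0)) (.node (.leaf 0) (.leaf 0))) (.node (.node (.leaf 0) (.leaf 0)) (.node (.leaf 0) (.leaf 0)))) (.node (.node (.node (.leaf 0) (.leaf 0)) (.node (.leaf 0) (.leaf 0))) (.node (.node (.leaf 0) (.leaf 0)) (.node (.leaf 0) (.leaf 0))))) (.node (.node (.node (.node (.leaf 0) (.leaf 0)) (.node (.leaf 0) (.leaf 0))) (.node (.node (.leaf 0) (.leaf 0)) (.node (.leaf 0) (.leaf 0)))) (.node (.node (.node (.leaf 0) (.leaf 0)) (.node (.leaf 0) (.leaf 0))) (.node (.node (.leaf 0) (.leaf 0)) (.node (.leaf 0) (.leaf 0)))))) (.node (.node (.node (.node (.node (.leaf 0) (.leaf 0)) (.node (.leaf 0) (.leaf 0))) (.node (.node (.leaf 0) (.leaf 0)) (.node (.leaf 0) (.leaf 0)))) (.node (.node (.node (.leaf 0) (.leaf 0)) (.node (.leaf 0) (.leaf 0))) (.node (.node (.leaf 0) (.leaf 0)) (.node (.leaf 0) (.leaf 0))))) (.node (.node (.node (.node (.leaf 0) (.leaf 0)) (.node (.leaf 0) (.leaf 0))) (.node (.node (.leaf 0) (.leaf 0)) (.node (.leaf 0) (.leaf 0)))) (.node (.node (.node (.leaf 0) (.leaf 0)) (.node (.leaf 0) (.leaf 0))) (.node (.node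 (.leaf 0) (.leaf 0)) (.node (.leaf 0) (.leaf 0))))))))) (.node (.node (.node (.node (.node (.node (.node (.node (.leaf 0) (.leaf 0)) (.node (.leaf 0) (.leaf 0))) (.node (.node (.leaf 0) (.leaf 0)) (.node (.leaf 0) (.leaf 0)))) (.node (.node (.node (.leaf 0) (.leaf 0)) (.node (.leaf 0) (.leaf 0))) (.node (.node (.leaf 0) (.leaf 0)) (.node (.leaf 0) (.leaf 0))))) (.node (.node (.node (.node (.leaf 0) (.leaf 0)) (.node (.leaf 0) (.leaf 0))) (.node (.node (.leaf 0) (.leaf 0)) (.node (.leaf 0) (.leaf 0)))) (.node (.node (.node (.leaf 0) (.leaf 0)) (.node (.leaf 0) (.leaf 0))) (.node (.node (.leaf 0) (.leaf 0)) (.node (.leaf 0) (.leaf 0)))))) (.node (.node (.node (.node (.node (.leaf 0) (.leaf 0)) (.node (.leaf 0) (.leaf 0))) (.node (.node (.leaf 0) (.leaf 0)) (.node (.leaf 0) (.leaf 0)))) (.node (.node (.node (.leaf 0) (.leaf 0)) (.node (.leaf 0) (.leaf 0))) (.node (.node (.leaf 0) (.leaf 0)) (.node (.leaf 0) (.leaf 0))))) (.node (.node (.node (.node (.leaf 0) (.leaf 0)) (.node (.leaf 0) (.leaf 0))) (.node (.node (.leaf 0) (.leaf 0)) (.node (.leaf 0) (.leaf 0)))) (.node (.node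 (.node (.leaf 0) (.leaf 0)) (.node (.leaf 0) (.leaf 0))) (.node (.node (.leaf 0) (.leaf 0)) (.node (.leaf 0) (.leaf 0))))))) (.node (.node (.node (.node (.node (.node (.leaf 0) (.leaf 0)) (.node (.leaf 0) (.leaf 0))) (.node (.node (.leaf 0) (.leaf 0)) (.node (.leaf 0) (.leaf 0)))) (.node (.node (.node (.leaf 0) (.leaf 0)) (.node (.leaf 0) (.leaf 0))) (.node (.node (.leaf 0) (.leaf 0)) (.node (.leaf 0) (.leaf 0))))) (.node (.node (.node (.node (.leaf 0) (.leaf 0)) (.node (.leaf 0) (.leaf 0))) (.node (.node (.leaf 0) (.leaf 0)) (.node (.leaf 0) (.leaf 0)))) (.node (.node (.node (.leaf 0) (.leaf 0)) (.node (.leaf 0) (.leaf 0))) (.node (.node (.leaf 0) (.leaf 0)) (.node (.leaf 0) (.leaf 0)))))) (.node (.node (.node (.node (.node (.leaf 0) (.leaf 0)) (.node (.leaf 0) (.leaf 0))) (.node (.node (.leaf 0) (.leaf 0)) (.node (.leaf 0) (.leaf 0)))) (.node (.node (.node (.leaf 0) (.leaf 0)) (.node (.leaf 0) (.leaf 0))) (.node (.node (.leaf 0) (.leaf 0)) (.node (.leaf 0) (.leaf 0))))) (.node (.node (.node (.node (.leaf 0) (.leaf 0)) (.node (.leaf 0) (.leaf 0))) (.node (.node (.leaf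 0) (.leaf 0)) (.node (.leaf 0) (.leaf 0)))) (.node (.node (.node (.leaf 0) (.leaf 0)) (.node (.leaf 0) (.leaf 0))) (.node (.node (.leaf 0) (.leaf 0)) (.node (.leaf 0) (.leaf 0)))))))) (.node (.node (.node (.node (.node (.node (.node (.leaf 0) (.leaf 0)) (.node (.leaf 0) (.leaf 0))) (.node (.node (.leaf 0) (.leaf 0)) (.node (.leaf 0) (.leaf 0)))) (.node (.node (.node (.leaf 0) (.leaf 0)) (.node (.leaf 0) (.leaf 0))) (.node (.node (.leaf 0) (.leaf 0)) (.node (.leaf 0) (.leaf 0))))) (.node (.node (.node (.node (.leaf 0) (.leaf 0)) (.node (.leaf 0) (.leaf 0))) (.node (.node (.leaf 0) (.leaf 0)) (.node (.leaf 0) (.leaf 0)))) (.node (.node (.node (.leaf 0) (.leaf 0)) (.node (.leaf 0) (.leaf 0))) (.node (.node (.leaf 0) (.leaf 0)) (.node (.leaf 0) (.leaf 0)))))) (.node (.node (.node (.node (.node (.leaf 0) (.leaf 0)) (.node (.leaf 0) (.leaf 0))) (.node (.node (.leaf 0) (.leaf 0)) (.node (.leaf 0) (.leaf 0)))) (.node (.node (.node (.leaf 0) (.leaf 0)) (.node (.leaf 0) (.leaf 0))) (.node (.node (.leaf 0) (.leaf 0)) (.node (.leaf 0) (.leaf 0))))) (.node (.node (.node (.node (.leaf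 0) (.leaf 0)) (.node (.leaf 0) (.leaf 0))) (.node (.node (.leaf 0) (.leaf 0)) (.node (.leaf 0) (.leaf 0)))) (.node (.node (.node (.leaf 0) (.leaf 0)) (.node (.leaf 0) (.leaf 0))) (.node (.node (.leaf 0) (.leaf 0)) (.node (.leaf 0) (.leaf 0))))))) (.node (.node (.node (.node (.node (.node (.leaf 0) (.leaf 0)) (.node (.leaf 0) (.leaf 0))) (.node (.node (.leaf 0) (.leaf 0)) (.node (.leaf 0) (.leaf 0)))) (.node (.node (.node (.leaf 0) (.leaf 0)) (.node (.leaf 0) (.leaf 0))) (.node (.node (.leaf 0) (.leaf 0)) (.node (.leaf 0) (.leaf 0))))) (.node (.node (.node (.node (.leaf 0) (.leaf 0)) (.node (.leaf 0) (.leaf 0))) (.node (.node (.leaf 0) (.leaf 0)) (.node (.leaf 0) (.leaf 0)))) (.node (.node (.node (.leaf 0) (.leaf 0)) (.node (.leaf 0) (.leaf 0))) (.node (.node (.leaf 0) (.leaf 0)) (.node (.leaf 0) (.leaf 0)))))) (.node (.node (.node (.node (.node (.leaf 0) (.leaf 0)) (.node (.leaf 0) (.leaf 0))) (.node (.node (.leaf 0) (.leaf 0)) (.node (.leaf 0) (.leaf 0)))) (.node (.node (.node (.leaf 0) (.leaf 0)) (.node (.leaf 0) (.leaf 0))) (.node (.node (.leaf 0) (.leaf 0)) (.node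 (.leaf 0) (.leaf 0))))) (.node (.node (.node (.node (.leaf 0) (.leaf 0)) (.node (.leaf 0) (.leaf 0))) (.node (.node (.leaf 0) (.leaf 0)) (.node (.leaf 0) (.leaf 0)))) (.node (.node (.node (.leaf 0) (.leaf 0)) (.node (.leaf 0) (.leaf 0))) (.node (.node (.leaf 0) (.leaf 0)) (.node (.leaf 0) (.leaf 0)))))))))))

/-- Words for the elements of `K`. -/
def wTree : NTree :=
  (.node (.node (.node (.node (.node (.node (.node (.node (.node (.node (.leaf 0) (.leaf 1)) (.node (.leaf 2) (.leaf 7))) (.node (.node (.leaf 5) (.leaf 8)) (.node (.leaf 16) (.leaf 25)))) (.node (.node (.node (.leaf 23) (.leaf 17)) (.node (.leaf 70) (.leaf 52))) (.node (.node (.leaf 50) (.leaf 77)) (.node (.leaf 71) (.leaf 151))))) (.node (.node (.node (.node (.leaf 232) (.leaf 214)) (.node (.leaf 212) (.leaf 158))) (.node (.node (.leaf 152) (.leaf 233)) (.node (.leaf 637) (.leaf 475)))) (.node (.node (.node (.leaf 457) (.leaf 700)) (.node (.leaf 455) (.leaf 698))) (.node (.node (.leaf 644) (.leaf 638)) (.node (.leaf 476) (.leaf 1366)))))) (.node (.node (.node (.node (.node (.leaf 2095) (.leaf 1933)) (.node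 (.leaf 1915) (.leaf 1429))) (.node (.node (.leaf 1913) (.leaf 1427)) (.node (.leaf 1373) (.leaf 2102)))) (.node (.node (.node (.leaf 1367) (.leaf 2096)) (.node (.leaf 1934) (.leaf 5740))) (.node (.node (.leaf 4282) (.leaf 4120)) (.node (.leaf 6307) (.leaf 4102))))) (.node (.node (.node (.node (.leaf 6289) (.leaf 5803)) (.node (.leaf 4100) (.leaf 6287))) (.node (.node (.leaf 5801) (.leaf 5747)) (.node (.leaf 4289) (.leaf 5741)))) (.node (.node (.node (.leaf 4283) (.leaf 4121)) (.node (.leaf 6308) (.leaf 12301))) (.node (.node (.leaf 18862) (.leaf 17404)) (.node (.leaf 17242) (.leaf 12868))))))) (.node (.node (.node (.node (.node (.node (.leaf 17224) (.leaf 12850)) (.node (.leaf 12364) (.leaf 18925))) (.node (.node (.leaf 17222) (.leaf 12848)) (.node (.leaf 12362) (.leaf 18923)))) (.node (.node (.node (.leaf 12308) (.leaf 18869)) (.node (.leaf 17411) (.leaf 12302))) (.node (.node (.leaf 18863) (.leaf 17405)) (.node (.leaf 17243) (.leaf 12869))))) (.node (.node (.node (.node (.leaf 51667) (.leaf 38545)) (.node (.leaf 37087) (.leaf 56770))) (.node (.node (.leaf 36925) (.leaf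 56608)) (.node (.leaf 52234) (.leaf 36907)))) (.node (.node (.node (.leaf 56590) (.leaf 52216)) (.node (.leaf 51730) (.leaf 38608))) (.node (.node (.leaf 36905) (.leaf 56588)) (.node (.leaf 52214) (.leaf 51728)))))) (.node (.node (.node (.node (.node (.leaf 38606) (.leaf 51674)) (.node (.leaf 38552) (.leaf 37094))) (.node (.node (.leaf 56777) (.leaf 51668)) (.node (.leaf 38546) (.leaf 37088)))) (.node (.node (.node (.leaf 56771) (.leaf 36926)) (.node (.leaf 56609) (.leaf 52235))) (.node (.node (.leaf 110716) (.leaf 169765)) (.node (.leaf 156643) (.leaf 155185))))) (.node (.node (.node (.node (.leaf 115819) (.leaf 155023)) (.node (.leaf 115657) (.leaf 111283))) (.node (.node (.leaf 170332) (.leaf 155005)) (.node (.leaf 115639) (.leaf 111265)))) (.node (.node (.node (.leaf 170314) (.leaf 110779)) (.node (.leaf 169828) (.leaf 156706))) (.node (.node (.leaf 155003) (.leaf 115637)) (.node (.leaf 111263) (.leaf 170312)))))))) (.node (.node (.node (.node (.node (.node (.node (.leaf 110777) (.leaf 169826)) (.node (.leaf 156704) (.leaf 110723))) (.node (.node (.leaf 169772) (.leaf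 156650)) (.node (.leaf 155192) (.leaf 115826)))) (.node (.node (.node (.leaf 110717) (.leaf 169766)) (.node (.leaf 156644) (.leaf 155186))) (.node (.node (.leaf 115820) (.leaf 155024)) (.node (.leaf 115658) (.leaf 111284))))) (.node (.node (.node (.node (.leaf 170333) (.leaf 465010)) (.node (.leaf 346912) (.leaf 333790))) (.node (.node (.leaf 510937) (.leaf 332332)) (.node (.leaf 509479) (.leaf 470113)))) (.node (.node (.node (.leaf 332170) (.leaf 509317)) (.node (.leaf 469951) (.leaf 465577))) (.node (.node (.leaf 347479) (.leaf 332152)) (.node (.leaf 509299) (.leaf 469933)))))) (.node (.node (.node (.node (.node (.leaf 465559) (.leaf 347461)) (.node (.leaf 465073) (.leaf 346975))) (.node (.node (.leaf 333853) (.leaf 511000)) (.node (.leaf 332150) (.leaf 509297)))) (.node (.node (.node (.leaf 469931) (.leaf 465557)) (.node (.leaf 347459) (.leaf 465071))) (.node (.node (.leaf 346973) (.leaf 333851)) (.node (.leaf 510998) (.leaf 465017))))) (.node (.node (.node (.node (.leaf 346919) (.leaf 510944)) (.node (.leaf 332339) (.leaf 509486))) (.node (.node (.leaf 470120) (.leaf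 465011)) (.node (.leaf 346913) (.leaf 333791)))) (.node (.node (.node (.leaf 510938) (.leaf 332333)) (.node (.leaf 509480) (.leaf 470114))) (.node (.node (.leaf 332171) (.leaf 509318)) (.node (.leaf 469952) (.leaf 465578))))))) (.node (.node (.node (.node (.node (.node (.leaf 347480) (.leaf 996451)) (.node (.leaf 1527892) (.leaf 1409794))) (.node (.node (.leaf 1396672) (.leaf 1042378)) (.node (.leaf 1395214) (.leaf 1040920)))) (.node (.node (.node (.leaf 1001554) (.leaf 1532995)) (.node (.leaf 1395052) (.leaf 1040758))) (.node (.node (.leaf 1532833) (.leaf 997018)) (.node (.leaf 1528459) (.leaf 1410361))))) (.node (.node (.node (.node (.leaf 1395034) (.leaf 1040740)) (.node (.leaf 1001374) (.leaf 1532815))) (.node (.node (.leaf 997000) (.leaf 1528441)) (.node (.leaf 1410343) (.leaf 996514)))) (.node (.node (.node (.leaf 1527955) (.leaf 1409857)) (.node (.leaf 1396735) (.leaf 1042441))) (.node (.node (.leaf 1040738) (.leaf 1001372)) (.node (.leaf 1532813) (.leaf 996998)))))) (.node (.node (.node (.node (.node (.leaf 1528439) (.leaf 1410341)) (.node (.leaf 996512) (.leaf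 1527953))) (.node (.node (.leaf 1409855) (.leaf 1396733)) (.node (.leaf 1042439) (.leaf 996458)))) (.node (.node (.node (.leaf 1527899) (.leaf 1409801)) (.node (.leaf 1042385) (.leaf 1395221))) (.node (.node (.leaf 1040927) (.leaf 1001561)) (.node (.leaf 1533002) (.leaf 996452))))) (.node (.node (.node (.node (.leaf 1527893) (.leaf 1409795)) (.node (.leaf 1396673) (.leaf 1042379))) (.node (.node (.leaf 1395215) (.leaf 1001555)) (.node (.leaf 1532996) (.leaf 1395053)))) (.node (.node (.node (.leaf 1040759) (.leaf 1532834)) (.node (.leaf 997019) (.leaf 1528460))) (.node (.node (.leaf 1410362) (.leaf 3122215)) (.node (.leaf 3004117) (.leaf 4598440))))))))) (.node (.node (.node (.node (.node (.node (.node (.node (.leaf 2990995) (.leaf 4585318)) (.node (.leaf 4231024) (.leaf 2989537))) (.node (.node (.leaf 4583860) (.leaf 4229566)) (.node (.leaf 4190200) (.leaf 3127318)))) (.node (.node (.node (.leaf 2989375) (.leaf 4583698)) (.node (.leaf 4229404) (.leaf 3127156))) (.node (.node (.leaf 4185664) (.leaf 3122782)) (.node (.leaf 3004684) (.leaf 4599007))))) (.node (.node (.node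 (.node (.leaf 2989357) (.leaf 4583680)) (.node (.leaf 4229386) (.leaf 4190020))) (.node (.node (.leaf 3127138) (.leaf 4185646)) (.node (.leaf 3004666) (.leaf 4598989)))) (.node (.node (.node (.leaf 4185160) (.leaf 3122278)) (.node (.leaf 4598503) (.leaf 2991058))) (.node (.node (.leaf 4585381) (.leaf 4231087)) (.node (.leaf 4229384) (.leaf 4190018)))))) (.node (.node (.node (.node (.node (.leaf 3127136) (.leaf 4185644)) (.node (.leaf 3122762) (.leaf 3004664))) (.node (.node (.leaf 4598987) (.leaf 4185158)) (.node (.leaf 3122276) (.leaf 4598501)))) (.node (.node (.node (.leaf 2991056) (.leaf 4585379)) (.node (.leaf 4231085) (.leaf 4185104))) (.node (.node (.leaf 3122222) (.leaf 3004124)) (.node (.leaf 4598447) (.leaf 4231031))))) (.node (.node (.node (.node (.leaf 2989544) (.leaf 4583867)) (.node (.leaf 4229573) (.leaf 4190207))) (.node (.node (.leaf 3127325) (.leaf 3122216)) (.node (.leaf 3004118) (.leaf 4598441)))) (.node (.node (.node (.leaf 2990996) (.leaf 4585319)) (.node (.leaf 4231025) (.leaf 2989538))) (.node (.node (.leaf 4583861) (.leaf 4190201)) (.node (.leaf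 3127319) (.leaf 2989376))))))) (.node (.node (.node (.node (.node (.node (.leaf 4583699) (.leaf 4229405)) (.node (.leaf 3127157) (.leaf 4185665))) (.node (.node (.leaf 3122783) (.leaf 3004685)) (.node (.leaf 12688153) (.leaf 12570055)))) (.node (.node (.node (.leaf 9381409) (.leaf 9368287)) (.node (.leaf 9013993) (.leaf 13796962))) (.node (.node (.leaf 12555475) (.leaf 9366829)) (.node (.leaf 13795504) (.leaf 8973169))))) (.node (.node (.node (.node (.leaf 13756138) (.leaf 12693256)) (.node (.leaf 12555313) (.leaf 9366667))) (.node (.node (.leaf 13795342) (.leaf 12693094)) (.node (.leaf 8968633) (.leaf 13751602)))) (.node (.node (.node (.leaf 12688720) (.leaf 12570622)) (.node (.leaf 9381976) (.leaf 9366649))) (.node (.node (.leaf 9012355) (.leaf 13795324)) (.node (.leaf 8972989) (.leaf 13755958)))))) (.node (.node (.node (.node (.node (.leaf 12693076) (.leaf 8968615)) (.node (.leaf 13751584) (.leaf 12570604))) (.node (.node (.leaf 9381958) (.leaf 8968129)) (.node (.leaf 13751098) (.leaf 12688216)))) (.node (.node (.node (.leaf 9381472) (.leaf 12556996)) (.node (.leaf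 9368350) (.leaf 9014056))) (.node (.node (.leaf 9012353) (.leaf 13795322)) (.node (.leaf 8972987) (.leaf 13755956))))) (.node (.node (.node (.node (.leaf 12693074) (.leaf 13751582)) (.node (.leaf 12688700) (.leaf 12570602))) (.node (.node (.leaf 8968127) (.leaf 13751096)) (.node (.leaf 12688214) (.leaf 9381470)))) (.node (.node (.node (.leaf 12556994) (.leaf 9368348)) (.node (.leaf 13797023) (.leaf 8968073))) (.node (.node (.leaf 13751042) (.leaf 12688160)) (.node (.leaf 12570062) (.leaf 9381416)))))))) (.node (.node (.node (.node (.node (.node (.node (.leaf 9014000) (.leaf 13796969)) (.node (.leaf 12555482) (.leaf 9366836))) (.node (.node (.leaf 13795511) (.leaf 13756145)) (.node (.leaf 12693263) (.leaf 12688154)))) (.node (.node (.node (.leaf 12570056) (.leaf 12556934)) (.node (.leaf 9368288) (.leaf 9013994))) (.node (.node (.leaf 13796963) (.leaf 12555476)) (.node (.leaf 9366830) (.leaf 8973170))))) (.node (.node (.node (.node (.leaf 13756139) (.leaf 12693257)) (.node (.leaf 12555314) (.leaf 9012374))) (.node (.node (.leaf 13795343) (.leaf 12693095)) (.node (.leaf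 13751603) (.leaf 12688721)))) (.node (.node (.node (.leaf 12570623) (.leaf 27037060)) (.node (.leaf 41385967) (.leaf 26918962))) (.node (.node (.leaf 41267869) (.leaf 38079223)) (.node (.leaf 38066101) (.leaf 37711807)))))) (.node (.node (.node (.node (.node (.leaf 26904382) (.leaf 38064643)) (.node (.leaf 37670983) (.leaf 28105045))) (.node (.node (.leaf 41391070) (.leaf 26904220)) (.node (.leaf 41253127) (.leaf 28144249)))) (.node (.node (.node (.leaf 27042001) (.leaf 41390908)) (.node (.leaf 37666447) (.leaf 28100509))) (.node (.node (.leaf 41386534) (.leaf 41268436)) (.node (.leaf 38079790) (.leaf 38064463))))) (.node (.node (.node (.node (.leaf 37670803) (.leaf 27041983)) (.node (.leaf 41390890) (.leaf 37666429))) (.node (.node (.leaf 26919511) (.leaf 41268418)) (.node (.leaf 38079772) (.leaf 37665943)))) (.node (.node (.node (.leaf 27037123) (.leaf 41386030)) (.node (.leaf 38079286) (.leaf 41254810))) (.node (.node (.leaf 38066164) (.leaf 37711870)) (.node (.leaf 37710167) (.leaf 28144229))))))) (.node (.node (.node (.node (.node (.node (.leaf 28104863) (.leaf 27041981))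 (.node (.leaf 41390888) (.leaf 28100489))) (.node (.node (.leaf 41386514) (.leaf 26919509)) (.node (.leaf 41268416) (.leaf 37665941)))) (.node (.node (.node (.leaf 41386028) (.leaf 38079284)) (.node (.leaf 26905901) (.leaf 41254808))) (.node (.node (.leaf 38066162) (.leaf 28145930)) (.node (.leaf 28099949) (.leaf 41385974))))) (.node (.node (.node (.node (.leaf 26918969) (.leaf 38079230)) (.node (.leaf 37711814) (.leaf 28145876))) (.node (.node (.leaf 26904389) (.leaf 41253296)) (.node (.leaf 38064650) (.leaf 28144418)))) (.node (.node (.node (.leaf 28105052) (.leaf 27042170)) (.node (.leaf 27037061) (.leaf 41385968))) (.node (.node (.leaf 41267870) (.leaf 41254748)) (.node (.leaf 38066102) (.leaf 37711808)))))) (.node (.node (.node (.node (.node (.leaf 26904383) (.leaf 41253290)) (.node (.leaf 37670984) (.leaf 28105046))) (.node (.node (.leaf 41391071) (.leaf 26904221)) (.node (.leaf 41253128) (.leaf 37710188)))) (.node (.node (.node (.leaf 28144250) (.leaf 27042002)) (.node (.leaf 41390909) (.leaf 28100510))) (.node (.node (.leaf 41386535) (.leaf 41268437)) (.node (.leaf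 113130502) (.leaf 84432688))))) (.node (.node (.node (.node (.leaf 84314590) (.leaf 81125944)) (.node (.leaf 124172665) (.leaf 80758528))) (.node (.node (.leaf 123805249) (.leaf 112997824)) (.node (.leaf 124158085) (.leaf 80717704)))) (.node (.node (.node (.leaf 123764425) (.leaf 114198487)) (.node (.leaf 84437791) (.leaf 84299848))) (.node (.node (.leaf 114237691) (.leaf 113135443)) (.node (.leaf 80713168) (.leaf 123759889)))))))))) (.node (.node (.node (.node (.node (.node (.node (.node (.node (.leaf 114193951) (.leaf 84433255)) (.node (.leaf 81126511) (.leaf 81111184))) (.node (.node (.leaf 124157905) (.leaf 123764245)) (.node (.leaf 113135425) (.leaf 80713150)))) (.node (.node (.node (.leaf 113012953) (.leaf 84315139)) (.node (.leaf 124173214) (.leaf 80712664))) (.node (.node (.leaf 123759385) (.leaf 113130565)) (.node (.leaf 84432751) (.leaf 81126007))))) (.node (.node (.node (.node (.leaf 124172728) (.leaf 84301531)) (.node (.leaf 124159606) (.leaf 123805312))) (.node (.node (.leaf 123803609) (.leaf 114237671)) (.node (.leaf 114198305) (.leaf 113135423)))) (.node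 (.node (.node (.leaf 114193931) (.leaf 113012951)) (.node (.leaf 123759383) (.leaf 84432749))) (.node (.node (.leaf 112999343) (.leaf 84301529)) (.node (.leaf 124159604) (.leaf 114239372)))))) (.node (.node (.node (.node (.node (.leaf 114193391) (.leaf 113012411)) (.node (.leaf 81125951) (.leaf 124172672))) (.node (.node (.leaf 80758535) (.leaf 123805256)) (.node (.leaf 112997831) (.leaf 81111371)))) (.node (.node (.node (.leaf 124158092) (.leaf 114237860)) (.node (.leaf 113135612) (.leaf 113130503))) (.node (.node (.leaf 84432689) (.leaf 84301469)) (.node (.leaf 80758529) (.leaf 123805250))))) (.node (.node (.node (.node (.leaf 112997825) (.leaf 123764426)) (.node (.leaf 114198488) (.leaf 84437792))) (.node (.node (.leaf 84299849) (.leaf 80756909)) (.node (.leaf 114237692) (.leaf 113135444)))) (.node (.node (.node (.leaf 84437630) (.leaf 114193952)) (.node (.leaf 84433256) (.leaf 84315158))) (.node (.node (.leaf 371410828) (.leaf 342713014)) (.node (.leaf 342594916) (.leaf 339406270))))))) (.node (.node (.node (.node (.node (.node (.leaf 339038854) (.leaf 371278150))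 (.node (.leaf 338998030) (.leaf 342718117))) (.node (.node (.leaf 342580174) (.leaf 372518017)) (.node (.leaf 242275606) (.leaf 338993494)))) (.node (.node (.node (.leaf 339406837) (.leaf 339391510)) (.node (.leaf 253298068) (.leaf 338993476))) (.node (.node (.leaf 253313377) (.leaf 252899548)) (.node (.leaf 342581857) (.leaf 252945475))))) (.node (.node (.node (.node (.leaf 252943772) (.leaf 243377834)) (.node (.leaf 372517997) (.leaf 242275586))) (.node (.node (.leaf 371415749) (.leaf 372474257)) (.node (.leaf 242153114) (.leaf 371293277)))) (.node (.node (.node (.leaf 252899546) (.leaf 242139506)) (.node (.leaf 371279669) (.leaf 243379535))) (.node (.node (.leaf 243333554) (.leaf 372473717)) (.node (.leaf 371292737) (.leaf 339038861)))))) (.node (.node (.node (.node (.node (.leaf 242137994) (.leaf 371278157)) (.node (.leaf 372518186) (.leaf 371415938))) (.node (.node (.leaf 371410829) (.leaf 342713015)) (.node (.leaf 342581795) (.leaf 339038855)))) (.node (.node (.node (.leaf 371278151) (.leaf 372478814)) (.node (.leaf 342718118) (.leaf 342580175))) (.node (.node (.leaf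 339037235) (.leaf 372518018)) (.node (.leaf 371415770) (.leaf 243334115))))) (.node (.node (.node (.node (.leaf 372474278) (.leaf 342713582)) (.node (.leaf 758831317) (.leaf 1117553992))) (.node (.node (.leaf 1114247248) (.leaf 726459343)) (.node (.leaf 1113879832) (.leaf 758698639)))) (.node (.node (.node (.leaf 1113839008) (.leaf 730138606)) (.node (.leaf 730000663) (.leaf 1017116584))) (.node (.node (.leaf 1113834472) (.leaf 1114247815)) (.node (.leaf 1028139046) (.leaf 1028154355)))))))) (.node (.node (.node (.node (.node (.node (.node (.leaf 730002346) (.leaf 1117422835)) (.node (.leaf 1017116564) (.leaf 1016994092))) (.node (.node (.leaf 1027740524) (.leaf 1018220513)) (.node (.leaf 1018174532) (.leaf 758698646)))) (.node (.node (.node (.leaf 758836427) (.leaf 730133504)) (.node (.leaf 1117553993) (.leaf 726459344))) (.node (.node (.leaf 730138607) (.leaf 1117421153)) (.node (.leaf 3050982277) (.leaf 3054661540))))) (.node (.node (.node (.node (.leaf 2276095939) (.leaf 2190400513)) (.node (.leaf 3341517026) (.leaf 10024551079))) (.node (.node (.leaf 0) (.leaf 0))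 (.node (.leaf 0) (.leaf 0)))) (.node (.node (.node (.leaf 0) (.leaf 0)) (.node (.leaf 0) (.leaf 0))) (.node (.node (.leaf 0) (.leaf 0)) (.node (.leaf 0) (.leaf 0)))))) (.node (.node (.node (.node (.node (.leaf 0) (.leaf 0)) (.node (.leaf 0) (.leaf 0))) (.node (.node (.leaf 0) (.leaf 0)) (.node (.leaf 0) (.leaf 0)))) (.node (.node (.node (.leaf 0) (.leaf 0)) (.node (.leaf 0) (.leaf 0))) (.node (.node (.leaf 0) (.leaf 0)) (.node (.leaf 0) (.leaf 0))))) (.node (.node (.node (.node (.leaf 0) (.leaf 0)) (.node (.leaf 0) (.leaf 0))) (.node (.node (.leaf 0) (.leaf 0)) (.node (.leaf 0) (.leaf 0)))) (.node (.node (.node (.leaf 0) (.leaf 0)) (.node (.leaf 0) (.leaf 0))) (.node (.node (.leaf 0) (.leaf 0)) (.node (.leaf 0) (.leaf 0))))))) (.node (.node (.node (.node (.node (.node (.leaf 0) (.leaf 0)) (.node (.leaf 0) (.leaf 0))) (.node (.node (.leaf 0) (.leaf 0)) (.node (.leaf 0) (.leaf 0)))) (.node (.node (.node (.leaf 0) (.leaf 0)) (.node (.leaf 0) (.leaf 0))) (.node (.node (.leaf 0) (.leaf 0)) (.node (.leaf 0) (.leaf 0))))) (.node (.node (.node (.node (.leaf 0) (.leaf 0)) (.node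 (.leaf 0) (.leaf 0))) (.node (.node (.leaf 0) (.leaf 0)) (.node (.leaf 0) (.leaf 0)))) (.node (.node (.node (.leaf 0) (.leaf 0)) (.node (.leaf 0) (.leaf 0))) (.node (.node (.leaf 0) (.leaf 0)) (.node (.leaf 0) (.leaf 0)))))) (.node (.node (.node (.node (.node (.leaf 0) (.leaf 0)) (.node (.leaf 0) (.leaf 0))) (.node (.node (.leaf 0) (.leaf 0)) (.node (.leaf 0) (.leaf 0)))) (.node (.node (.node (.leaf 0) (.leaf 0)) (.node (.leaf 0) (.leaf 0))) (.node (.node (.leaf 0) (.leaf 0)) (.node (.leaf 0) (.leaf 0))))) (.node (.node (.node (.node (.leaf 0) (.leaf 0)) (.node (.leaf 0) (.leaf 0))) (.node (.node (.leaf 0) (.leaf 0)) (.node (.leaf 0) (.leaf 0)))) (.node (.node (.node (.leaf 0) (.leaf 0)) (.node (.leaf 0) (.leaf 0))) (.node (.node (.leaf 0) (.leaf 0)) (.node (.leaf 0) (.leaf 0))))))))) (.node (.node (.node (.node (.node (.node (.node (.node (.leaf 0) (.leaf 0)) (.node (.leaf 0) (.leaf 0))) (.node (.node (.leaf 0) (.leaf 0)) (.node (.leaf 0) (.leaf 0)))) (.node (.node (.node (.leaf 0) (.leaf 0)) (.node (.leaf 0) (.leaf 0))) (.node (.node (.leaf 0) (.leaf 0)) (.node (.leaf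 0) (.leaf 0))))) (.node (.node (.node (.node (.leaf 0) (.leaf 0)) (.node (.leaf 0) (.leaf 0))) (.node (.node (.leaf 0) (.leaf 0)) (.node (.leaf 0) (.leaf 0)))) (.node (.node (.node (.leaf 0) (.leaf 0)) (.node (.leaf 0) (.leaf 0))) (.node (.node (.leaf 0) (.leaf 0)) (.node (.leaf 0) (.leaf 0)))))) (.node (.node (.node (.node (.node (.leaf 0) (.leaf 0)) (.node (.leaf 0) (.leaf 0))) (.node (.node (.leaf 0) (.leaf 0)) (.node (.leaf 0) (.leaf 0)))) (.node (.node (.node (.leaf 0) (.leaf 0)) (.node (.leaf 0) (.leaf 0))) (.node (.node (.leaf 0) (.leaf 0)) (.node (.leaf 0) (.leaf 0))))) (.node (.node (.node (.node (.leaf 0) (.leaf 0)) (.node (.leaf 0) (.leaf 0))) (.node (.node (.leaf 0) (.leaf 0)) (.node (.leaf 0) (.leaf 0)))) (.node (.node (.node (.leaf 0) (.leaf 0)) (.node (.leaf 0) (.leaf 0))) (.node (.node (.leaf 0) (.leaf 0)) (.node (.leaf 0) (.leaf 0))))))) (.node (.node (.node (.node (.node (.node (.leaf 0) (.leaf 0)) (.node (.leaf 0) (.leaf 0))) (.node (.node (.leaf 0) (.leaf 0)) (.node (.leaf 0) (.leaf 0)))) (.node (.node (.node (.leaf 0) (.leaf 0)) (.node (.leaf 0) (.leaf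 0))) (.node (.node (.leaf 0) (.leaf 0)) (.node (.leaf 0) (.leaf 0))))) (.node (.node (.node (.node (.leaf 0) (.leaf 0)) (.node (.leaf 0) (.leaf 0))) (.node (.node (.leaf 0) (.leaf 0)) (.node (.leaf 0) (.leaf 0)))) (.node (.node (.node (.leaf 0) (.leaf 0)) (.node (.leaf 0) (.leaf 0))) (.node (.node (.leaf 0) (.leaf 0)) (.node (.leaf 0) (.leaf 0)))))) (.node (.node (.node (.node (.node (.leaf 0) (.leaf 0)) (.node (.leaf 0) (.leaf 0))) (.node (.node (.leaf 0) (.leaf 0)) (.node (.leaf 0) (.leaf 0)))) (.node (.node (.node (.leaf 0) (.leaf 0)) (.node (.leaf 0) (.leaf 0))) (.node (.node (.leaf 0) (.leaf 0)) (.node (.leaf 0) (.leaf 0))))) (.node (.node (.node (.node (.leaf 0) (.leaf 0)) (.node (.leaf 0) (.leaf 0))) (.node (.node (.leaf 0) (.leaf 0)) (.node (.leaf 0) (.leaf 0)))) (.node (.node (.node (.leaf 0) (.leaf 0)) (.node (.leaf 0) (.leaf 0))) (.node (.node (.leaf 0) (.leaf 0)) (.node (.leaf 0) (.leaf 0)))))))) (.node (.node (.node (.node (.node (.node (.node (.leaf 0) (.leaf 0)) (.node (.leaf 0) (.leaf 0))) (.node (.node (.leaf 0) (.leaf 0)) (.node (.leaf 0) (.leaf 0))))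 (.node (.node (.node (.leaf 0) (.leaf 0)) (.node (.leaf 0) (.leaf 0))) (.node (.node (.leaf 0) (.leaf 0)) (.node (.leaf 0) (.leaf 0))))) (.node (.node (.node (.node (.leaf 0) (.leaf 0)) (.node (.leaf 0) (.leaf 0))) (.node (.node (.leaf 0) (.leaf 0)) (.node (.leaf 0) (.leaf 0)))) (.node (.node (.node (.leaf 0) (.leaf 0)) (.node (.leaf 0) (.leaf 0))) (.node (.node (.leaf 0) (.leaf 0)) (.node (.leaf 0) (.leaf 0)))))) (.node (.node (.node (.node (.node (.leaf 0) (.leaf 0)) (.node (.leaf 0) (.leaf 0))) (.node (.node (.leaf 0) (.leaf 0)) (.node (.leaf 0) (.leaf 0)))) (.node (.node (.node (.leaf 0) (.leaf 0)) (.node (.leaf 0) (.leaf 0))) (.node (.node (.leaf 0) (.leaf 0)) (.node (.leaf 0) (.leaf 0))))) (.node (.node (.node (.node (.leaf 0) (.leaf 0)) (.node (.leaf 0) (.leaf 0))) (.node (.node (.leaf 0) (.leaf 0)) (.node (.leaf 0) (.leaf 0)))) (.node (.node (.node (.leaf 0) (.leaf 0)) (.node (.leaf 0) (.leaf 0))) (.node (.node (.leaf 0) (.leaf 0)) (.node (.leaf 0) (.leaf 0))))))) (.node (.node (.node (.node (.node (.node (.leaf 0) (.leaf 0)) (.node (.leaf 0) (.leaf 0))) (.node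 (.node (.leaf 0) (.leaf 0)) (.node (.leaf 0) (.leaf 0)))) (.node (.node (.node (.leaf 0) (.leaf 0)) (.node (.leaf 0) (.leaf 0))) (.node (.node (.leaf 0) (.leaf 0)) (.node (.leaf 0) (.leaf 0))))) (.node (.node (.node (.node (.leaf 0) (.leaf 0)) (.node (.leaf 0) (.leaf 0))) (.node (.node (.leaf 0) (.leaf 0)) (.node (.leaf 0) (.leaf 0)))) (.node (.node (.node (.leaf 0) (.leaf 0)) (.node (.leaf 0) (.leaf 0))) (.node (.node (.leaf 0) (.leaf 0)) (.node (.leaf 0) (.leaf 0)))))) (.node (.node (.node (.node (.node (.leaf 0) (.leaf 0)) (.node (.leaf 0) (.leaf 0))) (.node (.node (.leaf 0) (.leaf 0)) (.node (.leaf 0) (.leaf 0)))) (.node (.node (.node (.leaf 0) (.leaf 0)) (.node (.leaf 0) (.leaf 0))) (.node (.node (.leaf 0) (.leaf 0)) (.node (.leaf 0) (.leaf 0))))) (.node (.node (.node (.node (.leaf 0) (.leaf 0)) (.node (.leaf 0) (.leaf 0))) (.node (.node (.leaf 0) (.leaf 0)) (.node (.leaf 0) (.leaf 0)))) (.node (.node (.node (.leaf 0) (.leaf 0)) (.node (.leaf 0) (.leaf 0))) (.node (.node (.leaf 0) (.leaf 0)) (.node (.leaf 0) (.leaf 0)))))))))))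

/-- Coset representatives. -/
def rTree : NTree :=
  (.node (.node (.node (.node (.node (.node (.node (.node (.node (.leaf 6277101736848182401506974708411517874814724153223283736577) (.leaf 397528445359450111623404940514766352372066718580752)) (.node (.leaf 7480991916830962229115210795734213009165743696062808893992) (.leaf 5986310707988287213822499677406875576961671360413952))) (.node (.node (.leaf 54352459655708288310161873903497921254808271004976217665817) (.leaf 19262242154819655374472423482990641458905400293023751512712)) (.node (.leaf 28333687671999761235444106409147828166642829972374705121830) (.leaf 95780971326418798851444127750698854467876715501719552)))) (.node (.node (.node (.leaf 20037484533881970511820383486730829284818641512796705564842) (.leaf 66170334980848406500993779543982756607652403077886724215187)) (.node (.leaf 1364893164122822023649636673397797319233683643703970957385) (.leaf 6894991926842635096694044899068144828211426580778655033482))) (.node (.node (.leaf 51873492521428116007776362088784636162477703170220686324272) (.leaf 51604490190670934254770617181985643351211543125608510431840))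 (.node (.leaf 28447954371182322967948283772153661752095774919425784261270) (.leaf 1532495541222700781617913747171989656971331018493591552))))) (.node (.node (.node (.node (.leaf 15905068650073330897018257753776312491202027084659701615242) (.leaf 19298867372828765498028522145562466659872628095080058227362)) (.node (.leaf 53429718102146003804892059229945278354714885255807373911610) (.leaf 54389084650716518686745297497157019994661354988922884659507))) (.node (.node (.leaf 45317635353063745626169846954943414685081113168020297224597) (.leaf 21838289129387470176363298901135799736401199237424638624920)) (.node (.leaf 3326529361031781939898854752313482409427308132253825499970) (.leaf 20137394186992795280090715247221772100871481220294824697907)))) (.node (.node (.node (.leaf 26506860084076814136996487742986302407398749860937987203847) (.leaf 51985362949416981261406583847056705467049577933338987170096)) (.node (.leaf 22202822417817481357007148502887665570418859474284901443075) (.leaf 28844017323442716911213701978049968644336295996900930226262))) (.node (.node (.leaf 53432757377591928943820277607930088414468613911100129978720)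 (.leaf 7714795139290337688000179361030555999229046664524010662552)) (.node (.leaf 24519928659563212505886619954732491698499519823140093952) (.leaf 63765083965241786363737782826042319592649419873961625421992)))))) (.node (.node (.node (.node (.node (.leaf 53613842494655083783852877262890596696843313539356868257962) (.leaf 12741764512004346261439130152802771862134974918915095226890)) (.node (.leaf 7480992047688646963936467335769425763684370262376510433832) (.leaf 3238314775160728955728775831949821654256139879544570512242))) (.node (.node (.leaf 53551836228855484519771133897803470667240468417977216640650) (.leaf 66756334900980095313921738012637264289353042619905631949617)) (.node (.leaf 21776780792087296870648214933014930239426854264202774940032) (.leaf 22046770911567272281380863360512430255190549855520692443472)))) (.node (.node (.node (.leaf 45203368654714682608240204609975444606326410562067038998821) (.leaf 48111740900916755949325433666956689234161742464618666150280)) (.node (.leaf 27070799765497879119318206722218646893709308005118669768582) (.leaf 53224468279930828836350814125270860425506051250849807610920)))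 (.node (.node (.leaf 19436123157665806989350810065392073110265462005986861156882) (.leaf 20897421822601960396557260597550657333694150015313621680947)) (.node (.leaf 53484526960637427536857974385514344409286189918445563514936) (.leaf 22375250654625877856961013155391110450395649672574336643187))))) (.node (.node (.node (.node (.leaf 60198474605782579102743790658200067701697435135120131711524) (.leaf 28296785061176562411524290190029243733743020688712054379271)) (.node (.leaf 19472676539684525621171649306987373577623273751227677088131) (.leaf 53944275386519020866606753815445963581014173832595732848695))) (.node (.node (.leaf 59028814923959503251576311401636632650142281792445166683942) (.leaf 59769764239613814273152407134885441644651139929879854744932)) (.node (.leaf 58655648117686233181783275701519394811105048729523381953587) (.leaf 51455097408553403350784527551256351294204206717274059085320)))) (.node (.node (.node (.leaf 58518570208016526231333240883323946983303485105132005661219) (.leaf 23003093714169675260801094701207336928750459211197209815427)) (.node (.leaf 392318858553011400094185919275719867175920259576472010752)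 (.leaf 66756335101694418618316066725317832366841891760057745511217))) (.node (.node (.leaf 15905068775155011465970793114948920688532589154763704666762) (.leaf 19797738995529556741777167335782855405984623242372637423495)) (.node (.leaf 54352459655708288797644737325315255772776019477512671890082) (.leaf 20204751218217237543100292355187771480386641263307822442042))))))) (.node (.node (.node (.node (.node (.node (.leaf 3000974414829251950386517037463180683969673154209630298275) (.leaf 56681506591719569617878592178492197901992599421402771581450)) (.node (.leaf 19262242377820534861208841537132534412796263967195633721992) (.leaf 51813033783560727800885834943514272568674889518834832652067))) (.node (.node (.leaf 1276678578251769042584582428219127841957874738376316487801) (.leaf 53360360525347962223859952273577644008518748649876721658025)) (.node (.leaf 20266685649128301303231275847284269722883884876994230921242) (.leaf 63765084121112364069049229957244744398556236182642547569427)))) (.node (.node (.node (.leaf 53513932968411691696036088348738326356625289247488573935752) (.leaf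 47127609374836066297270703227232295994157520212049991866372)) (.node (.leaf 51447450912371262075061354494548422501203315388507749455112) (.leaf 44807309879235349749517677928687657636368691537524104889189))) (.node (.node (.leaf 20218503737982257025523711300205138579577624692680265110096) (.leaf 65936531759956887720884650697596664901418602392496852111651)) (.node (.leaf 66752461547937526266443095935731062897301882356047007750275) (.leaf 39342910429295627119104789857356617089690621617235285275977))))) (.node (.node (.node (.node (.leaf 31398285183218490054617941083169061119412937344739398940777) (.leaf 63687852111064519522951630799252345952763728974829507996057)) (.node (.leaf 48122470349398129185818284658704993408874485328730631914120) (.leaf 10362173474560648112573762812195920037778514809864378034584))) (.node (.node (.leaf 9677087972381070691324223420857640519761133344550361276707) (.leaf 53000520316461755234906137193325826903195320248345485944405)) (.node (.leaf 52283411111425790239522861003162326325830279174993166795651) (.leaf 66919831348499964867901314832199244999098729440185505911681))))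 (.node (.node (.node (.leaf 40908875757195123224168457813470905828422194150663670487590) (.leaf 59272944170983657595851291234955763315063169106080184017479)) (.node (.leaf 33799680458887939187611549388051198583013796014134413988401) (.leaf 51014048417499751678257003537111702846890693677763720196211))) (.node (.node (.leaf 33850058394008200763075496971986165051287824876121981790554) (.leaf 10261938717380811721819599811927437219513761416737031559226)) (.node (.leaf 392318859375106071092818810765292585589205751676962603008) (.leaf 59639383680664779725609022825035472715297509249428608123770)))))) (.node (.node (.node (.node (.node (.leaf 38283517330428698870860814319062689242679925950542999328033) (.leaf 40558390010103282290593891288743047452714342209867615859302)) (.node (.leaf 34587721483875371967837059236401710720587658682925466403642) (.leaf 19812536407359318629164539273551353603302894077943617249415))) (.node (.node (.leaf 38167598807541247042773272887735365314688866646969926370854) (.leaf 32394474929160069123415884094399333398280767197938476229169)) (.node (.leaf 64590424898424953928422045889574846007852789271654997123991)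 (.leaf 27094668296766199000384378750367238829414796142032525210675)))) (.node (.node (.node (.leaf 19262242377820535608927962905340796411839222277028032092467) (.leaf 63765083965241786829703353964873306812059840073186582016787)) (.node (.leaf 12741764388231699462020925644856672242725879891139613911562) (.leaf 15462941004056641998248524208092128529683296009799009269880))) (.node (.node (.leaf 53929479845382928281616121266364922915849263998716677093175) (.leaf 66170334980848407331736792444396396652810569344457946737192)) (.node (.leaf 1364893164122821605973855855118811038341735187096532419442) (.leaf 21975137315348371739044197000021920996739754330587452302242))))) (.node (.node (.node (.node (.leaf 48015587644112684921477944697599869967593130868028201372210) (.leaf 15017525648786990714515462104874060602665158582853655791472)) (.node (.leaf 3001455945975514200787523470238578945807386925439208825000) (.leaf 57883132629529240629788730056454530782200787494674443569722))) (.node (.node (.leaf 46293950596897254608567868877228085777577491033016094913589) (.leaf 20426854633017369190578714522338878897764360492474925352851))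 (.node (.leaf 54215203870871246824680307258490668073985948985872196121001) (.leaf 50296746276072257810778210975848456357321677117121429408400)))) (.node (.node (.node (.leaf 51164815064644118623489119432754304895154431829038019470884) (.leaf 15905068650073330410551942150331947692021486877664252997937)) (.node (.leaf 19797739158892069796534977311384196733420628749458506859572) (.leaf 20166799940465774543691721430377876309844828162377369788547))) (.node (.node (.leaf 14622512134999852712419832471602119511956576610489957037205) (.leaf 13881562956168513523048722632214990014588453194357442360919)) (.node (.leaf 14995678888305491098597901837856809693869080875301399320456) (.leaf 15132756798350541891484410152943369895184229762208690938264)))))))) (.node (.node (.node (.node (.node (.node (.node (.leaf 62771017355328309279091620819568961790906294620324162961418) (.leaf 63703107853420334968988956855186804197675843270507456202800)) (.node (.leaf 26884799149175427288697147018425482727907423171984782480537) (.leaf 51042310558873382450721857655486099272116387883601325761177))) (.node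 (.node (.leaf 204422603983703140179341195002572538204497709489724032662) (.leaf 15792558164750417841410808278775511075225289906425208220064)) (.node (.leaf 14669356489307814885397210998422712487521591990360503392662) (.leaf 66924130852917402266773002464471636490001645674725108885640)))) (.node (.node (.node (.leaf 38478487085561875672326777287597194572474887464159581182354) (.leaf 65361144833628129901304707759914906940577572212894566357384)) (.node (.leaf 3613968564701054193188472475809167540778037792735695839906) (.leaf 54399779043621403313985799658440689257263846091618819641907))) (.node (.node (.leaf 33057863618204186974117707592243737943378257115646931273860) (.leaf 44539304056326207639040314827553681068449934631322279109970)) (.node (.leaf 14352816560984097197911337422525733929684711559374866826906) (.leaf 33065557898184023789244746480313043377810017419229129619511))))) (.node (.node (.node (.node (.leaf 51227700529232197831158036866654614493119448511512810305698) (.leaf 66381023914130517066491309702422195004078533785261669169176)) (.node (.leaf 245199286595632125046903147585260674128171883945890152448)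 (.leaf 51940245143856201889341517182298954893891866638469279621730))) (.node (.node (.leaf 9871417852866623329098592016654764259106166750102173623398) (.leaf 44464457588345325673299572982370497917184807535190802048114)) (.node (.leaf 31977759497899022385722015116712803645205744383703542040962) (.leaf 38626749633705823365055041186557883193597003617952815719186)))) (.node (.node (.node (.leaf 31793496360548314520022531010943386950205205197609459991429) (.leaf 12755753672934143763671301787308080494542560246207521949491)) (.node (.leaf 39432794350763492238414817952649420061308792800801551717794) (.leaf 27957760127544473753849134978548080015589723012710022613040))) (.node (.node (.leaf 63757388344606324311137248740171479117148868207078427689896) (.leaf 53857103110006752578060173248377899861708468695909806600352)) (.node (.leaf 9934512560459922995296384100432199300162710035026034119193) (.leaf 46332472816242326401640767164423773676877723943692006794852)))))) (.node (.node (.node (.node (.node (.leaf 25257348069881055787167752097773142475929375578017971523592) (.leaf 51235404536927069828022092726694132145108707652052713747362))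 (.node (.leaf 26387421211866775891682282087710601284971516087743905277461) (.leaf 15699699593332833590243013774474036288965630512296822704250))) (.node (.node (.leaf 59352819498767917387282450836530865323902991253620414439427) (.leaf 16143459661482221529690145830625118859500413671128404992794)) (.node (.leaf 29110522957796859762682997259244641895632251831842443245936) (.leaf 31780181683511616514456106636452277794053867170914717877045)))) (.node (.node (.node (.leaf 40024229097363523815612056978219081409896583077871021525127) (.leaf 15905068775155011952437108718393299018080692286126954852657)) (.node (.leaf 3000974305188991974268090093331923344311273865462859341987) (.leaf 3326529361031781519118052706862232321522248900422485084281))) (.node (.node (.leaf 50301311876291182346016393734189054635978260359309936704032) (.leaf 14698567858442576854516768397271993626125614997705169598024)) (.node (.leaf 65214009439072384245697009139444198334880826023266838684455) (.leaf 65590847910317566897433178203164650869155652274398533017672))))) (.node (.node (.node (.node (.leaf 59672901912115435569367313308649102250780602042963304392217)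 (.leaf 14942419869073119901833787574426210701001515142919204776534)) (.node (.leaf 22227474421652335024532896706822110032713307611529656968097) (.leaf 37667815187047825399884342012359738366265407096246536454994))) (.node (.node (.leaf 9963474917472534688733732584794472367218155730332461650466) (.leaf 63289153553976406100509865346666910280600155353898057798179)) (.node (.leaf 1278918661805404964384901594973409971057553584482142431495) (.leaf 33790910977722452019589196562111088444336472303222906053274)))) (.node (.node (.node (.leaf 15168021523821683151450315678366699346025756717018816864834) (.leaf 54278179253189645241676218901931019103726124431310906234771)) (.node (.leaf 53613842494655082969374629456444549523532646627333838672657) (.leaf 53929479681368851566799692258109446313641215098861771900036))) (.node (.node (.leaf 33092937131046180935330905238844992184163911728202870114645) (.leaf 21237749147311500616649405391228689149295131546856007624054)) (.node (.leaf 39063605558080819846077451407125381898780228199694532442241) (.leaf 41256852118801624169482129807230079308483863005541296118154)))))))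 (.node (.node (.node (.node (.node (.node (.leaf 3764828217818851096001309933831808373130128395337888) (.leaf 46377972616964803313253321091139209430951844748689470346897)) (.node (.leaf 33918726893231025085338118625932402722724404057666205794692) (.leaf 64175322073844735998440136377994215792819743002472780162888))) (.node (.node (.leaf 66449818603820449545416310086002450505885705896521613084800) (.leaf 39805040521990337342254394435646007413432928324892012143687)) (.node (.leaf 13054026771868663004178915260196893511095563718119221467429) (.leaf 41442041546903250596908161261074045113306696874796587260034)))) (.node (.node (.node (.leaf 52402258282283123126656607373389480410362487069779181069089) (.leaf 26757679434476949635731319871726650173246718079170442201155)) (.node (.leaf 45534324416576181219802626073736810410780552934459516937367) (.leaf 9593472782777584646320634853937288348861242610206072263970))) (.node (.node (.leaf 28777806824360836626858128565950534757345856512963831425446) (.leaf 8327774962362881356766628582138932790965644589549517543460)) (.node (.leaf 13569054530711206456248518396074768266581505522031353213234)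 (.leaf 16174188583086542467814420864455613831818420161206696512038))))) (.node (.node (.node (.node (.leaf 57509056757245826361664544938754590090653652015584082806373) (.leaf 65203527222220909894958541008420941592829283105070399358776)) (.node (.leaf 20630649633581234252693167335790267185121845292753182233139) (.leaf 6527804434416249234138453544249643013966130960766701156439))) (.node (.node (.leaf 64195618813213754343425077466435878047805950370443214170771) (.leaf 3224802486283674674980102348482194843524451732675315659576)) (.node (.leaf 40251673868663193830071711473287642752098499877295104664418) (.leaf 39287585111981445051644872516913380636681544767323243108695)))) (.node (.node (.node (.leaf 58244627256468487108863744136540228304500032992114831198727) (.leaf 58911531547356131060041264911480622913034847614069232920882)) (.node (.leaf 58518570208016526631070068271234647629166554119978628751768) (.leaf 33850734362623995988545070586155439491045683314767340921606))) (.node (.node (.leaf 8831996070079420732952260373383854627807587063823027612304) (.leaf 14995899883800664815519724921721211954100583947649821460308))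 (.node (.leaf 20464228699265258962950827360972920050468501259944653381971) (.leaf 20659982125192034706959533974654175048397989540418828189736)))))) (.node (.node (.node (.node (.node (.leaf 50327938709240381557989213035187767003804661671637790263210) (.leaf 59794160633452682379689537369918685780013117756753545963074)) (.node (.leaf 45742463207037908461892127439347667453339405672113155473462) (.leaf 57428098303052924506467906674210497352713817292791571689894))) (.node (.node (.leaf 64033855137568929847303986689896828981445190898813310834441) (.leaf 19645978211921372241894777185064321917754028982198719653256)) (.node (.leaf 6314769601829081145075710283063352529610145919153651069780) (.leaf 53613842625239891855981631936865430265907091441834790163217)))) (.node (.node (.node (.leaf 38211460127929628802904440106086976363046465363486957544809) (.leaf 54338707447876686516001594426919986858435615138384827791897)) (.node (.leaf 22202822417817481252429693583986620501501318821349474538760) (.leaf 58981970539229239460266234377644314609019556608740116734501))) (.node (.node (.leaf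 38486436438480352049852864846208083385445313488450327292324) (.leaf 41821085855617799695753482178598141984834459451988025680934)) (.node (.leaf 53806218324694726739075163178261366711289559449064025921329) (.leaf 64981848914694525411561914813603287579044806141722084604216))))) (.node (.node (.node (.node (.leaf 10017370423929903007294497180080728967132375411067661661091) (.leaf 38503101561845664938207444769507711377760996463043417626464)) (.node (.leaf 57507867303704638958664581535807322618563552680297585809569) (.leaf 40531491834906352446275027062222471476139790751186695755847))) (.node (.node (.leaf 22468878886946615021343614187549801580557310311514163803268) (.leaf 34278880632290790859090820271055747250597588443746746647672)) (.node (.leaf 66894215129855611237138509314319189212702109903735237478306) (.leaf 60470899649908330061546244358087761574993217387522143389734)))) (.node (.node (.node (.leaf 34967109638745993942102388067957622766121053491601504350744) (.leaf 58710396628448140517394935344751074458358581072807760140901)) (.node (.leaf 50868463698308087835842027365159691351566761221763924861491)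 (.leaf 16237617333149933832552444745608728017794733979010031883049))) (.node (.node (.leaf 57919759926288800652526296319201261515663836099801385575013) (.leaf 28789510464594645253278799803791228484735975706683145528119)) (.node (.leaf 4011241687895421685591151166348394555023035288459185194359) (.leaf 25999597439448274075569639708335413055108347461305692951925))))))))) (.node (.node (.node (.node (.node (.node (.node (.node (.leaf 38681855236160490306407449003311715164803850790789768975137) (.leaf 26126775515539050373977332640892655375444597464556621927731)) (.node (.leaf 28844017323442717360156220139430977872789928573910686630757) (.leaf 13034767718036864230877115119112729324837143942506717272196))) (.node (.node (.leaf 53944275386519020587164060405786905893970956314362846466180) (.leaf 66535607092763447379006219477696402811425479102117596775009)) (.node (.leaf 57430471065620487266628414865272712113193474341466823815959) (.leaf 45902105006246790995855527140523241756428717654553344967792)))) (.node (.node (.node (.leaf 27940847858362037007230852763046979019382364299667513453191)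 (.leaf 40555981830573721626646051238217574913344589805075896406903)) (.node (.leaf 0) (.leaf 0))) (.node (.node (.leaf 0) (.leaf 0)) (.node (.leaf 0) (.leaf 0))))) (.node (.node (.node (.node (.leaf 0) (.leaf 0)) (.node (.leaf 0) (.leaf 0))) (.node (.node (.leaf 0) (.leaf 0)) (.node (.leaf 0) (.leaf 0)))) (.node (.node (.node (.leaf 0) (.leaf 0)) (.node (.leaf 0) (.leaf 0))) (.node (.node (.leaf 0) (.leaf 0)) (.node (.leaf 0) (.leaf 0)))))) (.node (.node (.node (.node (.node (.leaf 0) (.leaf 0)) (.node (.leaf 0) (.leaf 0))) (.node (.node (.leaf 0) (.leaf 0)) (.node (.leaf 0) (.leaf 0)))) (.node (.node (.node (.leaf 0) (.leaf 0)) (.node (.leaf 0) (.leaf 0))) (.node (.node (.leaf 0) (.leaf 0)) (.node (.leaf 0) (.leaf 0))))) (.node (.node (.node (.node (.leaf 0) (.leaf 0)) (.node (.leaf 0) (.leaf 0))) (.node (.node (.leaf 0) (.leaf 0)) (.node (.leaf 0) (.leaf 0)))) (.node (.node (.node (.leaf 0) (.leaf 0)) (.node (.leaf 0) (.leaf 0))) (.node (.node (.leaf 0) (.leaf 0)) (.node (.leaf 0) (.leaf 0))))))) (.node (.node (.node (.node (.node (.node (.leaf 0) (.leaf 0)) (.node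 (.leaf 0) (.leaf 0))) (.node (.node (.leaf 0) (.leaf 0)) (.node (.leaf 0) (.leaf 0)))) (.node (.node (.node (.leaf 0) (.leaf 0)) (.node (.leaf 0) (.leaf 0))) (.node (.node (.leaf 0) (.leaf 0)) (.node (.leaf 0) (.leaf 0))))) (.node (.node (.node (.node (.leaf 0) (.leaf 0)) (.node (.leaf 0) (.leaf 0))) (.node (.node (.leaf 0) (.leaf 0)) (.node (.leaf 0) (.leaf 0)))) (.node (.node (.node (.leaf 0) (.leaf 0)) (.node (.leaf 0) (.leaf 0))) (.node (.node (.leaf 0) (.leaf 0)) (.node (.leaf 0) (.leaf 0)))))) (.node (.node (.node (.node (.node (.leaf 0) (.leaf 0)) (.node (.leaf 0) (.leaf 0))) (.node (.node (.leaf 0) (.leaf 0)) (.node (.leaf 0) (.leaf 0)))) (.node (.node (.node (.leaf 0) (.leaf 0)) (.node (.leaf 0) (.leaf 0))) (.node (.node (.leaf 0) (.leaf 0)) (.node (.leaf 0) (.leaf 0))))) (.node (.node (.node (.node (.leaf 0) (.leaf 0)) (.node (.leaf 0) (.leaf 0))) (.node (.node (.leaf 0) (.leaf 0)) (.node (.leaf 0) (.leaf 0)))) (.node (.node (.node (.leaf 0) (.leaf 0)) (.node (.leaf 0) (.leaf 0))) (.node (.node (.leaf 0) (.leaf 0)) (.node (.leaf 0) (.leaf 0)))))))) (.node (.node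 (.node (.node (.node (.node (.node (.leaf 0) (.leaf 0)) (.node (.leaf 0) (.leaf 0))) (.node (.node (.leaf 0) (.leaf 0)) (.node (.leaf 0) (.leaf 0)))) (.node (.node (.node (.leaf 0) (.leaf 0)) (.node (.leaf 0) (.leaf 0))) (.node (.node (.leaf 0) (.leaf 0)) (.node (.leaf 0) (.leaf 0))))) (.node (.node (.node (.node (.leaf 0) (.leaf 0)) (.node (.leaf 0) (.leaf 0))) (.node (.node (.leaf 0) (.leaf 0)) (.node (.leaf 0) (.leaf 0)))) (.node (.node (.node (.leaf 0) (.leaf 0)) (.node (.leaf 0) (.leaf 0))) (.node (.node (.leaf 0) (.leaf 0)) (.node (.leaf 0) (.leaf 0)))))) (.node (.node (.node (.node (.node (.leaf 0) (.leaf 0)) (.node (.leaf 0) (.leaf 0))) (.node (.node (.leaf 0) (.leaf 0)) (.node (.leaf 0) (.leaf 0)))) (.node (.node (.node (.leaf 0) (.leaf 0)) (.node (.leaf 0) (.leaf 0))) (.node (.node (.leaf 0) (.leaf 0)) (.node (.leaf 0) (.leaf 0))))) (.node (.node (.node (.node (.leaf 0) (.leaf 0)) (.node (.leaf 0) (.leaf 0))) (.node (.node (.leaf 0) (.leaf 0)) (.node (.leaf 0) (.leaf 0)))) (.node (.node (.node (.leaf 0) (.leaf 0)) (.node (.leaf 0) (.leaf 0))) (.node (.node (.leaf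 0) (.leaf 0)) (.node (.leaf 0) (.leaf 0))))))) (.node (.node (.node (.node (.node (.node (.leaf 0) (.leaf 0)) (.node (.leaf 0) (.leaf 0))) (.node (.node (.leaf 0) (.leaf 0)) (.node (.leaf 0) (.leaf 0)))) (.node (.node (.node (.leaf 0) (.leaf 0)) (.node (.leaf 0) (.leaf 0))) (.node (.node (.leaf 0) (.leaf 0)) (.node (.leaf 0) (.leaf 0))))) (.node (.node (.node (.node (.leaf 0) (.leaf 0)) (.node (.leaf 0) (.leaf 0))) (.node (.node (.leaf 0) (.leaf 0)) (.node (.leaf 0) (.leaf 0)))) (.node (.node (.node (.leaf 0) (.leaf 0)) (.node (.leaf 0) (.leaf 0))) (.node (.node (.leaf 0) (.leaf 0)) (.node (.leaf 0) (.leaf 0)))))) (.node (.node (.node (.node (.node (.leaf 0) (.leaf 0)) (.node (.leaf 0) (.leaf 0))) (.node (.node (.leaf 0) (.leaf 0)) (.node (.leaf 0) (.leaf 0)))) (.node (.node (.node (.leaf 0) (.leaf 0)) (.node (.leaf 0) (.leaf 0))) (.node (.node (.leaf 0) (.leaf 0)) (.node (.leaf 0) (.leaf 0))))) (.node (.node (.node (.node (.leaf 0) (.leaf 0)) (.node (.leaf 0) (.leaf 0))) (.node (.node (.leaf 0) (.leaf 0)) (.node (.leaf 0) (.leaf 0)))) (.node (.node (.node (.leaf 0) (.leaf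 0)) (.node (.leaf 0) (.leaf 0))) (.node (.node (.leaf 0) (.leaf 0)) (.node (.leaf 0) (.leaf 0))))))))))

/-- Cosets times the first generator. -/
def tXTree : NTree :=
  (.node (.node (.node (.node (.node (.node (.node (.node (.node (.leaf 1000) (.leaf 3000)) (.node (.leaf 5000) (.leaf 7000))) (.node (.node (.leaf 9000) (.leaf 11000)) (.node (.leaf 13000) (.leaf 15000)))) (.node (.node (.node (.leaf 17000) (.leaf 19000)) (.node (.leaf 21000) (.leaf 18033))) (.node (.node (.leaf 24000) (.leaf 26000)) (.node (.leaf 28000) (.leaf 30000))))) (.node (.node (.node (.node (.leaf 32000) (.leaf 34000)) (.node (.leaf 20378) (.leaf 37000))) (.node (.node (.leaf 39000) (.leaf 41000)) (.node (.leaf 43000) (.leaf 45000)))) (.node (.node (.node (.leaf 47000) (.leaf 49000)) (.node (.leaf 51000) (.leaf 53000))) (.node (.node (.leaf 55000) (.leaf 57000)) (.node (.leaf 58000) (.leaf 60000)))))) (.node (.node (.node (.node (.node (.leaf 62000) (.leaf 64000)) (.node (.leaf 66000) (.leaf 67000))) (.node (.node (.leaf 69000) (.leaf 71000)) (.node (.leaf 73000) (.leaf 74000)))) (.node (.node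 (.node (.leaf 76000) (.leaf 78000)) (.node (.leaf 80000) (.leaf 82000))) (.node (.node (.leaf 84000) (.leaf 22443)) (.node (.leaf 86000) (.leaf 61243))))) (.node (.node (.node (.node (.leaf 89000) (.leaf 91000)) (.node (.leaf 93000) (.leaf 95000))) (.node (.node (.leaf 97000) (.leaf 48101)) (.node (.leaf 98000) (.leaf 99000)))) (.node (.node (.node (.leaf 101000) (.leaf 27502)) (.node (.leaf 0) (.leaf 105000))) (.node (.node (.leaf 10565) (.leaf 107000)) (.node (.leaf 109000) (.leaf 111000))))))) (.node (.node (.node (.node (.node (.node (.leaf 112000) (.leaf 114000)) (.node (.leaf 110323) (.leaf 33651))) (.node (.node (.leaf 117000) (.leaf 119000)) (.node (.leaf 44314) (.leaf 121000)))) (.node (.node (.node (.leaf 63484) (.leaf 8565)) (.node (.leaf 2565) (.leaf 125000))) (.node (.node (.leaf 102426) (.leaf 50499)) (.node (.leaf 129000) (.leaf 130000))))) (.node (.node (.node (.node (.leaf 132000) (.leaf 134000)) (.node (.leaf 135000) (.leaf 137000))) (.node (.node (.leaf 139000) (.leaf 141000)) (.node (.leaf 143000) (.leaf 145000)))) (.node (.node (.node (.leaf 147000)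 (.leaf 149000)) (.node (.leaf 151000) (.leaf 153000))) (.node (.node (.leaf 154000) (.leaf 156000)) (.node (.leaf 122378) (.leaf 79443)))))) (.node (.node (.node (.node (.node (.leaf 158000) (.leaf 159000)) (.node (.leaf 161000) (.leaf 163000))) (.node (.node (.leaf 157502) (.leaf 165000)) (.node (.leaf 166000) (.leaf 167000)))) (.node (.node (.node (.leaf 72565) (.leaf 169000)) (.node (.leaf 170000) (.leaf 92033))) (.node (.node (.leaf 160088) (.leaf 128323)) (.node (.leaf 38168) (.leaf 172000))))) (.node (.node (.node (.node (.leaf 174000) (.leaf 90059)) (.node (.leaf 68591) (.leaf 178000))) (.node (.node (.leaf 179000) (.leaf 140056)) (.node (.leaf 177155) (.leaf 182000)))) (.node (.node (.node (.leaf 184000) (.leaf 186000)) (.node (.leaf 59565) (.leaf 35009))) (.node (.node (.leaf 188000) (.leaf 189000)) (.node (.leaf 190000) (.leaf 191000)))))))) (.node (.node (.node (.node (.node (.node (.node (.leaf 192000) (.leaf 31565)) (.node (.leaf 6304) (.leaf 56371))) (.node (.node (.leaf 75391) (.leaf 81345)) (.node (.leaf 115069) (.leaf 196000)))) (.node (.node (.node (.leaf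 198000) (.leaf 199000)) (.node (.leaf 185300) (.leaf 138621))) (.node (.node (.leaf 201000) (.leaf 203000)) (.node (.leaf 204000) (.leaf 120475))))) (.node (.node (.node (.node (.leaf 207000) (.leaf 205168)) (.node (.leaf 77323) (.leaf 100169))) (.node (.node (.leaf 208000) (.leaf 29169)) (.node (.leaf 65219) (.leaf 54468)))) (.node (.node (.node (.leaf 211000) (.leaf 213000)) (.node (.leaf 12252) (.leaf 52625))) (.node (.node (.leaf 124476) (.leaf 216000)) (.node (.leaf 218000) (.leaf 164502)))))) (.node (.node (.node (.node (.node (.leaf 194204) (.leaf 175518)) (.node (.leaf 222000) (.leaf 224000))) (.node (.node (.leaf 226000) (.leaf 227000)) (.node (.leaf 228000) (.leaf 230000)))) (.node (.node (.node (.leaf 220335) (.leaf 231000)) (.node (.leaf 127323) (.leaf 187232))) (.node (.node (.leaf 171383) (.leaf 94093)) (.node (.leaf 123500) (.leaf 113077))))) (.node (.node (.node (.node (.leaf 87439) (.leaf 232000)) (.node (.leaf 233000) (.leaf 103056))) (.node (.node (.leaf 235000) (.leaf 118502)) (.node (.leaf 229152) (.leaf 236000)))) (.node (.node (.node (.leaf 237000)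 (.leaf 239000)) (.node (.leaf 4000) (.leaf 104222))) (.node (.node (.leaf 146154) (.leaf 241000)) (.node (.leaf 181154) (.leaf 242000))))))) (.node (.node (.node (.node (.node (.node (.leaf 240033) (.leaf 36335)) (.node (.leaf 243000) (.leaf 244000))) (.node (.node (.leaf 23304) (.leaf 245000)) (.node (.leaf 142461) (.leaf 247000)))) (.node (.node (.node (.leaf 248000) (.leaf 150344)) (.node (.leaf 133097) (.leaf 223544))) (.node (.node (.leaf 249000) (.leaf 212585)) (.node (.leaf 251000) (.leaf 252000))))) (.node (.node (.node (.node (.leaf 131268) (.leaf 126057)) (.node (.leaf 253000) (.leaf 254000))) (.node (.node (.leaf 197123) (.leaf 225169)) (.node (.leaf 40476) (.leaf 255000)))) (.node (.node (.node (.leaf 168441) (.leaf 256000)) (.node (.leaf 180396) (.leaf 25369))) (.node (.node (.leaf 88428) (.leaf 14253)) (.node (.leaf 257000) (.leaf 152419)))))) (.node (.node (.node (.node (.node (.leaf 221208) (.leaf 219051)) (.node (.leaf 258000) (.leaf 148017))) (.node (.node (.leaf 250545) (.leaf 259000)) (.node (.leaf 234314) (.leaf 173157)))) (.node (.node (.node (.leaf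 209050) (.leaf 202432)) (.node (.leaf 260000) (.leaf 215227))) (.node (.node (.leaf 144343) (.leaf 261000)) (.node (.leaf 262000) (.leaf 70196))))) (.node (.node (.node (.node (.leaf 16651) (.leaf 42618)) (.node (.leaf 195011) (.leaf 263000))) (.node (.node (.leaf 106188) (.leaf 176625)) (.node (.leaf 210036) (.leaf 246541)))) (.node (.node (.node (.leaf 183414) (.leaf 238548)) (.node (.leaf 214601) (.leaf 264202))) (.node (.node (.leaf 200202) (.leaf 83398)) (.node (.leaf 85335) (.leaf 96240))))))))) (.node (.node (.node (.node (.node (.node (.node (.node (.leaf 108316) (.leaf 206020)) (.node (.leaf 155574) (.leaf 193204))) (.node (.node (.leaf 116281) (.leaf 46543)) (.node (.leaf 136373) (.leaf 217379)))) (.node (.node (.node (.leaf 265303) (.leaf 162238)) (.node (.leaf 0) (.leaf 0))) (.node (.node (.leaf 0) (.leaf 0)) (.node (.leaf 0) (.leaf 0))))) (.node (.node (.node (.node (.leaf 0) (.leaf 0)) (.node (.leaf 0) (.leaf 0))) (.node (.node (.leaf 0) (.leaf 0)) (.node (.leaf 0) (.leaf 0)))) (.node (.node (.node (.leaf 0) (.leaf 0)) (.node (.leaf 0) (.leaf 0))) (.node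 (.node (.leaf 0) (.leaf 0)) (.node (.leaf 0) (.leaf 0)))))) (.node (.node (.node (.node (.node (.leaf 0) (.leaf 0)) (.node (.leaf 0) (.leaf 0))) (.node (.node (.leaf 0) (.leaf 0)) (.node (.leaf 0) (.leaf 0)))) (.node (.node (.node (.leaf 0) (.leaf 0)) (.node (.leaf 0) (.leaf 0))) (.node (.node (.leaf 0) (.leaf 0)) (.node (.leaf 0) (.leaf 0))))) (.node (.node (.node (.node (.leaf 0) (.leaf 0)) (.node (.leaf 0) (.leaf 0))) (.node (.node (.leaf 0) (.leaf 0)) (.node (.leaf 0) (.leaf 0)))) (.node (.node (.node (.leaf 0) (.leaf 0)) (.node (.leaf 0) (.leaf 0))) (.node (.node (.leaf 0) (.leaf 0)) (.node (.leaf 0) (.leaf 0))))))) (.node (.node (.node (.node (.node (.node (.leaf 0) (.leaf 0)) (.node (.leaf 0) (.leaf 0))) (.node (.node (.leaf 0) (.leaf 0)) (.node (.leaf 0) (.leaf 0)))) (.node (.node (.node (.leaf 0) (.leaf 0)) (.node (.leaf 0) (.leaf 0))) (.node (.node (.leaf 0) (.leaf 0)) (.node (.leaf 0) (.leaf 0))))) (.node (.node (.node (.node (.leaf 0) (.leaf 0)) (.node (.leaf 0) (.leaf 0))) (.node (.node (.leaf 0) (.leaf 0)) (.node (.leaf 0) (.leaf 0)))) (.node (.node (.node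 (.leaf 0) (.leaf 0)) (.node (.leaf 0) (.leaf 0))) (.node (.node (.leaf 0) (.leaf 0)) (.node (.leaf 0) (.leaf 0)))))) (.node (.node (.node (.node (.node (.leaf 0) (.leaf 0)) (.node (.leaf 0) (.leaf 0))) (.node (.node (.leaf 0) (.leaf 0)) (.node (.leaf 0) (.leaf 0)))) (.node (.node (.node (.leaf 0) (.leaf 0)) (.node (.leaf 0) (.leaf 0))) (.node (.node (.leaf 0) (.leaf 0)) (.node (.leaf 0) (.leaf 0))))) (.node (.node (.node (.node (.leaf 0) (.leaf 0)) (.node (.leaf 0) (.leaf 0))) (.node (.node (.leaf 0) (.leaf 0)) (.node (.leaf 0) (.leaf 0)))) (.node (.node (.node (.leaf 0) (.leaf 0)) (.node (.leaf 0) (.leaf 0))) (.node (.node (.leaf 0) (.leaf 0)) (.node (.leaf 0) (.leaf 0)))))))) (.node (.node (.node (.node (.node (.node (.node (.leaf 0) (.leaf 0)) (.node (.leaf 0) (.leaf 0))) (.node (.node (.leaf 0) (.leaf 0)) (.node (.leaf 0) (.leaf 0)))) (.node (.node (.node (.leaf 0) (.leaf 0)) (.node (.leaf 0) (.leaf 0))) (.node (.node (.leaf 0) (.leaf 0)) (.node (.leaf 0) (.leaf 0))))) (.node (.node (.node (.node (.leaf 0) (.leaf 0)) (.node (.leaf 0) (.leaf 0))) (.node (.node (.leaf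 0) (.leaf 0)) (.node (.leaf 0) (.leaf 0)))) (.node (.node (.node (.leaf 0) (.leaf 0)) (.node (.leaf 0) (.leaf 0))) (.node (.node (.leaf 0) (.leaf 0)) (.node (.leaf 0) (.leaf 0)))))) (.node (.node (.node (.node (.node (.leaf 0) (.leaf 0)) (.node (.leaf 0) (.leaf 0))) (.node (.node (.leaf 0) (.leaf 0)) (.node (.leaf 0) (.leaf 0)))) (.node (.node (.node (.leaf 0) (.leaf 0)) (.node (.leaf 0) (.leaf 0))) (.node (.node (.leaf 0) (.leaf 0)) (.node (.leaf 0) (.leaf 0))))) (.node (.node (.node (.node (.leaf 0) (.leaf 0)) (.node (.leaf 0) (.leaf 0))) (.node (.node (.leaf 0) (.leaf 0)) (.node (.leaf 0) (.leaf 0)))) (.node (.node (.node (.leaf 0) (.leaf 0)) (.node (.leaf 0) (.leaf 0))) (.node (.node (.leaf 0) (.leaf 0)) (.node (.leaf 0) (.leaf 0))))))) (.node (.node (.node (.node (.node (.node (.leaf 0) (.leaf 0)) (.node (.leaf 0) (.leaf 0))) (.node (.node (.leaf 0) (.leaf 0)) (.node (.leaf 0) (.leaf 0)))) (.node (.node (.node (.leaf 0) (.leaf 0)) (.node (.leaf 0) (.leaf 0))) (.node (.node (.leaf 0) (.leaf 0)) (.node (.leaf 0) (.leaf 0))))) (.node (.node (.node (.node (.leaf 0) (.leaf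 0)) (.node (.leaf 0) (.leaf 0))) (.node (.node (.leaf 0) (.leaf 0)) (.node (.leaf 0) (.leaf 0)))) (.node (.node (.node (.leaf 0) (.leaf 0)) (.node (.leaf 0) (.leaf 0))) (.node (.node (.leaf 0) (.leaf 0)) (.node (.leaf 0) (.leaf 0)))))) (.node (.node (.node (.node (.node (.leaf 0) (.leaf 0)) (.node (.leaf 0) (.leaf 0))) (.node (.node (.leaf 0) (.leaf 0)) (.node (.leaf 0) (.leaf 0)))) (.node (.node (.node (.leaf 0) (.leaf 0)) (.node (.leaf 0) (.leaf 0))) (.node (.node (.leaf 0) (.leaf 0)) (.node (.leaf 0) (.leaf 0))))) (.node (.node (.node (.node (.leaf 0) (.leaf 0)) (.node (.leaf 0) (.leaf 0))) (.node (.node (.leaf 0) (.leaf 0)) (.node (.leaf 0) (.leaf 0)))) (.node (.node (.node (.leaf 0) (.leaf 0)) (.node (.leaf 0) (.leaf 0))) (.node (.node (.leaf 0) (.leaf 0)) (.node (.leaf 0) (.leaf 0))))))))))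

/-- Cosets times the second generator. -/
def tYTree : NTree :=
  (.node (.node (.node (.node (.node (.node (.node (.node (.node (.leaf 2000) (.leaf 4000)) (.node (.leaf 6000) (.leaf 8000))) (.node (.node (.leaf 10000) (.leaf 12000)) (.node (.leaf 14000) (.leaf 16000)))) (.node (.node (.node (.leaf 18000) (.leaf 20000)) (.node (.leaf 22000) (.leaf 23000))) (.node (.node (.leaf 25000) (.leaf 27000)) (.node (.leaf 29000) (.leaf 31000))))) (.node (.node (.node (.node (.leaf 33000) (.leaf 35000)) (.node (.leaf 36000) (.leaf 38000))) (.node (.node (.leaf 40000) (.leaf 42000)) (.node (.leaf 44000) (.leaf 46000)))) (.node (.node (.node (.leaf 48000) (.leaf 50000)) (.node (.leaf 52000) (.leaf 54000))) (.node (.node (.leaf 56000) (.leaf 0)) (.node (.leaf 59000) (.leaf 61000)))))) (.node (.node (.node (.node (.node (.leaf 63000) (.leaf 65000)) (.node (.leaf 19056) (.leaf 68000))) (.node (.node (.leaf 70000) (.leaf 72000)) (.node (.leaf 32548) (.leaf 75000)))) (.node (.node (.node (.leaf 77000) (.leaf 79000)) (.node (.leaf 81000) (.leaf 83000))) (.node (.node (.leaf 1000) (.leaf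 85000)) (.node (.leaf 87000) (.leaf 88000))))) (.node (.node (.node (.node (.leaf 90000) (.leaf 92000)) (.node (.leaf 94000) (.leaf 96000))) (.node (.node (.leaf 28545) (.leaf 15441)) (.node (.leaf 86089) (.leaf 100000)))) (.node (.node (.node (.leaf 102000) (.leaf 103000)) (.node (.leaf 104000) (.leaf 21411))) (.node (.node (.leaf 106000) (.leaf 108000)) (.node (.leaf 110000) (.leaf 34363))))))) (.node (.node (.node (.node (.node (.node (.leaf 113000) (.leaf 115000)) (.node (.leaf 41378) (.leaf 116000))) (.node (.node (.leaf 118000) (.leaf 120000)) (.node (.leaf 3000) (.leaf 122000)))) (.node (.node (.node (.leaf 123000) (.leaf 73382)) (.node (.leaf 124000) (.leaf 126000))) (.node (.node (.leaf 127000) (.leaf 128000)) (.node (.leaf 76391) (.leaf 131000))))) (.node (.node (.node (.node (.leaf 133000) (.leaf 30548)) (.node (.leaf 136000) (.leaf 138000))) (.node (.node (.leaf 140000) (.leaf 142000)) (.node (.leaf 144000) (.leaf 146000)))) (.node (.node (.node (.leaf 148000) (.leaf 150000)) (.node (.leaf 152000) (.leaf 125476))) (.node (.node (.leaf 155000) (.leaf 17056))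 (.node (.leaf 5000) (.leaf 157000)))))) (.node (.node (.node (.node (.node (.leaf 89369) (.leaf 160000)) (.node (.leaf 162000) (.leaf 164000))) (.node (.node (.leaf 57525) (.leaf 95490)) (.node (.leaf 26545) (.leaf 168000)))) (.node (.node (.node (.leaf 37121) (.leaf 64198)) (.node (.leaf 62151) (.leaf 158463))) (.node (.node (.leaf 53296) (.leaf 78168)) (.node (.leaf 171000) (.leaf 173000))))) (.node (.node (.node (.node (.leaf 175000) (.leaf 176000)) (.node (.leaf 177000) (.leaf 7000))) (.node (.node (.leaf 180000) (.leaf 181000)) (.node (.leaf 93033) (.leaf 183000)))) (.node (.node (.node (.leaf 185000) (.leaf 109565)) (.node (.leaf 187000) (.leaf 58121))) (.node (.node (.leaf 111536) (.leaf 178294)) (.node (.leaf 170216) (.leaf 121516)))))))) (.node (.node (.node (.node (.node (.node (.node (.leaf 9000) (.leaf 193000)) (.node (.leaf 194000) (.leaf 195000))) (.node (.node (.leaf 190058) (.leaf 117370)) (.node (.leaf 151042) (.leaf 197000)))) (.node (.node (.node (.leaf 143195) (.leaf 200000)) (.node (.leaf 179527) (.leaf 98296))) (.node (.node (.leaf 202000) (.leaf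 184280)) (.node (.leaf 205000) (.leaf 206000))))) (.node (.node (.node (.node (.leaf 13103) (.leaf 82565)) (.node (.leaf 11000) (.leaf 97202))) (.node (.node (.leaf 132177) (.leaf 201169)) (.node (.leaf 209000) (.leaf 210000)))) (.node (.node (.node (.leaf 212000) (.leaf 214000)) (.node (.leaf 99625) (.leaf 215000))) (.node (.node (.leaf 186056) (.leaf 217000)) (.node (.leaf 219000) (.leaf 220000)))))) (.node (.node (.node (.node (.node (.leaf 221000) (.leaf 204081)) (.node (.leaf 223000) (.leaf 225000))) (.node (.node (.leaf 153511) (.leaf 135530)) (.node (.leaf 229000) (.leaf 163296)))) (.node (.node (.node (.leaf 55525) (.leaf 169033)) (.node (.leaf 172442) (.leaf 60243))) (.node (.node (.leaf 39500) (.leaf 192516)) (.node (.leaf 167393) (.leaf 207498))))) (.node (.node (.node (.node (.leaf 191334) (.leaf 69560)) (.node (.leaf 234000) (.leaf 213052))) (.node (.node (.leaf 227372) (.leaf 228425)) (.node (.leaf 203543) (.leaf 107172)))) (.node (.node (.node (.leaf 238000) (.leaf 114573)) (.node (.leaf 112484) (.leaf 240000))) (.node (.node (.leaf 67353) (.leaf 232227))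 (.node (.leaf 47142) (.leaf 105516))))))) (.node (.node (.node (.node (.node (.node (.leaf 74565) (.leaf 137019)) (.node (.leaf 165536) (.leaf 66222))) (.node (.node (.leaf 222502) (.leaf 130016)) (.node (.leaf 246000) (.leaf 199371)))) (.node (.node (.node (.leaf 242226) (.leaf 233395)) (.node (.leaf 161044) (.leaf 239548))) (.node (.node (.leaf 84114) (.leaf 250000)) (.node (.leaf 145517) (.leaf 156355))))) (.node (.node (.node (.node (.leaf 182324) (.leaf 51610)) (.node (.leaf 245352) (.leaf 247123))) (.node (.node (.leaf 24000) (.leaf 43378)) (.node (.leaf 154114) (.leaf 216202)))) (.node (.node (.node (.leaf 49571) (.leaf 226357)) (.node (.leaf 159375) (.leaf 119171))) (.node (.node (.leaf 235346) (.leaf 256032)) (.node (.leaf 248553) (.leaf 257130)))))) (.node (.node (.node (.node (.node (.leaf 218502) (.leaf 244060)) (.node (.leaf 101600) (.leaf 188468))) (.node (.node (.leaf 80204) (.leaf 249229)) (.node (.leaf 258314) (.leaf 71033)))) (.node (.node (.node (.leaf 196100) (.leaf 230000)) (.node (.leaf 243621) (.leaf 224625))) (.node (.node (.leaf 259565) (.leaf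 141296)) (.node (.leaf 251198) (.leaf 260196))))) (.node (.node (.node (.node (.leaf 231056) (.leaf 134102)) (.node (.leaf 129536) (.leaf 91555))) (.node (.node (.leaf 174194) (.leaf 241408)) (.node (.leaf 211315) (.leaf 264000)))) (.node (.node (.node (.leaf 189016) (.leaf 254110)) (.node (.leaf 45000) (.leaf 237161))) (.node (.node (.leaf 166603) (.leaf 262549)) (.node (.leaf 252243) (.leaf 255570))))))))) (.node (.node (.node (.node (.node (.node (.node (.node (.leaf 147337) (.leaf 139499)) (.node (.leaf 149511) (.leaf 265000))) (.node (.node (.leaf 208017) (.leaf 261196)) (.node (.leaf 236144) (.leaf 263359)))) (.node (.node (.node (.leaf 198017) (.leaf 253484)) (.node (.leaf 0) (.leaf 0))) (.node (.node (.leaf 0) (.leaf 0)) (.node (.leaf 0) (.leaf 0))))) (.node (.node (.node (.node (.leaf 0) (.leaf 0)) (.node (.leaf 0) (.leaf 0))) (.node (.node (.leaf 0) (.leaf 0)) (.node (.leaf 0) (.leaf 0)))) (.node (.node (.node (.leaf 0) (.leaf 0)) (.node (.leaf 0) (.leaf 0))) (.node (.node (.leaf 0) (.leaf 0)) (.node (.leaf 0) (.leaf 0)))))) (.node (.node (.node (.node (.node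 (.leaf 0) (.leaf 0)) (.node (.leaf 0) (.leaf 0))) (.node (.node (.leaf 0) (.leaf 0)) (.node (.leaf 0) (.leaf 0)))) (.node (.node (.node (.leaf 0) (.leaf 0)) (.node (.leaf 0) (.leaf 0))) (.node (.node (.leaf 0) (.leaf 0)) (.node (.leaf 0) (.leaf 0))))) (.node (.node (.node (.node (.leaf 0) (.leaf 0)) (.node (.leaf 0) (.leaf 0))) (.node (.node (.leaf 0) (.leaf 0)) (.node (.leaf 0) (.leaf 0)))) (.node (.node (.node (.leaf 0) (.leaf 0)) (.node (.leaf 0) (.leaf 0))) (.node (.node (.leaf 0) (.leaf 0)) (.node (.leaf 0) (.leaf 0))))))) (.node (.node (.node (.node (.node (.node (.leaf 0) (.leaf 0)) (.node (.leaf 0) (.leaf 0))) (.node (.node (.leaf 0) (.leaf 0)) (.node (.leaf 0) (.leaf 0)))) (.node (.node (.node (.leaf 0) (.leaf 0)) (.node (.leaf 0) (.leaf 0))) (.node (.node (.leaf 0) (.leaf 0)) (.node (.leaf 0) (.leaf 0))))) (.node (.node (.node (.node (.leaf 0) (.leaf 0)) (.node (.leaf 0) (.leaf 0))) (.node (.node (.leaf 0) (.leaf 0)) (.node (.leaf 0) (.leaf 0)))) (.node (.node (.node (.leaf 0) (.leaf 0)) (.node (.leaf 0) (.leaf 0))) (.node (.node (.leaf 0) (.leaf 0)) (.node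 (.leaf 0) (.leaf 0)))))) (.node (.node (.node (.node (.node (.leaf 0) (.leaf 0)) (.node (.leaf 0) (.leaf 0))) (.node (.node (.leaf 0) (.leaf 0)) (.node (.leaf 0) (.leaf 0)))) (.node (.node (.node (.leaf 0) (.leaf 0)) (.node (.leaf 0) (.leaf 0))) (.node (.node (.leaf 0) (.leaf 0)) (.node (.leaf 0) (.leaf 0))))) (.node (.node (.node (.node (.leaf 0) (.leaf 0)) (.node (.leaf 0) (.leaf 0))) (.node (.node (.leaf 0) (.leaf 0)) (.node (.leaf 0) (.leaf 0)))) (.node (.node (.node (.leaf 0) (.leaf 0)) (.node (.leaf 0) (.leaf 0))) (.node (.node (.leaf 0) (.leaf 0)) (.node (.leaf 0) (.leaf 0)))))))) (.node (.node (.node (.node (.node (.node (.node (.leaf 0) (.leaf 0)) (.node (.leaf 0) (.leaf 0))) (.node (.node (.leaf 0) (.leaf 0)) (.node (.leaf 0) (.leaf 0)))) (.node (.node (.node (.leaf 0) (.leaf 0)) (.node (.leaf 0) (.leaf 0))) (.node (.node (.leaf 0) (.leaf 0)) (.node (.leaf 0) (.leaf 0))))) (.node (.node (.node (.node (.leaf 0) (.leaf 0)) (.node (.leaf 0) (.leaf 0))) (.node (.node (.leaf 0) (.leaf 0)) (.node (.leaf 0) (.leaf 0)))) (.node (.node (.node (.leaf 0) (.leaf 0)) (.node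 (.leaf 0) (.leaf 0))) (.node (.node (.leaf 0) (.leaf 0)) (.node (.leaf 0) (.leaf 0)))))) (.node (.node (.node (.node (.node (.leaf 0) (.leaf 0)) (.node (.leaf 0) (.leaf 0))) (.node (.node (.leaf 0) (.leaf 0)) (.node (.leaf 0) (.leaf 0)))) (.node (.node (.node (.leaf 0) (.leaf 0)) (.node (.leaf 0) (.leaf 0))) (.node (.node (.leaf 0) (.leaf 0)) (.node (.leaf 0) (.leaf 0))))) (.node (.node (.node (.node (.leaf 0) (.leaf 0)) (.node (.leaf 0) (.leaf 0))) (.node (.node (.leaf 0) (.leaf 0)) (.node (.leaf 0) (.leaf 0)))) (.node (.node (.node (.leaf 0) (.leaf 0)) (.node (.leaf 0) (.leaf 0))) (.node (.node (.leaf 0) (.leaf 0)) (.node (.leaf 0) (.leaf 0))))))) (.node (.node (.node (.node (.node (.node (.leaf 0) (.leaf 0)) (.node (.leaf 0) (.leaf 0))) (.node (.node (.leaf 0) (.leaf 0)) (.node (.leaf 0) (.leaf 0)))) (.node (.node (.node (.leaf 0) (.leaf 0)) (.node (.leaf 0) (.leaf 0))) (.node (.node (.leaf 0) (.leaf 0)) (.node (.leaf 0) (.leaf 0))))) (.node (.node (.node (.node (.leaf 0) (.leaf 0)) (.node (.leaf 0) (.leaf 0))) (.node (.node (.leaf 0) (.leaf 0)) (.node (.leaf 0) (.leaf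 0)))) (.node (.node (.node (.leaf 0) (.leaf 0)) (.node (.leaf 0) (.leaf 0))) (.node (.node (.leaf 0) (.leaf 0)) (.node (.leaf 0) (.leaf 0)))))) (.node (.node (.node (.node (.node (.leaf 0) (.leaf 0)) (.node (.leaf 0) (.leaf 0))) (.node (.node (.leaf 0) (.leaf 0)) (.node (.leaf 0) (.leaf 0)))) (.node (.node (.node (.leaf 0) (.leaf 0)) (.node (.leaf 0) (.leaf 0))) (.node (.node (.leaf 0) (.leaf 0)) (.node (.leaf 0) (.leaf 0))))) (.node (.node (.node (.node (.leaf 0) (.leaf 0)) (.node (.leaf 0) (.leaf 0))) (.node (.node (.leaf 0) (.leaf 0)) (.node (.leaf 0) (.leaf 0)))) (.node (.node (.node (.leaf 0) (.leaf 0)) (.node (.leaf 0) (.leaf 0))) (.node (.node (.leaf 0) (.leaf 0)) (.node (.leaf 0) (.leaf 0))))))))))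

/-- Double coset of each coset. -/
def certTree : NTree :=
  (.node (.node (.node (.node (.node (.node (.node (.node (.node (.leaf 0) (.leaf 1000000)) (.node (.leaf 2000000) (.leaf 2326354))) (.node (.node (.leaf 1458468) (.leaf 2043360)) (.node (.leaf 2197077) (.leaf 1534148)))) (.node (.node (.node (.leaf 1096427) (.leaf 1379166)) (.node (.leaf 2002131) (.leaf 2001327))) (.node (.node (.leaf 1020213) (.leaf 1130080)) (.node (.leaf 2603528) (.leaf 1378198))))) (.node (.node (.node (.node (.leaf 2045155) (.leaf 3000000)) (.node (.leaf 1217201) (.leaf 4000000))) (.node (.node (.leaf 1527643) (.leaf 1195110)) (.node (.leaf 2485625) (.leaf 2510541)))) (.node (.node (.node (.leaf 2193584) (.leaf 2453066)) (.node (.leaf 2537043) (.leaf 1030568))) (.node (.node (.leaf 1107222) (.leaf 2426426)) (.node (.leaf 2031044) (.leaf 1010159)))))) (.node (.node (.node (.node (.node (.leaf 2156573) (.leaf 2462105)) (.node (.leaf 2081307) (.leaf 1229030))) (.node (.node (.leaf 2010566) (.leaf 1023600)) (.node (.leaf 1071379) (.leaf 2158336)))) (.node (.node (.node (.leaf 2452655) (.leaf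 2007564)) (.node (.leaf 2046277) (.leaf 4008248))) (.node (.node (.leaf 2501504) (.leaf 2658575)) (.node (.leaf 2543331) (.leaf 1080294))))) (.node (.node (.node (.node (.leaf 2225432) (.leaf 1631272)) (.node (.leaf 3057297) (.leaf 2194531))) (.node (.node (.leaf 2379214) (.leaf 1108611)) (.node (.leaf 1017457) (.leaf 1605241)))) (.node (.node (.node (.leaf 1121490) (.leaf 1016535)) (.node (.leaf 1601601) (.leaf 1296600))) (.node (.node (.leaf 2060329) (.leaf 1554370)) (.node (.leaf 1658490) (.leaf 1015653))))))) (.node (.node (.node (.node (.node (.node (.leaf 2325228) (.leaf 2107138)) (.node (.leaf 1081119) (.leaf 1253656))) (.node (.node (.leaf 1603060) (.leaf 1636184)) (.node (.leaf 2445454) (.leaf 1377099)))) (.node (.node (.node (.leaf 1061043) (.leaf 1598325)) (.node (.leaf 2009308) (.leaf 1624299))) (.node (.node (.leaf 2143354) (.leaf 2042390)) (.node (.leaf 1024060) (.leaf 2616039))))) (.node (.node (.node (.node (.leaf 1461609) (.leaf 2378514)) (.node (.leaf 2349561) (.leaf 2583407))) (.node (.node (.leaf 1604467) (.leaf 1057149)) (.node (.leaf 1042551) (.leaf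 2020318)))) (.node (.node (.node (.leaf 1473002) (.leaf 1493358)) (.node (.leaf 1192514) (.leaf 1021614))) (.node (.node (.leaf 1066166) (.leaf 2345385)) (.node (.leaf 1648095) (.leaf 2598462)))))) (.node (.node (.node (.node (.node (.leaf 2342189) (.leaf 1173279)) (.node (.leaf 2063360) (.leaf 1001193))) (.node (.node (.leaf 4009399) (.leaf 2291105)) (.node (.leaf 3002019) (.leaf 2619069)))) (.node (.node (.node (.leaf 1146255) (.leaf 1653275)) (.node (.leaf 1003231) (.leaf 2653275))) (.node (.node (.leaf 2141081) (.leaf 2059441)) (.node (.leaf 2188415) (.leaf 2643547))))) (.node (.node (.node (.node (.leaf 3042147) (.leaf 2320412)) (.node (.leaf 1025383) (.leaf 1143252))) (.node (.node (.leaf 2209518) (.leaf 1371070)) (.node (.leaf 2003098) (.leaf 2144509)))) (.node (.node (.node (.leaf 1035402) (.leaf 1376604)) (.node (.leaf 1643316) (.leaf 2108195))) (.node (.node (.leaf 4004089) (.leaf 3001536)) (.node (.leaf 1251138) (.leaf 3030394)))))))) (.node (.node (.node (.node (.node (.node (.node (.leaf 4006539) (.leaf 1645331)) (.node (.leaf 2109251) (.leaf 1578431))) (.node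 (.node (.leaf 1380347) (.leaf 4003655)) (.node (.leaf 1297009) (.leaf 1466318)))) (.node (.node (.node (.leaf 1442530) (.leaf 1540149)) (.node (.leaf 1390107) (.leaf 1623207))) (.node (.node (.leaf 2033068) (.leaf 2331008)) (.node (.leaf 2454445) (.leaf 1006615))))) (.node (.node (.node (.node (.leaf 1044215) (.leaf 4001103)) (.node (.leaf 2230004) (.leaf 3014039))) (.node (.node (.leaf 2015478) (.leaf 1004290)) (.node (.leaf 1261191) (.leaf 2044255)))) (.node (.node (.node (.leaf 1607591) (.leaf 2207381)) (.node (.leaf 2032440) (.leaf 2082580))) (.node (.node (.leaf 1549383) (.leaf 1090011)) (.node (.leaf 2061589) (.leaf 1007610)))))) (.node (.node (.node (.node (.node (.leaf 2299293) (.leaf 2371652)) (.node (.leaf 2115272) (.leaf 2599164))) (.node (.node (.leaf 1611354) (.leaf 2292550)) (.node (.leaf 1501651) (.leaf 2192213)))) (.node (.node (.node (.leaf 1360316) (.leaf 1174179)) (.node (.leaf 3004265) (.leaf 2298456))) (.node (.node (.leaf 2636359) (.leaf 1577315)) (.node (.leaf 1602654) (.leaf 2564197))))) (.node (.node (.node (.node (.leaf 1528396) (.leaf 1058319))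 (.node (.leaf 2380275) (.leaf 2064202))) (.node (.node (.leaf 2023114) (.leaf 2116253)) (.node (.leaf 2252413) (.leaf 1011029)))) (.node (.node (.node (.leaf 1230320) (.leaf 1325197)) (.node (.leaf 2004007) (.leaf 1194572))) (.node (.node (.leaf 3020205) (.leaf 2624450)) (.node (.leaf 4007141) (.leaf 2058458))))))) (.node (.node (.node (.node (.node (.node (.leaf 1193630) (.leaf 1122515)) (.node (.leaf 1543572) (.leaf 2087464))) (.node (.node (.leaf 1299266) (.leaf 3009493)) (.node (.leaf 1109317) (.leaf 4013007)))) (.node (.node (.node (.leaf 2511065) (.leaf 2253168)) (.node (.leaf 2146643) (.leaf 1009158))) (.node (.node (.leaf 1599474) (.leaf 2145539)) (.node (.leaf 1082317) (.leaf 1005238))))) (.node (.node (.node (.node (.leaf 3021467) (.leaf 4005501)) (.node (.leaf 2461400) (.leaf 2057323))) (.node (.node (.leaf 2006289) (.leaf 1303432)) (.node (.leaf 2016144) (.leaf 4002433)))) (.node (.node (.node (.leaf 1406249) (.leaf 2021117)) (.node (.leaf 1031468) (.leaf 1571114))) (.node (.node (.leaf 1453635) (.leaf 2402066)) (.node (.leaf 1462633) (.leaf 3005561))))))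 (.node (.node (.node (.node (.node (.leaf 1282292) (.leaf 1022304)) (.node (.leaf 1250216) (.leaf 1254010))) (.node (.node (.leaf 2080465) (.leaf 1537494)) (.node (.leaf 1145005) (.leaf 1014432)))) (.node (.node (.node (.leaf 1002570) (.leaf 1384014)) (.node (.leaf 1569210) (.leaf 2005315))) (.node (.node (.leaf 1032355) (.leaf 1324629)) (.node (.leaf 2022159) (.leaf 1059233))))) (.node (.node (.node (.node (.leaf 1548510) (.leaf 2079504)) (.node (.leaf 1060064) (.leaf 2030558))) (.node (.node (.leaf 2247555) (.leaf 1544158)) (.node (.leaf 1491245) (.leaf 2429510)))) (.node (.node (.node (.leaf 1049450) (.leaf 1079486)) (.node (.leaf 1460325) (.leaf 2656072))) (.node (.node (.leaf 1656408) (.leaf 1043221)) (.node (.leaf 1252279) (.leaf 1454103))))))))) (.node (.node (.node (.node (.node (.node (.node (.node (.leaf 1555344) (.leaf 1144511)) (.node (.leaf 1163286) (.leaf 2486009))) (.node (.node (.leaf 2270500) (.leaf 2014526)) (.node (.leaf 2645535) (.leaf 1191345)))) (.node (.node (.node (.leaf 2319546) (.leaf 2086204)) (.node (.leaf 0) (.leaf 0))) (.node (.node (.leaf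 0) (.leaf 0)) (.node (.leaf 0) (.leaf 0))))) (.node (.node (.node (.node (.leaf 0) (.leaf 0)) (.node (.leaf 0) (.leaf 0))) (.node (.node (.leaf 0) (.leaf 0)) (.node (.leaf 0) (.leaf 0)))) (.node (.node (.node (.leaf 0) (.leaf 0)) (.node (.leaf 0) (.leaf 0))) (.node (.node (.leaf 0) (.leaf 0)) (.node (.leaf 0) (.leaf 0)))))) (.node (.node (.node (.node (.node (.leaf 0) (.leaf 0)) (.node (.leaf 0) (.leaf 0))) (.node (.node (.leaf 0) (.leaf 0)) (.node (.leaf 0) (.leaf 0)))) (.node (.node (.node (.leaf 0) (.leaf 0)) (.node (.leaf 0) (.leaf 0))) (.node (.node (.leaf 0) (.leaf 0)) (.node (.leaf 0) (.leaf 0))))) (.node (.node (.node (.node (.leaf 0) (.leaf 0)) (.node (.leaf 0) (.leaf 0))) (.node (.node (.leaf 0) (.leaf 0)) (.node (.leaf 0) (.leaf 0)))) (.node (.node (.node (.leaf 0) (.leaf 0)) (.node (.leaf 0) (.leaf 0))) (.node (.node (.leaf 0) (.leaf 0)) (.node (.leaf 0) (.leaf 0))))))) (.node (.node (.node (.node (.node (.node (.leaf 0) (.leaf 0)) (.node (.leaf 0) (.leaf 0))) (.node (.node (.leaf 0) (.leaf 0)) (.node (.leaf 0) (.leaf 0)))) (.node (.node (.node (.leaf 0) (.leaf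 0)) (.node (.leaf 0) (.leaf 0))) (.node (.node (.leaf 0) (.leaf 0)) (.node (.leaf 0) (.leaf 0))))) (.node (.node (.node (.node (.leaf 0) (.leaf 0)) (.node (.leaf 0) (.leaf 0))) (.node (.node (.leaf 0) (.leaf 0)) (.node (.leaf 0) (.leaf 0)))) (.node (.node (.node (.leaf 0) (.leaf 0)) (.node (.leaf 0) (.leaf 0))) (.node (.node (.leaf 0) (.leaf 0)) (.node (.leaf 0) (.leaf 0)))))) (.node (.node (.node (.node (.node (.leaf 0) (.leaf 0)) (.node (.leaf 0) (.leaf 0))) (.node (.node (.leaf 0) (.leaf 0)) (.node (.leaf 0) (.leaf 0)))) (.node (.node (.node (.leaf 0) (.leaf 0)) (.node (.leaf 0) (.leaf 0))) (.node (.node (.leaf 0) (.leaf 0)) (.node (.leaf 0) (.leaf 0))))) (.node (.node (.node (.node (.leaf 0) (.leaf 0)) (.node (.leaf 0) (.leaf 0))) (.node (.node (.leaf 0) (.leaf 0)) (.node (.leaf 0) (.leaf 0)))) (.node (.node (.node (.leaf 0) (.leaf 0)) (.node (.leaf 0) (.leaf 0))) (.node (.node (.leaf 0) (.leaf 0)) (.node (.leaf 0) (.leaf 0)))))))) (.node (.node (.node (.node (.node (.node (.node (.leaf 0) (.leaf 0)) (.node (.leaf 0) (.leaf 0))) (.node (.node (.leaf 0) (.leaf 0))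 (.node (.leaf 0) (.leaf 0)))) (.node (.node (.node (.leaf 0) (.leaf 0)) (.node (.leaf 0) (.leaf 0))) (.node (.node (.leaf 0) (.leaf 0)) (.node (.leaf 0) (.leaf 0))))) (.node (.node (.node (.node (.leaf 0) (.leaf 0)) (.node (.leaf 0) (.leaf 0))) (.node (.node (.leaf 0) (.leaf 0)) (.node (.leaf 0) (.leaf 0)))) (.node (.node (.node (.leaf 0) (.leaf 0)) (.node (.leaf 0) (.leaf 0))) (.node (.node (.leaf 0) (.leaf 0)) (.node (.leaf 0) (.leaf 0)))))) (.node (.node (.node (.node (.node (.leaf 0) (.leaf 0)) (.node (.leaf 0) (.leaf 0))) (.node (.node (.leaf 0) (.leaf 0)) (.node (.leaf 0) (.leaf 0)))) (.node (.node (.node (.leaf 0) (.leaf 0)) (.node (.leaf 0) (.leaf 0))) (.node (.node (.leaf 0) (.leaf 0)) (.node (.leaf 0) (.leaf 0))))) (.node (.node (.node (.node (.leaf 0) (.leaf 0)) (.node (.leaf 0) (.leaf 0))) (.node (.node (.leaf 0) (.leaf 0)) (.node (.leaf 0) (.leaf 0)))) (.node (.node (.node (.leaf 0) (.leaf 0)) (.node (.leaf 0) (.leaf 0))) (.node (.node (.leaf 0) (.leaf 0)) (.node (.leaf 0) (.leaf 0))))))) (.node (.node (.node (.node (.node (.node (.leaf 0) (.leaf 0)) (.node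 (.leaf 0) (.leaf 0))) (.node (.node (.leaf 0) (.leaf 0)) (.node (.leaf 0) (.leaf 0)))) (.node (.node (.node (.leaf 0) (.leaf 0)) (.node (.leaf 0) (.leaf 0))) (.node (.node (.leaf 0) (.leaf 0)) (.node (.leaf 0) (.leaf 0))))) (.node (.node (.node (.node (.leaf 0) (.leaf 0)) (.node (.leaf 0) (.leaf 0))) (.node (.node (.leaf 0) (.leaf 0)) (.node (.leaf 0) (.leaf 0)))) (.node (.node (.node (.leaf 0) (.leaf 0)) (.node (.leaf 0) (.leaf 0))) (.node (.node (.leaf 0) (.leaf 0)) (.node (.leaf 0) (.leaf 0)))))) (.node (.node (.node (.node (.node (.leaf 0) (.leaf 0)) (.node (.leaf 0) (.leaf 0))) (.node (.node (.leaf 0) (.leaf 0)) (.node (.leaf 0) (.leaf 0)))) (.node (.node (.node (.leaf 0) (.leaf 0)) (.node (.leaf 0) (.leaf 0))) (.node (.node (.leaf 0) (.leaf 0)) (.node (.leaf 0) (.leaf 0))))) (.node (.node (.node (.node (.leaf 0) (.leaf 0)) (.node (.leaf 0) (.leaf 0))) (.node (.node (.leaf 0) (.leaf 0)) (.node (.leaf 0) (.leaf 0)))) (.node (.node (.node (.leaf 0) (.leaf 0)) (.node (.leaf 0) (.leaf 0))) (.node (.node (.leaf 0) (.leaf 0)) (.node (.leaf 0) (.leaf 0))))))))))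

/-- Double coset representatives. -/
def dList : List ℕ :=
  [0, 1, 2, 17, 19]

/-- Elements of `K` moved into `K`. -/
def hList0 : List ℕ :=
  [0, 1001, 2002, 3003, 4004, 5005, 6006, 7007, 8008, 9009, 10010, 11011, 12012, 13013, 14014, 15015, 16016, 17017, 18018, 19019, 20020, 21021, 22022, 23023, 24024, 25025, 26026, 27027, 28028, 29029, 30030, 31031, 32032, 33033, 34034, 35035, 36036, 37037, 38038, 39039, 40040, 41041, 42042, 43043, 44044, 45045, 46046, 47047, 48048, 49049, 50050, 51051, 52052, 53053, 54054, 55055, 56056, 57057, 58058, 59059, 60060, 61061, 62062, 63063, 64064, 65065, 66066, 67067, 68068, 69069, 70070, 71071, 72072, 73073, 74074, 75075, 76076, 77077, 78078, 79079, 80080, 81081, 82082, 83083, 84084, 85085, 86086, 87087, 88088, 89089, 90090, 91091, 92092, 93093, 94094, 95095, 96096, 97097, 98098, 99099, 100100, 101101, 102102, 103103, 104104, 105105, 106106, 107107, 108108, 109109, 110110, 111111, 112112, 113113, 114114, 115115, 116116, 117117, 118118, 119119, 120120, 121121, 122122, 123123, 124124, 125125, 126126, 127127, 128128, 129129, 130130, 131131,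 132132, 133133, 134134, 135135, 136136, 137137, 138138, 139139, 140140, 141141, 142142, 143143, 144144, 145145, 146146, 147147, 148148, 149149, 150150, 151151, 152152, 153153, 154154, 155155, 156156, 157157, 158158, 159159, 160160, 161161, 162162, 163163, 164164, 165165, 166166, 167167, 168168, 169169, 170170, 171171, 172172, 173173, 174174, 175175, 176176, 177177, 178178, 179179, 180180, 181181, 182182, 183183, 184184, 185185, 186186, 187187, 188188, 189189, 190190, 191191, 192192, 193193, 194194, 195195, 196196, 197197, 198198, 199199, 200200, 201201, 202202, 203203, 204204, 205205, 206206, 207207, 208208, 209209, 210210, 211211, 212212, 213213, 214214, 215215, 216216, 217217, 218218, 219219, 220220, 221221, 222222, 223223, 224224, 225225, 226226, 227227, 228228, 229229, 230230, 231231, 232232, 233233, 234234, 235235, 236236, 237237, 238238, 239239, 240240, 241241, 242242, 243243, 244244, 245245, 246246, 247247, 248248, 249249, 250250, 251251, 252252, 253253, 254254, 255255, 256256, 257257, 258258, 259259, 260260, 261261, 262262, 263263, 264264, 265265, 266266, 267267,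 268268, 269269, 270270, 271271, 272272, 273273, 274274, 275275, 276276, 277277, 278278, 279279, 280280, 281281, 282282, 283283, 284284, 285285, 286286, 287287, 288288, 289289, 290290, 291291, 292292, 293293, 294294, 295295, 296296, 297297, 298298, 299299, 300300, 301301, 302302, 303303, 304304, 305305, 306306, 307307, 308308, 309309, 310310, 311311, 312312, 313313, 314314, 315315, 316316, 317317, 318318, 319319, 320320, 321321, 322322, 323323, 324324, 325325, 326326, 327327, 328328, 329329, 330330, 331331, 332332, 333333, 334334, 335335, 336336, 337337, 338338, 339339, 340340, 341341, 342342, 343343, 344344, 345345, 346346, 347347, 348348, 349349, 350350, 351351, 352352, 353353, 354354, 355355, 356356, 357357, 358358, 359359, 360360, 361361, 362362, 363363, 364364, 365365, 366366, 367367, 368368, 369369, 370370, 371371, 372372, 373373, 374374, 375375, 376376, 377377, 378378, 379379, 380380, 381381, 382382, 383383, 384384, 385385, 386386, 387387, 388388, 389389, 390390, 391391, 392392, 393393, 394394, 395395, 396396, 397397, 398398, 399399, 400400, 401401, 402402, 403403,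 404404, 405405, 406406, 407407, 408408, 409409, 410410, 411411, 412412, 413413, 414414, 415415, 416416, 417417, 418418, 419419, 420420, 421421, 422422, 423423, 424424, 425425, 426426, 427427, 428428, 429429, 430430, 431431, 432432, 433433, 434434, 435435, 436436, 437437, 438438, 439439, 440440, 441441, 442442, 443443, 444444, 445445, 446446, 447447, 448448, 449449, 450450, 451451, 452452, 453453, 454454, 455455, 456456, 457457, 458458, 459459, 460460, 461461, 462462, 463463, 464464, 465465, 466466, 467467, 468468, 469469, 470470, 471471, 472472, 473473, 474474, 475475, 476476, 477477, 478478, 479479, 480480, 481481, 482482, 483483, 484484, 485485, 486486, 487487, 488488, 489489, 490490, 491491, 492492, 493493, 494494, 495495, 496496, 497497, 498498, 499499, 500500, 501501, 502502, 503503, 504504, 505505, 506506, 507507, 508508, 509509, 510510, 511511, 512512, 513513, 514514, 515515, 516516, 517517, 518518, 519519, 520520, 521521, 522522, 523523, 524524, 525525, 526526, 527527, 528528, 529529, 530530, 531531, 532532, 533533, 534534, 535535, 536536, 537537, 538538, 539539,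 540540, 541541, 542542, 543543, 544544, 545545, 546546, 547547, 548548, 549549, 550550, 551551, 552552, 553553, 554554, 555555, 556556, 557557, 558558, 559559, 560560, 561561, 562562, 563563, 564564, 565565, 566566, 567567, 568568, 569569, 570570, 571571, 572572, 573573, 574574, 575575, 576576, 577577, 578578, 579579, 580580, 581581, 582582, 583583, 584584, 585585, 586586, 587587, 588588, 589589, 590590, 591591, 592592, 593593, 594594, 595595, 596596, 597597, 598598, 599599, 600600, 601601, 602602, 603603, 604604, 605605, 606606, 607607, 608608, 609609, 610610, 611611, 612612, 613613, 614614, 615615, 616616, 617617, 618618, 619619, 620620, 621621, 622622, 623623, 624624, 625625, 626626, 627627, 628628, 629629, 630630, 631631, 632632, 633633, 634634, 635635, 636636, 637637, 638638, 639639, 640640, 641641, 642642, 643643, 644644, 645645, 646646, 647647, 648648, 649649, 650650, 651651, 652652, 653653, 654654, 655655, 656656, 657657, 658658, 659659]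

/-- Orbit representatives with their orders. -/
def repList0 : List ℕ :=
  [1, 102, 203, 311, 711, 1605, 3205, 6006]

/-- Orbit of each element. -/
def orbTree0 : NTree :=
  (.node (.node (.node (.node (.node (.node (.node (.node (.node (.node (.leaf 0) (.leaf 1000)) (.node (.leaf 2000) (.leaf 3000))) (.node (.node (.leaf 3001) (.leaf 2427)) (.node (.leaf 2001) (.leaf 4000)))) (.node (.node (.node (.leaf 4003) (.leaf 4001)) (.node (.leaf 4259) (.leaf 2343))) (.node (.node (.leaf 4198) (.leaf 1005)) (.node (.leaf 1002) (.leaf 4006))))) (.node (.node (.node (.node (.leaf 5000) (.leaf 5003)) (.node (.leaf 5005) (.leaf 5001))) (.node (.node (.leaf 5002) (.leaf 3002)) (.node (.leaf 3364) (.leaf 1009)))) (.node (.node (.node (.leaf 1004) (.leaf 3171)) (.node (.leaf 3286) (.leaf 2007))) (.node (.node (.leaf 3128) (.leaf 2003)) (.node (.leaf 3226) (.leaf 5009)))))) (.node (.node (.node (.node (.node (.leaf 6000) (.leaf 6003)) (.node (.leaf 6004) (.leaf 3004))) (.node (.node (.leaf 6005) (.leaf 6001)) (.node (.leaf 6006) (.leaf 2268)))) (.node (.node (.node (.leaf 6002) (.leaf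 4149)) (.node (.leaf 2205) (.leaf 3379))) (.node (.node (.leaf 2011) (.leaf 3095)) (.node (.leaf 6323) (.leaf 2006))))) (.node (.node (.node (.node (.leaf 6314) (.leaf 6443)) (.node (.leaf 3299) (.leaf 4016))) (.node (.node (.leaf 6250) (.leaf 6243)) (.node (.leaf 6361) (.leaf 4010)))) (.node (.node (.node (.leaf 6395) (.leaf 6396)) (.node (.leaf 5007) (.leaf 6009))) (.node (.node (.leaf 7000) (.leaf 7003)) (.node (.leaf 7010) (.leaf 2211))))))) (.node (.node (.node (.node (.node (.node (.leaf 7004) (.leaf 4111)) (.node (.leaf 2155) (.leaf 4326))) (.node (.node (.leaf 7005) (.leaf 7001)) (.node (.leaf 7006) (.leaf 1021)))) (.node (.node (.node (.leaf 7013) (.leaf 1013)) (.node (.leaf 4253) (.leaf 7002))) (.node (.node (.leaf 3220) (.leaf 1014)) (.node (.leaf 1008) (.leaf 4409))))) (.node (.node (.node (.node (.leaf 3223) (.leaf 4023)) (.node (.leaf 6191) (.leaf 7218))) (.node (.node (.leaf 6184) (.leaf 6117)) (.node (.leaf 7351) (.leaf 4015)))) (.node (.node (.node (.leaf 7168) (.leaf 6208)) (.node (.leaf 7288) (.leaf 5011))) (.node (.node (.leaf 3169) (.leaf 5021)) (.node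 (.leaf 7164) (.leaf 6087)))))) (.node (.node (.node (.node (.node (.leaf 7275) (.leaf 7125)) (.node (.leaf 6157) (.leaf 7323))) (.node (.node (.leaf 3013) (.leaf 5014)) (.node (.leaf 7221) (.leaf 6158)))) (.node (.node (.node (.leaf 6007) (.leaf 7222)) (.node (.leaf 6008) (.leaf 3008))) (.node (.node (.leaf 7009) (.leaf 7103)) (.node (.leaf 7104) (.leaf 7166))))) (.node (.node (.node (.node (.leaf 1030) (.leaf 7105)) (.node (.leaf 1019) (.leaf 4194))) (.node (.node (.leaf 7089) (.leaf 7106)) (.node (.leaf 3167) (.leaf 1020)))) (.node (.node (.node (.leaf 7161) (.leaf 1012)) (.node (.leaf 7095) (.leaf 7160))) (.node (.node (.leaf 7186) (.leaf 7077)) (.node (.leaf 7140) (.leaf 2025)))))))) (.node (.node (.node (.node (.node (.node (.node (.leaf 7124) (.leaf 3070)) (.node (.leaf 7065) (.leaf 7078))) (.node (.node (.leaf 2016) (.leaf 7171)) (.node (.leaf 7070) (.leaf 7119)))) (.node (.node (.node (.leaf 7139) (.leaf 3231)) (.node (.leaf 2017) (.leaf 3098))) (.node (.node (.leaf 7120) (.leaf 2010)) (.node (.leaf 7128) (.leaf 7129))))) (.node (.node (.node (.node (.leaf 6283)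 (.leaf 4256)) (.node (.leaf 5030) (.leaf 7123))) (.node (.node (.leaf 5317) (.leaf 6064)) (.node (.leaf 2089) (.leaf 5351)))) (.node (.node (.node (.leaf 7093) (.leaf 2062)) (.node (.leaf 2160) (.leaf 5476))) (.node (.node (.leaf 3019) (.leaf 5020)) (.node (.leaf 5321) (.leaf 2113)))))) (.node (.node (.node (.node (.node (.leaf 2114) (.leaf 6011)) (.node (.leaf 5488) (.leaf 6012))) (.node (.node (.leaf 3012) (.leaf 4338)) (.node (.leaf 4196) (.leaf 6021)))) (.node (.node (.node (.leaf 5245) (.leaf 2065)) (.node (.leaf 5275) (.leaf 2045))) (.node (.node (.leaf 2119) (.leaf 5392)) (.node (.leaf 2159) (.leaf 5248))))) (.node (.node (.node (.node (.leaf 2084) (.leaf 4082)) (.node (.leaf 5444) (.leaf 2115))) (.node (.node (.leaf 4264) (.leaf 6014)) (.node (.leaf 5400) (.leaf 2120)))) (.node (.node (.node (.leaf 7007) (.leaf 2085)) (.node (.leaf 7016) (.leaf 2118))) (.node (.node (.leaf 5404) (.leaf 7008)) (.node (.leaf 4114) (.leaf 2206))))))) (.node (.node (.node (.node (.node (.node (.leaf 4421) (.leaf 7213)) (.node (.leaf 6125) (.leaf 6050))) (.node (.node (.leaf 6051)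 (.leaf 2035)) (.node (.leaf 6066) (.leaf 3052)))) (.node (.node (.node (.leaf 7048) (.leaf 5242)) (.node (.leaf 6067) (.leaf 2023))) (.node (.node (.leaf 2157) (.leaf 7052)) (.node (.leaf 2270) (.leaf 5393))))) (.node (.node (.node (.node (.leaf 6123) (.leaf 3175)) (.node (.leaf 2024) (.leaf 5394))) (.node (.node (.leaf 3073) (.leaf 2208)) (.node (.leaf 2158) (.leaf 2015)))) (.node (.node (.node (.leaf 5407) (.leaf 2271)) (.node (.leaf 5441) (.leaf 6218))) (.node (.node (.leaf 6093) (.leaf 6036)) (.node (.leaf 4046) (.leaf 6069)))))) (.node (.node (.node (.node (.node (.leaf 6143) (.leaf 5183)) (.node (.leaf 6049) (.leaf 6138))) (.node (.node (.leaf 2273) (.leaf 2274)) (.node (.leaf 5312) (.leaf 6091)))) (.node (.node (.node (.leaf 4032) (.leaf 5348)) (.node (.leaf 2117) (.leaf 5324))) (.node (.node (.leaf 2207) (.leaf 5359)) (.node (.leaf 5025) (.leaf 6164))))) (.node (.node (.node (.node (.leaf 3126) (.leaf 4033)) (.node (.leaf 6251) (.leaf 5313))) (.node (.node (.leaf 6102) (.leaf 2209)) (.node (.leaf 7210) (.leaf 4022)))) (.node (.node (.node (.leaf 5478) (.leaf 6273))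 (.node (.leaf 5492) (.leaf 7250))) (.node (.node (.leaf 5017) (.leaf 6030)) (.node (.leaf 5187) (.leaf 2350))))))))) (.node (.node (.node (.node (.node (.node (.node (.node (.leaf 2048) (.leaf 4084)) (.node (.leaf 2253) (.leaf 2033))) (.node (.node (.leaf 5347) (.leaf 4085)) (.node (.leaf 2108) (.leaf 2210)))) (.node (.node (.node (.leaf 5189) (.leaf 4201)) (.node (.leaf 5157) (.leaf 4061))) (.node (.node (.leaf 2109) (.leaf 2086)) (.node (.leaf 4202) (.leaf 7020))))) (.node (.node (.node (.node (.leaf 6020) (.leaf 2412)) (.node (.leaf 4152) (.leaf 5158))) (.node (.node (.leaf 7011) (.leaf 4083)) (.node (.leaf 2088) (.leaf 7040)))) (.node (.node (.node (.leaf 2195) (.leaf 7012)) (.node (.leaf 7075) (.leaf 2255))) (.node (.node (.leaf 7058) (.leaf 7021)) (.node (.leaf 2517) (.leaf 4146)))))) (.node (.node (.node (.node (.node (.leaf 2275) (.leaf 5274)) (.node (.leaf 4062) (.leaf 2194))) (.node (.node (.leaf 1058) (.leaf 4151)) (.node (.leaf 5273) (.leaf 1029)))) (.node (.node (.node (.leaf 2080) (.leaf 4145)) (.node (.leaf 7041) (.leaf 2327))) (.node (.node (.leaf 4263)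 (.leaf 5117)) (.node (.leaf 3124) (.leaf 7076))))) (.node (.node (.node (.node (.leaf 2146) (.leaf 1027)) (.node (.leaf 7107) (.leaf 7042))) (.node (.node (.leaf 7014) (.leaf 2432)) (.node (.leaf 4113) (.leaf 7056)))) (.node (.node (.node (.leaf 5209) (.leaf 7219)) (.node (.leaf 1042) (.leaf 4112))) (.node (.node (.leaf 7092) (.leaf 4108)) (.node (.leaf 7029) (.leaf 2254))))))) (.node (.node (.node (.node (.node (.node (.leaf 7057) (.leaf 3092)) (.node (.leaf 7055) (.leaf 1018))) (.node (.node (.leaf 7079) (.leaf 7030)) (.node (.leaf 5034) (.leaf 5064)))) (.node (.node (.node (.leaf 4063) (.leaf 6107)) (.node (.leaf 5138) (.leaf 1137))) (.node (.node (.leaf 5208) (.leaf 6183)) (.node (.leaf 6227) (.leaf 2334))))) (.node (.node (.node (.node (.leaf 6354) (.leaf 1075)) (.node (.leaf 5091) (.leaf 4044))) (.node (.node (.leaf 6089) (.leaf 6279)) (.node (.leaf 5251) (.leaf 6245)))) (.node (.node (.node (.leaf 6226) (.leaf 1076)) (.node (.leaf 5035) (.leaf 3094))) (.node (.node (.leaf 4045) (.leaf 1055)) (.node (.leaf 6324) (.leaf 6095)))))) (.node (.node (.node (.node (.node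 (.leaf 6160) (.leaf 6076)) (.node (.leaf 6161) (.leaf 6399))) (.node (.node (.leaf 7159) (.leaf 4031)) (.node (.leaf 1102) (.leaf 6172)))) (.node (.node (.node (.leaf 6347) (.leaf 1138)) (.node (.leaf 7191) (.leaf 5024))) (.node (.node (.leaf 5047) (.leaf 5058)) (.node (.leaf 5087) (.leaf 7091))))) (.node (.node (.node (.node (.leaf 1101) (.leaf 6047)) (.node (.leaf 6171) (.leaf 6277))) (.node (.node (.leaf 5165) (.leaf 7068)) (.node (.leaf 6065) (.leaf 6214)))) (.node (.node (.node (.leaf 6220) (.leaf 6373)) (.node (.leaf 3039) (.leaf 5067))) (.node (.node (.leaf 5041) (.leaf 1040)) (.node (.leaf 6070) (.leaf 6119)))))))) (.node (.node (.node (.node (.node (.node (.node (.leaf 6356) (.leaf 6025)) (.node (.leaf 1184) (.leaf 6187))) (.node (.node (.leaf 6027) (.leaf 3027)) (.node (.leaf 4147) (.leaf 5042)))) (.node (.node (.node (.leaf 7165) (.leaf 6088)) (.node (.leaf 6128) (.leaf 6212))) (.node (.node (.leaf 5210) (.leaf 7050)) (.node (.leaf 6120) (.leaf 6317))))) (.node (.node (.node (.node (.leaf 5310) (.leaf 3028)) (.node (.leaf 5029) (.leaf 6129))) (.node (.node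 (.leaf 2153) (.leaf 6017)) (.node (.leaf 5362) (.leaf 6018)))) (.node (.node (.node (.leaf 3018) (.leaf 2442)) (.node (.leaf 2061) (.leaf 4109))) (.node (.node (.leaf 7130) (.leaf 2111)) (.node (.leaf 7143) (.leaf 2198)))))) (.node (.node (.node (.node (.node (.leaf 4200) (.leaf 6071)) (.node (.leaf 2332) (.leaf 4193))) (.node (.node (.leaf 2049) (.leaf 2260)) (.node (.leaf 7064) (.leaf 3166)))) (.node (.node (.node (.leaf 7102) (.leaf 3053)) (.node (.leaf 2360) (.leaf 1037))) (.node (.node (.leaf 5240) (.leaf 3230)) (.node (.leaf 2090) (.leaf 7117))))) (.node (.node (.node (.node (.leaf 6048) (.leaf 1057)) (.node (.leaf 2091) (.leaf 7118))) (.node (.node (.leaf 4080) (.leaf 5101)) (.node (.leaf 3097) (.leaf 2163)))) (.node (.node (.node (.leaf 3068) (.leaf 2060)) (.node (.leaf 5182) (.leaf 2022))) (.node (.node (.leaf 3096) (.leaf 2044)) (.node (.leaf 7096) (.leaf 2082))))))) (.node (.node (.node (.node (.node (.node (.leaf 7173) (.leaf 2149)) (.node (.leaf 2067) (.leaf 6052))) (.node (.node (.leaf 3037) (.leaf 2259)) (.node (.leaf 7034) (.leaf 7047)))) (.node (.node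 (.node (.leaf 2046) (.leaf 3038)) (.node (.leaf 2416) (.leaf 7037))) (.node (.node (.leaf 5181) (.leaf 2066)) (.node (.leaf 7087) (.leaf 3131))))) (.node (.node (.node (.node (.leaf 6034) (.leaf 2110)) (.node (.leaf 5075) (.leaf 3072))) (.node (.node (.leaf 2282) (.leaf 2032)) (.node (.leaf 2043) (.leaf 5309)))) (.node (.node (.node (.leaf 3174) (.leaf 2083)) (.node (.leaf 7157) (.leaf 6068))) (.node (.node (.leaf 6026) (.leaf 6090)) (.node (.leaf 3071) (.leaf 7024)))))) (.node (.node (.node (.node (.node (.leaf 7088) (.leaf 6035)) (.node (.leaf 7071) (.leaf 5136))) (.node (.node (.leaf 5278) (.leaf 2122)) (.node (.leaf 6165) (.leaf 2034)))) (.node (.node (.node (.leaf 2081) (.leaf 5137)) (.node (.leaf 2087) (.leaf 2031))) (.node (.node (.leaf 2156) (.leaf 5281)) (.node (.leaf 3036) (.leaf 5079))))) (.node (.node (.node (.node (.leaf 7067) (.leaf 1136)) (.node (.leaf 5159) (.leaf 6285))) (.node (.node (.leaf 3100) (.leaf 3135)) (.node (.leaf 1248) (.leaf 6167)))) (.node (.node (.node (.leaf 1070) (.leaf 3173)) (.node (.leaf 3054) (.leaf 5056))) (.node (.node (.leaf 1105)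 (.leaf 3125)) (.node (.leaf 1243) (.leaf 3026)))))))))) (.node (.node (.node (.node (.node (.node (.node (.node (.node (.leaf 1071) (.leaf 6037)) (.node (.leaf 4110) (.leaf 5057))) (.node (.node (.leaf 5276) (.leaf 1297)) (.node (.leaf 1106) (.leaf 7036)))) (.node (.node (.node (.leaf 3050) (.leaf 5241)) (.node (.leaf 6040) (.leaf 5040))) (.node (.node (.leaf 5218) (.leaf 1130)) (.node (.leaf 2203) (.leaf 6024))))) (.node (.node (.node (.node (.leaf 6075) (.leaf 5284)) (.node (.leaf 6136) (.leaf 6058))) (.node (.node (.leaf 5140) (.leaf 5118)) (.node (.leaf 3130) (.leaf 3074)))) (.node (.node (.node (.leaf 1404) (.leaf 1129)) (.node (.leaf 5141) (.leaf 1189))) (.node (.node (.leaf 3051) (.leaf 1052)) (.node (.leaf 2063) (.leaf 6041)))))) (.node (.node (.node (.node (.node (.leaf 5361) (.leaf 1229)) (.node (.leaf 1078) (.leaf 7025))) (.node (.node (.leaf 3093) (.leaf 2064)) (.node (.leaf 5164) (.leaf 1096)))) (.node (.node (.node (.leaf 7027) (.leaf 6121)) (.node (.leaf 6042) (.leaf 5246))) (.node (.node (.leaf 5211) (.leaf 1321)) (.node (.leaf 1095) (.leaf 2145))))) (.node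 (.node (.node (.node (.leaf 5105) (.leaf 2059)) (.node (.leaf 2116) (.leaf 6029))) (.node (.node (.leaf 5283) (.leaf 1173)) (.node (.leaf 7017) (.leaf 2047)))) (.node (.node (.node (.leaf 6055) (.leaf 7018)) (.node (.leaf 6101) (.leaf 6079))) (.node (.node (.leaf 5143) (.leaf 5121)) (.node (.leaf 5144) (.leaf 5122))))))) (.node (.node (.node (.node (.node (.node (.leaf 5186) (.leaf 1141)) (.node (.leaf 5119) (.leaf 5184))) (.node (.node (.leaf 1239) (.leaf 4156)) (.node (.leaf 5055) (.leaf 5120)))) (.node (.node (.node (.leaf 5250) (.leaf 1230)) (.node (.leaf 6092) (.leaf 5076))) (.node (.node (.leaf 5214) (.leaf 6219)) (.node (.leaf 4043) (.leaf 5216))))) (.node (.node (.node (.node (.leaf 5107) (.leaf 5090)) (.node (.leaf 4116) (.leaf 5139))) (.node (.node (.leaf 5102) (.leaf 6313)) (.node (.leaf 5190) (.leaf 2261)))) (.node (.node (.node (.leaf 1188) (.leaf 5089)) (.node (.leaf 5191) (.leaf 5243))) (.node (.node (.leaf 1181) (.leaf 3069)) (.node (.leaf 6372) (.leaf 1174)))))) (.node (.node (.node (.node (.node (.leaf 5161) (.leaf 4060)) (.node (.leaf 6478) (.leaf 5048)))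 (.node (.node (.leaf 5088) (.leaf 4086)) (.node (.leaf 6242) (.leaf 2199)))) (.node (.node (.node (.leaf 5123) (.leaf 6293)) (.node (.leaf 5049) (.leaf 3099))) (.node (.node (.leaf 6407) (.leaf 6105)) (.node (.leaf 6312) (.leaf 4059))))) (.node (.node (.node (.node (.leaf 6140) (.leaf 6394)) (.node (.leaf 5104) (.leaf 7035))) (.node (.node (.leaf 5078) (.leaf 1172)) (.node (.leaf 6104) (.leaf 5162)))) (.node (.node (.node (.leaf 6057) (.leaf 6056)) (.node (.leaf 5323) (.leaf 5279))) (.node (.node (.leaf 5077) (.leaf 7066)) (.node (.leaf 5142) (.leaf 7051)))))))) (.node (.node (.node (.node (.node (.node (.node (.leaf 7026) (.leaf 2217)) (.node (.leaf 6077) (.leaf 6103))) (.node (.node (.leaf 5065) (.leaf 7094)) (.node (.leaf 5066) (.leaf 5103)))) (.node (.node (.node (.leaf 7049) (.leaf 5106)) (.node (.leaf 2150) (.leaf 6078))) (.node (.node (.leaf 7069) (.leaf 7158)) (.node (.leaf 7209) (.leaf 6166))))) (.node (.node (.node (.node (.leaf 4081) (.leaf 4115)) (.node (.leaf 6124) (.leaf 7126))) (.node (.node (.leaf 0) (.leaf 0)) (.node (.leaf 0) (.leaf 0)))) (.node (.node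 (.node (.leaf 0) (.leaf 0)) (.node (.leaf 0) (.leaf 0))) (.node (.node (.leaf 0) (.leaf 0)) (.node (.leaf 0) (.leaf 0)))))) (.node (.node (.node (.node (.node (.leaf 0) (.leaf 0)) (.node (.leaf 0) (.leaf 0))) (.node (.node (.leaf 0) (.leaf 0)) (.node (.leaf 0) (.leaf 0)))) (.node (.node (.node (.leaf 0) (.leaf 0)) (.node (.leaf 0) (.leaf 0))) (.node (.node (.leaf 0) (.leaf 0)) (.node (.leaf 0) (.leaf 0))))) (.node (.node (.node (.node (.leaf 0) (.leaf 0)) (.node (.leaf 0) (.leaf 0))) (.node (.node (.leaf 0) (.leaf 0)) (.node (.leaf 0) (.leaf 0)))) (.node (.node (.node (.leaf 0) (.leaf 0)) (.node (.leaf 0) (.leaf 0))) (.node (.node (.leaf 0) (.leaf 0)) (.node (.leaf 0) (.leaf 0))))))) (.node (.node (.node (.node (.node (.node (.leaf 0) (.leaf 0)) (.node (.leaf 0) (.leaf 0))) (.node (.node (.leaf 0) (.leaf 0)) (.node (.leaf 0) (.leaf 0)))) (.node (.node (.node (.leaf 0) (.leaf 0)) (.node (.leaf 0) (.leaf 0))) (.node (.node (.leaf 0) (.leaf 0)) (.node (.leaf 0) (.leaf 0))))) (.node (.node (.node (.node (.leaf 0) (.leaf 0)) (.node (.leaf 0) (.leaf 0))) (.node (.node (.leaf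 0) (.leaf 0)) (.node (.leaf 0) (.leaf 0)))) (.node (.node (.node (.leaf 0) (.leaf 0)) (.node (.leaf 0) (.leaf 0))) (.node (.node (.leaf 0) (.leaf 0)) (.node (.leaf 0) (.leaf 0)))))) (.node (.node (.node (.node (.node (.leaf 0) (.leaf 0)) (.node (.leaf 0) (.leaf 0))) (.node (.node (.leaf 0) (.leaf 0)) (.node (.leaf 0) (.leaf 0)))) (.node (.node (.node (.leaf 0) (.leaf 0)) (.node (.leaf 0) (.leaf 0))) (.node (.node (.leaf 0) (.leaf 0)) (.node (.leaf 0) (.leaf 0))))) (.node (.node (.node (.node (.leaf 0) (.leaf 0)) (.node (.leaf 0) (.leaf 0))) (.node (.node (.leaf 0) (.leaf 0)) (.node (.leaf 0) (.leaf 0)))) (.node (.node (.node (.leaf 0) (.leaf 0)) (.node (.leaf 0) (.leaf 0))) (.node (.node (.leaf 0) (.leaf 0)) (.node (.leaf 0) (.leaf 0))))))))) (.node (.node (.node (.node (.node (.node (.node (.node (.leaf 0) (.leaf 0)) (.node (.leaf 0) (.leaf 0))) (.node (.node (.leaf 0) (.leaf 0)) (.node (.leaf 0) (.leaf 0)))) (.node (.node (.node (.leaf 0) (.leaf 0)) (.node (.leaf 0) (.leaf 0))) (.node (.node (.leaf 0) (.leaf 0)) (.node (.leaf 0) (.leaf 0))))) (.node (.node (.node (.node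 (.leaf 0) (.leaf 0)) (.node (.leaf 0) (.leaf 0))) (.node (.node (.leaf 0) (.leaf 0)) (.node (.leaf 0) (.leaf 0)))) (.node (.node (.node (.leaf 0) (.leaf 0)) (.node (.leaf 0) (.leaf 0))) (.node (.node (.leaf 0) (.leaf 0)) (.node (.leaf 0) (.leaf 0)))))) (.node (.node (.node (.node (.node (.leaf 0) (.leaf 0)) (.node (.leaf 0) (.leaf 0))) (.node (.node (.leaf 0) (.leaf 0)) (.node (.leaf 0) (.leaf 0)))) (.node (.node (.node (.leaf 0) (.leaf 0)) (.node (.leaf 0) (.leaf 0))) (.node (.node (.leaf 0) (.leaf 0)) (.node (.leaf 0) (.leaf 0))))) (.node (.node (.node (.node (.leaf 0) (.leaf 0)) (.node (.leaf 0) (.leaf 0))) (.node (.node (.leaf 0) (.leaf 0)) (.node (.leaf 0) (.leaf 0)))) (.node (.node (.node (.leaf 0) (.leaf 0)) (.node (.leaf 0) (.leaf 0))) (.node (.node (.leaf 0) (.leaf 0)) (.node (.leaf 0) (.leaf 0))))))) (.node (.node (.node (.node (.node (.node (.leaf 0) (.leaf 0)) (.node (.leaf 0) (.leaf 0))) (.node (.node (.leaf 0) (.leaf 0)) (.node (.leaf 0) (.leaf 0)))) (.node (.node (.node (.leaf 0) (.leaf 0)) (.node (.leaf 0) (.leaf 0))) (.node (.node (.leaf 0) (.leaf 0))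 (.node (.leaf 0) (.leaf 0))))) (.node (.node (.node (.node (.leaf 0) (.leaf 0)) (.node (.leaf 0) (.leaf 0))) (.node (.node (.leaf 0) (.leaf 0)) (.node (.leaf 0) (.leaf 0)))) (.node (.node (.node (.leaf 0) (.leaf 0)) (.node (.leaf 0) (.leaf 0))) (.node (.node (.leaf 0) (.leaf 0)) (.node (.leaf 0) (.leaf 0)))))) (.node (.node (.node (.node (.node (.leaf 0) (.leaf 0)) (.node (.leaf 0) (.leaf 0))) (.node (.node (.leaf 0) (.leaf 0)) (.node (.leaf 0) (.leaf 0)))) (.node (.node (.node (.leaf 0) (.leaf 0)) (.node (.leaf 0) (.leaf 0))) (.node (.node (.leaf 0) (.leaf 0)) (.node (.leaf 0) (.leaf 0))))) (.node (.node (.node (.node (.leaf 0) (.leaf 0)) (.node (.leaf 0) (.leaf 0))) (.node (.node (.leaf 0) (.leaf 0)) (.node (.leaf 0) (.leaf 0)))) (.node (.node (.node (.leaf 0) (.leaf 0)) (.node (.leaf 0) (.leaf 0))) (.node (.node (.leaf 0) (.leaf 0)) (.node (.leaf 0) (.leaf 0)))))))) (.node (.node (.node (.node (.node (.node (.node (.leaf 0) (.leaf 0)) (.node (.leaf 0) (.leaf 0))) (.node (.node (.leaf 0) (.leaf 0)) (.node (.leaf 0) (.leaf 0)))) (.node (.node (.node (.leaf 0) (.leaf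 0)) (.node (.leaf 0) (.leaf 0))) (.node (.node (.leaf 0) (.leaf 0)) (.node (.leaf 0) (.leaf 0))))) (.node (.node (.node (.node (.leaf 0) (.leaf 0)) (.node (.leaf 0) (.leaf 0))) (.node (.node (.leaf 0) (.leaf 0)) (.node (.leaf 0) (.leaf 0)))) (.node (.node (.node (.leaf 0) (.leaf 0)) (.node (.leaf 0) (.leaf 0))) (.node (.node (.leaf 0) (.leaf 0)) (.node (.leaf 0) (.leaf 0)))))) (.node (.node (.node (.node (.node (.leaf 0) (.leaf 0)) (.node (.leaf 0) (.leaf 0))) (.node (.node (.leaf 0) (.leaf 0)) (.node (.leaf 0) (.leaf 0)))) (.node (.node (.node (.leaf 0) (.leaf 0)) (.node (.leaf 0) (.leaf 0))) (.node (.node (.leaf 0) (.leaf 0)) (.node (.leaf 0) (.leaf 0))))) (.node (.node (.node (.node (.leaf 0) (.leaf 0)) (.node (.leaf 0) (.leaf 0))) (.node (.node (.leaf 0) (.leaf 0)) (.node (.leaf 0) (.leaf 0)))) (.node (.node (.node (.leaf 0) (.leaf 0)) (.node (.leaf 0) (.leaf 0))) (.node (.node (.leaf 0) (.leaf 0)) (.node (.leaf 0) (.leaf 0))))))) (.node (.node (.node (.node (.node (.node (.leaf 0) (.leaf 0)) (.node (.leaf 0) (.leaf 0))) (.node (.node (.leaf 0) (.leaf 0)) (.node (.leaf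 0) (.leaf 0)))) (.node (.node (.node (.leaf 0) (.leaf 0)) (.node (.leaf 0) (.leaf 0))) (.node (.node (.leaf 0) (.leaf 0)) (.node (.leaf 0) (.leaf 0))))) (.node (.node (.node (.node (.leaf 0) (.leaf 0)) (.node (.leaf 0) (.leaf 0))) (.node (.node (.leaf 0) (.leaf 0)) (.node (.leaf 0) (.leaf 0)))) (.node (.node (.node (.leaf 0) (.leaf 0)) (.node (.leaf 0) (.leaf 0))) (.node (.node (.leaf 0) (.leaf 0)) (.node (.leaf 0) (.leaf 0)))))) (.node (.node (.node (.node (.node (.leaf 0) (.leaf 0)) (.node (.leaf 0) (.leaf 0))) (.node (.node (.leaf 0) (.leaf 0)) (.node (.leaf 0) (.leaf 0)))) (.node (.node (.node (.leaf 0) (.leaf 0)) (.node (.leaf 0) (.leaf 0))) (.node (.node (.leaf 0) (.leaf 0)) (.node (.leaf 0) (.leaf 0))))) (.node (.node (.node (.node (.leaf 0) (.leaf 0)) (.node (.leaf 0) (.leaf 0))) (.node (.node (.leaf 0) (.leaf 0)) (.node (.leaf 0) (.leaf 0)))) (.node (.node (.node (.leaf 0) (.leaf 0)) (.node (.leaf 0) (.leaf 0))) (.node (.node (.leaf 0) (.leaf 0)) (.node (.leaf 0) (.leaf 0)))))))))))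

/-- Elements of `K` moved into `K`. -/
def hList1 : List ℕ :=
  [0, 151363, 220417, 243157, 272597]

/-- Orbit representatives with their orders. -/
def repList1 : List ℕ :=
  [7, 111, 219, 307, 410, 507, 619, 715, 810, 905, 1006, 1106, 1210, 1306, 1403, 1515, 1615, 1719, 1807, 1910, 2011, 2106, 2205, 2305, 2410, 2610, 2715, 2807, 2906, 3011, 3110, 3207, 3305, 3406, 3515, 3703, 3811, 3905, 4010, 4115, 4206, 4306, 4407, 4510, 4605, 4711, 4915, 5019, 5111, 5206, 5406, 5519, 5610, 5719, 5910, 6011, 6311, 6607, 6805, 6903, 7007, 7303, 7419, 7507, 7707, 7811, 8007, 8310, 8406, 8515, 8706, 9010, 9110, 9307, 9507, 9810, 9906, 10010, 10219, 10315, 10510, 10611, 11006, 11319, 11406, 11506, 11619, 11706, 11907, 12119, 12215, 12607, 12710, 12802, 13107, 13310, 13711, 14615, 14915, 15019, 15106, 15706, 16719, 16810, 17310, 17503, 17711, 18119, 18610, 19107, 19319, 19405, 20707, 21805, 21906, 23519, 24711, 25519, 25915, 26010, 27110, 28219, 31407, 31610, 31719, 34210, 34719, 35910, 36415, 37019, 37610, 40815, 42815, 56015, 57815, 58115]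

/-- Orbit of each element. -/
def orbTree1 : NTree :=
  (.node (.node (.node (.node (.node (.node (.node (.node (.node (.node (.leaf 0) (.leaf 1000)) (.node (.leaf 2000) (.leaf 3000))) (.node (.node (.leaf 4000) (.leaf 5000)) (.node (.leaf 6000) (.leaf 7000)))) (.node (.node (.node (.leaf 8000) (.leaf 9000)) (.node (.leaf 10000) (.leaf 11000))) (.node (.node (.leaf 12000) (.leaf 13000)) (.node (.leaf 14000) (.leaf 15000))))) (.node (.node (.node (.node (.leaf 16000) (.leaf 17000)) (.node (.leaf 18000) (.leaf 19000))) (.node (.node (.leaf 20000) (.leaf 21000)) (.node (.leaf 22000) (.leaf 23000)))) (.node (.node (.node (.leaf 24000) (.leaf 23001)) (.node (.leaf 25000) (.leaf 26000))) (.node (.node (.leaf 27000) (.leaf 28000)) (.node (.leaf 29000) (.leaf 30000)))))) (.node (.node (.node (.node (.node (.leaf 31000) (.leaf 32000)) (.node (.leaf 33000) (.leaf 34000))) (.node (.node (.leaf 14003) (.leaf 35000)) (.node (.leaf 36000) (.leaf 37000)))) (.node (.node (.node (.leaf 38000) (.leaf 39000)) (.node (.leaf 40000) (.leaf 41000))) (.node (.node (.leaf 42000) (.leaf 43000))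 (.node (.leaf 44000) (.leaf 45000))))) (.node (.node (.node (.node (.leaf 29001) (.leaf 46000)) (.node (.leaf 47000) (.leaf 48000))) (.node (.node (.leaf 49000) (.leaf 6002)) (.node (.leaf 50000) (.leaf 51000)))) (.node (.node (.node (.leaf 52000) (.leaf 53000)) (.node (.leaf 26001) (.leaf 54000))) (.node (.node (.leaf 55000) (.leaf 18001)) (.node (.leaf 38002) (.leaf 56000))))))) (.node (.node (.node (.node (.node (.node (.leaf 19004) (.leaf 1003)) (.node (.leaf 57000) (.leaf 44002))) (.node (.node (.leaf 58000) (.leaf 59000)) (.node (.leaf 60000) (.leaf 58003)))) (.node (.node (.node (.leaf 18004) (.leaf 61000)) (.node (.leaf 62000) (.leaf 63000))) (.node (.node (.leaf 60003) (.leaf 64000)) (.node (.leaf 65000) (.leaf 55002))))) (.node (.node (.node (.node (.leaf 66000) (.leaf 51001)) (.node (.leaf 65003) (.leaf 67000))) (.node (.node (.leaf 68000) (.leaf 69000)) (.node (.leaf 3003) (.leaf 70000)))) (.node (.node (.node (.leaf 50001) (.leaf 43002)) (.node (.leaf 71000) (.leaf 72000))) (.node (.node (.leaf 36002) (.leaf 73000)) (.node (.leaf 44001) (.leaf 74000))))))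 (.node (.node (.node (.node (.node (.leaf 9001) (.leaf 19003)) (.node (.leaf 75000) (.leaf 76000))) (.node (.node (.leaf 77000) (.leaf 10001)) (.node (.leaf 78000) (.leaf 79000)))) (.node (.node (.node (.leaf 26003) (.leaf 80000)) (.node (.leaf 81000) (.leaf 11003))) (.node (.node (.leaf 3) (.leaf 67001)) (.node (.leaf 82000) (.leaf 30003))))) (.node (.node (.node (.node (.leaf 74002) (.leaf 83000)) (.node (.leaf 84000) (.leaf 85000))) (.node (.node (.leaf 86000) (.leaf 87000)) (.node (.leaf 35004) (.leaf 88000)))) (.node (.node (.node (.leaf 13002) (.leaf 89000)) (.node (.leaf 90000) (.leaf 58001))) (.node (.node (.leaf 16002) (.leaf 71004)) (.node (.leaf 91000) (.leaf 92000)))))))) (.node (.node (.node (.node (.node (.node (.node (.leaf 93000) (.leaf 76001)) (.node (.leaf 57004) (.leaf 94000))) (.node (.node (.leaf 41004) (.leaf 95000)) (.node (.leaf 79002) (.leaf 65001)))) (.node (.node (.node (.leaf 34003) (.leaf 96000)) (.node (.leaf 53002) (.leaf 4003))) (.node (.node (.leaf 95001) (.leaf 93002)) (.node (.leaf 22002) (.leaf 1))))) (.node (.node (.node (.node (.leaf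 85002) (.leaf 60004)) (.node (.leaf 97000) (.leaf 46004))) (.node (.node (.leaf 5004) (.leaf 98000)) (.node (.leaf 99000) (.leaf 100000)))) (.node (.node (.node (.leaf 39004) (.leaf 72003)) (.node (.leaf 8001) (.leaf 24002))) (.node (.node (.leaf 77004) (.leaf 101000)) (.node (.leaf 9004) (.leaf 12002)))))) (.node (.node (.node (.node (.node (.leaf 98001) (.leaf 80004)) (.node (.leaf 56004) (.leaf 10003))) (.node (.node (.leaf 40003) (.leaf 62003)) (.node (.leaf 48001) (.leaf 102000)))) (.node (.node (.node (.leaf 103000) (.leaf 34004)) (.node (.leaf 94002) (.leaf 10002))) (.node (.node (.leaf 76003) (.leaf 104000)) (.node (.leaf 98003) (.leaf 105000))))) (.node (.node (.node (.node (.leaf 45001) (.leaf 106000)) (.node (.leaf 90001) (.leaf 7002))) (.node (.node (.leaf 24003) (.leaf 107000)) (.node (.leaf 84003) (.leaf 64004)))) (.node (.node (.node (.leaf 26002) (.leaf 68002)) (.node (.leaf 108000) (.leaf 101002))) (.node (.node (.leaf 69003) (.leaf 80001)) (.node (.leaf 97003) (.leaf 109000))))))) (.node (.node (.node (.node (.node (.node (.leaf 37001) (.leaf 110000))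 (.node (.leaf 111000) (.leaf 103004))) (.node (.node (.leaf 30002) (.leaf 70003)) (.node (.leaf 51002) (.leaf 76004)))) (.node (.node (.node (.leaf 62002) (.leaf 13001)) (.node (.leaf 47004) (.leaf 41001))) (.node (.node (.leaf 57003) (.leaf 66004)) (.node (.leaf 39002) (.leaf 112000))))) (.node (.node (.node (.node (.leaf 74003) (.leaf 63003)) (.node (.leaf 59004) (.leaf 81002))) (.node (.node (.leaf 89004) (.leaf 105002)) (.node (.leaf 16003) (.leaf 51003)))) (.node (.node (.node (.leaf 106001) (.leaf 36004)) (.node (.leaf 113000) (.leaf 114000))) (.node (.node (.leaf 4001) (.leaf 19002)) (.node (.leaf 74001) (.leaf 31001)))))) (.node (.node (.node (.node (.node (.leaf 52003) (.leaf 79004)) (.node (.leaf 112004) (.leaf 10004))) (.node (.node (.leaf 43001) (.leaf 42001)) (.node (.leaf 24004) (.leaf 1002)))) (.node (.node (.node (.leaf 15001) (.leaf 99004)) (.node (.leaf 77001) (.leaf 115000))) (.node (.node (.leaf 17001) (.leaf 30004)) (.node (.leaf 113001) (.leaf 86001))))) (.node (.node (.node (.node (.leaf 72004) (.leaf 25002)) (.node (.leaf 28003) (.leaf 101003)))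 (.node (.node (.leaf 23004) (.leaf 96001)) (.node (.leaf 82004) (.leaf 116000)))) (.node (.node (.node (.leaf 42002) (.leaf 88003)) (.node (.leaf 22004) (.leaf 69004))) (.node (.node (.leaf 104004) (.leaf 25004)) (.node (.leaf 55001) (.leaf 117000))))))))) (.node (.node (.node (.node (.node (.node (.node (.node (.leaf 12003) (.leaf 39001)) (.node (.leaf 48004) (.leaf 118000))) (.node (.node (.leaf 119000) (.leaf 88002)) (.node (.leaf 59002) (.leaf 111002)))) (.node (.node (.node (.leaf 20002) (.leaf 81003)) (.node (.leaf 62004) (.leaf 106002))) (.node (.node (.leaf 33004) (.leaf 97001)) (.node (.leaf 107004) (.leaf 120000))))) (.node (.node (.node (.node (.leaf 15003) (.leaf 94003)) (.node (.leaf 80002) (.leaf 68003))) (.node (.node (.leaf 87003) (.leaf 103002)) (.node (.leaf 21004) (.leaf 96004)))) (.node (.node (.node (.leaf 116004) (.leaf 84004)) (.node (.leaf 121000) (.leaf 86002))) (.node (.node (.leaf 47002) (.leaf 57001)) (.node (.leaf 111001) (.leaf 52004)))))) (.node (.node (.node (.node (.node (.leaf 109002) (.leaf 108003)) (.node (.leaf 1001) (.leaf 93003)))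 (.node (.node (.leaf 38003) (.leaf 54001)) (.node (.leaf 49002) (.leaf 9002)))) (.node (.node (.node (.leaf 47001) (.leaf 40001)) (.node (.leaf 45003) (.leaf 108002))) (.node (.node (.leaf 42003) (.leaf 91001)) (.node (.leaf 110004) (.leaf 33002))))) (.node (.node (.node (.node (.leaf 31003) (.leaf 87002)) (.node (.leaf 35003) (.leaf 118003))) (.node (.node (.leaf 115001) (.leaf 69001)) (.node (.leaf 118001) (.leaf 7001)))) (.node (.node (.node (.leaf 89003) (.leaf 54003)) (.node (.leaf 122000) (.leaf 78002))) (.node (.node (.leaf 123000) (.leaf 124000)) (.node (.leaf 20001) (.leaf 116002))))))) (.node (.node (.node (.node (.node (.node (.leaf 122002) (.leaf 53003)) (.node (.leaf 123004) (.leaf 51004))) (.node (.node (.leaf 78003) (.leaf 124001)) (.node (.leaf 13003) (.leaf 92004)))) (.node (.node (.node (.leaf 6001) (.leaf 102004)) (.node (.leaf 75001) (.leaf 38004))) (.node (.node (.leaf 33001) (.leaf 97004)) (.node (.leaf 5002) (.leaf 64003))))) (.node (.node (.node (.node (.leaf 27003) (.leaf 117004)) (.node (.leaf 29003) (.leaf 8004))) (.node (.node (.leaf 123001)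 (.leaf 4004)) (.node (.leaf 125000) (.leaf 83004)))) (.node (.node (.node (.leaf 2001) (.leaf 65004)) (.node (.leaf 95004) (.leaf 126000))) (.node (.node (.leaf 100004) (.leaf 6004)) (.node (.leaf 71003) (.leaf 73003)))))) (.node (.node (.node (.node (.node (.leaf 114001) (.leaf 23002)) (.node (.leaf 9003) (.leaf 94004))) (.node (.node (.leaf 120004) (.leaf 58002)) (.node (.leaf 3004) (.leaf 127000)))) (.node (.node (.node (.leaf 12004) (.leaf 70001)) (.node (.leaf 32003) (.leaf 100003))) (.node (.node (.leaf 128000) (.leaf 115002)) (.node (.leaf 92003) (.leaf 32002))))) (.node (.node (.node (.node (.leaf 125001) (.leaf 4)) (.node (.leaf 129000) (.leaf 96003))) (.node (.node (.leaf 35001) (.leaf 113002)) (.node (.leaf 29002) (.leaf 56003)))) (.node (.node (.node (.leaf 130000) (.leaf 115003)) (.node (.leaf 72001) (.leaf 127002))) (.node (.node (.leaf 95002) (.leaf 64001)) (.node (.leaf 113003) (.leaf 15002)))))))) (.node (.node (.node (.node (.node (.node (.node (.leaf 109001) (.leaf 32004)) (.node (.leaf 82002) (.leaf 82001))) (.node (.node (.leaf 59001) (.leaf 26004))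 (.node (.leaf 129003) (.leaf 90003)))) (.node (.node (.node (.leaf 107003) (.leaf 111003)) (.node (.leaf 106003) (.leaf 62001))) (.node (.node (.leaf 22003) (.leaf 83003)) (.node (.leaf 42004) (.leaf 85001))))) (.node (.node (.node (.node (.leaf 36001) (.leaf 67004)) (.node (.leaf 114003) (.leaf 107002))) (.node (.node (.leaf 46002) (.leaf 53004)) (.node (.leaf 14001) (.leaf 91003)))) (.node (.node (.node (.leaf 131000) (.leaf 2004)) (.node (.leaf 31004) (.leaf 104001))) (.node (.node (.leaf 53001) (.leaf 102001)) (.node (.leaf 93004) (.leaf 57002)))))) (.node (.node (.node (.node (.node (.leaf 128002) (.leaf 4002)) (.node (.leaf 77003) (.leaf 66002))) (.node (.node (.leaf 75003) (.leaf 119003)) (.node (.leaf 91004) (.leaf 63002)))) (.node (.node (.node (.leaf 112002) (.leaf 5001)) (.node (.leaf 90004) (.leaf 87001))) (.node (.node (.leaf 132000) (.leaf 23003)) (.node (.leaf 109003) (.leaf 56001))))) (.node (.node (.node (.node (.leaf 25003) (.leaf 21003)) (.node (.leaf 109004) (.leaf 39003))) (.node (.node (.leaf 37002) (.leaf 116001)) (.node (.leaf 24001) (.leaf 92001))))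 (.node (.node (.node (.leaf 41002) (.leaf 101001)) (.node (.leaf 44003) (.leaf 108004))) (.node (.node (.leaf 85004) (.leaf 79001)) (.node (.leaf 78001) (.leaf 112003))))))) (.node (.node (.node (.node (.node (.node (.leaf 78004) (.leaf 8002)) (.node (.leaf 86004) (.leaf 127001))) (.node (.node (.leaf 126001) (.leaf 66003)) (.node (.leaf 96002) (.leaf 46001)))) (.node (.node (.node (.leaf 54004) (.leaf 87004)) (.node (.leaf 5003) (.leaf 45002))) (.node (.node (.leaf 84001) (.leaf 114002)) (.node (.leaf 115004) (.leaf 128001))))) (.node (.node (.node (.node (.leaf 89001) (.leaf 90002)) (.node (.leaf 71001) (.leaf 27002))) (.node (.node (.leaf 52002) (.leaf 56002)) (.node (.leaf 100002) (.leaf 63001)))) (.node (.node (.node (.leaf 102002) (.leaf 119002)) (.node (.leaf 40004) (.leaf 7004))) (.node (.node (.leaf 120002) (.leaf 94001)) (.node (.leaf 125003) (.leaf 67003)))))) (.node (.node (.node (.node (.node (.leaf 16001) (.leaf 11004)) (.node (.leaf 50004) (.leaf 119004))) (.node (.node (.leaf 99003) (.leaf 60002)) (.node (.leaf 126002) (.leaf 29004)))) (.node (.node (.node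 (.leaf 126003) (.leaf 105001)) (.node (.leaf 37003) (.leaf 117003))) (.node (.node (.leaf 77002) (.leaf 6003)) (.node (.leaf 70002) (.leaf 125002))))) (.node (.node (.node (.node (.leaf 75002) (.leaf 40002)) (.node (.leaf 121002) (.leaf 47003))) (.node (.node (.leaf 31002) (.leaf 92002)) (.node (.leaf 69002) (.leaf 63004)))) (.node (.node (.node (.leaf 68001) (.leaf 46003)) (.node (.leaf 21001) (.leaf 121004))) (.node (.node (.leaf 36003) (.leaf 41003)) (.node (.leaf 11002) (.leaf 101004)))))))))) (.node (.node (.node (.node (.node (.node (.node (.node (.node (.leaf 75004) (.leaf 132002)) (.node (.leaf 68004) (.leaf 128003))) (.node (.node (.leaf 117002) (.leaf 126004)) (.node (.leaf 129004) (.leaf 114004)))) (.node (.node (.node (.leaf 30001) (.leaf 27004)) (.node (.leaf 73001) (.leaf 43003))) (.node (.node (.leaf 99001) (.leaf 66001)) (.node (.leaf 19001) (.leaf 1004))))) (.node (.node (.node (.node (.leaf 50002) (.leaf 102003)) (.node (.leaf 110002) (.leaf 122003))) (.node (.node (.leaf 27001) (.leaf 83002)) (.node (.leaf 110001) (.leaf 22001)))) (.node (.node (.node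 (.leaf 60001) (.leaf 128004)) (.node (.leaf 130003) (.leaf 120003))) (.node (.node (.leaf 127004) (.leaf 119001)) (.node (.leaf 100001) (.leaf 132003)))))) (.node (.node (.node (.node (.node (.leaf 105004) (.leaf 48003)) (.node (.leaf 82003) (.leaf 2003))) (.node (.node (.leaf 130001) (.leaf 79003)) (.node (.leaf 120001) (.leaf 91002)))) (.node (.node (.node (.leaf 97002) (.leaf 124002)) (.node (.leaf 103003) (.leaf 50003))) (.node (.node (.leaf 49001) (.leaf 71002)) (.node (.leaf 58004) (.leaf 52001))))) (.node (.node (.node (.node (.leaf 133000) (.leaf 107001)) (.node (.leaf 43004) (.leaf 21002))) (.node (.node (.leaf 98002) (.leaf 125004)) (.node (.leaf 88004) (.leaf 8003)))) (.node (.node (.node (.leaf 20004) (.leaf 76002)) (.node (.leaf 130004) (.leaf 28002))) (.node (.node (.leaf 116003) (.leaf 111004)) (.node (.leaf 88001) (.leaf 35002))))))) (.node (.node (.node (.node (.node (.node (.leaf 17004) (.leaf 113004)) (.node (.leaf 134000) (.leaf 132004))) (.node (.node (.leaf 121001) (.leaf 135000)) (.node (.leaf 122004) (.leaf 99002)))) (.node (.node (.node (.leaf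 55003) (.leaf 123002)) (.node (.leaf 81004) (.leaf 74004))) (.node (.node (.leaf 2002) (.leaf 73004)) (.node (.leaf 124003) (.leaf 3002))))) (.node (.node (.node (.node (.leaf 117001) (.leaf 49004)) (.node (.leaf 37004) (.leaf 18003))) (.node (.node (.leaf 129002) (.leaf 15004)) (.node (.leaf 44004) (.leaf 81001)))) (.node (.node (.node (.leaf 104002) (.leaf 93001)) (.node (.leaf 103001) (.leaf 110003))) (.node (.node (.leaf 104003) (.leaf 14004)) (.node (.leaf 129001) (.leaf 123003)))))) (.node (.node (.node (.node (.node (.leaf 108001) (.leaf 17002)) (.node (.leaf 121003) (.leaf 7003))) (.node (.node (.leaf 83001) (.leaf 55004)) (.node (.leaf 3001) (.leaf 28004)))) (.node (.node (.node (.leaf 124004) (.leaf 86003)) (.node (.leaf 106004) (.leaf 25001))) (.node (.node (.leaf 14002) (.leaf 38001)) (.node (.leaf 2) (.leaf 85003))))) (.node (.node (.node (.node (.leaf 48002) (.leaf 54002)) (.node (.leaf 11001) (.leaf 98004))) (.node (.node (.leaf 32001) (.leaf 127003)) (.node (.leaf 33003) (.leaf 105003)))) (.node (.node (.node (.leaf 16004) (.leaf 59003)) (.node (.leaf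 130002) (.leaf 132001))) (.node (.node (.leaf 64002) (.leaf 67002)) (.node (.leaf 34001) (.leaf 84002)))))))) (.node (.node (.node (.node (.node (.node (.node (.leaf 89002) (.leaf 80003)) (.node (.leaf 34002) (.leaf 118004))) (.node (.node (.leaf 73002) (.leaf 18002)) (.node (.leaf 12001) (.leaf 28001)))) (.node (.node (.node (.leaf 122001) (.leaf 72002)) (.node (.leaf 45004) (.leaf 112001))) (.node (.node (.leaf 118002) (.leaf 95003)) (.node (.leaf 13004) (.leaf 65002))))) (.node (.node (.node (.node (.leaf 17003) (.leaf 20003)) (.node (.leaf 49003) (.leaf 70004))) (.node (.node (.leaf 0) (.leaf 0)) (.node (.leaf 0) (.leaf 0)))) (.node (.node (.node (.leaf 0) (.leaf 0)) (.node (.leaf 0) (.leaf 0))) (.node (.node (.leaf 0) (.leaf 0)) (.node (.leaf 0) (.leaf 0)))))) (.node (.node (.node (.node (.node (.leaf 0) (.leaf 0)) (.node (.leaf 0) (.leaf 0))) (.node (.node (.leaf 0) (.leaf 0)) (.node (.leaf 0) (.leaf 0)))) (.node (.node (.node (.leaf 0) (.leaf 0)) (.node (.leaf 0) (.leaf 0))) (.node (.node (.leaf 0) (.leaf 0)) (.node (.leaf 0) (.leaf 0))))) (.node (.node (.node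 (.node (.leaf 0) (.leaf 0)) (.node (.leaf 0) (.leaf 0))) (.node (.node (.leaf 0) (.leaf 0)) (.node (.leaf 0) (.leaf 0)))) (.node (.node (.node (.leaf 0) (.leaf 0)) (.node (.leaf 0) (.leaf 0))) (.node (.node (.leaf 0) (.leaf 0)) (.node (.leaf 0) (.leaf 0))))))) (.node (.node (.node (.node (.node (.node (.leaf 0) (.leaf 0)) (.node (.leaf 0) (.leaf 0))) (.node (.node (.leaf 0) (.leaf 0)) (.node (.leaf 0) (.leaf 0)))) (.node (.node (.node (.leaf 0) (.leaf 0)) (.node (.leaf 0) (.leaf 0))) (.node (.node (.leaf 0) (.leaf 0)) (.node (.leaf 0) (.leaf 0))))) (.node (.node (.node (.node (.leaf 0) (.leaf 0)) (.node (.leaf 0) (.leaf 0))) (.node (.node (.leaf 0) (.leaf 0)) (.node (.leaf 0) (.leaf 0)))) (.node (.node (.node (.leaf 0) (.leaf 0)) (.node (.leaf 0) (.leaf 0))) (.node (.node (.leaf 0) (.leaf 0)) (.node (.leaf 0) (.leaf 0)))))) (.node (.node (.node (.node (.node (.leaf 0) (.leaf 0)) (.node (.leaf 0) (.leaf 0))) (.node (.node (.leaf 0) (.leaf 0)) (.node (.leaf 0) (.leaf 0)))) (.node (.node (.node (.leaf 0) (.leaf 0)) (.node (.leaf 0) (.leaf 0))) (.node (.node (.leaf 0) (.leaf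 0)) (.node (.leaf 0) (.leaf 0))))) (.node (.node (.node (.node (.leaf 0) (.leaf 0)) (.node (.leaf 0) (.leaf 0))) (.node (.node (.leaf 0) (.leaf 0)) (.node (.leaf 0) (.leaf 0)))) (.node (.node (.node (.leaf 0) (.leaf 0)) (.node (.leaf 0) (.leaf 0))) (.node (.node (.leaf 0) (.leaf 0)) (.node (.leaf 0) (.leaf 0))))))))) (.node (.node (.node (.node (.node (.node (.node (.node (.leaf 0) (.leaf 0)) (.node (.leaf 0) (.leaf 0))) (.node (.node (.leaf 0) (.leaf 0)) (.node (.leaf 0) (.leaf 0)))) (.node (.node (.node (.leaf 0) (.leaf 0)) (.node (.leaf 0) (.leaf 0))) (.node (.node (.leaf 0) (.leaf 0)) (.node (.leaf 0) (.leaf 0))))) (.node (.node (.node (.node (.leaf 0) (.leaf 0)) (.node (.leaf 0) (.leaf 0))) (.node (.node (.leaf 0) (.leaf 0)) (.node (.leaf 0) (.leaf 0)))) (.node (.node (.node (.leaf 0) (.leaf 0)) (.node (.leaf 0) (.leaf 0))) (.node (.node (.leaf 0) (.leaf 0)) (.node (.leaf 0) (.leaf 0)))))) (.node (.node (.node (.node (.node (.leaf 0) (.leaf 0)) (.node (.leaf 0) (.leaf 0))) (.node (.node (.leaf 0) (.leaf 0)) (.node (.leaf 0) (.leaf 0)))) (.node (.node (.node (.leaf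 0) (.leaf 0)) (.node (.leaf 0) (.leaf 0))) (.node (.node (.leaf 0) (.leaf 0)) (.node (.leaf 0) (.leaf 0))))) (.node (.node (.node (.node (.leaf 0) (.leaf 0)) (.node (.leaf 0) (.leaf 0))) (.node (.node (.leaf 0) (.leaf 0)) (.node (.leaf 0) (.leaf 0)))) (.node (.node (.node (.leaf 0) (.leaf 0)) (.node (.leaf 0) (.leaf 0))) (.node (.node (.leaf 0) (.leaf 0)) (.node (.leaf 0) (.leaf 0))))))) (.node (.node (.node (.node (.node (.node (.leaf 0) (.leaf 0)) (.node (.leaf 0) (.leaf 0))) (.node (.node (.leaf 0) (.leaf 0)) (.node (.leaf 0) (.leaf 0)))) (.node (.node (.node (.leaf 0) (.leaf 0)) (.node (.leaf 0) (.leaf 0))) (.node (.node (.leaf 0) (.leaf 0)) (.node (.leaf 0) (.leaf 0))))) (.node (.node (.node (.node (.leaf 0) (.leaf 0)) (.node (.leaf 0) (.leaf 0))) (.node (.node (.leaf 0) (.leaf 0)) (.node (.leaf 0) (.leaf 0)))) (.node (.node (.node (.leaf 0) (.leaf 0)) (.node (.leaf 0) (.leaf 0))) (.node (.node (.leaf 0) (.leaf 0)) (.node (.leaf 0) (.leaf 0)))))) (.node (.node (.node (.node (.node (.leaf 0) (.leaf 0)) (.node (.leaf 0) (.leaf 0))) (.node (.node (.leaf 0) (.leaf 0))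 (.node (.leaf 0) (.leaf 0)))) (.node (.node (.node (.leaf 0) (.leaf 0)) (.node (.leaf 0) (.leaf 0))) (.node (.node (.leaf 0) (.leaf 0)) (.node (.leaf 0) (.leaf 0))))) (.node (.node (.node (.node (.leaf 0) (.leaf 0)) (.node (.leaf 0) (.leaf 0))) (.node (.node (.leaf 0) (.leaf 0)) (.node (.leaf 0) (.leaf 0)))) (.node (.node (.node (.leaf 0) (.leaf 0)) (.node (.leaf 0) (.leaf 0))) (.node (.node (.leaf 0) (.leaf 0)) (.node (.leaf 0) (.leaf 0)))))))) (.node (.node (.node (.node (.node (.node (.node (.leaf 0) (.leaf 0)) (.node (.leaf 0) (.leaf 0))) (.node (.node (.leaf 0) (.leaf 0)) (.node (.leaf 0) (.leaf 0)))) (.node (.node (.node (.leaf 0) (.leaf 0)) (.node (.leaf 0) (.leaf 0))) (.node (.node (.leaf 0) (.leaf 0)) (.node (.leaf 0) (.leaf 0))))) (.node (.node (.node (.node (.leaf 0) (.leaf 0)) (.node (.leaf 0) (.leaf 0))) (.node (.node (.leaf 0) (.leaf 0)) (.node (.leaf 0) (.leaf 0)))) (.node (.node (.node (.leaf 0) (.leaf 0)) (.node (.leaf 0) (.leaf 0))) (.node (.node (.leaf 0) (.leaf 0)) (.node (.leaf 0) (.leaf 0)))))) (.node (.node (.node (.node (.node (.leaf 0) (.leaf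 0)) (.node (.leaf 0) (.leaf 0))) (.node (.node (.leaf 0) (.leaf 0)) (.node (.leaf 0) (.leaf 0)))) (.node (.node (.node (.leaf 0) (.leaf 0)) (.node (.leaf 0) (.leaf 0))) (.node (.node (.leaf 0) (.leaf 0)) (.node (.leaf 0) (.leaf 0))))) (.node (.node (.node (.node (.leaf 0) (.leaf 0)) (.node (.leaf 0) (.leaf 0))) (.node (.node (.leaf 0) (.leaf 0)) (.node (.leaf 0) (.leaf 0)))) (.node (.node (.node (.leaf 0) (.leaf 0)) (.node (.leaf 0) (.leaf 0))) (.node (.node (.leaf 0) (.leaf 0)) (.node (.leaf 0) (.leaf 0))))))) (.node (.node (.node (.node (.node (.node (.leaf 0) (.leaf 0)) (.node (.leaf 0) (.leaf 0))) (.node (.node (.leaf 0) (.leaf 0)) (.node (.leaf 0) (.leaf 0)))) (.node (.node (.node (.leaf 0) (.leaf 0)) (.node (.leaf 0) (.leaf 0))) (.node (.node (.leaf 0) (.leaf 0)) (.node (.leaf 0) (.leaf 0))))) (.node (.node (.node (.node (.leaf 0) (.leaf 0)) (.node (.leaf 0) (.leaf 0))) (.node (.node (.leaf 0) (.leaf 0)) (.node (.leaf 0) (.leaf 0)))) (.node (.node (.node (.leaf 0) (.leaf 0)) (.node (.leaf 0) (.leaf 0))) (.node (.node (.leaf 0) (.leaf 0)) (.node (.leaf 0) (.leaf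 0)))))) (.node (.node (.node (.node (.node (.leaf 0) (.leaf 0)) (.node (.leaf 0) (.leaf 0))) (.node (.node (.leaf 0) (.leaf 0)) (.node (.leaf 0) (.leaf 0)))) (.node (.node (.node (.leaf 0) (.leaf 0)) (.node (.leaf 0) (.leaf 0))) (.node (.node (.leaf 0) (.leaf 0)) (.node (.leaf 0) (.leaf 0))))) (.node (.node (.node (.node (.leaf 0) (.leaf 0)) (.node (.leaf 0) (.leaf 0))) (.node (.node (.leaf 0) (.leaf 0)) (.node (.leaf 0) (.leaf 0)))) (.node (.node (.node (.leaf 0) (.leaf 0)) (.node (.leaf 0) (.leaf 0))) (.node (.node (.leaf 0) (.leaf 0)) (.node (.leaf 0) (.leaf 0)))))))))))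

/-- Elements of `K` moved into `K`. -/
def hList2 : List ℕ :=
  [0, 14024, 296490, 427585, 441169, 525545]

/-- Orbit representatives with their orders. -/
def repList2 : List ℕ :=
  [5, 106, 206, 307, 415, 519, 615, 711, 811, 910, 1006, 1207, 1306, 1411, 1519, 1703, 1810, 1919, 2110, 2215, 2307, 2619, 2719, 2819, 2906, 3006, 3107, 3215, 3310, 3815, 3907, 4003, 4110, 4315, 4515, 4607, 5019, 5106, 5205, 5310, 5410, 5510, 5606, 5707, 5907, 6010, 6119, 6210, 6315, 6810, 6906, 7003, 7111, 7211, 7310, 7411, 7610, 7703, 7807, 7915, 8010, 8119, 8205, 8306, 8406, 8506, 9219, 9310, 9507, 9603, 9910, 10405, 10510, 10606, 11005, 11106, 11219, 11315, 12406, 12705, 13006, 13315, 13415, 14219, 14706, 14811, 16905, 17115, 17310, 17405, 17511, 17907, 18106, 18407, 19007, 19215, 20303, 20419, 20515, 20707, 24611, 24707, 24910, 26110, 26302, 26506, 29419, 29910, 30910, 32115, 34019, 34302, 37011, 37106, 38606, 41015, 42906, 54906]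

/-- Orbit of each element. -/
def orbTree2 : NTree :=
  (.node (.node (.node (.node (.node (.node (.node (.node (.node (.node (.leaf 0) (.leaf 1000)) (.node (.leaf 2000) (.leaf 3000))) (.node (.node (.leaf 4000) (.leaf 5000)) (.node (.leaf 6000) (.leaf 7000)))) (.node (.node (.node (.leaf 8000) (.leaf 9000)) (.node (.leaf 10000) (.leaf 10001))) (.node (.node (.leaf 11000) (.leaf 12000)) (.node (.leaf 13000) (.leaf 14000))))) (.node (.node (.node (.node (.leaf 6003) (.leaf 15000)) (.node (.leaf 16000) (.leaf 17000))) (.node (.node (.leaf 13002) (.leaf 18000)) (.node (.leaf 19000) (.leaf 20000)))) (.node (.node (.node (.leaf 13001) (.leaf 2001)) (.node (.leaf 21000) (.leaf 22000))) (.node (.node (.leaf 23000) (.leaf 24000)) (.node (.leaf 25000) (.leaf 26000)))))) (.node (.node (.node (.node (.node (.leaf 27000) (.leaf 28000)) (.node (.leaf 3001) (.leaf 28001))) (.node (.node (.leaf 25003) (.leaf 2005)) (.node (.leaf 29000) (.leaf 30000)))) (.node (.node (.node (.leaf 31000) (.leaf 32000)) (.node (.leaf 21003) (.leaf 33000))) (.node (.node (.leaf 3005) (.leaf 34000)) (.node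 (.leaf 35000) (.leaf 23001))))) (.node (.node (.node (.node (.leaf 8001) (.leaf 7001)) (.node (.leaf 36000) (.leaf 37000))) (.node (.node (.leaf 38000) (.leaf 39000)) (.node (.leaf 40000) (.leaf 41000)))) (.node (.node (.node (.leaf 42000) (.leaf 43000)) (.node (.leaf 37003) (.leaf 44000))) (.node (.node (.leaf 45000) (.leaf 46000)) (.node (.leaf 47000) (.leaf 48000))))))) (.node (.node (.node (.node (.node (.node (.leaf 5001) (.leaf 21002)) (.node (.leaf 46001) (.leaf 19001))) (.node (.node (.leaf 49000) (.leaf 50000)) (.node (.leaf 51000) (.leaf 52000)))) (.node (.node (.node (.leaf 53000) (.leaf 54000)) (.node (.leaf 55000) (.leaf 39003))) (.node (.node (.leaf 56000) (.leaf 57000)) (.node (.leaf 58000) (.leaf 59000))))) (.node (.node (.node (.node (.leaf 60000) (.leaf 61000)) (.node (.leaf 62000) (.leaf 63000))) (.node (.node (.leaf 64000) (.leaf 65000)) (.node (.leaf 59004) (.leaf 38001)))) (.node (.node (.node (.leaf 16001) (.leaf 1)) (.node (.leaf 6002) (.leaf 59005))) (.node (.node (.leaf 66000) (.leaf 67000)) (.node (.leaf 61004) (.leaf 68000)))))) (.node (.node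 (.node (.node (.node (.leaf 69000) (.leaf 60003)) (.node (.leaf 16005) (.leaf 70000))) (.node (.node (.leaf 46002) (.leaf 29003)) (.node (.leaf 36002) (.leaf 13003)))) (.node (.node (.node (.leaf 71000) (.leaf 72000)) (.node (.leaf 73000) (.leaf 58005))) (.node (.node (.leaf 73003) (.leaf 53003)) (.node (.leaf 74000) (.leaf 75000))))) (.node (.node (.node (.node (.leaf 76000) (.leaf 77000)) (.node (.leaf 19005) (.leaf 4003))) (.node (.node (.leaf 43005) (.leaf 12001)) (.node (.leaf 55001) (.leaf 57001)))) (.node (.node (.node (.leaf 24001) (.leaf 74001)) (.node (.leaf 33001) (.leaf 6001))) (.node (.node (.leaf 78000) (.leaf 12005)) (.node (.leaf 76003) (.leaf 79000)))))))) (.node (.node (.node (.node (.node (.node (.node (.leaf 68002) (.leaf 27002)) (.node (.leaf 80000) (.leaf 16002))) (.node (.node (.leaf 44003) (.leaf 81000)) (.node (.leaf 82000) (.leaf 46004)))) (.node (.node (.node (.leaf 50005) (.leaf 54003)) (.node (.leaf 65004) (.leaf 9002))) (.node (.node (.leaf 78005) (.leaf 75004)) (.node (.leaf 83000) (.leaf 23002))))) (.node (.node (.node (.node (.leaf 45004)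 (.leaf 58003)) (.node (.leaf 6004) (.leaf 84000))) (.node (.node (.leaf 85000) (.leaf 16003)) (.node (.leaf 75003) (.leaf 72002)))) (.node (.node (.node (.leaf 56005) (.leaf 44004)) (.node (.leaf 31004) (.leaf 12003))) (.node (.node (.leaf 67001) (.leaf 61005)) (.node (.leaf 25002) (.leaf 4001)))))) (.node (.node (.node (.node (.node (.leaf 18001) (.leaf 58004)) (.node (.leaf 27001) (.leaf 72003))) (.node (.node (.leaf 31005) (.leaf 47001)) (.node (.leaf 12002) (.leaf 48001)))) (.node (.node (.node (.leaf 20004) (.leaf 86000)) (.node (.leaf 79002) (.leaf 87000))) (.node (.node (.leaf 23003) (.leaf 88000)) (.node (.leaf 89000) (.leaf 90000))))) (.node (.node (.node (.node (.leaf 49004) (.leaf 90003)) (.node (.leaf 7003) (.leaf 91000))) (.node (.node (.leaf 33004) (.leaf 92000)) (.node (.leaf 5004) (.leaf 27003)))) (.node (.node (.node (.leaf 93000) (.leaf 54005)) (.node (.leaf 18003) (.leaf 18002))) (.node (.node (.leaf 55005) (.leaf 14004)) (.node (.leaf 94000) (.leaf 92004))))))) (.node (.node (.node (.node (.node (.node (.leaf 95000) (.leaf 29004)) (.node (.leaf 43003)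 (.leaf 59002))) (.node (.node (.leaf 86005) (.leaf 4)) (.node (.leaf 11003) (.leaf 11002)))) (.node (.node (.node (.leaf 24003) (.leaf 86003)) (.node (.leaf 36004) (.leaf 96000))) (.node (.node (.leaf 97000) (.leaf 98000)) (.node (.leaf 8003) (.leaf 99000))))) (.node (.node (.node (.node (.leaf 22001) (.leaf 80001)) (.node (.leaf 81001) (.leaf 39001))) (.node (.node (.leaf 65005) (.leaf 41001)) (.node (.leaf 9001) (.leaf 59003)))) (.node (.node (.node (.leaf 60001) (.leaf 14001)) (.node (.leaf 35001) (.leaf 99001))) (.node (.node (.leaf 39004) (.leaf 31003)) (.node (.leaf 99004) (.leaf 89003)))))) (.node (.node (.node (.node (.node (.leaf 72005) (.leaf 26005)) (.node (.leaf 31001) (.leaf 93001))) (.node (.node (.leaf 17003) (.leaf 15002)) (.node (.leaf 15003) (.leaf 34002)))) (.node (.node (.node (.leaf 81003) (.leaf 22004)) (.node (.leaf 39002) (.leaf 3003))) (.node (.node (.leaf 49005) (.leaf 77003)) (.node (.leaf 6005) (.leaf 17005))))) (.node (.node (.node (.node (.leaf 40002) (.leaf 23004)) (.node (.leaf 19003) (.leaf 25004))) (.node (.node (.leaf 42001) (.leaf 93004))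 (.node (.leaf 100000) (.leaf 101000)))) (.node (.node (.node (.leaf 7002) (.leaf 102000)) (.node (.leaf 94002) (.leaf 56004))) (.node (.node (.leaf 97004) (.leaf 38002)) (.node (.leaf 81005) (.leaf 47004))))))))) (.node (.node (.node (.node (.node (.node (.node (.node (.leaf 57003) (.leaf 74002)) (.node (.leaf 21005) (.leaf 78004))) (.node (.node (.leaf 22003) (.leaf 103000)) (.node (.leaf 13005) (.leaf 104000)))) (.node (.node (.node (.leaf 102003) (.leaf 105000)) (.node (.leaf 93002) (.leaf 93005))) (.node (.node (.leaf 98003) (.leaf 60005)) (.node (.leaf 66004) (.leaf 4005))))) (.node (.node (.node (.node (.leaf 20005) (.leaf 49001)) (.node (.leaf 11001) (.leaf 30001))) (.node (.node (.leaf 33005) (.leaf 32001)) (.node (.leaf 94001) (.leaf 58001)))) (.node (.node (.node (.leaf 45001) (.leaf 21004)) (.node (.leaf 75001) (.leaf 93003))) (.node (.node (.leaf 77001) (.leaf 20001)) (.node (.leaf 4004) (.leaf 56003)))))) (.node (.node (.node (.node (.node (.leaf 49002) (.leaf 80003)) (.node (.leaf 39005) (.leaf 35002))) (.node (.node (.leaf 88005) (.leaf 19002)) (.node (.leaf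 106000) (.leaf 30003)))) (.node (.node (.node (.leaf 57004) (.leaf 88003)) (.node (.leaf 10004) (.leaf 107000))) (.node (.node (.leaf 37005) (.leaf 42003)) (.node (.leaf 61002) (.leaf 95002))))) (.node (.node (.node (.node (.leaf 32005) (.leaf 1003)) (.node (.leaf 63002) (.leaf 64003))) (.node (.node (.leaf 87004) (.leaf 108000)) (.node (.leaf 97001) (.leaf 16004)))) (.node (.node (.node (.leaf 27005) (.leaf 14003)) (.node (.leaf 97002) (.leaf 28005))) (.node (.node (.leaf 87002) (.leaf 87003)) (.node (.leaf 90004) (.leaf 101002))))))) (.node (.node (.node (.node (.node (.node (.leaf 100005) (.leaf 109000)) (.node (.leaf 91005) (.leaf 107004))) (.node (.node (.leaf 102001) (.leaf 35005)) (.node (.leaf 70005) (.leaf 77002)))) (.node (.node (.node (.leaf 40001) (.leaf 47005)) (.node (.leaf 92003) (.leaf 24004))) (.node (.node (.leaf 37004) (.leaf 107001)) (.node (.leaf 63001) (.leaf 89004))))) (.node (.node (.node (.node (.leaf 32003) (.leaf 8005)) (.node (.leaf 94003) (.leaf 45005))) (.node (.node (.leaf 110000) (.leaf 96003)) (.node (.leaf 8002) (.leaf 111000)))) (.node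 (.node (.node (.leaf 30004) (.leaf 66001)) (.node (.leaf 37001) (.leaf 26004))) (.node (.node (.leaf 17002) (.leaf 68001)) (.node (.leaf 22005) (.leaf 60002)))))) (.node (.node (.node (.node (.node (.leaf 17001) (.leaf 23005)) (.node (.leaf 29002) (.leaf 37002))) (.node (.node (.leaf 97005) (.leaf 70004)) (.node (.leaf 58002) (.leaf 26001)))) (.node (.node (.node (.leaf 8004) (.leaf 65001)) (.node (.leaf 96002) (.leaf 30005))) (.node (.node (.leaf 106003) (.leaf 55004)) (.node (.leaf 32002) (.leaf 41003))))) (.node (.node (.node (.node (.leaf 105002) (.leaf 69003)) (.node (.leaf 112000) (.leaf 113000))) (.node (.node (.leaf 49003) (.leaf 97003)) (.node (.leaf 14002) (.leaf 107005)))) (.node (.node (.node (.leaf 41004) (.leaf 81002)) (.node (.leaf 2004) (.leaf 41005))) (.node (.node (.leaf 88001) (.leaf 94004)) (.node (.leaf 71003) (.leaf 95004)))))))) (.node (.node (.node (.node (.node (.node (.node (.leaf 76001) (.leaf 112003)) (.node (.leaf 114000) (.leaf 114002))) (.node (.node (.leaf 105005) (.leaf 44001)) (.node (.leaf 52004) (.leaf 42005)))) (.node (.node (.node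 (.leaf 95003) (.leaf 68003)) (.node (.leaf 52001) (.leaf 106004))) (.node (.node (.leaf 92002) (.leaf 100001)) (.node (.leaf 20002) (.leaf 91003))))) (.node (.node (.node (.node (.leaf 68005) (.leaf 54004)) (.node (.leaf 106002) (.leaf 108004))) (.node (.node (.leaf 89005) (.leaf 98004)) (.node (.leaf 44005) (.leaf 102004)))) (.node (.node (.node (.leaf 48002) (.leaf 63004)) (.node (.leaf 115000) (.leaf 42002))) (.node (.node (.leaf 84001) (.leaf 64002)) (.node (.leaf 108002) (.leaf 50002)))))) (.node (.node (.node (.node (.node (.leaf 96005) (.leaf 94005)) (.node (.leaf 84002) (.leaf 27004))) (.node (.node (.leaf 112002) (.leaf 5002)) (.node (.leaf 83003) (.leaf 52002)))) (.node (.node (.node (.leaf 109003) (.leaf 110003)) (.node (.leaf 104002) (.leaf 79004))) (.node (.node (.leaf 81004) (.leaf 116000)) (.node (.leaf 78001) (.leaf 21001))))) (.node (.node (.node (.node (.leaf 54001) (.leaf 63003)) (.node (.leaf 82001) (.leaf 56001))) (.node (.node (.leaf 109001) (.leaf 75005)) (.node (.leaf 25001) (.leaf 53002)))) (.node (.node (.node (.leaf 108003) (.leaf 86004)) (.node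 (.leaf 3004) (.leaf 36005))) (.node (.node (.leaf 34001) (.leaf 43004)) (.node (.leaf 116001) (.leaf 105004))))))) (.node (.node (.node (.node (.node (.node (.leaf 65003) (.leaf 70002)) (.node (.leaf 63005) (.leaf 110002))) (.node (.node (.leaf 95005) (.leaf 102002)) (.node (.leaf 48005) (.leaf 36003)))) (.node (.node (.node (.leaf 116004) (.leaf 102005)) (.node (.leaf 33003) (.leaf 18004))) (.node (.node (.leaf 84004) (.leaf 84005)) (.node (.leaf 31002) (.leaf 75002))))) (.node (.node (.node (.node (.leaf 83001) (.leaf 53005)) (.node (.leaf 5005) (.leaf 92001))) (.node (.node (.leaf 2) (.leaf 108001)) (.node (.leaf 110004) (.leaf 71002)))) (.node (.node (.node (.leaf 99002) (.leaf 101003)) (.node (.leaf 2003) (.leaf 85004))) (.node (.node (.leaf 29001) (.leaf 51002)) (.node (.leaf 87001) (.leaf 67002)))))) (.node (.node (.node (.node (.node (.leaf 80004) (.leaf 82002)) (.node (.leaf 82003) (.leaf 7004))) (.node (.node (.leaf 22002) (.leaf 35003)) (.node (.leaf 96004) (.leaf 114003)))) (.node (.node (.node (.leaf 114001) (.leaf 61003)) (.node (.leaf 57002) (.leaf 66002)))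 (.node (.node (.leaf 51001) (.leaf 113003)) (.node (.leaf 103003) (.leaf 101004))))) (.node (.node (.node (.node (.leaf 4002) (.leaf 40003)) (.node (.leaf 52005) (.leaf 96001))) (.node (.node (.leaf 40005) (.leaf 90005)) (.node (.leaf 44002) (.leaf 99005)))) (.node (.node (.node (.leaf 41002) (.leaf 74004)) (.node (.leaf 76004) (.leaf 78003))) (.node (.node (.leaf 64005) (.leaf 7005)) (.node (.leaf 57005) (.leaf 112005)))))))))) (.node (.node (.node (.node (.node (.node (.node (.node (.node (.leaf 112004) (.leaf 24002)) (.node (.leaf 105003) (.leaf 112001))) (.node (.node (.leaf 86001) (.leaf 90001)) (.node (.leaf 46003) (.leaf 42004)))) (.node (.node (.node (.leaf 73001) (.leaf 98005)) (.node (.leaf 92005) (.leaf 48003))) (.node (.node (.leaf 95001) (.leaf 85001)) (.node (.leaf 79003) (.leaf 74005))))) (.node (.node (.node (.node (.leaf 13004) (.leaf 64004)) (.node (.leaf 90002) (.leaf 98002))) (.node (.node (.leaf 14005) (.leaf 66005)) (.node (.leaf 47003) (.leaf 38005)))) (.node (.node (.node (.leaf 114004) (.leaf 107002)) (.node (.leaf 67003) (.leaf 60004))) (.node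 (.node (.leaf 26003) (.leaf 80005)) (.node (.leaf 77005) (.leaf 89001)))))) (.node (.node (.node (.node (.node (.leaf 77004) (.leaf 85002)) (.node (.leaf 3002) (.leaf 70001))) (.node (.node (.leaf 83002) (.leaf 117000)) (.node (.leaf 113004) (.leaf 101001)))) (.node (.node (.node (.leaf 72001) (.leaf 53004)) (.node (.leaf 55002) (.leaf 3))) (.node (.node (.leaf 1002) (.leaf 67005)) (.node (.leaf 61001) (.leaf 24005))))) (.node (.node (.node (.node (.leaf 68004) (.leaf 70003)) (.node (.leaf 28004) (.leaf 28003))) (.node (.node (.leaf 33002) (.leaf 86002)) (.node (.leaf 110005) (.leaf 85003)))) (.node (.node (.node (.leaf 89002) (.leaf 105001)) (.node (.leaf 43001) (.leaf 34003))) (.node (.node (.leaf 11005) (.leaf 73004)) (.node (.leaf 99003) (.leaf 46005))))))) (.node (.node (.node (.node (.node (.node (.leaf 106005) (.leaf 34004)) (.node (.leaf 108005) (.leaf 117001))) (.node (.node (.leaf 66003) (.leaf 40004)) (.node (.leaf 110001) (.leaf 98001)))) (.node (.node (.node (.leaf 36001) (.leaf 79001)) (.node (.leaf 5) (.leaf 54002))) (.node (.node (.leaf 43002) (.leaf 73005))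 (.node (.leaf 64001) (.leaf 67004))))) (.node (.node (.node (.node (.leaf 82005) (.leaf 80002)) (.node (.leaf 76002) (.leaf 73002))) (.node (.node (.leaf 115001) (.leaf 91004)) (.node (.leaf 18005) (.leaf 45002)))) (.node (.node (.node (.leaf 38004) (.leaf 48004)) (.node (.leaf 45003) (.leaf 79005))) (.node (.node (.leaf 32004) (.leaf 35004)) (.node (.leaf 109002) (.leaf 104001)))))) (.node (.node (.node (.node (.node (.leaf 87005) (.leaf 50004)) (.node (.leaf 53001) (.leaf 100002))) (.node (.node (.leaf 5003) (.leaf 113005)) (.node (.leaf 106001) (.leaf 50003)))) (.node (.node (.node (.leaf 11004) (.leaf 19004)) (.node (.leaf 20003) (.leaf 82004))) (.node (.node (.leaf 84003) (.leaf 91001)) (.node (.leaf 74003) (.leaf 83005))))) (.node (.node (.node (.node (.leaf 76005) (.leaf 30002)) (.node (.leaf 12004) (.leaf 109004))) (.node (.node (.leaf 55003) (.leaf 2002)) (.node (.leaf 101005) (.leaf 100004)))) (.node (.node (.node (.leaf 47002) (.leaf 85005)) (.node (.leaf 88004) (.leaf 114005))) (.node (.node (.leaf 91002) (.leaf 56002)) (.node (.leaf 50001) (.leaf 59001))))))))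 (.node (.node (.node (.node (.node (.node (.node (.leaf 72004) (.leaf 69002)) (.node (.leaf 103002) (.leaf 78002))) (.node (.node (.leaf 25005) (.leaf 88002)) (.node (.leaf 65002) (.leaf 109005)))) (.node (.node (.node (.leaf 28002) (.leaf 29005)) (.node (.leaf 113002) (.leaf 113001))) (.node (.node (.leaf 107003) (.leaf 17004)) (.node (.leaf 52003) (.leaf 83004))))) (.node (.node (.node (.node (.leaf 26002) (.leaf 34005)) (.node (.leaf 100003) (.leaf 38003))) (.node (.node (.leaf 0) (.leaf 0)) (.node (.leaf 0) (.leaf 0)))) (.node (.node (.node (.leaf 0) (.leaf 0)) (.node (.leaf 0) (.leaf 0))) (.node (.node (.leaf 0) (.leaf 0)) (.node (.leaf 0) (.leaf 0)))))) (.node (.node (.node (.node (.node (.leaf 0) (.leaf 0)) (.node (.leaf 0) (.leaf 0))) (.node (.node (.leaf 0) (.leaf 0)) (.node (.leaf 0) (.leaf 0)))) (.node (.node (.node (.leaf 0) (.leaf 0)) (.node (.leaf 0) (.leaf 0))) (.node (.node (.leaf 0) (.leaf 0)) (.node (.leaf 0) (.leaf 0))))) (.node (.node (.node (.node (.leaf 0) (.leaf 0)) (.node (.leaf 0) (.leaf 0))) (.node (.node (.leaf 0) (.leaf 0)) (.node (.leaf 0)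 (.leaf 0)))) (.node (.node (.node (.leaf 0) (.leaf 0)) (.node (.leaf 0) (.leaf 0))) (.node (.node (.leaf 0) (.leaf 0)) (.node (.leaf 0) (.leaf 0))))))) (.node (.node (.node (.node (.node (.node (.leaf 0) (.leaf 0)) (.node (.leaf 0) (.leaf 0))) (.node (.node (.leaf 0) (.leaf 0)) (.node (.leaf 0) (.leaf 0)))) (.node (.node (.node (.leaf 0) (.leaf 0)) (.node (.leaf 0) (.leaf 0))) (.node (.node (.leaf 0) (.leaf 0)) (.node (.leaf 0) (.leaf 0))))) (.node (.node (.node (.node (.leaf 0) (.leaf 0)) (.node (.leaf 0) (.leaf 0))) (.node (.node (.leaf 0) (.leaf 0)) (.node (.leaf 0) (.leaf 0)))) (.node (.node (.node (.leaf 0) (.leaf 0)) (.node (.leaf 0) (.leaf 0))) (.node (.node (.leaf 0) (.leaf 0)) (.node (.leaf 0) (.leaf 0)))))) (.node (.node (.node (.node (.node (.leaf 0) (.leaf 0)) (.node (.leaf 0) (.leaf 0))) (.node (.node (.leaf 0) (.leaf 0)) (.node (.leaf 0) (.leaf 0)))) (.node (.node (.node (.leaf 0) (.leaf 0)) (.node (.leaf 0) (.leaf 0))) (.node (.node (.leaf 0) (.leaf 0)) (.node (.leaf 0) (.leaf 0))))) (.node (.node (.node (.node (.leaf 0) (.leaf 0)) (.node (.leaf 0) (.leaf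 0))) (.node (.node (.leaf 0) (.leaf 0)) (.node (.leaf 0) (.leaf 0)))) (.node (.node (.node (.leaf 0) (.leaf 0)) (.node (.leaf 0) (.leaf 0))) (.node (.node (.leaf 0) (.leaf 0)) (.node (.leaf 0) (.leaf 0))))))))) (.node (.node (.node (.node (.node (.node (.node (.node (.leaf 0) (.leaf 0)) (.node (.leaf 0) (.leaf 0))) (.node (.node (.leaf 0) (.leaf 0)) (.node (.leaf 0) (.leaf 0)))) (.node (.node (.node (.leaf 0) (.leaf 0)) (.node (.leaf 0) (.leaf 0))) (.node (.node (.leaf 0) (.leaf 0)) (.node (.leaf 0) (.leaf 0))))) (.node (.node (.node (.node (.leaf 0) (.leaf 0)) (.node (.leaf 0) (.leaf 0))) (.node (.node (.leaf 0) (.leaf 0)) (.node (.leaf 0) (.leaf 0)))) (.node (.node (.node (.leaf 0) (.leaf 0)) (.node (.leaf 0) (.leaf 0))) (.node (.node (.leaf 0) (.leaf 0)) (.node (.leaf 0) (.leaf 0)))))) (.node (.node (.node (.node (.node (.leaf 0) (.leaf 0)) (.node (.leaf 0) (.leaf 0))) (.node (.node (.leaf 0) (.leaf 0)) (.node (.leaf 0) (.leaf 0)))) (.node (.node (.node (.leaf 0) (.leaf 0)) (.node (.leaf 0) (.leaf 0))) (.node (.node (.leaf 0) (.leaf 0)) (.node (.leaf 0) (.leaf 0)))))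 (.node (.node (.node (.node (.leaf 0) (.leaf 0)) (.node (.leaf 0) (.leaf 0))) (.node (.node (.leaf 0) (.leaf 0)) (.node (.leaf 0) (.leaf 0)))) (.node (.node (.node (.leaf 0) (.leaf 0)) (.node (.leaf 0) (.leaf 0))) (.node (.node (.leaf 0) (.leaf 0)) (.node (.leaf 0) (.leaf 0))))))) (.node (.node (.node (.node (.node (.node (.leaf 0) (.leaf 0)) (.node (.leaf 0) (.leaf 0))) (.node (.node (.leaf 0) (.leaf 0)) (.node (.leaf 0) (.leaf 0)))) (.node (.node (.node (.leaf 0) (.leaf 0)) (.node (.leaf 0) (.leaf 0))) (.node (.node (.leaf 0) (.leaf 0)) (.node (.leaf 0) (.leaf 0))))) (.node (.node (.node (.node (.leaf 0) (.leaf 0)) (.node (.leaf 0) (.leaf 0))) (.node (.node (.leaf 0) (.leaf 0)) (.node (.leaf 0) (.leaf 0)))) (.node (.node (.node (.leaf 0) (.leaf 0)) (.node (.leaf 0) (.leaf 0))) (.node (.node (.leaf 0) (.leaf 0)) (.node (.leaf 0) (.leaf 0)))))) (.node (.node (.node (.node (.node (.leaf 0) (.leaf 0)) (.node (.leaf 0) (.leaf 0))) (.node (.node (.leaf 0) (.leaf 0)) (.node (.leaf 0) (.leaf 0)))) (.node (.node (.node (.leaf 0) (.leaf 0)) (.node (.leaf 0) (.leaf 0))) (.node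 (.node (.leaf 0) (.leaf 0)) (.node (.leaf 0) (.leaf 0))))) (.node (.node (.node (.node (.leaf 0) (.leaf 0)) (.node (.leaf 0) (.leaf 0))) (.node (.node (.leaf 0) (.leaf 0)) (.node (.leaf 0) (.leaf 0)))) (.node (.node (.node (.leaf 0) (.leaf 0)) (.node (.leaf 0) (.leaf 0))) (.node (.node (.leaf 0) (.leaf 0)) (.node (.leaf 0) (.leaf 0)))))))) (.node (.node (.node (.node (.node (.node (.node (.leaf 0) (.leaf 0)) (.node (.leaf 0) (.leaf 0))) (.node (.node (.leaf 0) (.leaf 0)) (.node (.leaf 0) (.leaf 0)))) (.node (.node (.node (.leaf 0) (.leaf 0)) (.node (.leaf 0) (.leaf 0))) (.node (.node (.leaf 0) (.leaf 0)) (.node (.leaf 0) (.leaf 0))))) (.node (.node (.node (.node (.leaf 0) (.leaf 0)) (.node (.leaf 0) (.leaf 0))) (.node (.node (.leaf 0) (.leaf 0)) (.node (.leaf 0) (.leaf 0)))) (.node (.node (.node (.leaf 0) (.leaf 0)) (.node (.leaf 0) (.leaf 0))) (.node (.node (.leaf 0) (.leaf 0)) (.node (.leaf 0) (.leaf 0)))))) (.node (.node (.node (.node (.node (.leaf 0) (.leaf 0)) (.node (.leaf 0) (.leaf 0))) (.node (.node (.leaf 0) (.leaf 0)) (.node (.leaf 0) (.leaf 0)))) (.node (.node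 (.node (.leaf 0) (.leaf 0)) (.node (.leaf 0) (.leaf 0))) (.node (.node (.leaf 0) (.leaf 0)) (.node (.leaf 0) (.leaf 0))))) (.node (.node (.node (.node (.leaf 0) (.leaf 0)) (.node (.leaf 0) (.leaf 0))) (.node (.node (.leaf 0) (.leaf 0)) (.node (.leaf 0) (.leaf 0)))) (.node (.node (.node (.leaf 0) (.leaf 0)) (.node (.leaf 0) (.leaf 0))) (.node (.node (.leaf 0) (.leaf 0)) (.node (.leaf 0) (.leaf 0))))))) (.node (.node (.node (.node (.node (.node (.leaf 0) (.leaf 0)) (.node (.leaf 0) (.leaf 0))) (.node (.node (.leaf 0) (.leaf 0)) (.node (.leaf 0) (.leaf 0)))) (.node (.node (.node (.leaf 0) (.leaf 0)) (.node (.leaf 0) (.leaf 0))) (.node (.node (.leaf 0) (.leaf 0)) (.node (.leaf 0) (.leaf 0))))) (.node (.node (.node (.node (.leaf 0) (.leaf 0)) (.node (.leaf 0) (.leaf 0))) (.node (.node (.leaf 0) (.leaf 0)) (.node (.leaf 0) (.leaf 0)))) (.node (.node (.node (.leaf 0) (.leaf 0)) (.node (.leaf 0) (.leaf 0))) (.node (.node (.leaf 0) (.leaf 0)) (.node (.leaf 0) (.leaf 0)))))) (.node (.node (.node (.node (.node (.leaf 0) (.leaf 0)) (.node (.leaf 0) (.leaf 0))) (.node (.node (.leaf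 0) (.leaf 0)) (.node (.leaf 0) (.leaf 0)))) (.node (.node (.node (.leaf 0) (.leaf 0)) (.node (.leaf 0) (.leaf 0))) (.node (.node (.leaf 0) (.leaf 0)) (.node (.leaf 0) (.leaf 0))))) (.node (.node (.node (.node (.leaf 0) (.leaf 0)) (.node (.leaf 0) (.leaf 0))) (.node (.node (.leaf 0) (.leaf 0)) (.node (.leaf 0) (.leaf 0)))) (.node (.node (.node (.leaf 0) (.leaf 0)) (.node (.leaf 0) (.leaf 0))) (.node (.node (.leaf 0) (.leaf 0)) (.node (.leaf 0) (.leaf 0)))))))))))

/-- Elements of `K` moved into `K`. -/
def hList3 : List ℕ :=
  [0, 4594, 7500, 12408, 25247, 26315, 50348, 67444, 92411, 165457, 166548, 196633, 198606, 242104, 244388, 326626, 329049, 333403, 338460, 341371, 344658, 382208, 391016, 394621, 398642, 402583, 405052, 407227, 432085, 477059, 481040, 495332, 507216, 513355, 544233, 550312, 553219, 556230, 564391, 568586, 570432, 572442, 575207, 578591, 579148, 584618, 587364, 606098, 612523, 618019, 622253, 634400, 644178, 647264, 649182]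

/-- Orbit representatives with their orders. -/
def repList3 : List ℕ :=
  [19, 119, 210, 306, 405, 715, 910, 1111, 1219, 1507, 3007, 3410, 3602, 4210, 6110, 15510]

/-- Orbit of each element. -/
def orbTree3 : NTree :=
  (.node (.node (.node (.node (.node (.node (.node (.node (.node (.node (.leaf 0) (.leaf 1000)) (.node (.leaf 2000) (.leaf 3000))) (.node (.node (.leaf 4000) (.leaf 3038)) (.node (.leaf 15) (.leaf 5000)))) (.node (.node (.node (.leaf 4033) (.leaf 6000)) (.node (.leaf 2044) (.leaf 7000))) (.node (.node (.leaf 8000) (.leaf 3012)) (.node (.leaf 4048) (.leaf 9000))))) (.node (.node (.node (.node (.leaf 6040) (.leaf 3006)) (.node (.leaf 9038) (.leaf 5033))) (.node (.node (.leaf 4053) (.leaf 5015)) (.node (.leaf 7041) (.leaf 9026)))) (.node (.node (.node (.leaf 8014) (.leaf 6043)) (.node (.leaf 3027) (.leaf 3052))) (.node (.node (.leaf 9034) (.leaf 5007)) (.node (.leaf 10000) (.leaf 7038)))))) (.node (.node (.node (.node (.node (.leaf 7048) (.leaf 10023)) (.node (.leaf 11000) (.leaf 7006))) (.node (.node (.leaf 12000) (.leaf 10035)) (.node (.leaf 7052) (.leaf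 53)))) (.node (.node (.node (.leaf 9040) (.leaf 7046)) (.node (.leaf 13000) (.leaf 10031))) (.node (.node (.leaf 2046) (.leaf 8027)) (.node (.leaf 9045) (.leaf 1045))))) (.node (.node (.node (.node (.leaf 6016) (.leaf 3044)) (.node (.leaf 9025) (.leaf 3040))) (.node (.node (.leaf 3050) (.leaf 4041)) (.node (.leaf 6023) (.leaf 7054)))) (.node (.node (.node (.leaf 7) (.leaf 6028)) (.node (.leaf 2012) (.leaf 4015))) (.node (.node (.leaf 5029) (.leaf 14000)) (.node (.leaf 4008) (.leaf 7030))))))) (.node (.node (.node (.node (.node (.node (.leaf 26) (.leaf 11005)) (.node (.leaf 8028) (.leaf 7027))) (.node (.node (.leaf 9049) (.leaf 12010)) (.node (.leaf 2045) (.leaf 10026)))) (.node (.node (.node (.leaf 2042) (.leaf 5019)) (.node (.leaf 3039) (.leaf 1040))) (.node (.node (.leaf 6037) (.leaf 4024)) (.node (.leaf 7053) (.leaf 13003))))) (.node (.node (.node (.node (.leaf 8010) (.leaf 5030)) (.node (.leaf 9028) (.leaf 5027))) (.node (.node (.leaf 27) (.leaf 8042)) (.node (.leaf 8018) (.leaf 4014)))) (.node (.node (.node (.leaf 11007) (.leaf 39)) (.node (.leaf 6032) (.leaf 1008)))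 (.node (.node (.leaf 10046) (.leaf 12008)) (.node (.leaf 8003) (.leaf 3018)))))) (.node (.node (.node (.node (.node (.leaf 2006) (.leaf 2053)) (.node (.leaf 10007) (.leaf 3004))) (.node (.node (.leaf 7012) (.leaf 17)) (.node (.leaf 2051) (.leaf 4007)))) (.node (.node (.node (.leaf 9003) (.leaf 8048)) (.node (.leaf 13004) (.leaf 3049))) (.node (.node (.leaf 10004) (.leaf 30)) (.node (.leaf 7017) (.leaf 16))))) (.node (.node (.node (.node (.leaf 14004) (.leaf 6015)) (.node (.leaf 8008) (.leaf 42))) (.node (.node (.leaf 5014) (.leaf 8009)) (.node (.leaf 10052) (.leaf 11010)))) (.node (.node (.node (.leaf 9031) (.leaf 1031)) (.node (.leaf 5054) (.leaf 3036))) (.node (.node (.leaf 4020) (.leaf 10042)) (.node (.leaf 12001) (.leaf 8001)))))))) (.node (.node (.node (.node (.node (.node (.node (.leaf 1038) (.leaf 51)) (.node (.leaf 8026) (.leaf 9017))) (.node (.node (.leaf 7025) (.leaf 3016)) (.node (.leaf 13) (.leaf 2010)))) (.node (.node (.node (.leaf 5053) (.leaf 5021)) (.node (.leaf 2022) (.leaf 4039))) (.node (.node (.leaf 2047) (.leaf 3028)) (.node (.leaf 4037) (.leaf 13006)))))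 (.node (.node (.node (.node (.leaf 8015) (.leaf 1023)) (.node (.leaf 3020) (.leaf 9043))) (.node (.node (.leaf 4029) (.leaf 8029)) (.node (.leaf 14003) (.leaf 10017)))) (.node (.node (.node (.leaf 6044) (.leaf 8)) (.node (.leaf 6024) (.leaf 15000))) (.node (.node (.leaf 10011) (.leaf 2040)) (.node (.leaf 2029) (.leaf 6011)))))) (.node (.node (.node (.node (.node (.leaf 8024) (.leaf 10041)) (.node (.leaf 9033) (.leaf 1019))) (.node (.node (.leaf 54) (.leaf 1025)) (.node (.leaf 2043) (.leaf 3023)))) (.node (.node (.node (.leaf 10038) (.leaf 4005)) (.node (.leaf 3047) (.leaf 3008))) (.node (.node (.leaf 1010) (.leaf 6006)) (.node (.leaf 1017) (.leaf 14007))))) (.node (.node (.node (.node (.leaf 9050) (.leaf 10015)) (.node (.leaf 7004) (.leaf 25))) (.node (.node (.leaf 15009) (.leaf 9020)) (.node (.leaf 10054) (.leaf 9030)))) (.node (.node (.node (.leaf 7029) (.leaf 8007)) (.node (.leaf 1052) (.leaf 3031))) (.node (.node (.leaf 2028) (.leaf 9006)) (.node (.leaf 34) (.leaf 43))))))) (.node (.node (.node (.node (.node (.node (.leaf 1004) (.leaf 6012)) (.node (.leaf 4010) (.leaf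 50))) (.node (.node (.leaf 38) (.leaf 44)) (.node (.leaf 10010) (.leaf 6025)))) (.node (.node (.node (.leaf 14009) (.leaf 4027)) (.node (.leaf 8051) (.leaf 5006))) (.node (.node (.leaf 5042) (.leaf 3030)) (.node (.leaf 5018) (.leaf 3015))))) (.node (.node (.node (.node (.leaf 7042) (.leaf 3033)) (.node (.leaf 5026) (.leaf 11008))) (.node (.node (.leaf 11004) (.leaf 2013)) (.node (.leaf 10018) (.leaf 4028)))) (.node (.node (.node (.leaf 47) (.leaf 1024)) (.node (.leaf 6036) (.leaf 2005))) (.node (.node (.leaf 5020) (.leaf 2034)) (.node (.leaf 12002) (.leaf 12009)))))) (.node (.node (.node (.node (.node (.leaf 4003) (.leaf 10039)) (.node (.leaf 7040) (.leaf 5034))) (.node (.node (.leaf 10003) (.leaf 3014)) (.node (.leaf 1037) (.leaf 8033)))) (.node (.node (.node (.leaf 7031) (.leaf 3002)) (.node (.leaf 9053) (.leaf 7049))) (.node (.node (.leaf 6035) (.leaf 6010)) (.node (.leaf 10047) (.leaf 8053))))) (.node (.node (.node (.node (.leaf 2011) (.leaf 5022)) (.node (.leaf 9029) (.leaf 1018))) (.node (.node (.leaf 7051) (.leaf 24)) (.node (.leaf 48) (.leaf 6052)))) (.node (.node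 (.node (.leaf 2003) (.leaf 13009)) (.node (.leaf 13010) (.leaf 5052))) (.node (.node (.leaf 9023) (.leaf 5046)) (.node (.leaf 9044) (.leaf 2027))))))))) (.node (.node (.node (.node (.node (.node (.node (.node (.leaf 6027) (.leaf 10021)) (.node (.leaf 1) (.leaf 29))) (.node (.node (.leaf 8016) (.leaf 10012)) (.node (.leaf 20) (.leaf 3054)))) (.node (.node (.node (.leaf 1026) (.leaf 7011)) (.node (.leaf 12003) (.leaf 8041))) (.node (.node (.leaf 9011) (.leaf 15002)) (.node (.leaf 7028) (.leaf 10048))))) (.node (.node (.node (.node (.leaf 14) (.leaf 4009)) (.node (.leaf 4043) (.leaf 2041))) (.node (.node (.leaf 3005) (.leaf 9048)) (.node (.leaf 5039) (.leaf 5028)))) (.node (.node (.node (.leaf 1047) (.leaf 1033)) (.node (.leaf 2026) (.leaf 9008))) (.node (.node (.leaf 32) (.leaf 3045)) (.node (.leaf 2002) (.leaf 5016)))))) (.node (.node (.node (.node (.node (.leaf 2054) (.leaf 6)) (.node (.leaf 8005) (.leaf 9042))) (.node (.node (.leaf 4001) (.leaf 3001)) (.node (.leaf 7008) (.leaf 7050)))) (.node (.node (.node (.leaf 4051) (.leaf 7009)) (.node (.leaf 10008) (.leaf 6049)))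 (.node (.node (.leaf 14010) (.leaf 8023)) (.node (.leaf 9002) (.leaf 10043))))) (.node (.node (.node (.node (.leaf 8019) (.leaf 8013)) (.node (.leaf 3021) (.leaf 5044))) (.node (.node (.leaf 15010) (.leaf 1020)) (.node (.leaf 5017) (.leaf 4021)))) (.node (.node (.node (.leaf 8021) (.leaf 10049)) (.node (.leaf 12004) (.leaf 3029))) (.node (.node (.leaf 1054) (.leaf 8032)) (.node (.leaf 4023) (.leaf 5048))))))) (.node (.node (.node (.node (.node (.node (.leaf 18) (.leaf 7023)) (.node (.leaf 9010) (.leaf 7044))) (.node (.node (.leaf 9009) (.leaf 52)) (.node (.leaf 9039) (.leaf 10006)))) (.node (.node (.node (.leaf 10045) (.leaf 3019)) (.node (.leaf 3017) (.leaf 3041))) (.node (.node (.leaf 8039) (.leaf 6030)) (.node (.leaf 14006) (.leaf 14008))))) (.node (.node (.node (.node (.leaf 1030) (.leaf 3035)) (.node (.leaf 2021) (.leaf 10020))) (.node (.node (.leaf 5008) (.leaf 45)) (.node (.leaf 2007) (.leaf 15001)))) (.node (.node (.node (.leaf 2009) (.leaf 5003)) (.node (.leaf 4013) (.leaf 4031))) (.node (.node (.leaf 9018) (.leaf 4026)) (.node (.leaf 9037) (.leaf 9015))))))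 (.node (.node (.node (.node (.node (.leaf 1043) (.leaf 11001)) (.node (.leaf 7001) (.leaf 6014))) (.node (.node (.leaf 2015) (.leaf 2016)) (.node (.leaf 4025) (.leaf 2048)))) (.node (.node (.node (.leaf 10036) (.leaf 13007)) (.node (.leaf 8022) (.leaf 6005))) (.node (.node (.leaf 7045) (.leaf 8002)) (.node (.leaf 1049) (.leaf 9051))))) (.node (.node (.node (.node (.leaf 2037) (.leaf 5)) (.node (.leaf 1036) (.leaf 49))) (.node (.node (.leaf 6045) (.leaf 6020)) (.node (.leaf 21) (.leaf 6050)))) (.node (.node (.node (.leaf 15005) (.leaf 2004)) (.node (.leaf 6042) (.leaf 33))) (.node (.node (.leaf 14002) (.leaf 3037)) (.node (.leaf 7019) (.leaf 7002)))))))) (.node (.node (.node (.node (.node (.node (.node (.leaf 10032) (.leaf 19)) (.node (.leaf 4004) (.leaf 4052))) (.node (.node (.leaf 7039) (.leaf 15007)) (.node (.leaf 4049) (.leaf 6018)))) (.node (.node (.node (.leaf 1046) (.leaf 8036)) (.node (.leaf 1029) (.leaf 7033))) (.node (.node (.leaf 1032) (.leaf 9013)) (.node (.leaf 4045) (.leaf 10022))))) (.node (.node (.node (.node (.leaf 10030) (.leaf 4047)) (.node (.leaf 9041)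 (.leaf 6003))) (.node (.node (.leaf 37) (.leaf 3051)) (.node (.leaf 1009) (.leaf 5038)))) (.node (.node (.node (.leaf 8004) (.leaf 8046)) (.node (.leaf 10) (.leaf 10051))) (.node (.node (.leaf 2033) (.leaf 11002)) (.node (.leaf 15004) (.leaf 5031)))))) (.node (.node (.node (.node (.node (.leaf 6046) (.leaf 6029)) (.node (.leaf 2035) (.leaf 6038))) (.node (.node (.leaf 3048) (.leaf 10014)) (.node (.leaf 5051) (.leaf 12007)))) (.node (.node (.node (.leaf 2024) (.leaf 1013)) (.node (.leaf 8050) (.leaf 1011))) (.node (.node (.leaf 1021) (.leaf 10019)) (.node (.leaf 9001) (.leaf 9027))))) (.node (.node (.node (.node (.leaf 8045) (.leaf 7005)) (.node (.leaf 11003) (.leaf 2023))) (.node (.node (.leaf 9054) (.leaf 9035)) (.node (.leaf 8037) (.leaf 4011)))) (.node (.node (.node (.leaf 5025) (.leaf 8047)) (.node (.leaf 2020) (.leaf 10001))) (.node (.node (.leaf 7021) (.leaf 1022)) (.node (.leaf 6013) (.leaf 6002))))))) (.node (.node (.node (.node (.node (.node (.leaf 7043) (.leaf 1051)) (.node (.leaf 12006) (.leaf 4006))) (.node (.node (.leaf 3) (.leaf 10053)) (.node (.leaf 1028)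 (.leaf 3042)))) (.node (.node (.node (.leaf 2039) (.leaf 1035)) (.node (.leaf 9016) (.leaf 46))) (.node (.node (.leaf 2025) (.leaf 6019)) (.node (.leaf 1014) (.leaf 5023))))) (.node (.node (.node (.node (.leaf 23) (.leaf 2)) (.node (.leaf 6026) (.leaf 5036))) (.node (.node (.leaf 1034) (.leaf 9004)) (.node (.leaf 9012) (.leaf 9046)))) (.node (.node (.node (.leaf 8044) (.leaf 15008)) (.node (.leaf 5049) (.leaf 4017))) (.node (.node (.leaf 2036) (.leaf 4038)) (.node (.leaf 7032) (.leaf 7020)))))) (.node (.node (.node (.node (.node (.leaf 9032) (.leaf 9007)) (.node (.leaf 10027) (.leaf 10016))) (.node (.node (.leaf 1003) (.leaf 3046)) (.node (.leaf 7047) (.leaf 4016)))) (.node (.node (.node (.leaf 6034) (.leaf 7018)) (.node (.leaf 13008) (.leaf 4054))) (.node (.node (.leaf 2014) (.leaf 4046)) (.node (.leaf 5024) (.leaf 8040))))) (.node (.node (.node (.node (.leaf 6039) (.leaf 5050)) (.node (.leaf 4030) (.leaf 2001))) (.node (.node (.leaf 5001) (.leaf 3026)) (.node (.leaf 9024) (.leaf 14005)))) (.node (.node (.node (.leaf 8020) (.leaf 8034)) (.node (.leaf 1005) (.leaf 12)))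 (.node (.node (.leaf 6048) (.leaf 13005)) (.node (.leaf 6007) (.leaf 4032)))))))))) (.node (.node (.node (.node (.node (.node (.node (.node (.node (.leaf 7014) (.leaf 6009)) (.node (.leaf 5013) (.leaf 10002))) (.node (.node (.leaf 9) (.leaf 10044)) (.node (.leaf 5002) (.leaf 11006)))) (.node (.node (.node (.leaf 2038) (.leaf 8052)) (.node (.leaf 10034) (.leaf 28))) (.node (.node (.leaf 9047) (.leaf 4034)) (.node (.leaf 1044) (.leaf 3043))))) (.node (.node (.node (.node (.leaf 8054) (.leaf 13002)) (.node (.leaf 7036) (.leaf 10050))) (.node (.node (.leaf 3024) (.leaf 1002)) (.node (.leaf 6004) (.leaf 7034)))) (.node (.node (.node (.leaf 6053) (.leaf 5043)) (.node (.leaf 6047) (.leaf 6051))) (.node (.node (.leaf 10040) (.leaf 15003)) (.node (.leaf 3009) (.leaf 11)))))) (.node (.node (.node (.node (.node (.leaf 3022) (.leaf 8006)) (.node (.leaf 8030) (.leaf 41))) (.node (.node (.leaf 2031) (.leaf 36)) (.node (.leaf 8012) (.leaf 10009)))) (.node (.node (.node (.leaf 9036) (.leaf 2030)) (.node (.leaf 7024) (.leaf 1053))) (.node (.node (.leaf 1039) (.leaf 1048)) (.node (.leaf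 6022) (.leaf 12005))))) (.node (.node (.node (.node (.leaf 2049) (.leaf 5032)) (.node (.leaf 6041) (.leaf 5047))) (.node (.node (.leaf 6021) (.leaf 4018)) (.node (.leaf 8017) (.leaf 8025)))) (.node (.node (.node (.leaf 1007) (.leaf 10033)) (.node (.leaf 8038) (.leaf 3013))) (.node (.node (.leaf 2018) (.leaf 7016)) (.node (.leaf 1012) (.leaf 3003))))))) (.node (.node (.node (.node (.node (.node (.leaf 7035) (.leaf 7007)) (.node (.leaf 4040) (.leaf 4012))) (.node (.node (.leaf 8035) (.leaf 6031)) (.node (.leaf 5041) (.leaf 9014)))) (.node (.node (.node (.leaf 5040) (.leaf 3025)) (.node (.leaf 1027) (.leaf 7003))) (.node (.node (.leaf 2050) (.leaf 5011)) (.node (.leaf 8031) (.leaf 4050))))) (.node (.node (.node (.node (.leaf 3007) (.leaf 4035)) (.node (.leaf 4002) (.leaf 7013))) (.node (.node (.leaf 10025) (.leaf 5005)) (.node (.leaf 2052) (.leaf 7026)))) (.node (.node (.node (.leaf 1001) (.leaf 1016)) (.node (.leaf 15006) (.leaf 8043))) (.node (.node (.leaf 10028) (.leaf 14001)) (.node (.leaf 10013) (.leaf 8049)))))) (.node (.node (.node (.node (.node (.leaf 4019) (.leaf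 4)) (.node (.leaf 10029) (.leaf 6008))) (.node (.node (.leaf 40) (.leaf 3053)) (.node (.leaf 9021) (.leaf 9019)))) (.node (.node (.node (.leaf 4042) (.leaf 1050)) (.node (.leaf 5012) (.leaf 9022))) (.node (.node (.leaf 4036) (.leaf 1006)) (.node (.leaf 5045) (.leaf 10005))))) (.node (.node (.node (.node (.leaf 3032) (.leaf 3011)) (.node (.leaf 9052) (.leaf 5010))) (.node (.node (.leaf 11009) (.leaf 6001)) (.node (.leaf 2017) (.leaf 2008)))) (.node (.node (.node (.leaf 7015) (.leaf 22)) (.node (.leaf 10037) (.leaf 6017))) (.node (.node (.leaf 7010) (.leaf 31)) (.node (.leaf 2032) (.leaf 3034)))))))) (.node (.node (.node (.node (.node (.node (.node (.leaf 13001) (.leaf 4022)) (.node (.leaf 4044) (.leaf 6033))) (.node (.node (.leaf 7022) (.leaf 3010)) (.node (.leaf 5037) (.leaf 1041)))) (.node (.node (.node (.leaf 35) (.leaf 10024)) (.node (.leaf 1015) (.leaf 5009))) (.node (.node (.leaf 7037) (.leaf 1042)) (.node (.leaf 6054) (.leaf 5004))))) (.node (.node (.node (.node (.leaf 8011) (.leaf 5035)) (.node (.leaf 2019) (.leaf 9005))) (.node (.node (.leaf 0) (.leaf 0)) (.node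 (.leaf 0) (.leaf 0)))) (.node (.node (.node (.leaf 0) (.leaf 0)) (.node (.leaf 0) (.leaf 0))) (.node (.node (.leaf 0) (.leaf 0)) (.node (.leaf 0) (.leaf 0)))))) (.node (.node (.node (.node (.node (.leaf 0) (.leaf 0)) (.node (.leaf 0) (.leaf 0))) (.node (.node (.leaf 0) (.leaf 0)) (.node (.leaf 0) (.leaf 0)))) (.node (.node (.node (.leaf 0) (.leaf 0)) (.node (.leaf 0) (.leaf 0))) (.node (.node (.leaf 0) (.leaf 0)) (.node (.leaf 0) (.leaf 0))))) (.node (.node (.node (.node (.leaf 0) (.leaf 0)) (.node (.leaf 0) (.leaf 0))) (.node (.node (.leaf 0) (.leaf 0)) (.node (.leaf 0) (.leaf 0)))) (.node (.node (.node (.leaf 0) (.leaf 0)) (.node (.leaf 0) (.leaf 0))) (.node (.node (.leaf 0) (.leaf 0)) (.node (.leaf 0) (.leaf 0))))))) (.node (.node (.node (.node (.node (.node (.leaf 0) (.leaf 0)) (.node (.leaf 0) (.leaf 0))) (.node (.node (.leaf 0) (.leaf 0)) (.node (.leaf 0) (.leaf 0)))) (.node (.node (.node (.leaf 0) (.leaf 0)) (.node (.leaf 0) (.leaf 0))) (.node (.node (.leaf 0) (.leaf 0)) (.node (.leaf 0) (.leaf 0))))) (.node (.node (.node (.node (.leaf 0) (.leaf 0)) (.node (.leaf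 0) (.leaf 0))) (.node (.node (.leaf 0) (.leaf 0)) (.node (.leaf 0) (.leaf 0)))) (.node (.node (.node (.leaf 0) (.leaf 0)) (.node (.leaf 0) (.leaf 0))) (.node (.node (.leaf 0) (.leaf 0)) (.node (.leaf 0) (.leaf 0)))))) (.node (.node (.node (.node (.node (.leaf 0) (.leaf 0)) (.node (.leaf 0) (.leaf 0))) (.node (.node (.leaf 0) (.leaf 0)) (.node (.leaf 0) (.leaf 0)))) (.node (.node (.node (.leaf 0) (.leaf 0)) (.node (.leaf 0) (.leaf 0))) (.node (.node (.leaf 0) (.leaf 0)) (.node (.leaf 0) (.leaf 0))))) (.node (.node (.node (.node (.leaf 0) (.leaf 0)) (.node (.leaf 0) (.leaf 0))) (.node (.node (.leaf 0) (.leaf 0)) (.node (.leaf 0) (.leaf 0)))) (.node (.node (.node (.leaf 0) (.leaf 0)) (.node (.leaf 0) (.leaf 0))) (.node (.node (.leaf 0) (.leaf 0)) (.node (.leaf 0) (.leaf 0))))))))) (.node (.node (.node (.node (.node (.node (.node (.node (.leaf 0) (.leaf 0)) (.node (.leaf 0) (.leaf 0))) (.node (.node (.leaf 0) (.leaf 0)) (.node (.leaf 0) (.leaf 0)))) (.node (.node (.node (.leaf 0) (.leaf 0)) (.node (.leaf 0) (.leaf 0))) (.node (.node (.leaf 0) (.leaf 0)) (.node (.leaf 0) (.leaf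 0))))) (.node (.node (.node (.node (.leaf 0) (.leaf 0)) (.node (.leaf 0) (.leaf 0))) (.node (.node (.leaf 0) (.leaf 0)) (.node (.leaf 0) (.leaf 0)))) (.node (.node (.node (.leaf 0) (.leaf 0)) (.node (.leaf 0) (.leaf 0))) (.node (.node (.leaf 0) (.leaf 0)) (.node (.leaf 0) (.leaf 0)))))) (.node (.node (.node (.node (.node (.leaf 0) (.leaf 0)) (.node (.leaf 0) (.leaf 0))) (.node (.node (.leaf 0) (.leaf 0)) (.node (.leaf 0) (.leaf 0)))) (.node (.node (.node (.leaf 0) (.leaf 0)) (.node (.leaf 0) (.leaf 0))) (.node (.node (.leaf 0) (.leaf 0)) (.node (.leaf 0) (.leaf 0))))) (.node (.node (.node (.node (.leaf 0) (.leaf 0)) (.node (.leaf 0) (.leaf 0))) (.node (.node (.leaf 0) (.leaf 0)) (.node (.leaf 0) (.leaf 0)))) (.node (.node (.node (.leaf 0) (.leaf 0)) (.node (.leaf 0) (.leaf 0))) (.node (.node (.leaf 0) (.leaf 0)) (.node (.leaf 0) (.leaf 0))))))) (.node (.node (.node (.node (.node (.node (.leaf 0) (.leaf 0)) (.node (.leaf 0) (.leaf 0))) (.node (.node (.leaf 0) (.leaf 0)) (.node (.leaf 0) (.leaf 0)))) (.node (.node (.node (.leaf 0) (.leaf 0)) (.node (.leaf 0) (.leaf 0)))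 (.node (.node (.leaf 0) (.leaf 0)) (.node (.leaf 0) (.leaf 0))))) (.node (.node (.node (.node (.leaf 0) (.leaf 0)) (.node (.leaf 0) (.leaf 0))) (.node (.node (.leaf 0) (.leaf 0)) (.node (.leaf 0) (.leaf 0)))) (.node (.node (.node (.leaf 0) (.leaf 0)) (.node (.leaf 0) (.leaf 0))) (.node (.node (.leaf 0) (.leaf 0)) (.node (.leaf 0) (.leaf 0)))))) (.node (.node (.node (.node (.node (.leaf 0) (.leaf 0)) (.node (.leaf 0) (.leaf 0))) (.node (.node (.leaf 0) (.leaf 0)) (.node (.leaf 0) (.leaf 0)))) (.node (.node (.node (.leaf 0) (.leaf 0)) (.node (.leaf 0) (.leaf 0))) (.node (.node (.leaf 0) (.leaf 0)) (.node (.leaf 0) (.leaf 0))))) (.node (.node (.node (.node (.leaf 0) (.leaf 0)) (.node (.leaf 0) (.leaf 0))) (.node (.node (.leaf 0) (.leaf 0)) (.node (.leaf 0) (.leaf 0)))) (.node (.node (.node (.leaf 0) (.leaf 0)) (.node (.leaf 0) (.leaf 0))) (.node (.node (.leaf 0) (.leaf 0)) (.node (.leaf 0) (.leaf 0)))))))) (.node (.node (.node (.node (.node (.node (.node (.leaf 0) (.leaf 0)) (.node (.leaf 0) (.leaf 0))) (.node (.node (.leaf 0) (.leaf 0)) (.node (.leaf 0) (.leaf 0)))) (.node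 (.node (.node (.leaf 0) (.leaf 0)) (.node (.leaf 0) (.leaf 0))) (.node (.node (.leaf 0) (.leaf 0)) (.node (.leaf 0) (.leaf 0))))) (.node (.node (.node (.node (.leaf 0) (.leaf 0)) (.node (.leaf 0) (.leaf 0))) (.node (.node (.leaf 0) (.leaf 0)) (.node (.leaf 0) (.leaf 0)))) (.node (.node (.node (.leaf 0) (.leaf 0)) (.node (.leaf 0) (.leaf 0))) (.node (.node (.leaf 0) (.leaf 0)) (.node (.leaf 0) (.leaf 0)))))) (.node (.node (.node (.node (.node (.leaf 0) (.leaf 0)) (.node (.leaf 0) (.leaf 0))) (.node (.node (.leaf 0) (.leaf 0)) (.node (.leaf 0) (.leaf 0)))) (.node (.node (.node (.leaf 0) (.leaf 0)) (.node (.leaf 0) (.leaf 0))) (.node (.node (.leaf 0) (.leaf 0)) (.node (.leaf 0) (.leaf 0))))) (.node (.node (.node (.node (.leaf 0) (.leaf 0)) (.node (.leaf 0) (.leaf 0))) (.node (.node (.leaf 0) (.leaf 0)) (.node (.leaf 0) (.leaf 0)))) (.node (.node (.node (.leaf 0) (.leaf 0)) (.node (.leaf 0) (.leaf 0))) (.node (.node (.leaf 0) (.leaf 0)) (.node (.leaf 0) (.leaf 0))))))) (.node (.node (.node (.node (.node (.node (.leaf 0) (.leaf 0)) (.node (.leaf 0) (.leaf 0))) (.node (.node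 (.leaf 0) (.leaf 0)) (.node (.leaf 0) (.leaf 0)))) (.node (.node (.node (.leaf 0) (.leaf 0)) (.node (.leaf 0) (.leaf 0))) (.node (.node (.leaf 0) (.leaf 0)) (.node (.leaf 0) (.leaf 0))))) (.node (.node (.node (.node (.leaf 0) (.leaf 0)) (.node (.leaf 0) (.leaf 0))) (.node (.node (.leaf 0) (.leaf 0)) (.node (.leaf 0) (.leaf 0)))) (.node (.node (.node (.leaf 0) (.leaf 0)) (.node (.leaf 0) (.leaf 0))) (.node (.node (.leaf 0) (.leaf 0)) (.node (.leaf 0) (.leaf 0)))))) (.node (.node (.node (.node (.node (.leaf 0) (.leaf 0)) (.node (.leaf 0) (.leaf 0))) (.node (.node (.leaf 0) (.leaf 0)) (.node (.leaf 0) (.leaf 0)))) (.node (.node (.node (.leaf 0) (.leaf 0)) (.node (.leaf 0) (.leaf 0))) (.node (.node (.leaf 0) (.leaf 0)) (.node (.leaf 0) (.leaf 0))))) (.node (.node (.node (.node (.leaf 0) (.leaf 0)) (.node (.leaf 0) (.leaf 0))) (.node (.node (.leaf 0) (.leaf 0)) (.node (.leaf 0) (.leaf 0)))) (.node (.node (.node (.leaf 0) (.leaf 0)) (.node (.leaf 0) (.leaf 0))) (.node (.node (.leaf 0) (.leaf 0)) (.node (.leaf 0) (.leaf 0)))))))))))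

/-- Elements of `K` moved into `K`. -/
def hList4 : List ℕ :=
  [0, 6492, 11171, 13292, 32059, 38481, 48329, 54219, 82351, 112305, 119604, 132044, 141228, 161384, 171286, 179063, 191160, 229283, 260233, 268029, 301550, 314541, 319183, 336369, 345024, 354499, 361349, 368565, 370651, 372636, 383610, 391582, 404215, 415262, 432163, 437572, 445214, 456430, 458449, 471400, 491042, 492485, 508345, 510071, 518073, 541577, 542309, 558508, 560238, 573093, 574601, 580337, 595175, 606084, 607537, 618327, 629502, 638493, 641413, 650488]

/-- Orbit representatives with their orders. -/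
def repList4 : List ℕ :=
  [19, 106, 206, 310, 415, 519, 610, 805, 1205, 1502, 1815, 2107, 2506, 2819, 4610, 6002, 7810, 19815]

/-- Orbit of each element. -/
def orbTree4 : NTree :=
  (.node (.node (.node (.node (.node (.node (.node (.node (.node (.node (.leaf 0) (.leaf 1000)) (.node (.leaf 2000) (.leaf 3000))) (.node (.node (.leaf 4000) (.leaf 5000)) (.node (.leaf 6000) (.leaf 2013)))) (.node (.node (.node (.leaf 7000) (.leaf 59)) (.node (.leaf 5007) (.leaf 47))) (.node (.node (.leaf 8000) (.leaf 1015)) (.node (.leaf 2029) (.leaf 9000))))) (.node (.node (.node (.node (.leaf 1032) (.leaf 4)) (.node (.leaf 10000) (.leaf 1031))) (.node (.node (.leaf 10058) (.leaf 11000)) (.node (.leaf 1005) (.leaf 3021)))) (.node (.node (.node (.leaf 4023) (.leaf 12000)) (.node (.leaf 5059) (.leaf 6011))) (.node (.node (.leaf 13000) (.leaf 11053)) (.node (.leaf 11034) (.leaf 6023)))))) (.node (.node (.node (.node (.node (.leaf 2050) (.leaf 13033)) (.node (.leaf 5058) (.leaf 10022))) (.node (.node (.leaf 4003) (.leaf 2024)) (.node (.leaf 2059) (.leaf 54)))) (.node (.node (.node (.leaf 5023)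 (.leaf 5034)) (.node (.leaf 1035) (.leaf 6003))) (.node (.node (.leaf 2018) (.leaf 25)) (.node (.leaf 14000) (.leaf 10053))))) (.node (.node (.node (.node (.leaf 14011) (.leaf 12)) (.node (.leaf 7017) (.leaf 14034))) (.node (.node (.leaf 10033) (.leaf 51)) (.node (.leaf 13053) (.leaf 12016)))) (.node (.node (.node (.leaf 7021) (.leaf 6017)) (.node (.leaf 7002) (.leaf 2043))) (.node (.node (.leaf 15000) (.leaf 4042)) (.node (.leaf 27) (.leaf 11033))))))) (.node (.node (.node (.node (.node (.node (.leaf 14025) (.leaf 13016)) (.node (.leaf 3013) (.leaf 13051))) (.node (.node (.leaf 11016) (.leaf 40)) (.node (.leaf 4017) (.leaf 5031)))) (.node (.node (.node (.leaf 7015) (.leaf 11038)) (.node (.leaf 4034) (.leaf 13050))) (.node (.node (.leaf 1053) (.leaf 5033)) (.node (.leaf 16000) (.leaf 4045))))) (.node (.node (.node (.node (.leaf 14018) (.leaf 14003)) (.node (.leaf 1058) (.leaf 6009))) (.node (.node (.leaf 45) (.leaf 12021)) (.node (.leaf 5) (.leaf 6013)))) (.node (.node (.node (.leaf 6036) (.leaf 10035)) (.node (.leaf 1045) (.leaf 16005))) (.node (.node (.leaf 1040) (.leaf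 10003)) (.node (.leaf 3) (.leaf 4001)))))) (.node (.node (.node (.node (.node (.leaf 11001) (.leaf 5019)) (.node (.leaf 6014) (.leaf 13034))) (.node (.node (.leaf 10047) (.leaf 53)) (.node (.leaf 4055) (.leaf 5030)))) (.node (.node (.node (.leaf 5038) (.leaf 7020)) (.node (.leaf 13037) (.leaf 1049))) (.node (.node (.leaf 5028) (.leaf 1011)) (.node (.leaf 1003) (.leaf 13027))))) (.node (.node (.node (.node (.leaf 13017) (.leaf 5045)) (.node (.leaf 10018) (.leaf 10009))) (.node (.node (.leaf 2017) (.leaf 4030)) (.node (.leaf 1014) (.leaf 14030)))) (.node (.node (.node (.leaf 9) (.leaf 1050)) (.node (.leaf 2039) (.leaf 11017))) (.node (.node (.leaf 14033) (.leaf 10037)) (.node (.leaf 11051) (.leaf 6005)))))))) (.node (.node (.node (.node (.node (.node (.node (.leaf 11046) (.leaf 7046)) (.node (.leaf 16006) (.leaf 6008))) (.node (.node (.leaf 2023) (.leaf 16029)) (.node (.leaf 14026) (.leaf 10038)))) (.node (.node (.node (.leaf 9013) (.leaf 10027)) (.node (.leaf 4038) (.leaf 4035))) (.node (.node (.leaf 14014) (.leaf 4058)) (.node (.leaf 5049) (.leaf 5044))))) (.node (.node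 (.node (.node (.leaf 7045) (.leaf 10002)) (.node (.leaf 1024) (.leaf 12027))) (.node (.node (.leaf 2036) (.leaf 1042)) (.node (.leaf 2048) (.leaf 13001)))) (.node (.node (.node (.leaf 11012) (.leaf 2045)) (.node (.leaf 4006) (.leaf 6024))) (.node (.node (.leaf 10051) (.leaf 5018)) (.node (.leaf 2014) (.leaf 5041)))))) (.node (.node (.node (.node (.node (.leaf 2006) (.leaf 14020)) (.node (.leaf 2005) (.leaf 11015))) (.node (.node (.leaf 14044) (.leaf 11052)) (.node (.leaf 10028) (.leaf 2028)))) (.node (.node (.node (.leaf 9024) (.leaf 10057)) (.node (.leaf 11003) (.leaf 42))) (.node (.node (.leaf 5001) (.leaf 1041)) (.node (.leaf 11041) (.leaf 10048))))) (.node (.node (.node (.node (.leaf 10) (.leaf 13055)) (.node (.leaf 11030) (.leaf 11037))) (.node (.node (.leaf 2041) (.leaf 8009)) (.node (.leaf 12004) (.leaf 7011)))) (.node (.node (.node (.leaf 9018) (.leaf 6006)) (.node (.leaf 8) (.leaf 2049))) (.node (.node (.leaf 9034) (.leaf 4059)) (.node (.leaf 2025) (.leaf 2044))))))) (.node (.node (.node (.node (.node (.node (.leaf 2022) (.leaf 11057)) (.node (.leaf 2008) (.leaf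 10042))) (.node (.node (.leaf 2046) (.leaf 12003)) (.node (.leaf 17000) (.leaf 37)))) (.node (.node (.node (.leaf 13) (.leaf 14008)) (.node (.leaf 10059) (.leaf 2031))) (.node (.node (.leaf 1052) (.leaf 2004)) (.node (.leaf 14015) (.leaf 17004))))) (.node (.node (.node (.node (.leaf 52) (.leaf 5020)) (.node (.leaf 11021) (.leaf 17002))) (.node (.node (.leaf 13026) (.leaf 1029)) (.node (.leaf 10012) (.leaf 5008)))) (.node (.node (.node (.leaf 9004) (.leaf 43)) (.node (.leaf 13002) (.leaf 13013))) (.node (.node (.leaf 5042) (.leaf 17005)) (.node (.leaf 10029) (.leaf 2009)))))) (.node (.node (.node (.node (.node (.leaf 7003) (.leaf 2035)) (.node (.leaf 32) (.leaf 1054))) (.node (.node (.leaf 4057) (.leaf 4015)) (.node (.leaf 7014) (.leaf 5040)))) (.node (.node (.node (.leaf 14006) (.leaf 5005)) (.node (.leaf 13032) (.leaf 5047))) (.node (.node (.leaf 13020) (.leaf 34)) (.node (.leaf 5010) (.leaf 13028))))) (.node (.node (.node (.node (.leaf 8010) (.leaf 2020)) (.node (.leaf 5032) (.leaf 5054))) (.node (.node (.leaf 4019) (.leaf 4011)) (.node (.leaf 1034) (.leaf 2016))))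 (.node (.node (.node (.leaf 16004) (.leaf 12008)) (.node (.leaf 2002) (.leaf 44))) (.node (.node (.leaf 1026) (.leaf 11007)) (.node (.leaf 13025) (.leaf 4049))))))))) (.node (.node (.node (.node (.node (.node (.node (.node (.leaf 2019) (.leaf 5015)) (.node (.leaf 5003) (.leaf 1013))) (.node (.node (.leaf 5024) (.leaf 17023)) (.node (.leaf 13044) (.leaf 55)))) (.node (.node (.node (.leaf 4020) (.leaf 5011)) (.node (.leaf 14002) (.leaf 3025))) (.node (.node (.leaf 11023) (.leaf 11029)) (.node (.leaf 13024) (.leaf 11022))))) (.node (.node (.node (.node (.leaf 39) (.leaf 4027)) (.node (.leaf 11018) (.leaf 7032))) (.node (.node (.leaf 4053) (.leaf 16007)) (.node (.leaf 10041) (.leaf 6010)))) (.node (.node (.node (.leaf 17001) (.leaf 7024)) (.node (.leaf 10039) (.leaf 4013))) (.node (.node (.leaf 3029) (.leaf 4046)) (.node (.leaf 24) (.leaf 10005)))))) (.node (.node (.node (.node (.node (.leaf 11008) (.leaf 13022)) (.node (.leaf 11014) (.leaf 5039))) (.node (.node (.leaf 1007) (.leaf 3016)) (.node (.leaf 1001) (.leaf 14029)))) (.node (.node (.node (.leaf 16001) (.leaf 10014))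 (.node (.leaf 7018) (.leaf 12037))) (.node (.node (.leaf 14004) (.leaf 1056)) (.node (.leaf 1047) (.leaf 14016))))) (.node (.node (.node (.node (.leaf 11027) (.leaf 13057)) (.node (.leaf 13047) (.leaf 11))) (.node (.node (.leaf 7010) (.leaf 10040)) (.node (.leaf 11054) (.leaf 5043)))) (.node (.node (.node (.leaf 11002) (.leaf 5002)) (.node (.leaf 7008) (.leaf 6019))) (.node (.node (.leaf 13008) (.leaf 13012)) (.node (.leaf 15) (.leaf 7009))))))) (.node (.node (.node (.node (.node (.node (.leaf 1051) (.leaf 17007)) (.node (.leaf 11035) (.leaf 7027))) (.node (.node (.leaf 8002) (.leaf 26)) (.node (.leaf 14001) (.leaf 8004)))) (.node (.node (.node (.leaf 2053) (.leaf 14007)) (.node (.leaf 14005) (.leaf 1012))) (.node (.node (.leaf 30) (.leaf 17013)) (.node (.leaf 10006) (.leaf 7028))))) (.node (.node (.node (.node (.leaf 1028) (.leaf 17025)) (.node (.leaf 10010) (.leaf 28))) (.node (.node (.leaf 1057) (.leaf 10052)) (.node (.leaf 7005) (.leaf 1055)))) (.node (.node (.node (.leaf 1022) (.leaf 4039)) (.node (.leaf 1036) (.leaf 5017))) (.node (.node (.leaf 5037) (.leaf 13023))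 (.node (.leaf 58) (.leaf 1027)))))) (.node (.node (.node (.node (.node (.leaf 17010) (.leaf 4050)) (.node (.leaf 6001) (.leaf 3010))) (.node (.node (.leaf 13040) (.leaf 4054)) (.node (.leaf 1030) (.leaf 5013)))) (.node (.node (.node (.leaf 13049) (.leaf 13041)) (.node (.leaf 13059) (.leaf 11006))) (.node (.node (.leaf 17021) (.leaf 4004)) (.node (.leaf 9022) (.leaf 11004))))) (.node (.node (.node (.node (.leaf 11059) (.leaf 1059)) (.node (.leaf 5025) (.leaf 7006))) (.node (.node (.leaf 1) (.leaf 10024)) (.node (.leaf 2012) (.leaf 5050)))) (.node (.node (.node (.leaf 5027) (.leaf 9016)) (.node (.leaf 9010) (.leaf 11031))) (.node (.node (.leaf 1048) (.leaf 4008)) (.node (.leaf 3026) (.leaf 13045)))))))) (.node (.node (.node (.node (.node (.node (.node (.leaf 14037) (.leaf 3006)) (.node (.leaf 17035) (.leaf 11013))) (.node (.node (.leaf 8013) (.leaf 6007)) (.node (.leaf 12017) (.leaf 11050)))) (.node (.node (.node (.leaf 4036) (.leaf 2001)) (.node (.leaf 6020) (.leaf 16009))) (.node (.node (.leaf 2057) (.leaf 4014)) (.node (.leaf 11047) (.leaf 48))))) (.node (.node (.node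 (.node (.leaf 10046) (.leaf 10054)) (.node (.leaf 13036) (.leaf 2051))) (.node (.node (.leaf 5022) (.leaf 10016)) (.node (.leaf 13018) (.leaf 10056)))) (.node (.node (.node (.leaf 10015) (.leaf 11025)) (.node (.leaf 13021) (.leaf 46))) (.node (.node (.leaf 13046) (.leaf 1017)) (.node (.leaf 11055) (.leaf 13038)))))) (.node (.node (.node (.node (.node (.leaf 2033) (.leaf 4012)) (.node (.leaf 12036) (.leaf 6029))) (.node (.node (.leaf 10049) (.leaf 1046)) (.node (.leaf 13019) (.leaf 1043)))) (.node (.node (.node (.leaf 14048) (.leaf 33)) (.node (.leaf 1004) (.leaf 13042))) (.node (.node (.leaf 7038) (.leaf 6015)) (.node (.leaf 13056) (.leaf 14013))))) (.node (.node (.node (.node (.leaf 11044) (.leaf 2058)) (.node (.leaf 2007) (.leaf 11028))) (.node (.node (.leaf 2010) (.leaf 2)) (.node (.leaf 5046) (.leaf 6035)))) (.node (.node (.node (.leaf 12006) (.leaf 2040)) (.node (.leaf 4005) (.leaf 6004))) (.node (.node (.leaf 14041) (.leaf 10019)) (.node (.leaf 16003) (.leaf 13054))))))) (.node (.node (.node (.node (.node (.node (.leaf 9012) (.leaf 4044)) (.node (.leaf 16002) (.leaf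 10008))) (.node (.node (.leaf 13003) (.leaf 1020)) (.node (.leaf 2003) (.leaf 2034)))) (.node (.node (.node (.leaf 13035) (.leaf 1025)) (.node (.leaf 4033) (.leaf 17008))) (.node (.node (.leaf 10007) (.leaf 4051)) (.node (.leaf 17026) (.leaf 4052))))) (.node (.node (.node (.node (.leaf 6026) (.leaf 1010)) (.node (.leaf 13011) (.leaf 13006))) (.node (.node (.leaf 11040) (.leaf 10050)) (.node (.leaf 12002) (.leaf 10036)))) (.node (.node (.node (.leaf 13029) (.leaf 5055)) (.node (.leaf 2042) (.leaf 7023))) (.node (.node (.leaf 12019) (.leaf 16)) (.node (.leaf 1002) (.leaf 6018)))))) (.node (.node (.node (.node (.node (.leaf 5053) (.leaf 2030)) (.node (.leaf 10004) (.leaf 11024))) (.node (.node (.leaf 11043) (.leaf 6032)) (.node (.leaf 12010) (.leaf 1016)))) (.node (.node (.node (.leaf 10025) (.leaf 12026)) (.node (.leaf 17014) (.leaf 1039))) (.node (.node (.leaf 6002) (.leaf 17003)) (.node (.leaf 1019) (.leaf 7))))) (.node (.node (.node (.node (.leaf 7013) (.leaf 20)) (.node (.leaf 13004) (.leaf 6016))) (.node (.node (.leaf 3001) (.leaf 13014)) (.node (.leaf 2055) (.leaf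 11045)))) (.node (.node (.node (.leaf 13010) (.leaf 10045)) (.node (.leaf 5016) (.leaf 4048))) (.node (.node (.leaf 4056) (.leaf 14009)) (.node (.leaf 5014) (.leaf 11011)))))))))) (.node (.node (.node (.node (.node (.node (.node (.node (.node (.leaf 2038) (.leaf 11005)) (.node (.leaf 2054) (.leaf 10032))) (.node (.node (.leaf 4040) (.leaf 2021)) (.node (.leaf 11032) (.leaf 12001)))) (.node (.node (.node (.leaf 1023) (.leaf 4037)) (.node (.leaf 11042) (.leaf 2056))) (.node (.node (.leaf 13052) (.leaf 35)) (.node (.leaf 12014) (.leaf 5021))))) (.node (.node (.node (.node (.leaf 11010) (.leaf 6025)) (.node (.leaf 13058) (.leaf 49))) (.node (.node (.leaf 5004) (.leaf 10031)) (.node (.leaf 4032) (.leaf 1006)))) (.node (.node (.node (.leaf 3002) (.leaf 5051)) (.node (.leaf 11056) (.leaf 8001))) (.node (.node (.leaf 4026) (.leaf 7004)) (.node (.leaf 10011) (.leaf 13015)))))) (.node (.node (.node (.node (.node (.leaf 5035) (.leaf 29)) (.node (.leaf 50) (.leaf 19))) (.node (.node (.leaf 11048) (.leaf 11026)) (.node (.leaf 1037) (.leaf 14023)))) (.node (.node (.node (.leaf 4010)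 (.leaf 4025)) (.node (.leaf 6044) (.leaf 4018))) (.node (.node (.leaf 1008) (.leaf 7001)) (.node (.leaf 4028) (.leaf 13007))))) (.node (.node (.node (.node (.leaf 5012) (.leaf 13005)) (.node (.leaf 16014) (.leaf 10044))) (.node (.node (.leaf 5048) (.leaf 11009)) (.node (.leaf 13048) (.leaf 5057)))) (.node (.node (.node (.leaf 9006) (.leaf 11020)) (.node (.leaf 4002) (.leaf 4007))) (.node (.node (.leaf 14) (.leaf 10043)) (.node (.leaf 2032) (.leaf 12029))))))) (.node (.node (.node (.node (.node (.node (.leaf 23) (.leaf 7019)) (.node (.leaf 2011) (.leaf 36))) (.node (.node (.leaf 17015) (.leaf 7007)) (.node (.leaf 11049) (.leaf 4022)))) (.node (.node (.node (.leaf 3014) (.leaf 5036)) (.node (.leaf 1018) (.leaf 7012))) (.node (.node (.leaf 5056) (.leaf 13009)) (.node (.leaf 5026) (.leaf 13030))))) (.node (.node (.node (.node (.leaf 11039) (.leaf 2052)) (.node (.leaf 4047) (.leaf 10020))) (.node (.node (.leaf 7037) (.leaf 38)) (.node (.leaf 10021) (.leaf 31)))) (.node (.node (.node (.leaf 9001) (.leaf 2026)) (.node (.leaf 9009) (.leaf 12009))) (.node (.node (.leaf 14027)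 (.leaf 16019)) (.node (.leaf 21) (.leaf 5029)))))) (.node (.node (.node (.node (.node (.leaf 13031) (.leaf 2027)) (.node (.leaf 13039) (.leaf 1038))) (.node (.node (.leaf 6012) (.leaf 4043)) (.node (.leaf 10023) (.leaf 11019)))) (.node (.node (.node (.leaf 8006) (.leaf 11058)) (.node (.leaf 8023) (.leaf 5009))) (.node (.node (.leaf 10001) (.leaf 4029)) (.node (.leaf 1009) (.leaf 10017))))) (.node (.node (.node (.node (.leaf 18) (.leaf 9002)) (.node (.leaf 10055) (.leaf 17009))) (.node (.node (.leaf 22) (.leaf 2037)) (.node (.leaf 57) (.leaf 4031)))) (.node (.node (.node (.leaf 17) (.leaf 14010)) (.node (.leaf 11036) (.leaf 10013))) (.node (.node (.leaf 41) (.leaf 1044)) (.node (.leaf 17033) (.leaf 56)))))))) (.node (.node (.node (.node (.node (.node (.node (.leaf 6) (.leaf 1033)) (.node (.leaf 4021) (.leaf 9008))) (.node (.node (.leaf 10034) (.leaf 5006)) (.node (.leaf 4041) (.leaf 2015)))) (.node (.node (.node (.leaf 12013) (.leaf 4024)) (.node (.leaf 10030) (.leaf 5052))) (.node (.node (.leaf 4016) (.leaf 8008)) (.node (.leaf 17006) (.leaf 1021))))) (.node (.node (.node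 (.node (.leaf 2047) (.leaf 13043)) (.node (.leaf 10026) (.leaf 4009))) (.node (.node (.leaf 0) (.leaf 0)) (.node (.leaf 0) (.leaf 0)))) (.node (.node (.node (.leaf 0) (.leaf 0)) (.node (.leaf 0) (.leaf 0))) (.node (.node (.leaf 0) (.leaf 0)) (.node (.leaf 0) (.leaf 0)))))) (.node (.node (.node (.node (.node (.leaf 0) (.leaf 0)) (.node (.leaf 0) (.leaf 0))) (.node (.node (.leaf 0) (.leaf 0)) (.node (.leaf 0) (.leaf 0)))) (.node (.node (.node (.leaf 0) (.leaf 0)) (.node (.leaf 0) (.leaf 0))) (.node (.node (.leaf 0) (.leaf 0)) (.node (.leaf 0) (.leaf 0))))) (.node (.node (.node (.node (.leaf 0) (.leaf 0)) (.node (.leaf 0) (.leaf 0))) (.node (.node (.leaf 0) (.leaf 0)) (.node (.leaf 0) (.leaf 0)))) (.node (.node (.node (.leaf 0) (.leaf 0)) (.node (.leaf 0) (.leaf 0))) (.node (.node (.leaf 0) (.leaf 0)) (.node (.leaf 0) (.leaf 0))))))) (.node (.node (.node (.node (.node (.node (.leaf 0) (.leaf 0)) (.node (.leaf 0) (.leaf 0))) (.node (.node (.leaf 0) (.leaf 0)) (.node (.leaf 0) (.leaf 0)))) (.node (.node (.node (.leaf 0) (.leaf 0)) (.node (.leaf 0) (.leaf 0))) (.node (.node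 (.leaf 0) (.leaf 0)) (.node (.leaf 0) (.leaf 0))))) (.node (.node (.node (.node (.leaf 0) (.leaf 0)) (.node (.leaf 0) (.leaf 0))) (.node (.node (.leaf 0) (.leaf 0)) (.node (.leaf 0) (.leaf 0)))) (.node (.node (.node (.leaf 0) (.leaf 0)) (.node (.leaf 0) (.leaf 0))) (.node (.node (.leaf 0) (.leaf 0)) (.node (.leaf 0) (.leaf 0)))))) (.node (.node (.node (.node (.node (.leaf 0) (.leaf 0)) (.node (.leaf 0) (.leaf 0))) (.node (.node (.leaf 0) (.leaf 0)) (.node (.leaf 0) (.leaf 0)))) (.node (.node (.node (.leaf 0) (.leaf 0)) (.node (.leaf 0) (.leaf 0))) (.node (.node (.leaf 0) (.leaf 0)) (.node (.leaf 0) (.leaf 0))))) (.node (.node (.node (.node (.leaf 0) (.leaf 0)) (.node (.leaf 0) (.leaf 0))) (.node (.node (.leaf 0) (.leaf 0)) (.node (.leaf 0) (.leaf 0)))) (.node (.node (.node (.leaf 0) (.leaf 0)) (.node (.leaf 0) (.leaf 0))) (.node (.node (.leaf 0) (.leaf 0)) (.node (.leaf 0) (.leaf 0))))))))) (.node (.node (.node (.node (.node (.node (.node (.node (.leaf 0) (.leaf 0)) (.node (.leaf 0) (.leaf 0))) (.node (.node (.leaf 0) (.leaf 0)) (.node (.leaf 0) (.leaf 0)))) (.node (.node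 (.node (.leaf 0) (.leaf 0)) (.node (.leaf 0) (.leaf 0))) (.node (.node (.leaf 0) (.leaf 0)) (.node (.leaf 0) (.leaf 0))))) (.node (.node (.node (.node (.leaf 0) (.leaf 0)) (.node (.leaf 0) (.leaf 0))) (.node (.node (.leaf 0) (.leaf 0)) (.node (.leaf 0) (.leaf 0)))) (.node (.node (.node (.leaf 0) (.leaf 0)) (.node (.leaf 0) (.leaf 0))) (.node (.node (.leaf 0) (.leaf 0)) (.node (.leaf 0) (.leaf 0)))))) (.node (.node (.node (.node (.node (.leaf 0) (.leaf 0)) (.node (.leaf 0) (.leaf 0))) (.node (.node (.leaf 0) (.leaf 0)) (.node (.leaf 0) (.leaf 0)))) (.node (.node (.node (.leaf 0) (.leaf 0)) (.node (.leaf 0) (.leaf 0))) (.node (.node (.leaf 0) (.leaf 0)) (.node (.leaf 0) (.leaf 0))))) (.node (.node (.node (.node (.leaf 0) (.leaf 0)) (.node (.leaf 0) (.leaf 0))) (.node (.node (.leaf 0) (.leaf 0)) (.node (.leaf 0) (.leaf 0)))) (.node (.node (.node (.leaf 0) (.leaf 0)) (.node (.leaf 0) (.leaf 0))) (.node (.node (.leaf 0) (.leaf 0)) (.node (.leaf 0) (.leaf 0))))))) (.node (.node (.node (.node (.node (.node (.leaf 0) (.leaf 0)) (.node (.leaf 0) (.leaf 0))) (.node (.node (.leaf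 0) (.leaf 0)) (.node (.leaf 0) (.leaf 0)))) (.node (.node (.node (.leaf 0) (.leaf 0)) (.node (.leaf 0) (.leaf 0))) (.node (.node (.leaf 0) (.leaf 0)) (.node (.leaf 0) (.leaf 0))))) (.node (.node (.node (.node (.leaf 0) (.leaf 0)) (.node (.leaf 0) (.leaf 0))) (.node (.node (.leaf 0) (.leaf 0)) (.node (.leaf 0) (.leaf 0)))) (.node (.node (.node (.leaf 0) (.leaf 0)) (.node (.leaf 0) (.leaf 0))) (.node (.node (.leaf 0) (.leaf 0)) (.node (.leaf 0) (.leaf 0)))))) (.node (.node (.node (.node (.node (.leaf 0) (.leaf 0)) (.node (.leaf 0) (.leaf 0))) (.node (.node (.leaf 0) (.leaf 0)) (.node (.leaf 0) (.leaf 0)))) (.node (.node (.node (.leaf 0) (.leaf 0)) (.node (.leaf 0) (.leaf 0))) (.node (.node (.leaf 0) (.leaf 0)) (.node (.leaf 0) (.leaf 0))))) (.node (.node (.node (.node (.leaf 0) (.leaf 0)) (.node (.leaf 0) (.leaf 0))) (.node (.node (.leaf 0) (.leaf 0)) (.node (.leaf 0) (.leaf 0)))) (.node (.node (.node (.leaf 0) (.leaf 0)) (.node (.leaf 0) (.leaf 0))) (.node (.node (.leaf 0) (.leaf 0)) (.node (.leaf 0) (.leaf 0)))))))) (.node (.node (.node (.node (.node (.node (.node (.leaf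 0) (.leaf 0)) (.node (.leaf 0) (.leaf 0))) (.node (.node (.leaf 0) (.leaf 0)) (.node (.leaf 0) (.leaf 0)))) (.node (.node (.node (.leaf 0) (.leaf 0)) (.node (.leaf 0) (.leaf 0))) (.node (.node (.leaf 0) (.leaf 0)) (.node (.leaf 0) (.leaf 0))))) (.node (.node (.node (.node (.leaf 0) (.leaf 0)) (.node (.leaf 0) (.leaf 0))) (.node (.node (.leaf 0) (.leaf 0)) (.node (.leaf 0) (.leaf 0)))) (.node (.node (.node (.leaf 0) (.leaf 0)) (.node (.leaf 0) (.leaf 0))) (.node (.node (.leaf 0) (.leaf 0)) (.node (.leaf 0) (.leaf 0)))))) (.node (.node (.node (.node (.node (.leaf 0) (.leaf 0)) (.node (.leaf 0) (.leaf 0))) (.node (.node (.leaf 0) (.leaf 0)) (.node (.leaf 0) (.leaf 0)))) (.node (.node (.node (.leaf 0) (.leaf 0)) (.node (.leaf 0) (.leaf 0))) (.node (.node (.leaf 0) (.leaf 0)) (.node (.leaf 0) (.leaf 0))))) (.node (.node (.node (.node (.leaf 0) (.leaf 0)) (.node (.leaf 0) (.leaf 0))) (.node (.node (.leaf 0) (.leaf 0)) (.node (.leaf 0) (.leaf 0)))) (.node (.node (.node (.leaf 0) (.leaf 0)) (.node (.leaf 0) (.leaf 0))) (.node (.node (.leaf 0) (.leaf 0)) (.node (.leaf 0) (.leaf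 0))))))) (.node (.node (.node (.node (.node (.node (.leaf 0) (.leaf 0)) (.node (.leaf 0) (.leaf 0))) (.node (.node (.leaf 0) (.leaf 0)) (.node (.leaf 0) (.leaf 0)))) (.node (.node (.node (.leaf 0) (.leaf 0)) (.node (.leaf 0) (.leaf 0))) (.node (.node (.leaf 0) (.leaf 0)) (.node (.leaf 0) (.leaf 0))))) (.node (.node (.node (.node (.leaf 0) (.leaf 0)) (.node (.leaf 0) (.leaf 0))) (.node (.node (.leaf 0) (.leaf 0)) (.node (.leaf 0) (.leaf 0)))) (.node (.node (.node (.leaf 0) (.leaf 0)) (.node (.leaf 0) (.leaf 0))) (.node (.node (.leaf 0) (.leaf 0)) (.node (.leaf 0) (.leaf 0)))))) (.node (.node (.node (.node (.node (.leaf 0) (.leaf 0)) (.node (.leaf 0) (.leaf 0))) (.node (.node (.leaf 0) (.leaf 0)) (.node (.leaf 0) (.leaf 0)))) (.node (.node (.node (.leaf 0) (.leaf 0)) (.node (.leaf 0) (.leaf 0))) (.node (.node (.leaf 0) (.leaf 0)) (.node (.leaf 0) (.leaf 0))))) (.node (.node (.node (.node (.leaf 0) (.leaf 0)) (.node (.leaf 0) (.leaf 0))) (.node (.node (.leaf 0) (.leaf 0)) (.node (.leaf 0) (.leaf 0)))) (.node (.node (.node (.leaf 0) (.leaf 0)) (.node (.leaf 0) (.leaf 0)))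 (.node (.node (.leaf 0) (.leaf 0)) (.node (.leaf 0) (.leaf 0)))))))))))

/-- Words with the maximal orders. -/
def witnessList : List ℕ :=
  [7906, 107, 710, 2511, 1886815, 6719]

/-- The first generator of `K`. -/
def codeKA : ℕ := 64784004624209959424027547915657384855870906562786958587719

/-- The second generator of `K`. -/
def codeKB : ℕ := 9594347019925375324632109963677608098393469975926614208550

/-- `jankoX`. -/
def codeX : ℕ := 397528445359450111623404940514766352372066718580752

/-- `jankoY`. -/
def codeY : ℕ := 7480991916830962229115210795734213009165743696062808893992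

end CfsgLib.Recog.JankoOne
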