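import Cfsg.Agent.Lib.Recog.LThreeThreeCheck

/-!
# Class representatives of `SL(3, 3)` and their centralisers
-/

set_option autoImplicit false
set_option maxRecDepth 100000

namespace CfsgLib.Recog.LThreeClasses

open CfsgLib.Recog.LThreeThree

/-- The matrix with a given code. -/
def dec (n : Nat) : M3 :=
  ⟨n / 6561 % 3, n / 2187 % 3, n / 729 % 3, n / 243 % 3, n / 81 % 3, n / 27 % 3, n / 9 % 3,
    n / 3 % 3, n % 3⟩

/-- The code of a matrix. -/
def enc (x : M3) : Nat :=
  x.a * 6561 + x.b * 2187 + x.c * 729 + x.d * 243 + x.e * 81 + x.f * 27 + x.g * 9 + x.h * 3 + x.i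

/-- Representatives: order, size of the centraliser, code, code of the inverse. -/
def reps : List (Nat × Nat × Nat × Nat) := [(4, 8, 828, 1548), (6, 6, 829, 8109), (3, 54, 830, 14670), (3, 9, 833, 16857), (8, 8, 858, 17343), (13, 13, 859, 4221), (13, 13, 860, 10782), (13, 13, 861, 12969), (13, 13, 862, 19530), (8, 8, 863, 6408), (2, 48, 900, 900)]

/-- The centralisers. -/
def cents : List (List Nat) :=
  [[828, 1548, 6643, 7471, 8191, 13205, 14033, 14753],
   [829, 1550, 6643, 8109, 13205, 13950],
   [830, 1127, 1343, 1549, 1846, 2062, 3020, 3317, 3533, 3739, 4036, 4252, 5210, 5507, 5723, 5929, 6226, 6442, 6643, 6940, 7156, 7389, 7686, 7902, 8833, 9130, 9346, 9579, 9876, 10092, 11023, 11320, 11536, 11769, 12066, 12282, 13205, 13502, 13718, 14670, 14967, 15183, 15395, 15692, 15908, 16860, 17157, 17373, 17585, 17882, 18098, 19050, 19347, 19563],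
   [833, 3023, 5204, 6643, 8833, 11023, 14676, 16857, 19047],
   [858, 2704, 3562, 6643, 13901, 15987, 17343, 18487],
   [859, 2866, 3482, 4221, 6643, 9266, 11926, 13899, 14731, 15906, 16765, 18569, 19398],
   [860, 2785, 3642, 5365, 6643, 7500, 10782, 13900, 15825, 16685, 17425, 17881, 19238],
   [861, 4976, 5828, 6329, 6643, 8086, 9821, 10655, 11616, 12969, 14729, 17052, 18016],
   [862, 4092, 4895, 6490, 6643, 7505, 8085, 9131, 11535, 12890, 17135, 18788, 19530],
   [863, 5057, 6408, 6643, 8087, 10572, 11454, 19451],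
   [900, 1197, 1413, 1638, 1935, 2151, 3093, 3228, 3525, 3831, 4047, 4182, 5277, 5493, 5628, 6015, 6150, 6447, 6643, 6940, 7156, 8836, 9052, 9430, 10006, 10087, 10168, 11020, 11398, 11452, 11974, 12055, 12136, 13205, 13502, 13718, 15398, 15776, 15830, 17090, 17171, 17252, 17582, 17798, 18176, 19490, 19571, 19652]]

/-- The trace. -/
def trc (x : M3) : Nat := (x.a + x.e + x.i) % 3

/-- Whether two coded matrices commute. -/
def comm (m n : Nat) : Bool := enc (mul (dec m) (dec n)) == enc (mul (dec n) (dec m))

theorem cents_eq : ∀ i : Fin 11,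
    ((List.range 19683).filter fun n => det (dec n) == 1 && comm n (reps.getD i.val (0, 0, 0, 0)).2.2.1) =
      cents.getD i.val [] := by
  decide +kernel

theorem cents_length : ∀ i : Fin 11,
    (cents.getD i.val []).length = (reps.getD i.val (0, 0, 0, 0)).2.1 := by
  decide +kernel

theorem rep_det : ∀ i : Fin 11, det (dec (reps.getD i.val (0, 0, 0, 0)).2.2.1) = 1 ∧
    det (dec (reps.getD i.val (0, 0, 0, 0)).2.2.2) = 1 ∧
    enc (mul (dec (reps.getD i.val (0, 0, 0, 0)).2.2.1) (dec (reps.getD i.val (0, 0, 0, 0)).2.2.2)) =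
      6643 := by
  decide +kernel

/-- The conjugation invariants separate representatives with equal centraliser sizes. -/
theorem rep_sep : ∀ i j : Fin 11,
    (reps.getD i.val (0, 0, 0, 0)).2.1 = (reps.getD j.val (0, 0, 0, 0)).2.1 →
    trc (dec (reps.getD i.val (0, 0, 0, 0)).2.2.1) = trc (dec (reps.getD j.val (0, 0, 0, 0)).2.2.1) →
    trc (dec (reps.getD i.val (0, 0, 0, 0)).2.2.2) = trc (dec (reps.getD j.val (0, 0, 0, 0)).2.2.2) →
      i = j := by
  decide +kernel

theorem rep_one : ∀ i : Fin 11, (reps.getD i.val (0, 0, 0, 0)).2.2.1 ≠ 6643 := by decide +kernel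

/-- A squaring table: the involutions are exactly the representative with centraliser of order 48. -/
theorem rep_sq : ∀ i : Fin 11,
    ((reps.getD i.val (0, 0, 0, 0)).2.1 == 48) =
      (enc (mul (dec (reps.getD i.val (0, 0, 0, 0)).2.2.1) (dec (reps.getD i.val (0, 0, 0, 0)).2.2.1)) ==
        6643) := by
  decide +kernel

/-- Centralisers of order eight are abelian with one involution. -/
theorem cents_eight : ∀ i : Fin 11, (reps.getD i.val (0, 0, 0, 0)).2.1 = 8 →
    ((cents.getD i.val []).all fun m => (cents.getD i.val []).all fun n => comm m n) = true ∧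
    ((cents.getD i.val []).filter fun n =>
      enc (mul (dec n) (dec n)) == 6643 && n != 6643).length = 1 := by
  decide +kernel

/-- Involutions in the centraliser of an element of order three. -/
theorem cents_three : ∀ i : Fin 11, (reps.getD i.val (0, 0, 0, 0)).2.1 = 54 →
    ((cents.getD i.val []).all fun n => !(enc (mul (dec n) (dec n)) == 6643 && n != 6643) ||
      ((cents.getD i.val []).filter fun m => comm m n).length == 6) = true := by
  decide +kernel

theorem rep_sum : ((reps.map fun r => 5616 / r.2.1).sum) = 5615 := by decide +kernel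

end CfsgLib.Recog.LThreeClasses
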