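import Cfsg.Agent.Lib.Recog.LThreeThreeCheck
import Mathlib.LinearAlgebra.Matrix.SpecialLinearGroup
import Mathlib.LinearAlgebra.Matrix.ProjectiveSpecialLinearGroup
import Mathlib.GroupTheory.OrderOfElement
import Mathlib.Tactic.FinCases
import Mathlib.Algebra.Field.ZMod
import Mathlib.FieldTheory.Finite.Basic

/-! The element orders of `PSL(3,3)`. -/

set_option autoImplicit false

namespace CfsgLib.Recog.LThreeThree

open Matrix

local instance : Fact (Nat.Prime 3) := ⟨Nat.prime_three⟩

/-- A natural number matrix read over `ZMod 3`. -/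
def toMat (x : M3) : Matrix (Fin 3) (Fin 3) (ZMod 3) :=
  !![(x.a : ZMod 3), x.b, x.c; x.d, x.e, x.f; x.g, x.h, x.i]

theorem toMat_mul (x y : M3) : toMat (mul x y) = toMat x * toMat y := by
  ext i j
  fin_cases i <;> fin_cases j <;> simp [toMat, mul, Matrix.mul_apply, Fin.sum_univ_three, ZMod.natCast_mod]

theorem isOne_spec (x : M3) (h : isOne x = true) : toMat x = 1 := by
  simp only [isOne, Bool.and_eq_true, beq_iff_eq] at h
  obtain ⟨⟨⟨⟨⟨⟨⟨⟨h1, h2⟩, h3⟩, h4⟩, h5⟩, h6⟩, h7⟩, h8⟩, h9⟩ := h
  ext i j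
  fin_cases i <;> fin_cases j <;> simp [toMat, h1, h2, h3, h4, h5, h6, h7, h8, h9]

theorem det_spec (x : M3) : ((det x : ℕ) : ZMod 3) = (toMat x).det := by
  have h2 : (2 : ZMod 3) = -1 := rfl
  simp only [det, toMat, ZMod.natCast_mod, Nat.cast_add, Nat.cast_mul, Nat.cast_ofNat, Matrix.det_fin_three, h2]
  simp
  ring

theorem pow_eq_one (g : Matrix.SpecialLinearGroup (Fin 3) (ZMod 3)) : g ^ 8 = 1 ∨ g ^ 6 = 1 ∨ g ^ 13 = 1 := by
  let m := (g : Matrix (Fin 3) (Fin 3) (ZMod 3))
  let x : M3 := ⟨(m 0 0).val, (m 0 1).val, (m 0 2).val, (m 1 0).val, (m 1 1).val, (m 1 2).val,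
    (m 2 0).val, (m 2 1).val, (m 2 2).val⟩
  have hx : toMat x = m := by
    ext i j
    fin_cases i <;> fin_cases j <;> simp [toMat, x]
  have hok : ok x = true := ok_all x (ZMod.val_lt (m 0 0)) (ZMod.val_lt (m 0 1)) (ZMod.val_lt (m 0 2)) (ZMod.val_lt (m 1 0)) (ZMod.val_lt (m 1 1)) (ZMod.val_lt (m 1 2)) (ZMod.val_lt (m 2 0)) (ZMod.val_lt (m 2 1)) (ZMod.val_lt (m 2 2))
  have hdet : det x = 1 := by
    have h : ((det x : ℕ) : ZMod 3) = ((1 : ℕ) : ZMod 3) := by rw [det_spec, hx, Nat.cast_one]; exact g.2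
    rw [ZMod.natCast_eq_natCast_iff'] at h
    rw [Nat.mod_eq_of_lt (by unfold det; omega)] at h
    exact h
  simp only [ok, hdet, beq_self_eq_true, if_true, good, Bool.or_eq_true] at hok
  rcases hok with (h | h) | h
  · left; apply Subtype.ext; rw [Matrix.SpecialLinearGroup.coe_pow, Matrix.SpecialLinearGroup.coe_one]
    have := isOne_spec _ h
    simp only [toMat_mul, hx] at this
    rw [← this]; simp only [pow_succ, pow_zero, one_mul, mul_assoc, m]
  · right; left; apply Subtype.ext; rw [Matrix.SpecialLinearGroup.coe_pow, Matrix.SpecialLinearGroup.coe_one]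
    have := isOne_spec _ h
    simp only [toMat_mul, hx] at this
    rw [← this]; simp only [pow_succ, pow_zero, one_mul, mul_assoc, m]
  · right; right; apply Subtype.ext; rw [Matrix.SpecialLinearGroup.coe_pow, Matrix.SpecialLinearGroup.coe_one]
    have := isOne_spec _ h
    simp only [toMat_mul, hx] at this
    rw [← this]; simp only [pow_succ, pow_zero, one_mul, mul_assoc, m]

/-- An element of order six. -/
def sixElt : Matrix.SpecialLinearGroup (Fin 3) (ZMod 3) := ⟨!![2, 1, 0; 0, 2, 0; 0, 0, 1], by decide⟩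

/-- An element of order eight. -/
def eightElt : Matrix.SpecialLinearGroup (Fin 3) (ZMod 3) := ⟨!![0, 1, 0; 1, 2, 0; 0, 0, 2], by decide⟩

/-- An element of order thirteen. -/
def thirteenElt : Matrix.SpecialLinearGroup (Fin 3) (ZMod 3) := ⟨!![0, 0, 1; 1, 0, 1; 0, 1, 0], by decide⟩

theorem sixElt_order : orderOf sixElt = 6 := by
  rw [orderOf_eq_iff (by norm_num)]
  refine ⟨by decide +kernel, ?_⟩
  intro m hm hm0
  interval_cases m <;> decide +kernel

theorem eightElt_order : orderOf eightElt = 8 := by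
  rw [orderOf_eq_iff (by norm_num)]
  refine ⟨by decide +kernel, ?_⟩
  intro m hm hm0
  interval_cases m <;> decide +kernel

theorem thirteenElt_order : orderOf thirteenElt = 13 := by
  rw [orderOf_eq_iff (by norm_num)]
  refine ⟨by decide +kernel, ?_⟩
  intro m hm hm0
  interval_cases m <;> decide +kernel

/-- The element orders of `SL(3,3)`. -/
theorem range_orderOf_sl : Set.range (orderOf : Matrix.SpecialLinearGroup (Fin 3) (ZMod 3) → ℕ) =
    {n | n ∈ [1, 2, 3, 4, 6, 8] ∨ n = 13} := by
  ext n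
  constructor
  · rintro ⟨g, rfl⟩
    have hp := orderOf_pos g
    rcases pow_eq_one g with h | h | h <;> have hd := orderOf_dvd_of_pow_eq_one h <;>
      have hl := Nat.le_of_dvd (by norm_num) hd <;>
      (interval_cases orderOf g <;> simp_all (config := { decide := true }))
  · intro h
    have key : ∀ (x : Matrix.SpecialLinearGroup (Fin 3) (ZMod 3)) (d : ℕ), d ∣ orderOf x →
        orderOf x / d ∈ Set.range (orderOf : Matrix.SpecialLinearGroup (Fin 3) (ZMod 3) → ℕ) := by
      intro x d hd
      have hd0 : d ≠ 0 := ne_zero_of_dvd_ne_zero (orderOf_pos x).ne' hd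
      exact ⟨x ^ d, by rw [orderOf_pow_of_dvd hd0 hd]⟩
    simp only [List.mem_cons, List.not_mem_nil, or_false, Set.mem_setOf_eq] at h
    rcases h with (rfl | rfl | rfl | rfl | rfl | rfl) | rfl
    · exact ⟨1, orderOf_one⟩
    · simpa [sixElt_order] using key sixElt 3 (by rw [sixElt_order]; decide)
    · simpa [sixElt_order] using key sixElt 2 (by rw [sixElt_order]; decide)
    · simpa [eightElt_order] using key eightElt 2 (by rw [eightElt_order]; decide)
    · exact ⟨_, sixElt_order⟩
    · exact ⟨_, eightElt_order⟩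
    · exact ⟨_, thirteenElt_order⟩

/-- The element orders of `PSL(3,F)` when `F` has three elements. -/
theorem range_orderOf_psl {F : Type*} [Field F] [Fintype F] (hF : Fintype.card F = 3) :
    Set.range (orderOf : Matrix.ProjectiveSpecialLinearGroup (Fin 3) F → ℕ) =
      {n | n ∈ [1, 2, 3, 4, 6, 8] ∨ n = 13} := by
  rw [← range_orderOf_sl]
  have hbot : Subgroup.center (Matrix.SpecialLinearGroup (Fin 3) F) = ⊥ := by
    rw [eq_bot_iff]
    intro A hA
    obtain ⟨r, hr, hA⟩ := Matrix.SpecialLinearGroup.mem_center_iff.1 hA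
    rw [Fintype.card_fin] at hr
    have h1 : r = 1 := by
      rw [← FiniteField.pow_card r, hF, hr]
    rw [Subgroup.mem_bot]
    apply Subtype.ext
    rw [← hA, h1, map_one, Matrix.SpecialLinearGroup.coe_one]
  let e : Matrix.ProjectiveSpecialLinearGroup (Fin 3) F ≃* Matrix.SpecialLinearGroup (Fin 3) F :=
    (QuotientGroup.quotientMulEquivOfEq hbot).trans QuotientGroup.quotientBot
  let r : F ≃+* ZMod 3 := (ZMod.ringEquivOfPrime F Nat.prime_three hF).symm
  let f : Matrix.SpecialLinearGroup (Fin 3) F →* Matrix.SpecialLinearGroup (Fin 3) (ZMod 3) :=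
    Matrix.SpecialLinearGroup.map r.toRingHom
  have hfi : Function.Injective f := by
    intro A B h
    apply Subtype.ext
    ext i j
    have := congrArg (fun M : Matrix.SpecialLinearGroup (Fin 3) (ZMod 3) => (M : Matrix (Fin 3) (Fin 3) (ZMod 3)) i j) h
    exact r.injective this
  have hfs : Function.Surjective f := by
    intro B
    refine ⟨Matrix.SpecialLinearGroup.map r.symm.toRingHom B, ?_⟩
    apply Subtype.ext
    ext i j
    exact r.apply_symm_apply _
  let e2 := e.trans (MulEquiv.ofBijective f ⟨hfi, hfs⟩)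
  rw [show (orderOf : Matrix.ProjectiveSpecialLinearGroup (Fin 3) F → ℕ) = orderOf ∘ e2 from
    funext fun x => (MulEquiv.orderOf_eq e2 x).symm, Set.range_comp, e2.surjective.range_eq, Set.image_univ]

end CfsgLib.Recog.LThreeThree
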