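import Cfsg.Agent.Lib.Recog.LThreeClassTable
import Cfsg.Agent.Lib.Recog.LThreeThree
import Cfsg.Agent.Lib.Recog.PlaneThirteen
import Cfsg.Agent.Lib.Invol.Basic
import Mathlib.LinearAlgebra.Matrix.Trace

/-!
# Centralisers in `SL(3, 3)`
-/

set_option autoImplicit false
set_option linter.unusedSectionVars false

namespace CfsgLib.Recog.LThreeClasses

open Matrix CfsgLib.Recog.LThreeThree

local instance : Fact (Nat.Prime 3) := ⟨Nat.prime_three⟩

local notation "SL33" => Matrix.SpecialLinearGroup (Fin 3) (ZMod 3)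
local notation "Cen[" x "]" => Subgroup.centralizer ({x} : Set _)

/-- The code of a group element. -/
def code (g : SL33) : ℕ :=
  enc ⟨((g : Matrix (Fin 3) (Fin 3) (ZMod 3)) 0 0).val, ((g : Matrix (Fin 3) (Fin 3) (ZMod 3)) 0 1).val,
    ((g : Matrix (Fin 3) (Fin 3) (ZMod 3)) 0 2).val, ((g : Matrix (Fin 3) (Fin 3) (ZMod 3)) 1 0).val,
    ((g : Matrix (Fin 3) (Fin 3) (ZMod 3)) 1 1).val, ((g : Matrix (Fin 3) (Fin 3) (ZMod 3)) 1 2).val,
    ((g : Matrix (Fin 3) (Fin 3) (ZMod 3)) 2 0).val, ((g : Matrix (Fin 3) (Fin 3) (ZMod 3)) 2 1).val,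
    ((g : Matrix (Fin 3) (Fin 3) (ZMod 3)) 2 2).val⟩

/-- All entries are reduced. -/
def Red (x : M3) : Prop :=
  x.a < 3 ∧ x.b < 3 ∧ x.c < 3 ∧ x.d < 3 ∧ x.e < 3 ∧ x.f < 3 ∧ x.g < 3 ∧ x.h < 3 ∧ x.i < 3

theorem dec_enc {x : M3} (h : Red x) : dec (enc x) = x := by
  obtain ⟨a, b, c, d, e, f, g, h', i⟩ := x
  obtain ⟨h1, h2, h3, h4, h5, h6, h7, h8, h9⟩ := h
  simp only [dec, enc, M3.mk.injEq] at *
  refine ⟨?_, ?_, ?_, ?_, ?_, ?_, ?_, ?_, ?_⟩ <;> omega

theorem enc_dec {n : ℕ} (h : n < 19683) : enc (dec n) = n := by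
  simp only [dec, enc]
  omega

theorem red_mul (x y : M3) : Red (mul x y) := by
  simp only [Red, mul]
  omega

theorem red_dec (n : ℕ) : Red (dec n) := by
  simp only [Red, dec]
  omega

theorem toMat_code (g : SL33) : toMat (dec (code g)) = (g : Matrix (Fin 3) (Fin 3) (ZMod 3)) := by
  rw [code, dec_enc]
  · ext i j
    fin_cases i <;> fin_cases j <;> simp [toMat]
  · simp only [Red]
    exact ⟨ZMod.val_lt _, ZMod.val_lt _, ZMod.val_lt _, ZMod.val_lt _, ZMod.val_lt _, ZMod.val_lt _,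
      ZMod.val_lt _, ZMod.val_lt _, ZMod.val_lt _⟩

theorem code_lt (g : SL33) : code g < 19683 := by
  have h : ∀ a : ZMod 3, a.val < 3 := fun a => ZMod.val_lt a
  simp only [code, enc]
  have := h ((g : Matrix (Fin 3) (Fin 3) (ZMod 3)) 0 0)
  have := h ((g : Matrix (Fin 3) (Fin 3) (ZMod 3)) 0 1)
  have := h ((g : Matrix (Fin 3) (Fin 3) (ZMod 3)) 0 2)
  have := h ((g : Matrix (Fin 3) (Fin 3) (ZMod 3)) 1 0)
  have := h ((g : Matrix (Fin 3) (Fin 3) (ZMod 3)) 1 1)
  have := h ((g : Matrix (Fin 3) (Fin 3) (ZMod 3)) 1 2)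
  have := h ((g : Matrix (Fin 3) (Fin 3) (ZMod 3)) 2 0)
  have := h ((g : Matrix (Fin 3) (Fin 3) (ZMod 3)) 2 1)
  have := h ((g : Matrix (Fin 3) (Fin 3) (ZMod 3)) 2 2)
  omega

theorem code_injective : Function.Injective code := fun g h e =>
  Subtype.ext (by rw [← toMat_code g, e, toMat_code])

theorem code_of_toMat {g : SL33} {x : M3} (hx : Red x)
    (h : toMat x = (g : Matrix (Fin 3) (Fin 3) (ZMod 3))) : code g = enc x := by
  obtain ⟨h1, h2, h3, h4, h5, h6, h7, h8, h9⟩ := hx
  rw [code]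
  simp [← h, toMat, enc, ZMod.val_natCast, Nat.mod_eq_of_lt, h1, h2, h3, h4, h5, h6, h7, h8, h9]

theorem code_mul (g h : SL33) : code (g * h) = enc (mul (dec (code g)) (dec (code h))) := by
  refine code_of_toMat (red_mul _ _) ?_
  rw [toMat_mul, toMat_code, toMat_code, Matrix.SpecialLinearGroup.coe_mul]

theorem code_one : code (1 : SL33) = 6643 := by decide +kernel

theorem det_code (g : SL33) : det (dec (code g)) = 1 := by
  have h := det_spec (dec (code g))
  rw [toMat_code, g.2] at h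
  have hlt : det (dec (code g)) < 3 := Nat.mod_lt _ (by norm_num)
  have h2 := congrArg ZMod.val h
  rw [ZMod.val_natCast, Nat.mod_eq_of_lt hlt] at h2
  exact h2

theorem exists_code {n : ℕ} (hn : n < 19683) (hd : det (dec n) = 1) : ∃ g : SL33, code g = n := by
  exact ⟨⟨toMat (dec n), by rw [← det_spec, hd, Nat.cast_one]⟩,
    (code_of_toMat (red_dec n) rfl).trans (enc_dec hn)⟩

theorem comm_code (g h : SL33) : comm (code g) (code h) = true ↔ g * h = h * g := by
  rw [comm, beq_iff_eq, ← code_mul, ← code_mul, code_injective.eq_iff]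

theorem trc_code (g : SL33) :
    ((trc (dec (code g)) : ℕ) : ZMod 3) = (g : Matrix (Fin 3) (Fin 3) (ZMod 3)).trace := by
  conv_rhs => rw [← toMat_code g]
  simp [trc, toMat, Matrix.trace, Fin.sum_univ_three, ZMod.natCast_mod]

theorem exists_rep (i : Fin 11) : ∃ g : SL33,
    code g = (reps.getD i.val (0, 0, 0, 0)).2.2.1 ∧
      code g⁻¹ = (reps.getD i.val (0, 0, 0, 0)).2.2.2 := by
  obtain ⟨h1, h2, h3⟩ := rep_det i
  have hlt : ∀ j : Fin 11, (reps.getD j.val (0, 0, 0, 0)).2.2.1 < 19683 ∧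
      (reps.getD j.val (0, 0, 0, 0)).2.2.2 < 19683 := by decide +kernel
  obtain ⟨g, hg⟩ := exists_code (hlt i).1 h1
  obtain ⟨h, hh⟩ := exists_code (hlt i).2 h2
  refine ⟨g, hg, ?_⟩
  have : g * h = 1 := code_injective (by rw [code_mul, hg, hh, h3, code_one])
  rw [inv_eq_of_mul_eq_one_right this, hh]

/-- The representatives. -/
noncomputable def rep (i : Fin 11) : SL33 := (exists_rep i).choose

theorem code_rep (i : Fin 11) : code (rep i) = (reps.getD i.val (0, 0, 0, 0)).2.2.1 :=
  (exists_rep i).choose_spec.1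

theorem code_rep_inv (i : Fin 11) : code (rep i)⁻¹ = (reps.getD i.val (0, 0, 0, 0)).2.2.2 :=
  (exists_rep i).choose_spec.2

theorem mem_cents {i : Fin 11} {g : SL33} (h : g * rep i = rep i * g) :
    code g ∈ cents.getD i.val [] := by
  rw [← cents_eq, List.mem_filter, List.mem_range, Bool.and_eq_true, beq_iff_eq, ← code_rep,
    comm_code]
  exact ⟨code_lt g, det_code g, h⟩

theorem exists_of_mem_cents {i : Fin 11} {n : ℕ} (h : n ∈ cents.getD i.val []) :
    ∃ g : SL33, code g = n ∧ g * rep i = rep i * g := by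
  rw [← cents_eq, List.mem_filter, List.mem_range, Bool.and_eq_true, beq_iff_eq] at h
  obtain ⟨g, rfl⟩ := exists_code h.1 h.2.1
  exact ⟨g, rfl, (comm_code _ _).1 (by rw [code_rep]; exact h.2.2)⟩

theorem cents_nodup (i : Fin 11) : (cents.getD i.val []).Nodup := by
  rw [← cents_eq]
  exact List.nodup_range.filter _

/-- Counting inside the centraliser of a representative. -/
theorem card_filter_cent (i : Fin 11) (P : SL33 → Prop) (p : ℕ → Bool)
    (hp : ∀ g, p (code g) = true ↔ P g) :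
    Nat.card {g : SL33 // g * rep i = rep i * g ∧ P g} =
      ((cents.getD i.val []).filter p).length := by
  rw [← List.toFinset_card_of_nodup ((cents_nodup i).filter _), ← Nat.card_eq_finsetCard]
  refine Nat.card_congr (Equiv.ofBijective
    (fun g => ⟨code g.1, List.mem_toFinset.2 (List.mem_filter.2 ⟨mem_cents g.2.1, (hp _).2 g.2.2⟩)⟩)
    ⟨fun g h e => Subtype.ext (code_injective (congrArg Subtype.val e)), ?_⟩)
  rintro ⟨n, hn⟩
  obtain ⟨h1, h2⟩ := List.mem_filter.1 (List.mem_toFinset.1 hn)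
  obtain ⟨g, rfl, hg⟩ := exists_of_mem_cents h1
  exact ⟨⟨g, hg, (hp g).1 h2⟩, rfl⟩

theorem card_cen_rep (i : Fin 11) :
    Nat.card Cen[rep i] = (reps.getD i.val (0, 0, 0, 0)).2.1 := by
  rw [← cents_length, ← List.filter_true (cents.getD i.val []),
    ← card_filter_cent i (fun _ => True) (fun _ => true) (fun _ => ⟨fun _ => trivial, fun _ => rfl⟩)]
  exact Nat.card_congr (Equiv.subtypeEquivRight fun g => by
    rw [Subgroup.mem_centralizer_singleton_iff]; exact (and_iff_left trivial).symm)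

theorem trace_conj {g a b : SL33} (h : g * a * g⁻¹ = b) :
    (a : Matrix (Fin 3) (Fin 3) (ZMod 3)).trace = (b : Matrix (Fin 3) (Fin 3) (ZMod 3)).trace := by
  rw [← h, Matrix.SpecialLinearGroup.coe_mul, Matrix.SpecialLinearGroup.coe_mul,
    Matrix.trace_mul_cycle, ← Matrix.SpecialLinearGroup.coe_mul, inv_mul_cancel,
    Matrix.SpecialLinearGroup.coe_one, one_mul]

theorem rep_not_conj {i j : Fin 11} (h : IsConj (rep i) (rep j)) : i = j := by
  obtain ⟨g, hg⟩ := isConj_iff.1 h
  have hlt : ∀ n : ℕ, trc (dec n) < 3 := fun n => Nat.mod_lt _ (by norm_num)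
  have key : ∀ a b : SL33, g * a * g⁻¹ = b → trc (dec (code a)) = trc (dec (code b)) := by
    intro a b e
    have h' := congrArg ZMod.val ((trc_code a).trans ((trace_conj e).trans (trc_code b).symm))
    rwa [ZMod.val_natCast, ZMod.val_natCast, Nat.mod_eq_of_lt (hlt _),
      Nat.mod_eq_of_lt (hlt _)] at h'
  refine rep_sep i j ?_ ?_ ?_
  · rw [← card_cen_rep, ← card_cen_rep, ← hg]
    refine Nat.card_congr
      { toFun := fun y => ⟨g * y * g⁻¹, ?_⟩, invFun := fun y => ⟨g⁻¹ * y * g, ?_⟩,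
        left_inv := fun y => Subtype.ext (by group), right_inv := fun y => Subtype.ext (by group) }
    · have := Subgroup.mem_centralizer_singleton_iff.1 y.2
      rw [Subgroup.mem_centralizer_singleton_iff]
      calc g * y * g⁻¹ * (g * rep i * g⁻¹) = g * (y * rep i) * g⁻¹ := by group
        _ = g * (rep i * y) * g⁻¹ := by rw [this]
        _ = g * rep i * g⁻¹ * (g * y * g⁻¹) := by group
    · have := Subgroup.mem_centralizer_singleton_iff.1 y.2
      rw [Subgroup.mem_centralizer_singleton_iff]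
      calc g⁻¹ * y * g * rep i = g⁻¹ * (y * (g * rep i * g⁻¹)) * g := by group
        _ = g⁻¹ * (g * rep i * g⁻¹ * y) * g := by rw [this]
        _ = rep i * (g⁻¹ * y * g) := by group
  · have := key _ _ hg
    rwa [code_rep, code_rep] at this
  · have := key (rep i)⁻¹ (rep j)⁻¹ (by rw [← hg]; group)
    rwa [code_rep_inv, code_rep_inv] at this

theorem rep_ne_one (i : Fin 11) : rep i ≠ 1 := fun h =>
  rep_one i (by rw [← code_rep, h, code_one])

theorem card_class (i : Fin 11) :
    Nat.card {g : SL33 // IsConj (rep i) g} =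
      5616 / (reps.getD i.val (0, 0, 0, 0)).2.1 := by
  have h := CfsgLib.Invol.card_class_mul_card_centralizer (rep i)
  rw [PlaneThirteen.card_sl.1, card_cen_rep] at h
  have hpos : 0 < (reps.getD i.val (0, 0, 0, 0)).2.1 := by rw [← card_cen_rep]; exact Nat.card_pos
  rw [← h, Nat.mul_div_cancel _ hpos]

/-- Every nonidentity element is conjugate to a representative. -/
theorem exists_isConj {g : SL33} (hg : g ≠ 1) : ∃ i, IsConj (rep i) g := by
  classical
  obtain ⟨U, eU⟩ : ∃ U, U = (Finset.univ : Finset (Fin 11)).biUnion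
      fun i => Finset.univ.filter fun x : SL33 => IsConj (rep i) x := ⟨_, rfl⟩
  have hU : U = Finset.univ.erase 1 := by
    refine Finset.eq_of_subset_of_card_le ?_ ?_
    · intro x hx
      rw [eU, Finset.mem_biUnion] at hx
      obtain ⟨i, -, hi⟩ := hx
      refine Finset.mem_erase.2 ⟨fun e => ?_, Finset.mem_univ x⟩
      subst e
      obtain ⟨c, hc⟩ := isConj_iff.1 (Finset.mem_filter.1 hi).2.symm
      exact rep_ne_one i (by rw [← hc]; group)
    · have hsum : ∀ i : Fin 11, (Finset.univ.filter fun x : SL33 => IsConj (rep i) x).card =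
          5616 / (reps.getD i.val (0, 0, 0, 0)).2.1 := fun i => by
        rw [← card_class i, Nat.card_eq_fintype_card, Fintype.card_subtype]
      have hval : ∑ i : Fin 11, 5616 / (reps.getD i.val (0, 0, 0, 0)).2.1 = 5615 := by decide +kernel
      rw [Finset.card_erase_of_mem (Finset.mem_univ _), Finset.card_univ, ← Nat.card_eq_fintype_card,
        PlaneThirteen.card_sl.1, eU, Finset.card_biUnion, Finset.sum_congr rfl (fun i _ => hsum i),
        hval]
      intro i _ j _ hij
      refine Finset.disjoint_left.2 fun x hx hx' => hij (rep_not_conj ?_)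
      exact (Finset.mem_filter.1 hx).2.trans (Finset.mem_filter.1 hx').2.symm
  have : g ∈ U := hU ▸ Finset.mem_erase.2 ⟨hg, Finset.mem_univ g⟩
  rw [eU, Finset.mem_biUnion] at this
  obtain ⟨i, -, hi⟩ := this
  exact ⟨i, (Finset.mem_filter.1 hi).2⟩

theorem card_cen_of_conj {a b : SL33} (h : IsConj a b) : Nat.card Cen[a] = Nat.card Cen[b] := by
  have h1 := CfsgLib.Invol.card_class_mul_card_centralizer a
  have h2 := CfsgLib.Invol.card_class_mul_card_centralizer b
  have e : Nat.card {x : SL33 // IsConj a x} = Nat.card {x : SL33 // IsConj b x} :=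
    Nat.card_congr (Equiv.subtypeEquivRight fun x => ⟨h.symm.trans, h.trans⟩)
  rw [e] at h1
  have hpos : 0 < Nat.card {x : SL33 // IsConj b x} :=
    Nat.card_pos_iff.2 ⟨⟨⟨b, IsConj.refl b⟩⟩, inferInstance⟩
  exact Nat.eq_of_mul_eq_mul_left hpos (h1.trans h2.symm)

theorem card_cen_one : Nat.card Cen[(1 : SL33)] = 5616 := by
  rw [← PlaneThirteen.card_sl.1]
  exact Nat.card_congr ((Equiv.subtypeUnivEquiv fun g => Subgroup.mem_centralizer_singleton_iff.2 (by simp)))

/-- The sizes of centralisers with their multiplicities. -/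
theorem card_cen_count {k : ℕ} (hk : k ≠ 5616) :
    Nat.card {g : SL33 // Nat.card Cen[g] = k} =
      ∑ i : Fin 11, if (reps.getD i.val (0, 0, 0, 0)).2.1 = k then 5616 / k else 0 := by
  classical
  have hset : (Finset.univ.filter fun g : SL33 => Nat.card Cen[g] = k) =
      ((Finset.univ : Finset (Fin 11)).filter fun i => (reps.getD i.val (0, 0, 0, 0)).2.1 = k).biUnion
        fun i => Finset.univ.filter fun x : SL33 => IsConj (rep i) x := by
    ext g
    simp only [Finset.mem_filter, Finset.mem_univ, true_and, Finset.mem_biUnion]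
    constructor
    · intro hg
      obtain ⟨i, hi⟩ := exists_isConj (g := g) fun e => hk (by rw [← hg, e, card_cen_one])
      exact ⟨i, by rw [← card_cen_rep, card_cen_of_conj hi, hg], hi⟩
    · rintro ⟨i, hi, hig⟩
      rw [← card_cen_of_conj hig, card_cen_rep, hi]
  rw [Nat.card_eq_fintype_card, Fintype.card_subtype, hset, Finset.card_biUnion, Finset.sum_filter]
  · refine Finset.sum_congr rfl fun i _ => ?_
    split_ifs with h
    · rw [← Fintype.card_subtype, ← Nat.card_eq_fintype_card, card_class, h]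
    · rfl
  · intro i _ j _ hij
    refine Finset.disjoint_left.2 fun x hx hx' => hij (rep_not_conj ?_)
    exact (Finset.mem_filter.1 hx).2.trans (Finset.mem_filter.1 hx').2.symm

theorem card_cen_mem {g : SL33} (hg : g ≠ 1) :
    Nat.card Cen[g] ∈ ({6, 8, 9, 13, 48, 54} : Finset ℕ) := by
  obtain ⟨i, hi⟩ := exists_isConj hg
  rw [← card_cen_of_conj hi, card_cen_rep]
  have key : ∀ j : Fin 11,
      (reps.getD j.val (0, 0, 0, 0)).2.1 ∈ ({6, 8, 9, 13, 48, 54} : Finset ℕ) := by decide +kernel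
  exact key i

/-- Centraliser of order 48 characterises involutions. -/
theorem forty_eight_iff {g : SL33} : Nat.card Cen[g] = 48 ↔ g * g = 1 ∧ g ≠ 1 := by
  constructor
  · intro h
    have hg : g ≠ 1 := fun e => by rw [e, card_cen_one] at h; omega
    obtain ⟨i, hi⟩ := exists_isConj hg
    have h48 : (reps.getD i.val (0, 0, 0, 0)).2.1 = 48 := by rw [← card_cen_rep, card_cen_of_conj hi, h]
    have := rep_sq i
    rw [h48, ← code_rep, ← code_mul, beq_self_eq_true, eq_comm, beq_iff_eq, ← code_one,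
      code_injective.eq_iff] at this
    obtain ⟨c, rfl⟩ := isConj_iff.1 hi
    refine ⟨?_, hg⟩
    calc c * rep i * c⁻¹ * (c * rep i * c⁻¹) = c * (rep i * rep i) * c⁻¹ := by group
      _ = 1 := by rw [this]; group
  · rintro ⟨h2, hg⟩
    obtain ⟨i, hi⟩ := exists_isConj hg
    have hr : rep i * rep i = 1 := by
      obtain ⟨c, hc⟩ := isConj_iff.1 hi.symm
      rw [← hc]
      calc c * g * c⁻¹ * (c * g * c⁻¹) = c * (g * g) * c⁻¹ := by group
        _ = 1 := by rw [h2]; group
    have := rep_sq i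
    rw [← code_rep, ← code_mul, hr, code_one, beq_self_eq_true, beq_iff_eq] at this
    rw [← card_cen_of_conj hi, card_cen_rep, this]

theorem exists_conj_rep {g : SL33} {k : ℕ} (hk : k ≠ 5616) (h : Nat.card Cen[g] = k) :
    ∃ i c, (reps.getD i.val (0, 0, 0, 0)).2.1 = k ∧ c * rep i * c⁻¹ = g := by
  obtain ⟨i, hi⟩ := exists_isConj (g := g) fun e => hk (by rw [← h, e, card_cen_one])
  obtain ⟨c, hc⟩ := isConj_iff.1 hi
  exact ⟨i, c, by rw [← card_cen_rep, card_cen_of_conj hi, h], hc⟩

/-- Centralisers of order eight. -/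
theorem eight {g : SL33} (h : Nat.card Cen[g] = 8) :
    (∀ a b, a * g = g * a → b * g = g * b → a * b = b * a) ∧
      Nat.card {y : SL33 // y * g = g * y ∧ Nat.card Cen[y] = 48} = 1 := by
  obtain ⟨i, c, hk, rfl⟩ := exists_conj_rep (by norm_num) h
  obtain ⟨hab, hone⟩ := cents_eight i hk
  have hback : ∀ a, a * (c * rep i * c⁻¹) = c * rep i * c⁻¹ * a →
      c⁻¹ * a * c * rep i = rep i * (c⁻¹ * a * c) := fun a e => by
    calc c⁻¹ * a * c * rep i = c⁻¹ * (a * (c * rep i * c⁻¹)) * c := by group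
      _ = c⁻¹ * (c * rep i * c⁻¹ * a) * c := by rw [e]
      _ = rep i * (c⁻¹ * a * c) := by group
  refine ⟨fun a b ha hb => ?_, ?_⟩
  · simp only [List.all_eq_true] at hab
    have e := (comm_code _ _).1 (hab _ (mem_cents (hback a ha)) _ (mem_cents (hback b hb)))
    calc a * b = c * (c⁻¹ * a * c * (c⁻¹ * b * c)) * c⁻¹ := by group
      _ = c * (c⁻¹ * b * c * (c⁻¹ * a * c)) * c⁻¹ := by rw [e]
      _ = b * a := by group
  · rw [← hone, ← card_filter_cent i (fun y => y * y = 1 ∧ y ≠ 1)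
      (fun n => enc (mul (dec n) (dec n)) == 6643 && n != 6643) (fun y => by
        rw [← code_mul, ← code_one]
        simp [code_injective.eq_iff])]
    refine Nat.card_congr
      { toFun := fun y => ⟨c⁻¹ * y.1 * c, hback _ y.2.1, ?_⟩
        invFun := fun y => ⟨c * y.1 * c⁻¹, ?_, ?_⟩
        left_inv := fun y => Subtype.ext (by group)
        right_inv := fun y => Subtype.ext (by group) }
    · refine forty_eight_iff.1 ?_
      exact (card_cen_of_conj (isConj_iff.2 ⟨c, by group⟩)).trans y.2.2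
    · calc c * y.1 * c⁻¹ * (c * rep i * c⁻¹) = c * (y.1 * rep i) * c⁻¹ := by group
        _ = c * (rep i * y.1) * c⁻¹ := by rw [y.2.1]
        _ = c * rep i * c⁻¹ * (c * y.1 * c⁻¹) := by group
    · rw [← card_cen_of_conj (isConj_iff.2 ⟨c, rfl⟩ : IsConj y.1 (c * y.1 * c⁻¹))]
      exact forty_eight_iff.2 y.2.2

/-- An involution meeting the centraliser of a central element of order three. -/
theorem three {s y : SL33} (hs : Nat.card Cen[s] = 54) (hy : Nat.card Cen[y] = 48)
    (h : y * s = s * y) : Nat.card {z : SL33 // z * s = s * z ∧ z * y = y * z} = 6 := by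
  obtain ⟨i, c, hk, rfl⟩ := exists_conj_rep (by norm_num) hs
  obtain ⟨h2, h1⟩ := forty_eight_iff.1 hy
  obtain ⟨y', ey⟩ : ∃ y', y' = c⁻¹ * y * c := ⟨_, rfl⟩
  have hy2 : y' * y' = 1 := by
    rw [ey]
    calc c⁻¹ * y * c * (c⁻¹ * y * c) = c⁻¹ * (y * y) * c := by group
      _ = 1 := by rw [h2]; group
  have hy1 : y' ≠ 1 := fun e => h1 (by
    calc y = c * (c⁻¹ * y * c) * c⁻¹ := by group
      _ = 1 := by rw [← ey, e]; group)
  have hmem : y' * rep i = rep i * y' := by
    rw [ey]
    calc c⁻¹ * y * c * rep i = c⁻¹ * (y * (c * rep i * c⁻¹)) * c := by group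
      _ = c⁻¹ * (c * rep i * c⁻¹ * y) * c := by rw [h]
      _ = rep i * (c⁻¹ * y * c) := by group
  have hall := cents_three i hk
  simp only [List.all_eq_true] at hall
  have h6 := hall _ (mem_cents hmem)
  rw [← code_mul, hy2, code_one] at h6
  have hne : code y' ≠ 6643 := fun e => hy1 (code_injective (e.trans code_one.symm))
  simp only [beq_self_eq_true, Bool.true_and, Bool.or_eq_true, Bool.not_eq_true',
    bne_eq_false_iff_eq, hne, false_or, beq_iff_eq] at h6
  rw [← h6, ← card_filter_cent i (fun z => z * y' = y' * z) (fun m => comm m (code y'))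
    (fun z => comm_code z y')]
  refine Nat.card_congr
    { toFun := fun z => ⟨c⁻¹ * z.1 * c, ?_, ?_⟩
      invFun := fun z => ⟨c * z.1 * c⁻¹, ?_, ?_⟩
      left_inv := fun z => Subtype.ext (by group)
      right_inv := fun z => Subtype.ext (by group) }
  · calc c⁻¹ * z.1 * c * rep i = c⁻¹ * (z.1 * (c * rep i * c⁻¹)) * c := by group
      _ = c⁻¹ * (c * rep i * c⁻¹ * z.1) * c := by rw [z.2.1]
      _ = rep i * (c⁻¹ * z.1 * c) := by group
  · calc c⁻¹ * z.1 * c * y' = c⁻¹ * (z.1 * y) * c := by rw [ey]; group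
      _ = c⁻¹ * (y * z.1) * c := by rw [z.2.2]
      _ = y' * (c⁻¹ * z.1 * c) := by rw [ey]; group
  · calc c * z.1 * c⁻¹ * (c * rep i * c⁻¹) = c * (z.1 * rep i) * c⁻¹ := by group
      _ = c * (rep i * z.1) * c⁻¹ := by rw [z.2.1]
      _ = c * rep i * c⁻¹ * (c * z.1 * c⁻¹) := by group
  · obtain ⟨z, -, hz⟩ := z
    calc c * z * c⁻¹ * y = c * (z * y') * c⁻¹ := by rw [ey]; group
      _ = c * (y' * z) * c⁻¹ := by rw [hz]
      _ = y * (c * z * c⁻¹) := by rw [ey]; group

end CfsgLib.Recog.LThreeClasses
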