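import Mathlib.GroupTheory.Sylow
import Mathlib.GroupTheory.IndexNormal
import Mathlib.GroupTheory.Subgroup.Simple
import Mathlib.GroupTheory.Transfer
import Mathlib.NumberTheory.Divisors
import Mathlib.GroupTheory.GroupAction.Quotient
import Mathlib.Tactic.Group
import Mathlib.Tactic.NormNum.Prime

/-!
# Local structure of a simple group of order 5616 with involution centralisers of order 48
-/

set_option autoImplicit false
set_option linter.unusedSectionVars false

namespace CfsgLib.Recog.LThreeOrder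

open Subgroup

universe u

local notation "Cen[" x "]" => Subgroup.centralizer ({x} : Set _)

section Small

variable {X : Type u} [Group X]

theorem mem_cen {x y : X} : y ∈ Cen[x] ↔ y * x = x * y := mem_centralizer_singleton_iff

theorem zpowers_three {a y : X} (ha : orderOf a = 3) (hy : y ∈ zpowers a) :
    y = 1 ∨ y = a ∨ y = a⁻¹ := by
  obtain ⟨k, rfl⟩ := mem_zpowers_iff.1 hy
  have h3 : a ^ (3 : ℤ) = 1 := by
    rw [show (3 : ℤ) = ((3 : ℕ) : ℤ) from rfl, zpow_natCast, ← ha, pow_orderOf_eq_one]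
  rw [← Int.emod_add_mul_ediv k 3, zpow_add, zpow_mul, h3, one_zpow, mul_one]
  have h1 := Int.emod_nonneg k (show (3 : ℤ) ≠ 0 by norm_num)
  have h2 := Int.emod_lt_of_pos k (show (0 : ℤ) < 3 by norm_num)
  obtain h | h | h : k % 3 = 0 ∨ k % 3 = 1 ∨ k % 3 = 2 := by omega
  · exact Or.inl (by rw [h, zpow_zero])
  · exact Or.inr (Or.inl (by rw [h, zpow_one]))
  · refine Or.inr (Or.inr ?_)
    rw [h]
    refine eq_inv_of_mul_eq_one_left ?_
    rw [← zpow_add_one]
    exact h3

theorem cube_eq {a : X} (ha : orderOf a = 3) : a * a = a⁻¹ :=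
  eq_inv_of_mul_eq_one_left (by rw [mul_assoc, ← pow_three, ← ha, pow_orderOf_eq_one])

/-- Commutators are central in a group of order 27. -/
theorem commutator_central [Finite X] (h : Nat.card X = 27) (a b : X) :
    a * b * a⁻¹ * b⁻¹ ∈ center X := by
  have : Fact (Nat.Prime 3) := ⟨Nat.prime_three⟩
  have hP : IsPGroup 3 X := IsPGroup.of_card (n := 3) (by rw [h]; norm_num)
  have : Nontrivial X := Finite.one_lt_card_iff_nontrivial.1 (by omega)
  have hz := hP.center_nontrivial
  have hcz : 1 < Nat.card (center X) := Finite.one_lt_card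
  have hq := (center X).index_mul_card
  rw [h, index_eq_card] at hq
  rw [← QuotientGroup.eq_one_iff, QuotientGroup.mk_mul, QuotientGroup.mk_mul, QuotientGroup.mk_mul,
    QuotientGroup.mk_inv, QuotientGroup.mk_inv]
  have hcomm : ∀ p q : X ⧸ center X, p * q = q * p := by
    have hd : Nat.card (X ⧸ center X) ∣ 27 := ⟨_, hq.symm⟩
    have : Nat.card (X ⧸ center X) ∈ Nat.divisors 27 := Nat.mem_divisors.2 ⟨hd, by norm_num⟩
    rw [show Nat.divisors 27 = {1, 3, 9, 27} by decide] at this
    simp only [Finset.mem_insert, Finset.mem_singleton] at this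
    rcases this with e | e | e | e
    · intro p q
      have : Subsingleton (X ⧸ center X) := (Nat.card_eq_one_iff_unique.1 e).1
      exact Subsingleton.elim _ _
    · have := isCyclic_of_prime_card e
      intro p q
      obtain ⟨g, hg⟩ := IsCyclic.exists_generator (α := X ⧸ center X)
      obtain ⟨i, rfl⟩ := mem_zpowers_iff.1 (hg p)
      obtain ⟨j, rfl⟩ := mem_zpowers_iff.1 (hg q)
      rw [← zpow_add, ← zpow_add, add_comm]
    · exact (IsPGroup.isMulCommutative_of_card_eq_prime_sq (p := 3) (by rw [e]; norm_num)).is_comm.comm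
    · rw [e] at hq; omega
  rw [hcomm (a : X ⧸ center X), mul_assoc ((b : X ⧸ center X)), mul_inv_cancel, mul_one,
    mul_inv_cancel]

/-- If every orbit outside has length divisible by `d`, so has the whole. -/
theorem dvd_card_of_orbits {α : Type*} [Finite α] [MulAction X α] {d : ℕ}
    (h : ∀ a : α, d ∣ (MulAction.stabilizer X a).index) : d ∣ Nat.card α := by
  classical
  rw [Nat.card_congr (MulAction.selfEquivSigmaOrbits X α)]
  have := Fintype.ofFinite (Quotient (MulAction.orbitRel X α))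
  rw [Nat.card_sigma]
  refine Finset.dvd_sum fun q _ => ?_
  rw [Nat.card_congr (MulAction.orbitEquivQuotientStabilizer X q.out)]
  exact h _

end Small

/-- The hypotheses. -/
structure Hyp (G : Type u) [Group G] (t : G) : Prop where
  simple : IsSimpleGroup G
  card : Nat.card G = 5616
  two : orderOf t = 2
  conj_invol : ∀ v : G, orderOf v = 2 → IsConj t v
  card_cen : Nat.card Cen[t] = 48
  three_cent : ∀ a : G, orderOf a = 3 → a * t = t * a →
    Nat.card ↥(Cen[a] ⊓ Cen[t]) = 6
  three_conj : ∀ a b : G, orderOf a = 3 → orderOf b = 3 → a * t = t * a → b * t = t * b →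
    IsConj a b

variable {G : Type u} [Group G] [Finite G] {t : G}

/-- An element of order three centralised by an involution. -/
def Cent (s : G) : Prop := orderOf s = 3 ∧ ∃ v : G, orderOf v = 2 ∧ v * s = s * v

theorem orderOf_conj (g x : G) : orderOf (g * x * g⁻¹) = orderOf x :=
  (MulAut.conj g).orderOf_eq x

theorem Cent.conj {s : G} (h : Cent s) (g : G) : Cent (g * s * g⁻¹) := by
  obtain ⟨h3, v, hv, hvs⟩ := h
  refine ⟨(orderOf_conj g s).trans h3, g * v * g⁻¹, (orderOf_conj g v).trans hv, ?_⟩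
  calc g * v * g⁻¹ * (g * s * g⁻¹) = g * (v * s) * g⁻¹ := by group
    _ = g * (s * v) * g⁻¹ := by rw [hvs]
    _ = g * s * g⁻¹ * (g * v * g⁻¹) := by group

theorem Cent.inv {s : G} (h : Cent s) : Cent s⁻¹ := by
  obtain ⟨h3, v, hv, hvs⟩ := h
  exact ⟨by rw [orderOf_inv, h3], v, hv, (Commute.inv_right hvs).eq⟩

theorem card_cen_conj (g x : G) : Nat.card Cen[g * x * g⁻¹] = Nat.card Cen[x] := by
  refine Nat.card_congr
    { toFun := fun y => ⟨g⁻¹ * y * g, ?_⟩, invFun := fun y => ⟨g * y * g⁻¹, ?_⟩,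
      left_inv := fun y => Subtype.ext (by group), right_inv := fun y => Subtype.ext (by group) }
  · have := mem_cen.1 y.2
    rw [mem_cen]
    calc g⁻¹ * y * g * x = g⁻¹ * (y * (g * x * g⁻¹)) * g := by group
      _ = g⁻¹ * (g * x * g⁻¹ * y) * g := by rw [this]
      _ = x * (g⁻¹ * y * g) := by group
  · have := mem_cen.1 y.2
    rw [mem_cen]
    calc g * y * g⁻¹ * (g * x * g⁻¹) = g * (y * x) * g⁻¹ := by group
      _ = g * (x * y) * g⁻¹ := by rw [this]
      _ = g * x * g⁻¹ * (g * y * g⁻¹) := by group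

variable (hG : Hyp G t)
include hG

theorem card_cen_invol {v : G} (hv : orderOf v = 2) : Nat.card Cen[v] = 48 := by
  obtain ⟨g, rfl⟩ := isConj_iff.1 (hG.conj_invol v hv)
  rw [card_cen_conj, hG.card_cen]

theorem card_inf {v a : G} (hv : orderOf v = 2) (ha : orderOf a = 3) (h : a * v = v * a) :
    Nat.card ↥(Cen[a] ⊓ Cen[v]) = 6 := by
  obtain ⟨g, rfl⟩ := isConj_iff.1 (hG.conj_invol v hv)
  have hb : orderOf (g⁻¹ * a * g) = 3 := by
    have := orderOf_conj g⁻¹ a
    rw [inv_inv] at this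
    rw [this, ha]
  have hbt : g⁻¹ * a * g * t = t * (g⁻¹ * a * g) := by
    calc g⁻¹ * a * g * t = g⁻¹ * (a * (g * t * g⁻¹)) * g := by group
      _ = g⁻¹ * (g * t * g⁻¹ * a) * g := by rw [h]
      _ = t * (g⁻¹ * a * g) := by group
  rw [← hG.three_cent _ hb hbt]
  refine Nat.card_congr
    { toFun := fun y => ⟨g⁻¹ * y * g, ?_⟩, invFun := fun y => ⟨g * y * g⁻¹, ?_⟩,
      left_inv := fun y => Subtype.ext (by group), right_inv := fun y => Subtype.ext (by group) }
  · obtain ⟨h1, h2⟩ := Subgroup.mem_inf.1 y.2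
    rw [mem_cen] at h1 h2
    refine ⟨mem_cen.2 ?_, mem_cen.2 ?_⟩
    · calc g⁻¹ * y * g * (g⁻¹ * a * g) = g⁻¹ * (y * a) * g := by group
        _ = g⁻¹ * (a * y) * g := by rw [h1]
        _ = g⁻¹ * a * g * (g⁻¹ * y * g) := by group
    · calc g⁻¹ * y * g * t = g⁻¹ * (y * (g * t * g⁻¹)) * g := by group
        _ = g⁻¹ * (g * t * g⁻¹ * y) * g := by rw [h2]
        _ = t * (g⁻¹ * y * g) := by group
  · obtain ⟨h1, h2⟩ := Subgroup.mem_inf.1 y.2
    rw [mem_cen] at h1 h2
    refine ⟨mem_cen.2 ?_, mem_cen.2 ?_⟩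
    · calc g * y * g⁻¹ * a = g * (y * (g⁻¹ * a * g)) * g⁻¹ := by group
        _ = g * (g⁻¹ * a * g * y) * g⁻¹ := by rw [h1]
        _ = a * (g * y * g⁻¹) := by group
    · calc g * y * g⁻¹ * (g * t * g⁻¹) = g * (y * t) * g⁻¹ := by group
        _ = g * (t * y) * g⁻¹ := by rw [h2]
        _ = g * t * g⁻¹ * (g * y * g⁻¹) := by group

theorem cent_conj {s s' : G} (hs : Cent s) (hs' : Cent s') : IsConj s s' := by
  obtain ⟨h3, v, hv, hvs⟩ := hs
  obtain ⟨h3', v', hv', hvs'⟩ := hs'
  obtain ⟨g, rfl⟩ := isConj_iff.1 (hG.conj_invol v hv)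
  obtain ⟨g', rfl⟩ := isConj_iff.1 (hG.conj_invol v' hv')
  have key : ∀ (g a : G), g * t * g⁻¹ * a = a * (g * t * g⁻¹) →
      g⁻¹ * a * g * t = t * (g⁻¹ * a * g) := fun g a h => by
    calc g⁻¹ * a * g * t = g⁻¹ * (a * (g * t * g⁻¹)) * g := by group
      _ = g⁻¹ * (g * t * g⁻¹ * a) * g := by rw [h]
      _ = t * (g⁻¹ * a * g) := by group
  have ho : ∀ g a : G, orderOf (g⁻¹ * a * g) = orderOf a := fun g a => by
    have := orderOf_conj g⁻¹ a
    rwa [inv_inv] at this
  have h := hG.three_conj _ _ ((ho g s).trans h3) ((ho g' s').trans h3') (key g s hvs)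
    (key g' s' hvs')
  obtain ⟨c, hc⟩ := isConj_iff.1 h
  refine isConj_iff.2 ⟨g' * c * g⁻¹, ?_⟩
  calc g' * c * g⁻¹ * s * (g' * c * g⁻¹)⁻¹ = g' * (c * (g⁻¹ * s * g) * c⁻¹) * g'⁻¹ := by group
    _ = g' * (g'⁻¹ * s' * g') * g'⁻¹ := by rw [hc]
    _ = s' := by group

theorem sylow_card (P : Sylow 3 G) : Nat.card (P : Subgroup G) = 27 := by
  have : Fact (Nat.Prime 3) := ⟨Nat.prime_three⟩
  obtain ⟨k, hk⟩ := P.isPGroup'.exists_card_eq
  have h := (P : Subgroup G).index_mul_card
  rw [hG.card, hk] at h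
  have hi := P.not_dvd_index
  have hk3 : k ≤ 3 := by
    by_contra hlt
    have h81 : 3 ^ 4 ∣ 5616 := (pow_dvd_pow 3 (show 4 ≤ k by omega)).trans ⟨_, by rw [mul_comm]; exact h.symm⟩
    norm_num at h81
  obtain rfl : k = 3 := by
    interval_cases k <;> first | rfl | (exfalso; norm_num at h; omega)
  rw [hk]; norm_num

theorem card_mem {H : Subgroup G} {P : Sylow 3 G} (h : H ≤ P) :
    Nat.card H ∈ ({1, 3, 9, 27} : Finset ℕ) := by
  have := Subgroup.card_dvd_of_le h
  rw [sylow_card hG P] at this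
  rw [show ({1, 3, 9, 27} : Finset ℕ) = Nat.divisors 27 by decide]
  exact Nat.mem_divisors.2 ⟨this, by norm_num⟩

theorem no_thirteen {x y : G} (hx : orderOf x = 3) (hy : orderOf y = 13) : x * y ≠ y * x := by
  intro hxy
  have : Fact (Nat.Prime 13) := ⟨by norm_num⟩
  have : Fact (Nat.Prime 2) := ⟨Nat.prime_two⟩
  obtain ⟨Y, hY⟩ : ∃ Y : Sylow 13 G, (Y : Subgroup G) = zpowers y := by
    obtain ⟨Y, hY⟩ := (IsPGroup.of_card (p := 13) (n := 1) (G := zpowers y)
      (by rw [Nat.card_zpowers, hy, pow_one])).exists_le_sylow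
    refine ⟨Y, (Subgroup.eq_of_le_of_card_ge hY ?_).symm⟩
    obtain ⟨k, hk⟩ := Y.isPGroup'.exists_card_eq
    have h := Subgroup.card_subgroup_dvd_card (Y : Subgroup G)
    rw [hk, hG.card] at h
    rw [hk, Nat.card_zpowers, hy]
    by_contra hlt
    have h2 : 2 ≤ k := by
      by_contra hk2
      interval_cases k <;> norm_num at hlt
    have : 13 ^ 2 ∣ 5616 := (pow_dvd_pow 13 h2).trans h
    norm_num at this
  obtain ⟨N, eN⟩ : ∃ N, N = Subgroup.normalizer ((Y : Subgroup G) : Set G) := ⟨_, rfl⟩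
  have hcy : Subgroup.centralizer ((Y : Subgroup G) : Set G) = Cen[y] := by
    rw [hY, zpowers_eq_closure, centralizer_closure]
  have hCN : Subgroup.centralizer ((Y : Subgroup G) : Set G) ≤ N := eN ▸ centralizer_le_normalizer _
  have hn := Y.card_eq_index_normalizer
  have hmod := card_sylow_modEq_one 13 G
  have hdiv : Nat.card (Sylow 13 G) ∣ 432 := by
    have h1 := (Y : Subgroup G).index_mul_card
    rw [hG.card, hY, Nat.card_zpowers, hy] at h1
    have h2 := Y.card_dvd_index
    rw [hY] at h2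
    rwa [show (zpowers y).index = 432 by omega] at h2
  have hmem : Nat.card (Sylow 13 G) ∈ (Nat.divisors 432).filter fun d => d % 13 = 1 :=
    Finset.mem_filter.2 ⟨Nat.mem_divisors.2 ⟨hdiv, by norm_num⟩, hmod⟩
  rw [show (Nat.divisors 432).filter (fun d => d % 13 = 1) = {1, 27, 144} by decide +kernel] at hmem
  simp only [Finset.mem_insert, Finset.mem_singleton] at hmem
  have hN := N.index_mul_card
  rw [hG.card, show N.index = Nat.card (Sylow 13 G) by rw [eN]; exact hn.symm] at hN
  have hY13 : Nat.card (Y : Subgroup G) = 13 := by rw [hY, Nat.card_zpowers, hy]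
  have := hG.simple
  rcases hmem with h | h | h
  · rw [h, one_mul] at hN
    have htop : N = ⊤ := Subgroup.eq_top_of_card_eq _ (by rw [hN, hG.card])
    have hnor : (Y : Subgroup G).Normal := Subgroup.normalizer_eq_top_iff.1 (eN ▸ htop)
    rcases hnor.eq_bot_or_eq_top with e | e <;> rw [e] at hY13
    · rw [Subgroup.card_bot] at hY13; omega
    · rw [Subgroup.card_top, hG.card] at hY13; omega
  · -- a four-group or cyclic group of order four in the normaliser
    rw [h] at hN
    obtain ⟨W, hW⟩ := Sylow.exists_subgroup_card_pow_prime (G := N) 2 (n := 4) (by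
      rw [show Nat.card N = 208 by omega]; norm_num)
    let φ : N →* MulAut (Y : Subgroup G) := eN ▸ (Subgroup.normalizerMonoidHom (Y : Subgroup G))
    let ψ : W →* MulAut (Y : Subgroup G) := φ.comp W.subtype
    have hcard : Nat.card (MulAut (Y : Subgroup G)) = 12 := by
      have hc : IsCyclic (Y : Subgroup G) := isCyclic_of_prime_card hY13
      rw [IsCyclic.card_mulAut, hY13]
      rfl
    have hker : 2 ∣ Nat.card ψ.ker := by
      have h1 := ψ.ker.index_mul_card
      rw [Subgroup.index_ker, hW] at h1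
      have h2 : Nat.card ψ.range ∣ 12 := hcard ▸ Subgroup.card_subgroup_dvd_card _
      rcases Nat.even_or_odd (Nat.card ψ.ker) with he | ho
      · exact he.two_dvd
      · exfalso
        have h3 : (2 : ℕ) ^ 4 ∣ Nat.card ψ.range :=
          (Nat.Coprime.pow_left _ ((Nat.coprime_two_left).2 ho)).dvd_of_dvd_mul_right
            (dvd_of_eq h1.symm)
        exact absurd (h3.trans h2) (by norm_num)
    obtain ⟨v, hv⟩ := exists_prime_orderOf_dvd_card' (G := ψ.ker) 2 hker
    obtain ⟨w, ew⟩ : ∃ w : G, w = (((v : W) : N) : G) := ⟨_, rfl⟩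
    have hw : orderOf w = 2 := by
      rw [ew, Subgroup.orderOf_coe, Subgroup.orderOf_coe, Subgroup.orderOf_coe, hv]
    have hwy : y * w = w * y := by
      have hk : φ ((v : W) : N) = 1 := v.2
      subst eN
      have h1 := congrArg Subtype.val (DFunLike.congr_fun hk ⟨y, by rw [hY]; exact mem_zpowers y⟩)
      simp only [φ, Subgroup.normalizerMonoidHom_apply_apply_coe, MulAut.one_apply] at h1
      rw [← ew] at h1
      calc y * w = w * y * w⁻¹ * w := by rw [h1]
        _ = w * y := by group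
    have := Subgroup.card_dvd_of_le (show zpowers y ≤ Cen[w] from zpowers_le.2 (mem_cen.2 hwy))
    rw [Nat.card_zpowers, hy, card_cen_invol hG hw] at this
    norm_num at this
  · -- the normaliser has order 39 and is the centraliser
    rw [h] at hN
    have hle : N ≤ Subgroup.centralizer ((Y : Subgroup G) : Set G) := by
      refine (Subgroup.eq_of_le_of_card_ge hCN ?_).ge
      rw [show Nat.card N = 39 by omega]
      have h1 : 3 ∣ Nat.card (Subgroup.centralizer ((Y : Subgroup G) : Set G)) := by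
        rw [hcy, ← hx]
        exact Subgroup.orderOf_dvd_natCard _ (mem_cen.2 hxy)
      have h2 : 13 ∣ Nat.card (Subgroup.centralizer ((Y : Subgroup G) : Set G)) := by
        rw [hcy, ← hy]
        exact Subgroup.orderOf_dvd_natCard _ (mem_cen.2 rfl)
      exact Nat.le_of_dvd Nat.card_pos (Nat.Coprime.mul_dvd_of_dvd_of_dvd (by norm_num) h1 h2)
    have hc := MonoidHom.ker_transferSylow_isComplement' Y (eN ▸ hle)
    have hn' : (MonoidHom.transferSylow Y (eN ▸ hle)).ker.Normal := inferInstance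
    have hcm := hc.card_mul_card
    rw [hY13, hG.card] at hcm
    rcases hn'.eq_bot_or_eq_top with e | e <;> rw [e] at hcm
    · rw [Subgroup.card_bot] at hcm; omega
    · rw [Subgroup.card_top, hG.card] at hcm; omega

theorem not_four {x : G} (hx : orderOf x = 3) : ¬ 4 ∣ Nat.card Cen[x] := by
  intro h4
  have : Fact (Nat.Prime 2) := ⟨Nat.prime_two⟩
  obtain ⟨D, hD⟩ := Sylow.exists_subgroup_card_pow_prime (G := Cen[x]) 2 (n := 2)
    (by norm_num; exact h4)
  obtain ⟨v, hv⟩ := exists_prime_orderOf_dvd_card' (G := D) 2 (by rw [hD]; norm_num)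
  have hcomm := (IsPGroup.isMulCommutative_of_card_eq_prime_sq (p := 2) hD).is_comm.comm
  obtain ⟨w, ew⟩ : ∃ w : G, w = (((v : D) : Cen[x]) : G) := ⟨_, rfl⟩
  have hw : orderOf w = 2 := by rw [ew, Subgroup.orderOf_coe, Subgroup.orderOf_coe, hv]
  have hxw : x * w = w * x := by rw [ew]; exact (mem_cen.1 (v : Cen[x]).2).symm
  have hle : D.map Cen[x].subtype ≤ Cen[x] ⊓ Cen[w] := by
    rintro _ ⟨d, hd, rfl⟩
    refine ⟨d.2, mem_cen.2 ?_⟩
    rw [ew]
    exact congrArg (fun z : D => ((z : Cen[x]) : G)) (hcomm ⟨d, hd⟩ v)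
  have := Subgroup.card_dvd_of_le hle
  rw [Subgroup.card_map_of_injective Cen[x].subtype_injective, hD, card_inf hG hw hx hxw] at this
  norm_num at this

/-- Orders of centralisers of elements of order three. -/
theorem card_cen_three {x : G} (hx : orderOf x = 3) : Nat.card Cen[x] ∣ 54 := by
  have h1 : Nat.card Cen[x] ∣ 5616 := hG.card ▸ Subgroup.card_subgroup_dvd_card _
  have h13 : ¬ 13 ∣ Nat.card Cen[x] := fun h => by
    have : Fact (Nat.Prime 13) := ⟨by norm_num⟩
    obtain ⟨y, hy⟩ := exists_prime_orderOf_dvd_card' (G := Cen[x]) 13 h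
    exact no_thirteen hG hx (y := (y : G)) (by rw [Subgroup.orderOf_coe, hy])
      (mem_cen.1 y.2).symm
  have h2 := not_four hG hx
  have hmem : Nat.card Cen[x] ∈
      (Nat.divisors 5616).filter fun d => ¬ 13 ∣ d ∧ ¬ 4 ∣ d :=
    Finset.mem_filter.2 ⟨Nat.mem_divisors.2 ⟨h1, by norm_num⟩, h13, h2⟩
  revert hmem
  generalize Nat.card Cen[x] = d
  revert d
  decide +kernel

/-- The centraliser has order 18 or 54. -/
theorem card_cen_cent {s : G} (hs : Cent s) :
    Nat.card Cen[s] = 18 ∨ Nat.card Cen[s] = 54 := by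
  have : Fact (Nat.Prime 3) := ⟨Nat.prime_three⟩
  obtain ⟨h3, v, hv, hvs⟩ := hs
  have h54 := card_cen_three hG h3
  have h2 : 2 ∣ Nat.card Cen[s] := by
    rw [← hv]
    exact Subgroup.orderOf_dvd_natCard _ (mem_cen.2 hvs)
  obtain ⟨P, hP⟩ := (IsPGroup.of_card (p := 3) (n := 1) (G := zpowers s)
    (by rw [Nat.card_zpowers, h3, pow_one])).exists_le_sylow
  have hsP : s ∈ (P : Subgroup G) := hP (mem_zpowers s)
  obtain ⟨z, hz⟩ : ∃ z : center (P : Subgroup G), orderOf z = 3 := by
    refine exists_prime_orderOf_dvd_card' 3 ?_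
    have : Nontrivial (P : Subgroup G) := Finite.one_lt_card_iff_nontrivial.1
      (by rw [sylow_card hG P]; norm_num)
    obtain ⟨n, hn, h⟩ := ((P.isPGroup'.to_subgroup _).nontrivial_iff_card).mp
      P.isPGroup'.center_nontrivial
    rw [h]; exact dvd_pow_self 3 hn.ne'
  obtain ⟨c, ec⟩ : ∃ c : G, c = ((z : (P : Subgroup G)) : G) := ⟨_, rfl⟩
  have hc3 : orderOf c = 3 := by rw [ec, Subgroup.orderOf_coe, Subgroup.orderOf_coe, hz]
  have hcP : ∀ y ∈ (P : Subgroup G), y * c = c * y := fun y hy => by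
    rw [ec]; exact congrArg Subtype.val (Subgroup.mem_center_iff.1 z.2 ⟨y, hy⟩)
  have h9 : 9 ∣ Nat.card Cen[s] := by
    have hlt : 3 < Nat.card ↥((P : Subgroup G) ⊓ Cen[s]) := by
      by_cases hcs : c ∈ zpowers s
      · have hle : (P : Subgroup G) ≤ Cen[s] := by
          intro y hy
          refine mem_cen.2 ?_
          rcases zpowers_three h3 hcs with e | e | e
          · rw [e, orderOf_one] at hc3; omega
          · rw [← e]; exact hcP y hy
          · have : s = c⁻¹ := by rw [e, inv_inv]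
            rw [this]; exact (Commute.inv_right (hcP y hy)).eq
        rw [inf_eq_left.2 hle, sylow_card hG P]; norm_num
      · have h3' : Nat.card (zpowers s) = 3 := by rw [Nat.card_zpowers, h3]
        by_contra hle
        push Not at hle
        replace hle : Nat.card ↥((P : Subgroup G) ⊓ Cen[s]) ≤ Nat.card (zpowers s) := by omega
        have hsub : zpowers s ≤ (P : Subgroup G) ⊓ Cen[s] :=
          zpowers_le.2 ⟨hsP, mem_cen.2 rfl⟩
        have heq := Subgroup.eq_of_le_of_card_ge hsub hle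
        exact hcs (heq ▸ ⟨ec ▸ (z : (P : Subgroup G)).2, mem_cen.2 (hcP s hsP).symm⟩)
    have hmem := card_mem hG (H := (P : Subgroup G) ⊓ Cen[s]) inf_le_left
    simp only [Finset.mem_insert, Finset.mem_singleton] at hmem
    have hd := Subgroup.card_dvd_of_le (inf_le_right : (P : Subgroup G) ⊓ Cen[s] ≤ _)
    rcases hmem with e | e | e | e <;> rw [e] at hd hlt
    · omega
    · omega
    · exact hd
    · exact (by norm_num : 9 ∣ 27).trans hd
  have hmem : Nat.card Cen[s] ∈ (Nat.divisors 54).filter fun d => 2 ∣ d ∧ 9 ∣ d :=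
    Finset.mem_filter.2 ⟨Nat.mem_divisors.2 ⟨h54, by norm_num⟩, h2, h9⟩
  rw [show (Nat.divisors 54).filter (fun d => 2 ∣ d ∧ 9 ∣ d) = {18, 54} by decide] at hmem
  simpa using hmem

end CfsgLib.Recog.LThreeOrder
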