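import Cfsg.Agent.Lib.Recog.LThreeClasses
import Cfsg.Agent.Lib.Recog.LThreeOrder

/-!
# Groups with the commuting relation of `SL(3, 3)`
-/

set_option autoImplicit false
set_option linter.unusedSectionVars false

namespace CfsgLib.Recog.LThreeGraph

open Subgroup

universe u

local instance : Fact (Nat.Prime 3) := ⟨Nat.prime_three⟩

local notation "SL33" => Matrix.SpecialLinearGroup (Fin 3) (ZMod 3)
local notation "Cen[" x "]" => Subgroup.centralizer ({x} : Set _)

variable {H : Type u} [Group H] [Finite H]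

theorem mem_cen {x y : H} : y ∈ Cen[x] ↔ y * x = x * y := mem_centralizer_singleton_iff

/-- A Sylow subgroup of order 16 containing an abelian centraliser of order 8 with one central
involution does not exist. -/
theorem no_eight {x z : H} (T : Subgroup H) (hT : Nat.card T = 16) (hA : Nat.card Cen[x] = 8)
    (hle : Cen[x] ≤ T) (hx2 : x * x = 1) (hx1 : x ≠ 1) (hz : z ∈ Cen[x]) (hz2 : z * z = 1)
    (hz1 : z ≠ 1) (hzx : z ≠ x) (hzT : T ≤ Cen[z])
    (hab : ∀ a b, a ∈ Cen[x] → b ∈ Cen[x] → a * b = b * a)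
    (huniq : ∀ a ∈ Cen[x], a ≠ 1 → T ≤ Cen[a] → a = z) : False := by
  classical
  have hxA : x ∈ Cen[x] := mem_cen.2 rfl
  obtain ⟨τ, hτT, hτA⟩ : ∃ τ ∈ T, τ ∉ Cen[x] := by
    by_contra h
    simp only [not_exists, not_and, not_not] at h
    have := Nat.le_of_dvd (by omega) (card_dvd_of_le (show T ≤ Cen[x] from h))
    omega
  have hindex : (Cen[x].subgroupOf T).index = 2 := by
    have h := (Cen[x].subgroupOf T).index_mul_card
    rw [Nat.card_congr (subgroupOfEquivOfLe hle).toEquiv, hA, hT] at h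
    omega
  have hnorm := normal_of_index_eq_two hindex
  have hconjA : ∀ a ∈ Cen[x], τ * a * τ⁻¹ ∈ Cen[x] := fun a ha => by
    have := hnorm.conj_mem ⟨a, hle ha⟩ (mem_subgroupOf.2 ha) ⟨τ, hτT⟩
    exact mem_subgroupOf.1 this
  have hττ : τ * τ ∈ Cen[x] :=
    mem_subgroupOf.1 (sq_mem_of_index_two hindex ⟨τ, hτT⟩ |> fun h => by rwa [sq] at h)
  have hfix : ∀ a ∈ Cen[x], τ * a * τ⁻¹ = a → a = 1 ∨ a = z := by
    intro a ha e
    refine or_iff_not_imp_left.2 fun ha1 => huniq a ha ha1 ?_
    have hlt : Cen[x] < Cen[a] ⊓ T := by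
      refine lt_of_le_of_ne (fun b hb => ⟨mem_cen.2 (hab b a hb ha), hle hb⟩) fun e' => hτA ?_
      rw [e']
      refine ⟨mem_cen.2 ?_, hτT⟩
      calc τ * a = τ * a * τ⁻¹ * τ := by group
        _ = a * τ := by rw [e]
    have h1 : 8 ∣ Nat.card ↥(Cen[a] ⊓ T) := hA ▸ card_dvd_of_le hlt.le
    have h2 : Nat.card ↥(Cen[a] ⊓ T) ∣ 16 := hT ▸ card_dvd_of_le inf_le_right
    have h3 : Nat.card ↥(Cen[a] ⊓ T) ≠ 8 := fun e' =>
      hlt.ne (eq_of_le_of_card_ge hlt.le (by rw [hA, e']))
    have h4 : Nat.card ↥(Cen[a] ⊓ T) = 16 := by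
      obtain ⟨k, hk⟩ := h1
      have := Nat.le_of_dvd (by norm_num) h2
      have := Nat.card_pos (α := ↥(Cen[a] ⊓ T))
      omega
    exact inf_eq_right.1 (eq_of_le_of_card_ge inf_le_right (by rw [hT, h4]))
  obtain ⟨σ, eσ⟩ : ∃ σ : H → H, ∀ a, σ a = τ * a * τ⁻¹ := ⟨_, fun _ => rfl⟩
  have σmul : ∀ a b, σ (a * b) = σ a * σ b := fun a b => by simp only [eσ]; group
  have σσ : ∀ a ∈ Cen[x], σ (σ a) = a := fun a ha => by
    simp only [eσ]
    calc τ * (τ * a * τ⁻¹) * τ⁻¹ = τ * τ * a * (τ * τ)⁻¹ := by group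
      _ = a * (τ * τ) * (τ * τ)⁻¹ := by rw [hab _ _ hττ ha]
      _ = a := by group
  have σmem : ∀ a ∈ Cen[x], σ a ∈ Cen[x] := fun a ha => by rw [eσ]; exact hconjA a ha
  have σfix : ∀ a ∈ Cen[x], σ a = a → a = 1 ∨ a = z := fun a ha e =>
    hfix a ha ((eσ a).symm.trans e)
  have hnorm' : ∀ a ∈ Cen[x], a * σ a = 1 ∨ a * σ a = z := fun a ha =>
    σfix _ (mul_mem ha (σmem a ha)) (by rw [σmul, σσ a ha, hab _ _ (σmem a ha) ha])
  have σz : σ z = z := by
    rw [eσ, mem_cen.1 (hzT hτT)]
    group
  have σx : σ x = x * z := by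
    rcases hnorm' x hxA with e | e
    · have : σ x = x := by rw [eq_inv_of_mul_eq_one_right e]; exact inv_eq_of_mul_eq_one_right hx2
      rcases σfix x hxA this with h | h
      · exact absurd h hx1
      · exact absurd h.symm hzx
    · calc σ x = (x * x) * σ x := by rw [hx2, one_mul]
        _ = x * z := by rw [mul_assoc, e]
  obtain ⟨a, ha, hane⟩ : ∃ a ∈ Cen[x], a ∉ ({1, z, x, x * z} : Finset H) := by
    by_contra h
    simp only [not_exists, not_and, not_not] at h
    have h8 : Nat.card Cen[x] ≤ Nat.card ({1, z, x, x * z} : Finset H) :=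
      Nat.card_le_card_of_injective (fun b => (⟨b.1, h b.1 b.2⟩ : ({1, z, x, x * z} : Finset H)))
        fun b c e => Subtype.ext (congrArg (fun w : ({1, z, x, x * z} : Finset H) => (w : H)) e)
    have := Finset.card_le_four (a := 1) (b := z) (c := x) (d := x * z)
    rw [Nat.card_eq_finsetCard] at h8
    omega
  simp only [Finset.mem_insert, Finset.mem_singleton, not_or] at hane
  obtain ⟨ha1, haz, hax, haxz⟩ := hane
  have hzx' : z * x = x * z := hab _ _ hz hxA
  obtain ⟨b, hb, hb1, hbz, hbx, hbxz, hbJ⟩ : ∃ b ∈ Cen[x], b ≠ 1 ∧ b ≠ z ∧ b ≠ x ∧ b ≠ x * z ∧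
      b * σ b = 1 := by
    rcases hnorm' a ha with e | e
    · exact ⟨a, ha, ha1, haz, hax, haxz, e⟩
    · refine ⟨a * x, mul_mem ha hxA, fun h => hax ?_, fun h => haxz ?_, fun h => ha1 ?_,
        fun h => haz ?_, ?_⟩
      · calc a = a * x * x := by rw [mul_assoc, hx2, mul_one]
          _ = x := by rw [h, one_mul]
      · calc a = a * x * x := by rw [mul_assoc, hx2, mul_one]
          _ = x * z := by rw [h, hzx']
      · exact mul_right_cancel (h.trans (one_mul x).symm)
      · calc a = a * x * x := by rw [mul_assoc, hx2, mul_one]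
          _ = x * z * x := by rw [h]
          _ = x * x * z := by rw [mul_assoc, hzx', ← mul_assoc]
          _ = z := by rw [hx2, one_mul]
      · rw [σmul, σx]
        calc a * x * (σ a * (x * z)) = a * σ a * (x * x) * z := by
              rw [mul_assoc a x, ← mul_assoc x, hab _ _ hxA (σmem a ha)]; group
          _ = 1 := by rw [e, hx2, mul_one, hz2]
  have σb : σ b = b⁻¹ := eq_inv_of_mul_eq_one_right hbJ
  have hb2 : b * b ≠ 1 := fun e => by
    rcases σfix b hb (σb.trans (inv_eq_of_mul_eq_one_right e)) with h | h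
    · exact hb1 h
    · exact hbz h
  by_cases h4 : b * b * (b * b) = 1
  · have h := σfix _ (mul_mem hb hb) (by
      rw [σmul, σb]
      calc b⁻¹ * b⁻¹ = (b * b)⁻¹ := by group
        _ = b * b := inv_eq_of_mul_eq_one_right h4)
    rcases h with h | h
    · exact hb2 h
    · have hfx : σ (b * x) = b * x := by
        rw [σmul, σb, σx, ← hzx', ← h]
        group
      rcases σfix _ (mul_mem hb hxA) hfx with e | e
      · exact hbx (by
          calc b = b * x * x := by rw [mul_assoc, hx2, mul_one]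
            _ = x := by rw [e, one_mul])
      · exact hbxz (by
          calc b = b * x * x := by rw [mul_assoc, hx2, mul_one]
            _ = x * z := by rw [e, hzx'])
  · have h8 : b ^ 8 = 1 := by
      have := pow_card_eq_one' (G := Cen[x]) (x := ⟨b, hb⟩)
      rw [hA] at this
      exact congrArg Subtype.val this
    have hord : orderOf b = 2 ^ 3 :=
      orderOf_eq_prime_pow (fun e => h4 (by rw [← e]; norm_num [pow_succ, mul_assoc])) h8
    have htop : zpowers b = Cen[x] := eq_of_le_of_card_ge (zpowers_le.2 hb)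
      (by rw [hA, Nat.card_zpowers, hord]; norm_num)
    have hinv : ∀ w ∈ Cen[x], w * w = 1 → w ≠ 1 → w = b ^ 4 := by
      intro w hw hw2 hw1
      rw [← htop, ← mem_powers_iff_mem_zpowers] at hw
      obtain ⟨k, rfl⟩ := hw
      simp only [← pow_add] at hw2 ⊢
      rw [← orderOf_dvd_iff_pow_eq_one, hord] at hw2
      rw [ne_eq, ← orderOf_dvd_iff_pow_eq_one, hord] at hw1
      rw [← pow_mod_orderOf, hord]
      congr 1
      omega
    exact hzx ((hinv z hz hz2 hz1).trans (hinv x hxA hx2 hx1).symm)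

theorem card_class_of_cen {x : H} {k : ℕ} (hcard : Nat.card H = 5616) (h : Nat.card Cen[x] = k) :
    Nat.card {g : H // IsConj x g} = 5616 / k := by
  have h' := CfsgLib.Invol.card_class_mul_card_centralizer x
  rw [hcard, h] at h'
  have : 0 < k := h ▸ Nat.card_pos
  rw [← h', Nat.mul_div_cancel _ this]

theorem cen_conj (x g : H) : Nat.card Cen[g * x * g⁻¹] = Nat.card Cen[x] := by
  have h1 := CfsgLib.Invol.card_class_mul_card_centralizer x
  have h2 := CfsgLib.Invol.card_class_mul_card_centralizer (g * x * g⁻¹)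
  have hc : IsConj x (g * x * g⁻¹) := isConj_iff.2 ⟨g, rfl⟩
  rw [Nat.card_congr (Equiv.subtypeEquivRight fun y => ⟨hc.trans, hc.symm.trans⟩ :
    {y // IsConj (g * x * g⁻¹) y} ≃ {y // IsConj x y})] at h2
  exact Nat.eq_of_mul_eq_mul_left (Nat.card_pos_iff.2 ⟨⟨⟨x, IsConj.refl x⟩⟩, inferInstance⟩)
    (h2.trans h1.symm)

/-- A Sylow subgroup has an element of order `p` centralised by all of it. -/
theorem exists_central {p n : ℕ} [hp : Fact p.Prime] (hn : Nat.card H = 5616)
    (hfac : Nat.factorization 5616 p = n) (h0 : 0 < n) (T : Sylow p H) :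
    Nat.card T = p ^ n ∧ ∃ z ∈ (T : Subgroup H), orderOf z = p ∧ (T : Subgroup H) ≤ Cen[z] := by
  have hT : Nat.card T = p ^ n := by rw [T.card_eq_multiplicity, hn, hfac]
  have : Nontrivial (T : Subgroup H) := Finite.one_lt_card_iff_nontrivial.1
    (hT ▸ Nat.one_lt_pow (by omega) hp.out.one_lt)
  have hc := T.2.center_nontrivial
  obtain ⟨w, hw⟩ := exists_prime_orderOf_dvd_card' (G := center (T : Subgroup H)) p (by
    obtain ⟨m, hm⟩ := IsPGroup.iff_card.1 (T.2.to_subgroup (center (T : Subgroup H)))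
    rw [hm]
    refine dvd_pow_self p fun e => ?_
    rw [e, pow_zero] at hm
    exact absurd hm (Finite.one_lt_card (α := center (T : Subgroup H))).ne')
  refine ⟨hT, ((w : (T : Subgroup H)) : H), (w : (T : Subgroup H)).2, ?_, fun t ht => ?_⟩
  · rw [orderOf_coe, orderOf_coe, hw]
  · exact mem_cen.2 (congrArg Subtype.val (Subgroup.mem_center_iff.1 w.2 ⟨t, ht⟩))

/-- Class unions whose size divides the order. -/
theorem combos {a b c d i j : ℕ} (ha : a < 2) (hb : b < 4) (hc : c < 2) (hd : d < 5) (hi : i < 2)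
    (hj : j < 2)
    (h : 5616 % (1 + (a * 936 + (b * 702 + (c * 624 + (d * 432 + (i * 117 + j * 104)))))) = 0) :
    1 + (a * 936 + (b * 702 + (c * 624 + (d * 432 + (i * 117 + j * 104))))) = 1 ∨
      1 + (a * 936 + (b * 702 + (c * 624 + (d * 432 + (i * 117 + j * 104))))) = 5616 := by
  have key : ((List.range 2).all fun a => (List.range 4).all fun b => (List.range 2).all fun c =>
      (List.range 5).all fun d => (List.range 2).all fun i => (List.range 2).all fun j =>
      (5616 % (1 + (a * 936 + (b * 702 + (c * 624 + (d * 432 + (i * 117 + j * 104)))))) != 0 ||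
      (1 + (a * 936 + (b * 702 + (c * 624 + (d * 432 + (i * 117 + j * 104))))) == 1 ||
      1 + (a * 936 + (b * 702 + (c * 624 + (d * 432 + (i * 117 + j * 104))))) == 5616))) = true := by
    decide +kernel
  simp only [List.all_eq_true, List.mem_range] at key
  have := key a ha b hb c hc d hd i hi j hj
  simp only [Bool.or_eq_true, beq_iff_eq, bne_iff_ne] at this
  omega

variable (e : H ≃ SL33) (he1 : e 1 = 1) (hcomm : ∀ x y : H, x * y = y * x ↔ e x * e y = e y * e x)
include he1 hcomm

/-- A group with the commuting relation of `SL(3, 3)` satisfies the hypotheses of the recognition. -/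
theorem exists_hyp : ∃ t : H, LThreeOrder.Hyp H t := by
  classical
  have := Fintype.ofFinite H
  have hcard : Nat.card H = 5616 := (Nat.card_congr e).trans PlaneThirteen.card_sl.1
  have hne : ∀ x : H, x ≠ 1 → e x ≠ 1 := fun x h1 h2 => h1 (e.injective (h2.trans he1.symm))
  have hcent : ∀ x : H, Nat.card Cen[x] = Nat.card Cen[e x] := fun x =>
    Nat.card_congr (e.subtypeEquiv fun y => by
      rw [mem_centralizer_singleton_iff, mem_centralizer_singleton_iff]
      exact hcomm y x)
  have hmem : ∀ x : H, x ≠ 1 → Nat.card Cen[x] ∈ ({6, 8, 9, 13, 48, 54} : Finset ℕ) := fun x hx => by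
    rw [hcent]; exact LThreeClasses.card_cen_mem (hne x hx)
  have hone : ∀ k, k ≠ 5616 → ∀ x : H, Nat.card Cen[x] = k → x ≠ 1 := by
    rintro k hk x h rfl
    refine hk (h.symm.trans ?_)
    rw [hcent, he1, LThreeClasses.card_cen_one]
  have hcount : ∀ k, k ≠ 5616 → Nat.card {x : H // Nat.card Cen[x] = k} =
      ∑ i : Fin 11, if (LThreeClasses.reps.getD i.val (0, 0, 0, 0)).2.1 = k then 5616 / k else 0 :=
    fun k hk => (Nat.card_congr (e.subtypeEquiv fun x => by rw [hcent])).trans
      (LThreeClasses.card_cen_count hk)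
  have hcls : ∀ k, (∀ z : H, Nat.card Cen[z] = k → Nat.card {x : H // Nat.card Cen[x] = k} = 5616 / k)
      → ∀ x y : H, Nat.card Cen[x] = k → Nat.card Cen[y] = k → IsConj x y := by
    intro k hk x y hx hy
    have hsub : (Finset.univ.filter fun g : H => IsConj x g) =
        Finset.univ.filter fun g : H => Nat.card Cen[g] = k := by
      refine Finset.eq_of_subset_of_card_le (fun g hg => ?_) ?_
      · obtain ⟨c, rfl⟩ := isConj_iff.1 (Finset.mem_filter.1 hg).2
        exact Finset.mem_filter.2 ⟨Finset.mem_univ _, by rw [cen_conj, hx]⟩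
      · rw [← Fintype.card_subtype, ← Fintype.card_subtype, ← Nat.card_eq_fintype_card,
          ← Nat.card_eq_fintype_card, hk x hx, card_class_of_cen hcard hx]
    have : y ∈ Finset.univ.filter fun g : H => IsConj x g :=
      hsub ▸ Finset.mem_filter.2 ⟨Finset.mem_univ _, hy⟩
    exact (Finset.mem_filter.1 this).2
  have h48c := hcls 48 fun _ _ => (hcount 48 (by norm_num)).trans (by decide +kernel)
  have h54c := hcls 54 fun _ _ => (hcount 54 (by norm_num)).trans (by decide +kernel)
  -- Sylow subgroups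
  have : Fact (Nat.Prime 2) := ⟨Nat.prime_two⟩
  have hf2 : Nat.factorization 5616 2 = 4 := by
    rw [show (5616 : ℕ) = 2 ^ 4 * 351 by norm_num, Nat.factorization_mul (by norm_num) (by norm_num),
      Finsupp.coe_add, Pi.add_apply, Nat.Prime.factorization_pow Nat.prime_two,
      Finsupp.single_eq_same, Nat.factorization_eq_zero_of_not_dvd (by norm_num)]
  have hf3 : Nat.factorization 5616 3 = 3 := by
    rw [show (5616 : ℕ) = 3 ^ 3 * 208 by norm_num, Nat.factorization_mul (by norm_num) (by norm_num),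
      Finsupp.coe_add, Pi.add_apply, Nat.Prime.factorization_pow Nat.prime_three,
      Finsupp.single_eq_same, Nat.factorization_eq_zero_of_not_dvd (by norm_num)]
  have hcen2 : ∀ (T : Sylow 2 H) (z : H), z ≠ 1 → (T : Subgroup H) ≤ Cen[z] →
      Nat.card Cen[z] = 48 := by
    intro T z hz hle
    have hd := card_dvd_of_le hle
    rw [(exists_central hcard hf2 (by norm_num) T).1] at hd
    have := hmem z hz
    simp only [Finset.mem_insert, Finset.mem_singleton] at this
    rcases this with h | h | h | h | h | h <;> rw [h] at hd <;>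
      first
        | exact h
        | (norm_num at hd)
  obtain ⟨T₀⟩ := (inferInstance : Nonempty (Sylow 2 H))
  obtain ⟨-, t, htT, ht2, htle⟩ := exists_central hcard hf2 (by norm_num) T₀
  have ht48 : Nat.card Cen[t] = 48 :=
    hcen2 T₀ t (fun e' => by rw [e', orderOf_one] at ht2; omega) htle
  have h48two : ∀ x : H, Nat.card Cen[x] = 48 → orderOf x = 2 := fun x hx => by
    obtain ⟨c, rfl⟩ := isConj_iff.1 (h48c t x ht48 hx)
    rw [LThreeOrder.orderOf_conj, ht2]
  obtain ⟨T₃⟩ := (inferInstance : Nonempty (Sylow 3 H))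
  obtain ⟨-, s, -, hs3, hsle⟩ := exists_central hcard hf3 (by norm_num) T₃
  have hs54 : Nat.card Cen[s] = 54 := by
    have hd := card_dvd_of_le hsle
    rw [(exists_central hcard hf3 (by norm_num) T₃).1] at hd
    have := hmem s (fun e' => by rw [e', orderOf_one] at hs3; omega)
    simp only [Finset.mem_insert, Finset.mem_singleton] at this
    rcases this with h | h | h | h | h | h <;> rw [h] at hd <;>
      first
        | exact h
        | (norm_num at hd)
  have h54three : ∀ x : H, Nat.card Cen[x] = 54 → orderOf x = 3 := fun x hx => by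
    obtain ⟨c, rfl⟩ := isConj_iff.1 (h54c s x hs54 hx)
    rw [LThreeOrder.orderOf_conj, hs3]
  -- involutions
  have hinvol : ∀ x : H, orderOf x = 2 → Nat.card Cen[x] = 48 := by
    intro x hx
    have hx1 : x ≠ 1 := fun e' => by rw [e', orderOf_one] at hx; omega
    have hxx : x * x = 1 := by rw [← sq, ← hx, pow_orderOf_eq_one]
    have h2 : 2 ∣ Nat.card Cen[x] := hx ▸ orderOf_dvd_natCard _ (mem_cen.2 rfl)
    obtain ⟨T, hxT⟩ := (IsPGroup.of_card (n := 1) (by rw [Nat.card_zpowers, hx, pow_one]) :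
      IsPGroup 2 (zpowers x)).exists_le_sylow
    have hxT' : x ∈ (T : Subgroup H) := hxT (mem_zpowers x)
    obtain ⟨hT16, z, hzT, hz2, hzle⟩ := exists_central hcard hf2 (by norm_num) T
    have hz1 : z ≠ 1 := fun e' => by rw [e', orderOf_one] at hz2; omega
    have hmx := hmem x hx1
    simp only [Finset.mem_insert, Finset.mem_singleton] at hmx
    by_cases hzx : z = x
    · exact hzx ▸ hcen2 T z hz1 hzle
    have h4 : 4 ∣ Nat.card Cen[x] := by
      refine dvd_trans ?_ (card_dvd_of_le (inf_le_left : Cen[x] ⊓ (T : Subgroup H) ≤ Cen[x]))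
      obtain ⟨m, hm⟩ := IsPGroup.iff_card.1 (T.2.to_le (inf_le_right : Cen[x] ⊓ (T : Subgroup H) ≤ T))
      have h3 : 3 ≤ Nat.card ↥(Cen[x] ⊓ (T : Subgroup H)) := by
        have hsub : ({1, x, z} : Finset H) ⊆ ((Cen[x] ⊓ (T : Subgroup H) : Subgroup H) : Set H).toFinset := by
          intro w hw
          simp only [Finset.mem_insert, Finset.mem_singleton] at hw
          rw [Set.mem_toFinset]
          rcases hw with rfl | rfl | rfl
          · exact one_mem _
          · exact ⟨mem_cen.2 rfl, hxT'⟩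
          · exact ⟨mem_cen.2 (mem_cen.1 (hzle hxT')).symm, hzT⟩
        have := Finset.card_le_card hsub
        rwa [Finset.card_eq_three.2 ⟨1, x, z, Ne.symm hx1, Ne.symm hz1, Ne.symm hzx, rfl⟩,
          Set.toFinset_card, ← Nat.card_eq_fintype_card] at this
      rw [hm] at h3 ⊢
      obtain _ | _ | m := m
      · norm_num at h3
      · norm_num at h3
      · exact ⟨2 ^ m, by ring⟩
    rcases hmx with h | h | h | h | h | h <;> rw [h] at h4 <;>
      first
        | exact h
        | (exfalso; revert h4; norm_num; done)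
        | skip
    -- order eight
    have hA2 : IsPGroup 2 Cen[x] := IsPGroup.of_card (n := 3) (by rw [h]; norm_num)
    obtain ⟨T', hAT⟩ := hA2.exists_le_sylow
    obtain ⟨hT16', z', hz'T, hz'2, hz'le⟩ := exists_central hcard hf2 (by norm_num) T'
    have hz'1 : z' ≠ 1 := fun e' => by rw [e', orderOf_one] at hz'2; omega
    have hxA : x ∈ Cen[x] := mem_cen.2 rfl
    have hz'x : z' ∈ Cen[x] := mem_cen.2 (mem_cen.1 (hz'le (hAT hxA))).symm
    have h8 : Nat.card Cen[e x] = 8 := (hcent x).symm.trans h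
    obtain ⟨hab, h1⟩ := LThreeClasses.eight h8
    rw [Nat.card_eq_one_iff_unique] at h1
    have hz'ne : z' ≠ x := fun e' => by
      rw [← e', hcen2 T' z' hz'1 hz'le] at h
      omega
    refine (no_eight (T' : Subgroup H) (hT16'.trans (by norm_num)) h hAT hxx hx1 hz'x
      (by rw [← sq, ← hz'2, pow_orderOf_eq_one]) hz'1 hz'ne hz'le (fun a b ha hb => ?_)
      (fun a ha ha1 hle => ?_)).elim
    · exact (hcomm a b).2 (hab _ _ ((hcomm a x).1 (mem_cen.1 ha)) ((hcomm b x).1 (mem_cen.1 hb)))
    · have key : ∀ w : H, w ∈ Cen[x] → Nat.card Cen[w] = 48 →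
          e w * e x = e x * e w ∧ Nat.card Cen[e w] = 48 := fun w hw h' =>
        ⟨(hcomm w x).1 (mem_cen.1 hw), (hcent w).symm.trans h'⟩
      have h' := @Subsingleton.elim _ h1.1 ⟨e a, key a ha (hcen2 T' a ha1 hle)⟩
        ⟨e z', key z' hz'x (hcen2 T' z' hz'1 hz'le)⟩
      exact e.injective (congrArg Subtype.val h')
  -- simplicity
  have hsimple : IsSimpleGroup H := by
    have : Nontrivial H := Finite.one_lt_card_iff_nontrivial.1 (by omega)
    refine ⟨fun N hN => ?_⟩
    have hmult : ∀ k ∈ ({6, 8, 9, 13, 48, 54} : Finset ℕ), ∃ a,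
        (Finset.univ.filter fun g : H => (g ∈ N ∧ g ≠ 1) ∧ Nat.card Cen[g] = k).card =
          a * (5616 / k) ∧ a * (5616 / k) ≤
            ∑ i : Fin 11, if (LThreeClasses.reps.getD i.val (0, 0, 0, 0)).2.1 = k then 5616 / k
              else 0 := by
      intro k hk
      have hk' : k ≠ 5616 := by rintro rfl; simp at hk
      obtain ⟨S, eS⟩ : ∃ S, S = Finset.univ.filter fun g : H =>
          (g ∈ N ∧ g ≠ 1) ∧ Nat.card Cen[g] = k := ⟨_, rfl⟩
      have hfib : ∀ c ∈ S.image ConjClasses.mk,
          (S.filter fun g => ConjClasses.mk g = c).card = 5616 / k := by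
        intro c hc
        obtain ⟨a, ha, rfl⟩ := Finset.mem_image.1 hc
        rw [eS, Finset.mem_filter] at ha
        obtain ⟨-, ⟨haN, ha1⟩, hak⟩ := ha
        rw [← card_class_of_cen hcard hak, Nat.card_eq_fintype_card, Fintype.card_subtype]
        congr 1
        ext g
        simp only [eS, Finset.mem_filter, Finset.mem_univ, true_and,
          ConjClasses.mk_eq_mk_iff_isConj]
        refine ⟨fun h => h.2.symm, fun h => ⟨?_, h.symm⟩⟩
        obtain ⟨c, rfl⟩ := isConj_iff.1 h
        have hk2 : Nat.card Cen[c * a * c⁻¹] = k := by rw [cen_conj, hak]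
        exact ⟨⟨hN.conj_mem a haN c, hone k hk' _ hk2⟩, hk2⟩
      have hcnt := Finset.card_eq_sum_card_image ConjClasses.mk S
      rw [Finset.sum_congr rfl hfib, Finset.sum_const, smul_eq_mul] at hcnt
      refine ⟨(S.image ConjClasses.mk).card, by rw [← hcnt, eS], ?_⟩
      rw [← hcnt, ← hcount k hk', Nat.card_eq_fintype_card, Fintype.card_subtype, eS]
      exact Finset.card_le_card fun g hg => by
        simp only [Finset.mem_filter] at hg ⊢
        exact ⟨hg.1, hg.2.2⟩
    have hN : Nat.card N = 1 + ∑ k ∈ ({6, 8, 9, 13, 48, 54} : Finset ℕ),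
        (Finset.univ.filter fun g : H => (g ∈ N ∧ g ≠ 1) ∧ Nat.card Cen[g] = k).card := by
      obtain ⟨S, eS⟩ : ∃ S : Finset H, ∀ g, g ∈ S ↔ g ∈ N :=
        ⟨Finset.univ.filter fun g => g ∈ N, fun g => by simp⟩
      have h1 := Finset.card_eq_sum_card_fiberwise (f := fun g : H => Nat.card Cen[g])
        (s := S.erase 1) (t := ({6, 8, 9, 13, 48, 54} : Finset ℕ))
        (fun g hg => hmem g (Finset.ne_of_mem_erase hg))
      rw [Finset.card_erase_of_mem ((eS 1).2 (one_mem N))] at h1
      have h2 : Nat.card N = S.card := by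
        rw [← Nat.card_eq_finsetCard]
        exact Nat.card_congr (Equiv.subtypeEquivRight fun g => (eS g).symm)
      have h3 : 0 < Nat.card N := Nat.card_pos
      have h4 : ∀ k ∈ ({6, 8, 9, 13, 48, 54} : Finset ℕ),
          ((S.erase 1).filter fun g => Nat.card Cen[g] = k).card =
            (Finset.univ.filter fun g : H => (g ∈ N ∧ g ≠ 1) ∧ Nat.card Cen[g] = k).card := fun k _ =>
        congrArg Finset.card (by
          ext g
          simp only [Finset.mem_filter, Finset.mem_erase, Finset.mem_univ, true_and, eS]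
          tauto)
      rw [Finset.sum_congr rfl h4] at h1
      omega
    rw [Finset.sum_insert (by decide), Finset.sum_insert (by decide), Finset.sum_insert (by decide),
      Finset.sum_insert (by decide), Finset.sum_insert (by decide), Finset.sum_singleton] at hN
    obtain ⟨a, ea, la⟩ := hmult 6 (by decide)
    obtain ⟨b, eb, lb⟩ := hmult 8 (by decide)
    obtain ⟨c, ec, lc⟩ := hmult 9 (by decide)
    obtain ⟨d, ed, ld⟩ := hmult 13 (by decide)
    obtain ⟨i, ei, li⟩ := hmult 48 (by decide)
    obtain ⟨j, ej, lj⟩ := hmult 54 (by decide)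
    rw [ea, eb, ec, ed, ei, ej] at hN
    have hv : ∀ k ∈ ([(6, 936), (8, 2106), (9, 624), (13, 1728), (48, 117), (54, 104)] :
        List (ℕ × ℕ)), (∑ i : Fin 11, if (LThreeClasses.reps.getD i.val (0, 0, 0, 0)).2.1 = k.1
          then 5616 / k.1 else 0) = k.2 := by decide +kernel
    rw [hv (6, 936) (by simp)] at la
    rw [hv (8, 2106) (by simp)] at lb
    rw [hv (9, 624) (by simp)] at lc
    rw [hv (13, 1728) (by simp)] at ld
    rw [hv (48, 117) (by simp)] at li
    rw [hv (54, 104) (by simp)] at lj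
    simp only [Nat.reduceDiv] at la lb lc ld li lj hN
    have hdvd : Nat.card N ∣ 5616 := hcard ▸ N.card_subgroup_dvd_card
    rcases combos (a := a) (b := b) (c := c) (d := d) (i := i) (j := j) (by omega) (by omega) (by omega)
        (by omega) (by omega) (by omega)
        (by rw [← hN]; exact Nat.mod_eq_zero_of_dvd hdvd) with h | h
    · exact Or.inl (eq_bot_of_card_eq N (hN.trans h))
    · exact Or.inr (eq_top_of_card_eq N (hN.trans (h.trans hcard.symm)))
  have h54of : ∀ a : H, orderOf a = 3 → a * t = t * a → Nat.card Cen[a] = 54 := by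
    intro a ha hat
    have h2 : 2 ∣ Nat.card Cen[a] := ht2 ▸ orderOf_dvd_natCard _ (mem_cen.2 hat.symm)
    obtain ⟨Q, haQ⟩ := (IsPGroup.of_card (n := 1) (by rw [Nat.card_zpowers, ha, pow_one]) :
      IsPGroup 3 (zpowers a)).exists_le_sylow
    have haQ' : a ∈ (Q : Subgroup H) := haQ (mem_zpowers a)
    obtain ⟨hQ27, w, hwQ, hw3, hwle⟩ := exists_central hcard hf3 (by norm_num) Q
    have h9 : 9 ∣ Nat.card Cen[a] := by
      by_cases hwa : w ∈ zpowers a
      · have hle : (Q : Subgroup H) ≤ Cen[a] := by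
          intro q hq
          have haw : a ∈ zpowers w := by
            rw [eq_of_le_of_card_ge (zpowers_le.2 hwa)
              (by rw [Nat.card_zpowers, Nat.card_zpowers, ha, hw3])]
            exact mem_zpowers a
          obtain ⟨k, rfl⟩ := mem_zpowers_iff.1 haw
          exact mem_cen.2 (Commute.zpow_right (mem_cen.1 (hwle hq)) k).eq
        exact dvd_trans ⟨3, hQ27⟩ (card_dvd_of_le hle)
      · refine dvd_trans ?_ (card_dvd_of_le (inf_le_left : Cen[a] ⊓ (Q : Subgroup H) ≤ Cen[a]))
        obtain ⟨m, hm⟩ := IsPGroup.iff_card.1 (Q.2.to_le (inf_le_right : Cen[a] ⊓ (Q : Subgroup H) ≤ Q))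
        have hlt : zpowers a < Cen[a] ⊓ (Q : Subgroup H) := by
          refine lt_of_le_of_ne (zpowers_le.2 ⟨mem_cen.2 rfl, haQ'⟩) fun e' => hwa ?_
          rw [e']
          exact ⟨mem_cen.2 (mem_cen.1 (hwle haQ')).symm, hwQ⟩
        have h3 : 3 < Nat.card ↥(Cen[a] ⊓ (Q : Subgroup H)) := by
          by_contra hle
          exact hlt.ne (eq_of_le_of_card_ge hlt.le (by rw [Nat.card_zpowers, ha]; omega))
        rw [hm] at h3 ⊢
        obtain _ | _ | m := m
        · norm_num at h3
        · norm_num at h3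
        · exact ⟨3 ^ m, by ring⟩
    have := hmem a (fun e' => by rw [e', orderOf_one] at ha; omega)
    simp only [Finset.mem_insert, Finset.mem_singleton] at this
    rcases this with h | h | h | h | h | h
    case _ => rw [h] at h9; omega
    case _ => rw [h] at h9; omega
    case _ => rw [h] at h2; omega
    case _ => rw [h] at h9; omega
    case _ => rw [h] at h9; omega
    case _ => exact h
  refine ⟨t, hsimple, hcard, ht2, fun v hv => h48c t v ht48 (hinvol v hv), ht48, fun a ha hat => ?_,
    fun a b ha hb hat hbt => h54c a b (h54of a ha hat) (h54of b hb hbt)⟩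
  rw [← LThreeClasses.three ((hcent a).symm.trans (h54of a ha hat)) ((hcent t).symm.trans ht48)
    ((hcomm t a).1 hat.symm)]
  exact Nat.card_congr (e.subtypeEquiv fun y => by
    simp only [Subgroup.mem_inf, mem_centralizer_singleton_iff]
    exact and_congr (hcomm y a) (hcomm y t))

end CfsgLib.Recog.LThreeGraph
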