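import Cfsg.Agent.Lib.Recog.LThreeOrder

/-!
# Central elements of order three and their abelian groups of order nine
-/

set_option autoImplicit false
set_option linter.unusedSectionVars false

namespace CfsgLib.Recog.LThreeOrder

open Subgroup

universe u

local notation "Cen[" x "]" => Subgroup.centralizer ({x} : Set _)

variable {G : Type u} [Group G] [Finite G] {t : G} (hG : Hyp G t)
include hG

theorem comm_of_abelian_nine {H : Subgroup G} (h : Nat.card H = 9) {a b : G} (ha : a ∈ H)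
    (hb : b ∈ H) : a * b = b * a := by
  have : Fact (Nat.Prime 3) := ⟨Nat.prime_three⟩
  exact congrArg Subtype.val ((IsPGroup.isMulCommutative_of_card_eq_prime_sq (p := 3)
    (show Nat.card H = 3 ^ 2 by rw [h]; norm_num)).is_comm.comm ⟨a, ha⟩ ⟨b, hb⟩)

/-- Odd-order elements of the centraliser lie in a Sylow 3-subgroup of index two. -/
theorem mem_of_index_two {H : Subgroup G} {P : Sylow 3 G} (hPH : (P : Subgroup G) ≤ H)
    (hH : Nat.card H = 54) {x : G} (hxH : x ∈ H) (hx : Odd (orderOf x)) : x ∈ (P : Subgroup G) := by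
  have h2 : ((P : Subgroup G).subgroupOf H).index = 2 := by
    have h := ((P : Subgroup G).subgroupOf H).index_mul_card
    rw [Nat.card_congr (Subgroup.subgroupOfEquivOfLe hPH).toEquiv, sylow_card hG P, hH] at h
    omega
  obtain ⟨k, hk⟩ := hx
  have h := sq_mem_of_index_two h2 ((⟨x, hxH⟩ : H) ^ (k + 1))
  rw [Subgroup.mem_subgroupOf, Subgroup.coe_pow, Subgroup.coe_pow, ← pow_mul,
    show (k + 1) * 2 = orderOf x + 1 by omega, pow_succ, pow_orderOf_eq_one, one_mul] at h
  exact h

theorem le_normalizer_of_index_two {H : Subgroup G} {P : Sylow 3 G} (hPH : (P : Subgroup G) ≤ H)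
    (hH : Nat.card H = 54) : H ≤ Subgroup.normalizer ((P : Subgroup G) : Set G) := by
  have h2 : ((P : Subgroup G).subgroupOf H).index = 2 := by
    have h := ((P : Subgroup G).subgroupOf H).index_mul_card
    rw [Nat.card_congr (Subgroup.subgroupOfEquivOfLe hPH).toEquiv, sylow_card hG P, hH] at h
    omega
  have hn := normal_of_index_eq_two h2
  exact Subgroup.normal_subgroupOf_iff_le_normalizer hPH |>.1 hn

/-- The centraliser of a central element of order three has order 54. -/
theorem card_cen_54 {s : G} (hs : Cent s) : Nat.card Cen[s] = 54 := by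
  rcases card_cen_cent hG hs with h18 | h54
  swap
  · exact h54
  exfalso
  have : Fact (Nat.Prime 3) := ⟨Nat.prime_three⟩
  have : Fact (Nat.Prime 2) := ⟨Nat.prime_two⟩
  obtain ⟨h3, v, hv, hvs⟩ := id hs
  obtain ⟨R, hR⟩ := Sylow.exists_subgroup_card_pow_prime (G := Cen[s]) 3 (n := 2)
    (by rw [h18]; norm_num)
  have h2 : R.index = 2 := by
    have h := R.index_mul_card
    rw [hR, h18] at h
    omega
  have hnR := normal_of_index_eq_two h2
  obtain ⟨R', eR'⟩ : ∃ R', R' = R.map Cen[s].subtype := ⟨_, rfl⟩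
  have hR' : Nat.card R' = 9 := by
    rw [eR', Subgroup.card_map_of_injective Cen[s].subtype_injective, hR]; norm_num
  obtain ⟨P, hP⟩ := (IsPGroup.of_card (p := 3) (n := 2) (G := R')
    (by rw [hR']; norm_num)).exists_le_sylow
  have hsR : s ∈ R' := by
    have h := sq_mem_of_index_two h2 ((⟨s, mem_cen.2 rfl⟩ : Cen[s]) ^ 2)
    rw [eR']
    refine ⟨_, h, ?_⟩
    show ((s ^ 2) ^ 2 : G) = s
    rw [← pow_mul, show 2 * 2 = orderOf s + 1 by omega, pow_succ, pow_orderOf_eq_one, one_mul]
  have hsP := hP hsR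
  have hRC : R' ≤ Cen[s] := eR' ▸ Subgroup.map_subtype_le _
  have hsZ : ¬ ∀ y ∈ (P : Subgroup G), y * s = s * y := fun h => by
    have hle : (P : Subgroup G) ≤ Cen[s] := fun y hy => mem_cen.2 (h y hy)
    have := Subgroup.card_dvd_of_le hle
    rw [sylow_card hG P, h18] at this
    norm_num at this
  push Not at hsZ
  obtain ⟨p, hp, hps⟩ := hsZ
  obtain ⟨c, ec⟩ : ∃ c, c = p * s * p⁻¹ * s⁻¹ := ⟨_, rfl⟩
  have hcen := commutator_central (sylow_card hG P) (⟨p, hp⟩ : (P : Subgroup G)) ⟨s, hsP⟩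
  have hcP : c ∈ (P : Subgroup G) := ec ▸ (Subgroup.mul_mem _ (Subgroup.mul_mem _
    (Subgroup.mul_mem _ hp hsP) (inv_mem hp)) (inv_mem hsP))
  have hcom : ∀ y ∈ (P : Subgroup G), y * c = c * y := fun y hy => by
    rw [ec]
    exact congrArg Subtype.val (Subgroup.mem_center_iff.1 hcen ⟨y, hy⟩)
  have hc1 : c ≠ 1 := fun e => hps (by
    calc p * s = p * s * p⁻¹ * s⁻¹ * (s * p) := by group
      _ = s * p := by rw [← ec, e, one_mul])
  have hc27 : ¬ Nat.card Cen[c] = 18 := fun h => by
    have := Subgroup.card_dvd_of_le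
      (show (P : Subgroup G) ≤ Cen[c] from fun y hy => mem_cen.2 (hcom y hy))
    rw [sylow_card hG P, h] at this
    norm_num at this
  -- the centre
  have hR9 : ∀ x ∈ R', x * s = s * x := fun x hx => mem_cen.1 (hRC hx)
  have hRmax : ∀ x ∈ (P : Subgroup G), x * s = s * x → x ∈ R' := by
    intro x hx hxs
    have hle : R' ≤ (P : Subgroup G) ⊓ Cen[s] := le_inf hP hRC
    have hm := card_mem hG (H := (P : Subgroup G) ⊓ Cen[s]) inf_le_left
    simp only [Finset.mem_insert, Finset.mem_singleton] at hm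
    have hd := Subgroup.card_dvd_of_le (inf_le_right : (P : Subgroup G) ⊓ Cen[s] ≤ _)
    have hge := Subgroup.card_le_of_le hle
    rw [hR'] at hge
    rw [h18] at hd
    have h9 : Nat.card ↥((P : Subgroup G) ⊓ Cen[s]) = 9 := by
      rcases hm with e | e | e | e <;> rw [e] at hd hge ⊢ <;> omega
    rw [Subgroup.eq_of_le_of_card_ge hle (by rw [h9, hR'])]
    exact ⟨hx, mem_cen.2 hxs⟩
  have hcR : c ∈ R' := hRmax c hcP (hcom s hsP).symm
  have hc3 : orderOf c = 3 := by
    have hd := Subgroup.orderOf_dvd_natCard _ hcR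
    rw [hR'] at hd
    have hne : orderOf c ≠ 9 := fun h9 => by
      have hgen : zpowers c = R' := Subgroup.eq_of_le_of_card_ge (zpowers_le.2 hcR)
        (by rw [Nat.card_zpowers, h9, hR'])
      obtain ⟨k, hk⟩ := mem_zpowers_iff.1 (hgen.symm ▸ hsR : s ∈ zpowers c)
      exact hps (hk ▸ (Commute.zpow_right (hcom p hp) k).eq)
    have h1 : orderOf c ≠ 1 := fun e => hc1 (orderOf_eq_one_iff.1 e)
    have : orderOf c ∈ Nat.divisors 9 := Nat.mem_divisors.2 ⟨hd, by norm_num⟩
    rw [show Nat.divisors 9 = {1, 3, 9} by decide] at this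
    simp only [Finset.mem_insert, Finset.mem_singleton] at this
    omega
  have hcs : c ∉ zpowers s := by
    intro hm
    rcases zpowers_three h3 hm with e | e | e
    · exact hc1 e
    · exact hps (by rw [← e]; exact hcom p hp)
    · have : s = c⁻¹ := by rw [e, inv_inv]
      exact hps (by rw [this]; exact (Commute.inv_right (hcom p hp)).eq)
  have hconjp : p * s * p⁻¹ = c * s := by rw [ec]; group
  -- the non-central elements of `R'`
  have hnc : ∀ x ∈ R', ¬ Cent x → x ∈ zpowers c := by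
    intro x hx hnx
    have hgen : zpowers s ⊔ zpowers c = R' := by
      refine Subgroup.eq_of_le_of_card_ge (sup_le (zpowers_le.2 hsR) (zpowers_le.2 hcR)) ?_
      have hlt : 3 < Nat.card ↥(zpowers s ⊔ zpowers c) := by
        by_contra hle
        push Not at hle
        have heq := Subgroup.eq_of_le_of_card_ge (le_sup_left : zpowers s ≤ zpowers s ⊔ zpowers c)
          (by rw [Nat.card_zpowers, h3]; exact hle)
        exact hcs (heq ▸ (le_sup_right : zpowers c ≤ zpowers s ⊔ zpowers c) (mem_zpowers c))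
      have hd := Subgroup.card_dvd_of_le (sup_le (zpowers_le.2 hsR) (zpowers_le.2 hcR))
      rw [hR'] at hd ⊢
      have : Nat.card ↥(zpowers s ⊔ zpowers c) ∈ Nat.divisors 9 :=
        Nat.mem_divisors.2 ⟨hd, by norm_num⟩
      rw [show Nat.divisors 9 = {1, 3, 9} by decide] at this
      simp only [Finset.mem_insert, Finset.mem_singleton] at this
      omega
    have hN : zpowers s ≤ Subgroup.normalizer (zpowers c : Set G) :=
      le_trans (zpowers_le.2 (mem_centralizer_iff.2 (fun y hy => by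
        obtain ⟨k, rfl⟩ := mem_zpowers_iff.1 hy
        exact (Commute.zpow_left (hR9 c hcR) k).eq))) (centralizer_le_normalizer _)
    have hx' : x ∈ ((zpowers s ⊔ zpowers c : Subgroup G) : Set G) := hgen.symm ▸ hx
    rw [Subgroup.coe_mul_of_left_le_normalizer_right _ _ hN] at hx'
    obtain ⟨a, ha, b, hb, rfl⟩ := hx'
    have hcent1 : Cent (c * s) := hconjp ▸ hs.conj p
    have hcent2 : Cent (c⁻¹ * s) := by
      have h := hcent1.conj p
      rw [show p * (c * s) * p⁻¹ = p * c * p⁻¹ * (p * s * p⁻¹) by group, hconjp, hcom p hp,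
        show c * p * p⁻¹ = c by group, ← mul_assoc, cube_eq hc3] at h
      exact h
    beta_reduce at hnx ⊢
    rcases zpowers_three h3 ha with ea | ea | ea <;> rw [ea] at hnx ⊢
    · simpa using hb
    · exfalso
      rcases zpowers_three hc3 hb with eb | eb | eb <;> rw [eb] at hnx
      · exact hnx (by simpa using hs)
      · exact hnx (by rw [← hR9 c hcR]; exact hcent1)
      · exact hnx (by rw [← ((show Commute c s from hR9 c hcR).inv_left).eq]; exact hcent2)
    · exfalso
      rcases zpowers_three hc3 hb with eb | eb | eb <;> rw [eb] at hnx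
      · exact hnx (by simpa using hs.inv)
      · exact hnx (by simpa [mul_inv_rev] using hcent2.inv)
      · exact hnx (by simpa [mul_inv_rev] using hcent1.inv)
  have hvc : v * c * v⁻¹ = c⁻¹ := by
    have hmem : v * c * v⁻¹ ∈ R' := by
      rw [eR'] at hcR ⊢
      obtain ⟨c', hc', e⟩ := hcR
      exact ⟨_, hnR.conj_mem c' hc' ⟨v, mem_cen.2 hvs⟩, by rw [← e]; rfl⟩
    have hnv : ¬ Cent (v * c * v⁻¹) := fun h => by
      obtain ⟨g, hg⟩ := isConj_iff.1 (cent_conj hG hs h)
      have := card_cen_conj g s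
      rw [hg, h18, card_cen_conj] at this
      exact hc27 this
    rcases zpowers_three hc3 (hnc _ hmem hnv) with e | e | e
    · exact absurd (conj_eq_one_iff.1 e) hc1
    · exfalso
      obtain ⟨g, hg⟩ := isConj_iff.1 (cent_conj hG hs ⟨hc3, v, hv, by
        calc v * c = v * c * v⁻¹ * v := by group
          _ = c * v := by rw [e]⟩)
      exact hc27 (by rw [← hg, card_cen_conj, h18])
    · exact e
  -- an element of the normaliser inverting `c`
  have hcZ : c ∈ Subgroup.centralizer ((P : Subgroup G) : Set G) :=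
    mem_centralizer_iff.2 fun y hy => hcom y hy
  obtain ⟨n, hn, hne⟩ := P.conj_eq_normalizer_conj_of_mem_centralizer c v⁻¹ hcZ (by
    rw [inv_inv, hvc]; exact inv_mem hcZ)
  rw [inv_inv, hvc] at hne
  obtain ⟨N, eN⟩ : ∃ N, N = Subgroup.normalizer ((P : Subgroup G) : Set G) := ⟨_, rfl⟩
  have hNn : n⁻¹ ∈ N := eN ▸ inv_mem hn
  have hNinv : n⁻¹ * c * (n⁻¹)⁻¹ = c⁻¹ := by rw [inv_inv]; exact hne.symm
  have hcc : c ≠ c⁻¹ := fun e => by
    have := cube_eq hc3
    rw [← e] at this
    exact hc1 (mul_eq_left.1 this)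
  have hpow : ∀ j : ℕ, Odd j → n⁻¹ ^ j * c * (n⁻¹ ^ j)⁻¹ = c⁻¹ := by
    intro j hj
    induction j using Nat.twoStepInduction with
    | zero => simp at hj
    | one => simpa using hNinv
    | more j ih _ =>
      have hj' : Odd j := by rw [Nat.odd_add] at hj; simpa using hj
      rw [pow_add, show (n⁻¹ : G) ^ j * n⁻¹ ^ 2 * c * (n⁻¹ ^ j * n⁻¹ ^ 2)⁻¹ =
        n⁻¹ ^ j * (n⁻¹ * (n⁻¹ * c * (n⁻¹)⁻¹) * (n⁻¹)⁻¹) * (n⁻¹ ^ j)⁻¹ by group, hNinv,
        show n⁻¹ * c⁻¹ * (n⁻¹)⁻¹ = (n⁻¹ * c * (n⁻¹)⁻¹)⁻¹ by group, hNinv, inv_inv]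
      exact ih hj'
  have heven : 2 ∣ Nat.card N := by
    refine dvd_trans ?_ (Subgroup.orderOf_dvd_natCard N hNn)
    rw [← even_iff_two_dvd, ← Nat.not_odd_iff_even]
    intro ho
    have := hpow _ ho
    rw [pow_orderOf_eq_one, one_mul, inv_one, mul_one] at this
    exact hcc this
  have h4 : 4 ∣ Nat.card N := by
    have hmul := N.index_mul_card
    rw [hG.card] at hmul
    have hidx : N.index = Nat.card (Sylow 3 G) := eN ▸ P.card_eq_index_normalizer.symm
    have hd : N.index ∣ 208 := by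
      have h1 := (P : Subgroup G).index_mul_card
      rw [sylow_card hG P, hG.card] at h1
      rw [hidx, ← show (P : Subgroup G).index = 208 by omega]
      exact P.card_dvd_index
    have hmem : N.index ∈ (Nat.divisors 208).filter fun d => d % 3 = 1 :=
      Finset.mem_filter.2 ⟨Nat.mem_divisors.2 ⟨hd, by norm_num⟩,
        hidx ▸ card_sylow_modEq_one 3 G⟩
    rw [show (Nat.divisors 208).filter (fun d => d % 3 = 1) = {1, 4, 13, 16, 52, 208} by
      decide] at hmem
    simp only [Finset.mem_insert, Finset.mem_singleton] at hmem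
    rcases hmem with e | e | e | e | e | e <;> rw [e] at hmul <;> omega
  obtain ⟨W, hW⟩ := Sylow.exists_subgroup_card_pow_prime (G := N) 2 (n := 2)
    (by norm_num; exact h4)
  have hact : ∀ x ∈ N, x * c * x⁻¹ = c ∨ x * c * x⁻¹ = c⁻¹ := by
    intro x hx
    rw [eN] at hx
    have hm : x * c * x⁻¹ ∈ (P : Subgroup G) := (Subgroup.mem_normalizer_iff.1 hx c).1 hcP
    have hcomm' : ∀ y ∈ (P : Subgroup G), y * (x * c * x⁻¹) = x * c * x⁻¹ * y := by
      intro y hy
      have h := (Subgroup.mem_normalizer_iff.1 (inv_mem hx) y).1 hy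
      rw [inv_inv] at h
      calc y * (x * c * x⁻¹) = x * (x⁻¹ * y * x * c) * x⁻¹ := by group
        _ = x * (c * (x⁻¹ * y * x)) * x⁻¹ := by rw [hcom _ h]
        _ = x * c * x⁻¹ * y := by group
    have hnv : ¬ Cent (x * c * x⁻¹) := fun h => by
      obtain ⟨g, hg⟩ := isConj_iff.1 (cent_conj hG hs h)
      have := card_cen_conj g s
      rw [hg, h18, card_cen_conj] at this
      exact hc27 this
    rcases zpowers_three hc3 (hnc _ (hRmax _ hm (hcomm' s hsP).symm) hnv) with e | e | e
    · exact absurd (conj_eq_one_iff.1 e) hc1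
    · exact Or.inl e
    · exact Or.inr e
  have hinvol : ∀ w : W, orderOf w = 2 →
      ((w : N) : G) * c * ((w : N) : G)⁻¹ ≠ c := by
    intro w hw e
    obtain ⟨g, hg⟩ := isConj_iff.1 (cent_conj hG hs ⟨hc3, ((w : N) : G), by
      rw [Subgroup.orderOf_coe, Subgroup.orderOf_coe, hw], by
      calc ((w : N) : G) * c = ((w : N) : G) * c * ((w : N) : G)⁻¹ * (w : N) := by group
        _ = c * (w : N) := by rw [e]⟩)
    exact hc27 (by rw [← hg, card_cen_conj, h18])
  have hsq : ∀ x : W, (((x * x : W) : N) : G) * c * (((x * x : W) : N) : G)⁻¹ = c := by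
    intro x
    obtain ⟨y, ey⟩ : ∃ y : G, y = ((x : N) : G) := ⟨_, rfl⟩
    rw [Subgroup.coe_mul, Subgroup.coe_mul, ← ey,
      show y * y * c * (y * y)⁻¹ = y * (y * c * y⁻¹) * y⁻¹ by group]
    rcases hact y (ey ▸ (x : N).2) with e | e <;> rw [e]
    · exact e
    · rw [show y * c⁻¹ * y⁻¹ = (y * c * y⁻¹)⁻¹ by group, e, inv_inv]
  have hexp : ∀ x : W, x * x = 1 := by
    intro x
    by_contra hx
    refine hinvol (x * x) (orderOf_eq_prime ?_ hx) (hsq x)
    have h := pow_card_eq_one' (G := W) (x := x)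
    rw [hW] at h
    rw [pow_two, ← pow_two x, ← pow_two (x ^ 2), ← pow_mul]
    exact h
  obtain ⟨a, ha⟩ : ∃ a : W, a ≠ 1 := by
    have : Nontrivial W := Finite.one_lt_card_iff_nontrivial.1 (by rw [hW]; norm_num)
    exact exists_ne 1
  obtain ⟨b, hb1, hba⟩ : ∃ b : W, b ≠ 1 ∧ b ≠ a := by
    by_contra hall
    push Not at hall
    have hle : Nat.card W ≤ 2 := by
      rw [← Nat.card_fin 2]
      refine Nat.card_le_card_of_surjective (fun i : Fin 2 => if i = 0 then (1 : W) else a) ?_
      intro w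
      by_cases hw : w = 1
      · exact ⟨0, by simp [hw]⟩
      · exact ⟨1, by simp [hall w hw]⟩
    rw [hW] at hle
    norm_num at hle
  have o2 : ∀ x : W, x ≠ 1 → orderOf x = 2 := fun x hx =>
    orderOf_eq_prime (by rw [pow_two, hexp]) hx
  have hab : a * b ≠ 1 := fun e => hba (by
    rw [← mul_left_cancel_iff (a := a), e, hexp])
  refine hinvol (a * b) (o2 _ hab) ?_
  obtain ⟨y, ey⟩ : ∃ y : G, y = ((a : N) : G) := ⟨_, rfl⟩
  obtain ⟨z, ez⟩ : ∃ z : G, z = ((b : N) : G) := ⟨_, rfl⟩
  have e1 := (hact y (ey ▸ (a : N).2)).resolve_left (ey ▸ hinvol a (o2 a ha))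
  have e2 := (hact z (ez ▸ (b : N).2)).resolve_left (ez ▸ hinvol b (o2 b hb1))
  rw [Subgroup.coe_mul, Subgroup.coe_mul, ← ey, ← ez,
    show y * z * c * (y * z)⁻¹ = y * (z * c * z⁻¹) * y⁻¹ by group, e2,
    show y * c⁻¹ * y⁻¹ = (y * c * y⁻¹)⁻¹ by group, e1, inv_inv]

/-- The Sylow subgroup in the centraliser of a central element. -/
theorem exists_syl {s : G} (hs : Cent s) : ∃ P : Sylow 3 G, s ∈ (P : Subgroup G) ∧
    (P : Subgroup G) ≤ Cen[s] ∧ Cen[s] ≤ Subgroup.normalizer ((P : Subgroup G) : Set G) ∧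
    ∀ x, Odd (orderOf x) → x * s = s * x → x ∈ (P : Subgroup G) := by
  have : Fact (Nat.Prime 3) := ⟨Nat.prime_three⟩
  have h54 := card_cen_54 hG hs
  obtain ⟨R, hR⟩ := Sylow.exists_subgroup_card_pow_prime (G := Cen[s]) 3 (n := 3)
    (by rw [h54]; norm_num)
  have hR' : Nat.card (R.map Cen[s].subtype) = 27 := by
    rw [Subgroup.card_map_of_injective Cen[s].subtype_injective, hR]; norm_num
  obtain ⟨P, hP⟩ := (IsPGroup.of_card (p := 3) (n := 3) (G := R.map Cen[s].subtype)
    (by rw [hR']; norm_num)).exists_le_sylow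
  have hPC : (P : Subgroup G) ≤ Cen[s] := by
    rw [← Subgroup.eq_of_le_of_card_ge hP (by rw [hR', sylow_card hG P])]
    exact Subgroup.map_subtype_le _
  have hmem : ∀ x, Odd (orderOf x) → x * s = s * x → x ∈ (P : Subgroup G) := fun x hx hxs =>
    mem_of_index_two hG hPC h54 (mem_cen.2 hxs) hx
  exact ⟨P, hmem s (by rw [hs.1]; decide) rfl, hPC, le_normalizer_of_index_two hG hPC h54, hmem⟩

/-- The Sylow 3-subgroups are not abelian. -/
theorem not_abelian (P : Sylow 3 G) :
    ∃ a ∈ (P : Subgroup G), ∃ b ∈ (P : Subgroup G), a * b ≠ b * a := by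
  by_contra hall
  push Not at hall
  have : Fact (Nat.Prime 3) := ⟨Nat.prime_three⟩
  have hTI : ∀ Q : Sylow 3 G, Q ≠ P → (P : Subgroup G) ⊓ Q = ⊥ := by
    intro Q hQ
    by_contra hne
    have hQab : ∀ a ∈ (Q : Subgroup G), ∀ b ∈ (Q : Subgroup G), a * b = b * a := by
      obtain ⟨g, hg⟩ := MulAction.exists_smul_eq G P Q
      intro a ha b hb
      rw [← hg, Sylow.coe_subgroup_smul] at ha hb
      obtain ⟨a', ha', rfl⟩ := ha
      obtain ⟨b', hb', rfl⟩ := hb
      simp only [MulDistribMulAction.toMonoidEnd_apply, MulDistribMulAction.toMonoidHom_apply,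
        MulAut.smul_def, MulAut.conj_apply]
      calc g * a' * g⁻¹ * (g * b' * g⁻¹) = g * (a' * b') * g⁻¹ := by group
        _ = g * (b' * a') * g⁻¹ := by rw [hall a' ha' b' hb']
        _ = g * b' * g⁻¹ * (g * a' * g⁻¹) := by group
    have hd := Subgroup.card_dvd_of_le (inf_le_left : (P : Subgroup G) ⊓ Q ≤ _)
    rw [sylow_card hG P] at hd
    have h1 : Nat.card ↥((P : Subgroup G) ⊓ Q) ≠ 1 := fun e => hne (Subgroup.card_eq_one.1 e)
    have h3d : 3 ∣ Nat.card ↥((P : Subgroup G) ⊓ Q) := by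
      obtain ⟨k, hk, e⟩ := (Nat.dvd_prime_pow Nat.prime_three (m := 3)).1 (by norm_num; exact hd)
      rcases k with _ | k
      · exact absurd e h1
      · exact ⟨3 ^ k, by rw [e, pow_succ, mul_comm]⟩
    obtain ⟨y, hy⟩ := exists_prime_orderOf_dvd_card' 3 h3d
    obtain ⟨hyP, hyQ⟩ := Subgroup.mem_inf.1 y.2
    have hy3 : orderOf (y : G) = 3 := by rw [Subgroup.orderOf_coe, hy]
    have hP' : (P : Subgroup G) ≤ Cen[(y : G)] := fun a ha => mem_cen.2 (hall a ha _ hyP)
    have hQ' : (Q : Subgroup G) ≤ Cen[(y : G)] := fun a ha => mem_cen.2 (hQab a ha _ hyQ)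
    have h27 := Subgroup.card_dvd_of_le hP'
    rw [sylow_card hG P] at h27
    have h54 : Nat.card Cen[(y : G)] ∈ (Nat.divisors 54).filter fun d => 27 ∣ d :=
      Finset.mem_filter.2 ⟨Nat.mem_divisors.2 ⟨card_cen_three hG hy3, by norm_num⟩, h27⟩
    rw [show (Nat.divisors 54).filter (fun d => 27 ∣ d) = {27, 54} by decide] at h54
    simp only [Finset.mem_insert, Finset.mem_singleton] at h54
    refine hQ (Sylow.ext (Subgroup.eq_of_le_of_card_ge ?_ (by
      rw [sylow_card hG P, sylow_card hG Q]))).symm.symm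
    rcases h54 with e | e
    · rw [Subgroup.eq_of_le_of_card_ge hP' (by rw [e, sylow_card hG P])]
      exact hQ'
    · intro a ha
      refine mem_of_index_two hG hP' e (hQ' ha) ?_
      have := Subgroup.orderOf_dvd_natCard _ ha
      rw [sylow_card hG Q] at this
      exact Odd.of_dvd_nat (by decide) this
  let Y : SubMulAction (P : Subgroup G) (Sylow 3 G) :=
    { carrier := {Q | Q ≠ P}
      smul_mem' := fun a Q hQ e => hQ (by
        have hPP : (a : G) • P = P := Sylow.smul_eq_iff_mem_normalizer.2 (le_normalizer a.2)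
        exact (MulAction.injective (a : G)) (e.trans hPP.symm)) }
  have hdvd : 27 ∣ Nat.card Y := by
    refine dvd_card_of_orbits (X := (P : Subgroup G)) fun Q => ?_
    have hst : MulAction.stabilizer (P : Subgroup G) Q = ⊥ := by
      rw [eq_bot_iff]
      intro a ha
      have h1 : (a : G) • (Q : Sylow 3 G) = Q := congrArg Subtype.val ha
      rw [Sylow.smul_eq_iff_mem_normalizer] at h1
      have h2 : (a : G) ∈ (P : Subgroup G) ⊓ (Q : Sylow 3 G) := by
        refine ⟨a.2, ?_⟩
        have hz : IsPGroup 3 (zpowers (a : G)) :=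
          P.isPGroup'.to_le (zpowers_le.2 a.2)
        have := (hz.inf_normalizer_sylow (Q : Sylow 3 G)).le ⟨mem_zpowers _, h1⟩
        exact this.2
      rw [hTI Q.1 Q.2, Subgroup.mem_bot] at h2
      exact Subgroup.mem_bot.2 (Subtype.ext h2)
    rw [hst, Subgroup.index_bot, sylow_card hG P]
  have hY : Nat.card Y + 1 = Nat.card (Sylow 3 G) := by
    classical
    have := Fintype.ofFinite (Sylow 3 G)
    have e : Nat.card Y = Fintype.card {Q : Sylow 3 G // Q ≠ P} := by
      rw [← Nat.card_eq_fintype_card]; rfl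
    rw [e, Nat.card_eq_fintype_card, Fintype.card_subtype_compl, Fintype.card_subtype_eq]
    have := Fintype.card_pos_iff.2 (⟨P⟩ : Nonempty (Sylow 3 G))
    omega
  have hd208 : Nat.card (Sylow 3 G) ∣ 208 := by
    have h1 := (P : Subgroup G).index_mul_card
    rw [sylow_card hG P, hG.card] at h1
    rw [← show (P : Subgroup G).index = 208 by omega]
    exact P.card_dvd_index
  have hone : Nat.card (Sylow 3 G) = 1 := by
    obtain ⟨k, hk⟩ := hdvd
    have hmem : Nat.card (Sylow 3 G) ∈ (Nat.divisors 208).filter fun d => d % 27 = 1 :=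
      Finset.mem_filter.2 ⟨Nat.mem_divisors.2 ⟨hd208, by norm_num⟩, by omega⟩
    rw [show (Nat.divisors 208).filter (fun d => d % 27 = 1) = {1} by decide] at hmem
    simpa using hmem
  have := hG.simple
  have hn : (P : Subgroup G).Normal := by
    rw [← Subgroup.normalizer_eq_top_iff, ← Subgroup.index_eq_one]
    exact P.card_eq_index_normalizer.symm.trans hone
  have h27 := sylow_card hG P
  rcases hn.eq_bot_or_eq_top with e | e <;> rw [e] at h27
  · rw [Subgroup.card_bot] at h27; omega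
  · rw [Subgroup.card_top, hG.card] at h27; omega

end CfsgLib.Recog.LThreeOrder
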