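import Cfsg.Agent.Lib.Recog.LThreeLocal

/-!
# The two classes of elementary groups of order nine
-/

set_option autoImplicit false
set_option linter.unusedSectionVars false

namespace CfsgLib.Recog.LThreeOrder

open Subgroup

universe u

local notation "Cen[" x "]" => Subgroup.centralizer ({x} : Set _)

variable {G : Type u} [Group G] [Finite G] {t : G}

/-- A group of order nine of central elements. -/
def IsE (E : Subgroup G) : Prop := Nat.card E = 9 ∧ ∀ x ∈ E, x ≠ 1 → Cent x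

theorem Cent.ne_one {s : G} (hs : Cent s) : s ≠ 1 := fun e => by
  have := hs.1
  rw [e, orderOf_one] at this
  omega

theorem IsE.map {E : Subgroup G} (hE : IsE E) (g : G) :
    IsE (E.map (MulAut.conj g).toMonoidHom) := by
  refine ⟨by rw [Subgroup.card_map_of_injective (MulAut.conj g).injective, hE.1], ?_⟩
  rintro _ ⟨x, hx, rfl⟩ h
  exact (hE.2 x hx fun e => h (by rw [e, map_one])).conj g

variable (hG : Hyp G t)
include hG

theorem exists_inverting {s : G} (hs : Cent s) : ∃ n : G, n * s * n⁻¹ = s⁻¹ :=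
  isConj_iff.1 (cent_conj hG hs hs.inv)

/-- The centre of the Sylow subgroup. -/
theorem mem_zpowers_of_central {s x : G} (hs : Cent s) {P : Sylow 3 G} (hsP : s ∈ (P : Subgroup G))
    (hPs : (P : Subgroup G) ≤ Cen[s]) (hx : x ∈ (P : Subgroup G))
    (h : ∀ y ∈ (P : Subgroup G), y * x = x * y) : x ∈ zpowers s := by
  by_contra hnm
  obtain ⟨a, ha, b, hb, hab⟩ := not_abelian hG P
  obtain ⟨Z, eZ⟩ : ∃ Z, Z = zpowers s ⊔ zpowers x := ⟨_, rfl⟩
  have hZP : Z ≤ (P : Subgroup G) := eZ ▸ sup_le (zpowers_le.2 hsP) (zpowers_le.2 hx)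
  have hZc : ∀ z ∈ Z, ∀ y ∈ (P : Subgroup G), y * z = z * y := by
    intro z hz y hy
    have hle : Z ≤ Subgroup.centralizer ((P : Subgroup G) : Set G) := eZ ▸ sup_le
      (zpowers_le.2 (mem_centralizer_iff.2 fun w hw => mem_cen.1 (hPs hw)))
      (zpowers_le.2 (mem_centralizer_iff.2 fun w hw => h w hw))
    exact mem_centralizer_iff.1 (hle hz) y hy
  -- `Z` has order at least nine
  have hm := card_mem hG hZP
  simp only [Finset.mem_insert, Finset.mem_singleton] at hm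
  have hlt : 3 < Nat.card Z := by
    by_contra hle
    push Not at hle
    have heq : zpowers s = Z := Subgroup.eq_of_le_of_card_ge (eZ ▸ le_sup_left)
      (by rw [Nat.card_zpowers, hs.1]; exact hle)
    exact hnm (heq ▸ (eZ ▸ mem_sup_right (mem_zpowers x) : x ∈ Z))
  -- so it is centralised by too much
  obtain ⟨W, eW⟩ : ∃ W, W = Z ⊔ zpowers a := ⟨_, rfl⟩
  have hWP : W ≤ (P : Subgroup G) := eW ▸ sup_le hZP (zpowers_le.2 ha)
  have haZ : a ∉ Z := fun hm => hab (hZc a hm b hb).symm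
  have hWc : W ≤ Cen[a] := eW ▸ sup_le (fun z hz => mem_cen.2 (hZc z hz a ha).symm)
    (zpowers_le.2 (mem_cen.2 rfl))
  have hWlt : Nat.card Z < Nat.card W := by
    by_contra hle
    push Not at hle
    have heq : Z = W := Subgroup.eq_of_le_of_card_ge (eW ▸ le_sup_left) hle
    exact haZ (heq ▸ (eW ▸ mem_sup_right (mem_zpowers a) : a ∈ W))
  have hm' := card_mem hG hWP
  simp only [Finset.mem_insert, Finset.mem_singleton] at hm'
  have heq : W = (P : Subgroup G) :=
    Subgroup.eq_of_le_of_card_ge hWP (by rw [sylow_card hG P]; omega)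
  exact hab (mem_cen.1 (hWc (heq ▸ hb))).symm

/-- Two commuting central elements generate a group of order nine of central elements. -/
theorem exists_isE {s x : G} (hs : Cent s) (hx : Cent x) (hxs : x * s = s * x)
    (hne : x ∉ zpowers s) : ∃ E, IsE E ∧ s ∈ E ∧ x ∈ E := by
  obtain ⟨P, hsP, hPs, -, hP⟩ := exists_syl hG hs
  have hxP : x ∈ (P : Subgroup G) := hP x (by rw [hx.1]; decide) hxs
  obtain ⟨E, eE⟩ : ∃ E, E = zpowers s ⊔ zpowers x := ⟨_, rfl⟩
  have hsE : s ∈ E := eE ▸ mem_sup_left (mem_zpowers s)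
  have hxE : x ∈ E := eE ▸ mem_sup_right (mem_zpowers x)
  have hEP : E ≤ (P : Subgroup G) := eE ▸ sup_le (zpowers_le.2 hsP) (zpowers_le.2 hxP)
  have hEc : E ≤ Cen[x] :=
    eE ▸ sup_le (zpowers_le.2 (mem_cen.2 hxs.symm)) (zpowers_le.2 (mem_cen.2 rfl))
  obtain ⟨p, hp, hpx⟩ : ∃ p ∈ (P : Subgroup G), p * x ≠ x * p := by
    by_contra hall
    push Not at hall
    exact hne (mem_zpowers_of_central hG hs hsP hPs hxP hall)
  have h9 : Nat.card E = 9 := by
    have hm := card_mem hG hEP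
    simp only [Finset.mem_insert, Finset.mem_singleton] at hm
    have hlt : 3 < Nat.card E := by
      by_contra hle
      push Not at hle
      have heq : zpowers s = E := Subgroup.eq_of_le_of_card_ge (eE ▸ le_sup_left)
        (by rw [Nat.card_zpowers, hs.1]; exact hle)
      exact hne (heq ▸ hxE)
    have h27 : Nat.card E ≠ 27 := fun h => by
      have heq := Subgroup.eq_of_le_of_card_ge hEP (by rw [h, sylow_card hG P])
      exact hpx (mem_cen.1 (hEc (heq ▸ hp : p ∈ E)))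
    omega
  obtain ⟨c, ec⟩ : ∃ c, c = p * x * p⁻¹ * x⁻¹ := ⟨_, rfl⟩
  have hcen := commutator_central (sylow_card hG P) (⟨p, hp⟩ : (P : Subgroup G)) ⟨x, hxP⟩
  have hcP : c ∈ (P : Subgroup G) := ec ▸ (Subgroup.mul_mem _ (Subgroup.mul_mem _
    (Subgroup.mul_mem _ hp hxP) (inv_mem hp)) (inv_mem hxP))
  have hcs : c ∈ zpowers s := mem_zpowers_of_central hG hs hsP hPs hcP fun y hy => by
    rw [ec]; exact congrArg Subtype.val (Subgroup.mem_center_iff.1 hcen ⟨y, hy⟩)
  have hc1 : c ≠ 1 := fun e => hpx (by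
    calc p * x = p * x * p⁻¹ * x⁻¹ * (x * p) := by group
      _ = x * p := by rw [← ec, e, one_mul])
  have hps : p * s = s * p := mem_cen.1 (hPs hp)
  have h1 : Cent (c * x) := by
    have e : c * x = p * x * p⁻¹ := by rw [ec]; group
    exact e ▸ hx.conj p
  have hpc : p * c = c * p := by
    rcases zpowers_three hs.1 hcs with e | e | e <;> rw [e]
    · simp
    · exact hps
    · exact ((show Commute p s from hps).inv_right).eq
  have hcx : c * x = x * c := by
    rcases zpowers_three hs.1 hcs with e | e | e <;> rw [e]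
    · simp
    · exact hxs.symm
    · exact ((show Commute x s from hxs).inv_right).eq.symm
  have hc3 : orderOf c = 3 := by
    rcases zpowers_three hs.1 hcs with e | e | e
    · exact absurd e hc1
    · rw [e, hs.1]
    · rw [e, orderOf_inv, hs.1]
  have h2 : Cent (c⁻¹ * x) := by
    have h := h1.conj p
    rw [show p * (c * x) * p⁻¹ = p * c * p⁻¹ * (p * x * p⁻¹) by group, hpc,
      show c * p * p⁻¹ = c by group, show p * x * p⁻¹ = c * x by rw [ec]; group, ← mul_assoc,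
      cube_eq hc3] at h
    exact h
  refine ⟨E, ⟨h9, fun w hw hw1 => ?_⟩, hsE, hxE⟩
  have hN : zpowers s ≤ Subgroup.normalizer (zpowers x : Set G) :=
    le_trans (zpowers_le.2 (mem_centralizer_iff.2 fun y hy => by
      obtain ⟨k, rfl⟩ := mem_zpowers_iff.1 hy
      exact ((show Commute x s from hxs).zpow_left k).eq)) (centralizer_le_normalizer _)
  have hw' : w ∈ ((zpowers s ⊔ zpowers x : Subgroup G) : Set G) := eE ▸ hw
  rw [Subgroup.coe_mul_of_left_le_normalizer_right _ _ hN] at hw'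
  obtain ⟨a, ha, b, hb, rfl⟩ := hw'
  beta_reduce at hw1 ⊢
  have hsc : s = c ∨ s = c⁻¹ := by
    rcases zpowers_three hs.1 hcs with e | e | e
    · exact absurd e hc1
    · exact Or.inl e.symm
    · exact Or.inr (by rw [e, inv_inv])
  have hs1 : Cent (s * x) ∧ Cent (s⁻¹ * x) := by
    rcases hsc with e | e <;> rw [e]
    · exact ⟨h1, h2⟩
    · rw [inv_inv]; exact ⟨h2, h1⟩
  have hcomm : Commute s x := hxs.symm
  rcases zpowers_three hs.1 ha with ea | ea | ea <;> rw [ea] at hw1 ⊢ <;>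
    rcases zpowers_three hx.1 hb with eb | eb | eb <;> rw [eb] at hw1 ⊢
  · simp at hw1
  · simpa using hx
  · simpa using hx.inv
  · simpa using hs
  · exact hs1.1
  · rw [show s * x⁻¹ = (s⁻¹ * x)⁻¹ by rw [mul_inv_rev, inv_inv, hcomm.inv_right.eq]]
    exact hs1.2.inv
  · simpa using hs.inv
  · exact hs1.2
  · rw [show s⁻¹ * x⁻¹ = (s * x)⁻¹ by rw [← mul_inv_rev, hxs]]
    exact hs1.1.inv

/-- A member contains commuting independent elements. -/
theorem exists_pair {E : Subgroup G} (hE : IsE E) {s : G} (hs : s ∈ E) (hs1 : s ≠ 1) :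
    ∃ x ∈ E, x ∉ zpowers s ∧ Cent x ∧ x * s = s * x := by
  by_contra hall
  push Not at hall
  have hsub : E ≤ zpowers s := fun x hx => by
    by_contra hnm
    exact hall x hx hnm (hE.2 x hx (fun e => hnm (e ▸ one_mem _)))
      (comm_of_abelian_nine hG hE.1 hx hs)
  have := Subgroup.card_le_of_le hsub
  rw [hE.1, Nat.card_zpowers, (hE.2 s hs hs1).1] at this
  omega

/-- The centraliser of a member is itself. -/
theorem cen_isE {E : Subgroup G} (hE : IsE E) {g : G} (h : ∀ x ∈ E, g * x = x * g) : g ∈ E := by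
  obtain ⟨s, hs, hs1⟩ : ∃ s ∈ E, s ≠ 1 := E.bot_or_exists_ne_one.resolve_left fun e => by
    have := hE.1; rw [e, Subgroup.card_bot] at this; omega
  obtain ⟨x, hx, hxs, hxC, hcomm⟩ := exists_pair hG hE hs hs1
  have hsC := hE.2 s hs hs1
  obtain ⟨P, hsP, hPs, -, hP⟩ := exists_syl hG hsC
  obtain ⟨D, eD⟩ : ∃ D, D = Cen[s] ⊓ Cen[x] := ⟨_, rfl⟩
  have hED : E ≤ D := fun y hy => eD ▸ ⟨mem_cen.2 (comm_of_abelian_nine hG hE.1 hy hs),
    mem_cen.2 (comm_of_abelian_nine hG hE.1 hy hx)⟩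
  have hgD : g ∈ D := eD ▸ ⟨mem_cen.2 (h s hs), mem_cen.2 (h x hx)⟩
  have hd : Nat.card D ∣ 54 := by
    rw [← card_cen_54 hG hsC, eD]
    exact Subgroup.card_dvd_of_le inf_le_left
  have h9 : 9 ∣ Nat.card D := hE.1 ▸ Subgroup.card_dvd_of_le hED
  have hodd : ¬ 2 ∣ Nat.card D := by
    intro h2
    have : Fact (Nat.Prime 2) := ⟨Nat.prime_two⟩
    obtain ⟨v, hv⟩ := exists_prime_orderOf_dvd_card' (G := D) 2 h2
    obtain ⟨w, ew⟩ : ∃ w : G, w = (v : G) := ⟨_, rfl⟩
    have hw : orderOf w = 2 := by rw [ew, Subgroup.orderOf_coe, hv]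
    obtain ⟨h1, h2'⟩ := Subgroup.mem_inf.1 (eD ▸ v.2 : (v : G) ∈ Cen[s] ⊓ Cen[x])
    rw [← ew, mem_cen] at h1 h2'
    have hle : E ≤ Cen[s] ⊓ Cen[w] := by
      intro y hy
      refine ⟨mem_cen.2 (comm_of_abelian_nine hG hE.1 hy hs), mem_cen.2 ?_⟩
      -- `w` centralises the whole member
      have hgen : zpowers s ⊔ zpowers x = E := by
        refine Subgroup.eq_of_le_of_card_ge (sup_le (zpowers_le.2 hs) (zpowers_le.2 hx)) ?_
        have hlt : 3 < Nat.card ↥(zpowers s ⊔ zpowers x) := by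
          by_contra hle
          push Not at hle
          have heq := Subgroup.eq_of_le_of_card_ge (le_sup_left : zpowers s ≤ zpowers s ⊔ zpowers x)
            (by rw [Nat.card_zpowers, hsC.1]; exact hle)
          exact hxs (heq ▸ mem_sup_right (mem_zpowers x))
        have hd' := Subgroup.card_dvd_of_le (sup_le (zpowers_le.2 hs) (zpowers_le.2 hx))
        rw [hE.1] at hd' ⊢
        have : Nat.card ↥(zpowers s ⊔ zpowers x) ∈ Nat.divisors 9 :=
          Nat.mem_divisors.2 ⟨hd', by norm_num⟩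
        rw [show Nat.divisors 9 = {1, 3, 9} by decide] at this
        simp only [Finset.mem_insert, Finset.mem_singleton] at this
        omega
      have hle' : E ≤ Cen[w] := hgen ▸ sup_le (zpowers_le.2 (mem_cen.2 h1.symm))
        (zpowers_le.2 (mem_cen.2 h2'.symm))
      exact mem_cen.1 (hle' hy)
    have := Subgroup.card_dvd_of_le hle
    rw [hE.1, card_inf hG hw hsC.1 h1.symm] at this
    norm_num at this
  have hmem : Nat.card D ∈ (Nat.divisors 54).filter fun d => 9 ∣ d ∧ ¬ 2 ∣ d :=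
    Finset.mem_filter.2 ⟨Nat.mem_divisors.2 ⟨hd, by norm_num⟩, h9, hodd⟩
  rw [show (Nat.divisors 54).filter (fun d => 9 ∣ d ∧ ¬ 2 ∣ d) = {9, 27} by decide] at hmem
  simp only [Finset.mem_insert, Finset.mem_singleton] at hmem
  rcases hmem with e | e
  · exact (Subgroup.eq_of_le_of_card_ge hED (by rw [e, hE.1])) ▸ hgD
  · exfalso
    have hDP : D ≤ (P : Subgroup G) := fun y hy => by
      refine hP y (Odd.of_dvd_nat (show Odd (27 : ℕ) by decide) (e ▸ Subgroup.orderOf_dvd_natCard D hy)) ?_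
      exact mem_cen.1 (show y ∈ Cen[s] from (eD ▸ hy : y ∈ Cen[s] ⊓ Cen[x]).1)
    have heq := Subgroup.eq_of_le_of_card_ge hDP (by rw [e, sylow_card hG P])
    refine hxs (mem_zpowers_of_central hG hsC hsP hPs (hDP (hED hx)) fun y hy => ?_)
    exact mem_cen.1 (show y ∈ Cen[x] from (eD ▸ (heq ▸ hy : y ∈ D) : y ∈ Cen[s] ⊓ Cen[x]).2)

/-- The centraliser of a member's element normalises it. -/
theorem cen_le_normalizer {E : Subgroup G} (hE : IsE E) {s : G} (hs : s ∈ E) (hs1 : s ≠ 1) :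
    Cen[s] ≤ Subgroup.normalizer (E : Set G) := by
  have hsC := hE.2 s hs hs1
  obtain ⟨P, hsP, hPs, hCN, hP⟩ := exists_syl hG hsC
  have hEP : E ≤ (P : Subgroup G) := fun y hy => by
    refine hP y (Odd.of_dvd_nat (show Odd (9 : ℕ) by decide) ?_) (comm_of_abelian_nine hG hE.1 hy hs)
    exact hE.1 ▸ Subgroup.orderOf_dvd_natCard E hy
  have hzE : zpowers s ≤ E := zpowers_le.2 hs
  have hPE : (P : Subgroup G) ≤ Subgroup.normalizer (E : Set G) := by
    have key : ∀ p ∈ (P : Subgroup G), ∀ e ∈ E, p * e * p⁻¹ ∈ E := by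
      intro p hp e he
      have hc := commutator_central (sylow_card hG P) (⟨p, hp⟩ : (P : Subgroup G)) ⟨e, hEP he⟩
      have hcs : p * e * p⁻¹ * e⁻¹ ∈ zpowers s := mem_zpowers_of_central hG hsC hsP hPs
        (Subgroup.mul_mem _ (Subgroup.mul_mem _ (Subgroup.mul_mem _ hp (hEP he)) (inv_mem hp))
          (inv_mem (hEP he))) fun y hy =>
        congrArg Subtype.val (Subgroup.mem_center_iff.1 hc ⟨y, hy⟩)
      have := E.mul_mem (hzE hcs) he
      rwa [inv_mul_cancel_right] at this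
    intro p hp
    rw [Subgroup.mem_normalizer_iff]
    refine fun e => ⟨key p hp e, fun h => ?_⟩
    have := key p⁻¹ (inv_mem hp) _ h
    rwa [inv_inv, show p⁻¹ * (p * e * p⁻¹) * p = e by group] at this
  obtain ⟨-, v, hv, hvs⟩ := id hsC
  have hv2 : v * v = 1 := by rw [← pow_two, ← hv, pow_orderOf_eq_one]
  have hvi : v⁻¹ = v := inv_eq_of_mul_eq_one_right hv2
  have hvN : v ∈ Subgroup.normalizer ((P : Subgroup G) : Set G) := hCN (mem_cen.2 hvs)
  have hkey : ∀ e ∈ E, v * e * v⁻¹ ∈ E := by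
    intro x hx
    have hxP := hEP hx
    obtain ⟨x', ex'⟩ : ∃ x', x' = v * x * v⁻¹ := ⟨_, rfl⟩
    have hx'P : x' ∈ (P : Subgroup G) := ex' ▸ (Subgroup.mem_normalizer_iff.1 hvN x).1 hxP
    have hvx' : v * x' * v⁻¹ = x := by
      rw [ex', hvi]
      calc v * (v * x * v) * v = v * v * x * (v * v) := by group
        _ = x := by rw [hv2, one_mul, mul_one]
    obtain ⟨y, ey⟩ : ∃ y, y = x' * x := ⟨_, rfl⟩
    have hyP : y ∈ (P : Subgroup G) := ey ▸ Subgroup.mul_mem _ hx'P hxP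
    obtain ⟨z, ez⟩ : ∃ z, z = x * x' * x⁻¹ * x'⁻¹ := ⟨_, rfl⟩
    have hc := commutator_central (sylow_card hG P) (⟨x, hxP⟩ : (P : Subgroup G)) ⟨x', hx'P⟩
    have hzs : z ∈ zpowers s := ez ▸ mem_zpowers_of_central hG hsC hsP hPs
      (Subgroup.mul_mem _ (Subgroup.mul_mem _ (Subgroup.mul_mem _ hxP hx'P) (inv_mem hxP))
        (inv_mem hx'P)) (fun w hw =>
        congrArg Subtype.val (Subgroup.mem_center_iff.1 hc ⟨w, hw⟩))
    have hzv : v * z * v⁻¹ = z := by
      obtain ⟨k, rfl⟩ := mem_zpowers_iff.1 hzs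
      rw [((show Commute v s from hvs).zpow_right k).eq, mul_inv_cancel_right]
    have h1 : v * y * v⁻¹ = z * y := by
      rw [ey, show v * (x' * x) * v⁻¹ = v * x' * v⁻¹ * (v * x * v⁻¹) by group, hvx', ← ex', ez]
      group
    have h2 : y = z * (z * y) := by
      calc y = v * (v * y * v⁻¹) * v⁻¹ := by
            rw [hvi]
            calc y = v * v * y * (v * v) := by rw [hv2, one_mul, mul_one]
              _ = _ := by group
        _ = v * (z * y) * v⁻¹ := by rw [h1]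
        _ = v * z * v⁻¹ * (v * y * v⁻¹) := by group
        _ = z * (z * y) := by rw [hzv, h1]
    have hz1 : z = 1 := by
      have hzz : z * z = 1 := by
        rw [← mul_assoc] at h2
        exact mul_eq_right.1 h2.symm
      rcases zpowers_three hsC.1 hzs with e | e | e
      · exact e
      · rw [e, cube_eq hsC.1] at hzz
        exact absurd (inv_eq_one.1 hzz) hs1
      · rw [e, cube_eq (orderOf_inv s ▸ hsC.1), inv_inv] at hzz
        exact absurd hzz hs1
    rw [hz1, one_mul] at h1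
    have hyC : y ∈ (P : Subgroup G) ⊓ (Cen[s] ⊓ Cen[v]) :=
      ⟨hyP, hPs hyP, mem_cen.2 (by
        calc y * v = v * y * v⁻¹ * v := by rw [h1]
          _ = v * y := by group)⟩
    have hyz : y ∈ zpowers s := by
      have hle : zpowers s ≤ (P : Subgroup G) ⊓ (Cen[s] ⊓ Cen[v]) :=
        zpowers_le.2 ⟨hsP, mem_cen.2 rfl, mem_cen.2 hvs.symm⟩
      refine (Subgroup.eq_of_le_of_card_ge hle ?_) ▸ hyC
      have hd1 := Subgroup.card_dvd_of_le
        (inf_le_left : (P : Subgroup G) ⊓ (Cen[s] ⊓ Cen[v]) ≤ _)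
      have hd2 := Subgroup.card_dvd_of_le
        (inf_le_right : (P : Subgroup G) ⊓ (Cen[s] ⊓ Cen[v]) ≤ _)
      rw [sylow_card hG P] at hd1
      rw [card_inf hG hv hsC.1 hvs.symm] at hd2
      rw [Nat.card_zpowers, hsC.1]
      exact Nat.le_of_dvd (by norm_num) ((Nat.dvd_gcd hd1 hd2).trans (by norm_num))
    have := E.mul_mem (hzE hyz) (E.inv_mem hx)
    rwa [ey, mul_inv_cancel_right, ex'] at this
  have hvE : v ∈ Subgroup.normalizer (E : Set G) := by
    rw [Subgroup.mem_normalizer_iff]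
    refine fun e => ⟨hkey e, fun h => ?_⟩
    have h' := hkey _ h
    rw [hvi] at h'
    rwa [show v * (v * e * v) * v = (v * v) * e * (v * v) by group, hv2, one_mul, mul_one] at h'
  intro g hg
  have h2 : ((P : Subgroup G).subgroupOf Cen[s]).index = 2 := by
    have h := ((P : Subgroup G).subgroupOf Cen[s]).index_mul_card
    rw [Nat.card_congr (Subgroup.subgroupOfEquivOfLe hPs).toEquiv, sylow_card hG P,
      card_cen_54 hG hsC] at h
    omega
  by_cases hgP : g ∈ (P : Subgroup G)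
  · exact hPE hgP
  have hvP : v ∉ (P : Subgroup G) := fun h => by
    have hd := Subgroup.orderOf_dvd_natCard _ h
    rw [sylow_card hG P, hv] at hd
    norm_num at hd
  have hgv : g * v ∈ (P : Subgroup G) :=
    (mul_mem_iff_of_index_two h2 (a := (⟨g, hg⟩ : Cen[s])) (b := ⟨v, mem_cen.2 hvs⟩)).2
      ⟨fun h => absurd h hgP, fun h => absurd h hvP⟩
  have h := Subgroup.mul_mem _ (hPE hgv) (inv_mem hvE)
  rwa [mul_inv_cancel_right] at h

/-- Commutation by the centraliser. -/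
theorem exists_transvection {E : Subgroup G} (hE : IsE E) {s x : G} (hs : s ∈ E) (hs1 : s ≠ 1)
    (hx : x ∈ E) (hxs : x ∉ zpowers s) :
    ∃ p ∈ Subgroup.normalizer (E : Set G), p * s * p⁻¹ = s ∧ p * x * p⁻¹ = s * x := by
  have hsC := hE.2 s hs hs1
  obtain ⟨P, hsP, hPs, -, hP⟩ := exists_syl hG hsC
  have hxP : x ∈ (P : Subgroup G) := hP x (Odd.of_dvd_nat (show Odd (9 : ℕ) by decide)
    (hE.1 ▸ Subgroup.orderOf_dvd_natCard E hx)) (comm_of_abelian_nine hG hE.1 hx hs)
  obtain ⟨p, hp, hpx⟩ : ∃ p ∈ (P : Subgroup G), p * x ≠ x * p := by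
    by_contra hall
    push Not at hall
    exact hxs (mem_zpowers_of_central hG hsC hsP hPs hxP hall)
  have hc := commutator_central (sylow_card hG P) (⟨p, hp⟩ : (P : Subgroup G)) ⟨x, hxP⟩
  have hcs : p * x * p⁻¹ * x⁻¹ ∈ zpowers s := mem_zpowers_of_central hG hsC hsP hPs
    (Subgroup.mul_mem _ (Subgroup.mul_mem _ (Subgroup.mul_mem _ hp hxP) (inv_mem hp))
      (inv_mem hxP)) fun y hy => congrArg Subtype.val (Subgroup.mem_center_iff.1 hc ⟨y, hy⟩)
  have hN : p ∈ Subgroup.normalizer (E : Set G) := cen_le_normalizer hG hE hs hs1 (hPs hp)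
  have hps : p * s * p⁻¹ = s := by rw [mem_cen.1 (hPs hp), mul_inv_cancel_right]
  rcases zpowers_three hsC.1 hcs with e | e | e
  · exact absurd (by calc p * x = p * x * p⁻¹ * x⁻¹ * (x * p) := by group
                      _ = x * p := by rw [e, one_mul]) hpx
  · exact ⟨p, hN, hps, by rw [← e]; group⟩
  · have e' : p * x * p⁻¹ = s⁻¹ * x := by rw [← e]; group
    refine ⟨p * p, Subgroup.mul_mem _ hN hN, ?_, ?_⟩
    · rw [show p * p * s * (p * p)⁻¹ = p * (p * s * p⁻¹) * p⁻¹ by group, hps, hps]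
    · rw [show p * p * x * (p * p)⁻¹ = p * (p * x * p⁻¹) * p⁻¹ by group, e',
        show p * (s⁻¹ * x) * p⁻¹ = (p * s * p⁻¹)⁻¹ * (p * x * p⁻¹) by group, hps, e', ← mul_assoc,
        cube_eq (orderOf_inv s ▸ hsC.1), inv_inv]

/-- The normaliser is transitive on the nonidentity elements. -/
theorem exists_map {E : Subgroup G} (hE : IsE E) {s y : G} (hs : s ∈ E) (hs1 : s ≠ 1) (hy : y ∈ E)
    (hy1 : y ≠ 1) : ∃ n ∈ Subgroup.normalizer (E : Set G), n * s * n⁻¹ = y := by
  have step : ∀ a b : G, a ∈ E → a ≠ 1 → b ∈ E → b ∉ zpowers a →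
      ∃ n ∈ Subgroup.normalizer (E : Set G), n * a * n⁻¹ = b⁻¹ ∧ n * b * n⁻¹ = a := by
    intro a b ha ha1 hb hba
    have hb1 : b ≠ 1 := fun e => hba (e ▸ one_mem _)
    have hab : a ∉ zpowers b := fun h => by
      rcases zpowers_three (hE.2 b hb hb1).1 h with e | e | e
      · exact ha1 e
      · exact hba (e ▸ mem_zpowers a)
      · exact hba (by rw [show b = a⁻¹ by rw [e, inv_inv]]; exact inv_mem (mem_zpowers a))
    obtain ⟨p, hp, p1, p2⟩ := exists_transvection hG hE ha ha1 hb hba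
    obtain ⟨q, hq, q1, q2⟩ := exists_transvection hG hE hb hb1 ha hab
    have hcomm : Commute a b := comm_of_abelian_nine hG hE.1 ha hb
    have i1 : q⁻¹ * b * (q⁻¹)⁻¹ = b := by
      calc q⁻¹ * b * (q⁻¹)⁻¹ = q⁻¹ * (q * b * q⁻¹) * (q⁻¹)⁻¹ := by rw [q1]
        _ = b := by group
    have i2 : q⁻¹ * a * (q⁻¹)⁻¹ = b⁻¹ * a := by
      calc q⁻¹ * a * (q⁻¹)⁻¹ = (q⁻¹ * b * (q⁻¹)⁻¹)⁻¹ * (q⁻¹ * (b * a) * (q⁻¹)⁻¹) := by group
        _ = b⁻¹ * (q⁻¹ * (q * a * q⁻¹) * (q⁻¹)⁻¹) := by rw [i1, q2]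
        _ = b⁻¹ * a := by group
    refine ⟨p * q⁻¹ * p, Subgroup.mul_mem _ (Subgroup.mul_mem _ hp (inv_mem hq)) hp, ?_, ?_⟩
    · calc p * q⁻¹ * p * a * (p * q⁻¹ * p)⁻¹
          = p * (q⁻¹ * (p * a * p⁻¹) * (q⁻¹)⁻¹) * p⁻¹ := by group
        _ = p * (b⁻¹ * a) * p⁻¹ := by rw [p1, i2]
        _ = (p * b * p⁻¹)⁻¹ * (p * a * p⁻¹) := by group
        _ = (a * b)⁻¹ * a := by rw [p1, p2]
        _ = b⁻¹ := by rw [mul_inv_rev, inv_mul_cancel_right]
    · calc p * q⁻¹ * p * b * (p * q⁻¹ * p)⁻¹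
          = p * (q⁻¹ * (p * b * p⁻¹) * (q⁻¹)⁻¹) * p⁻¹ := by group
        _ = p * (q⁻¹ * a * (q⁻¹)⁻¹ * (q⁻¹ * b * (q⁻¹)⁻¹)) * p⁻¹ := by rw [p2]; group
        _ = p * (b⁻¹ * a * b) * p⁻¹ := by rw [i2, i1]
        _ = a := by rw [mul_assoc b⁻¹, hcomm.eq, inv_mul_cancel_left, p1]
  by_cases hys : y ∈ zpowers s
  · rcases zpowers_three (hE.2 s hs hs1).1 hys with e | e | e
    · exact absurd e hy1
    · exact ⟨1, one_mem _, by rw [e]; group⟩
    · obtain ⟨x, hx, hxs, -⟩ := exists_pair hG hE hs hs1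
      obtain ⟨n, hn, n1, n2⟩ := step s x hs hs1 hx hxs
      refine ⟨n * n, Subgroup.mul_mem _ hn hn, ?_⟩
      rw [show n * n * s * (n * n)⁻¹ = n * (n * s * n⁻¹) * n⁻¹ by group, n1,
        show n * x⁻¹ * n⁻¹ = (n * x * n⁻¹)⁻¹ by group, n2, e]
  · obtain ⟨n, hn, n1, -⟩ := step s y⁻¹ hs hs1 (E.inv_mem hy) fun h => hys (inv_mem_iff.1 h)
    exact ⟨n, hn, by rw [n1, inv_inv]⟩

end CfsgLib.Recog.LThreeOrder
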