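import Mathlib.Data.ZMod.Basic

/-! Kernel enumeration of the element orders of `SL(3,3)` in natural number arithmetic. -/

set_option autoImplicit false

namespace CfsgLib.Recog.LThreeThree

/-- A `3 × 3` matrix of natural numbers. -/
structure M3 where
  (a b c d e f g h i : ℕ)

/-- The product modulo three. -/
def mul (x y : M3) : M3 :=
  ⟨(x.a * y.a + x.b * y.d + x.c * y.g) % 3, (x.a * y.b + x.b * y.e + x.c * y.h) % 3, (x.a * y.c + x.b * y.f + x.c * y.i) % 3,
   (x.d * y.a + x.e * y.d + x.f * y.g) % 3, (x.d * y.b + x.e * y.e + x.f * y.h) % 3, (x.d * y.c + x.e * y.f + x.f * y.i) % 3,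
   (x.g * y.a + x.h * y.d + x.i * y.g) % 3, (x.g * y.b + x.h * y.e + x.i * y.h) % 3, (x.g * y.c + x.h * y.f + x.i * y.i) % 3⟩

/-- The determinant modulo three. -/
def det (x : M3) : ℕ :=
  (x.a * x.e * x.i + x.b * x.f * x.g + x.c * x.d * x.h +
    2 * (x.c * x.e * x.g + x.b * x.d * x.i + x.a * x.f * x.h)) % 3

/-- Whether a matrix is the identity. -/
def isOne (x : M3) : Bool :=
  x.a == 1 && x.b == 0 && x.c == 0 && x.d == 0 && x.e == 1 && x.f == 0 && x.g == 0 && x.h == 0 && x.i == 1

/-- Whether the sixth, the eighth or the thirteenth power is the identity. -/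
def good (x : M3) : Bool :=
  let x2 := mul x x
  let x4 := mul x2 x2
  let x8 := mul x4 x4
  isOne x8 || isOne (mul x4 x2) || isOne (mul (mul x8 x4) x)

/-- The check at one matrix. -/
def ok (x : M3) : Bool := if det x == 1 then good x else true

/-- The check at all matrices with given first row. -/
def okRow (a b c : ℕ) : Bool :=
  (List.range 3).all fun d => (List.range 3).all fun e => (List.range 3).all fun f =>
    (List.range 3).all fun g => (List.range 3).all fun h => (List.range 3).all fun i => ok ⟨a, b, c, d, e, f, g, h, i⟩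

theorem okRow_all : ((List.range 3).all fun a => (List.range 3).all fun b => (List.range 3).all fun c => okRow a b c) = true := by
  decide +kernel

theorem ok_all (x : M3) (ha : x.a < 3) (hb : x.b < 3) (hc : x.c < 3) (hd : x.d < 3) (he : x.e < 3) (hf : x.f < 3)
    (hg : x.g < 3) (hh : x.h < 3) (hi : x.i < 3) : ok x = true := by
  have := okRow_all
  simp only [okRow, List.all_eq_true, List.mem_range] at this
  exact this _ ha _ hb _ hc _ hd _ he _ hf _ hg _ hh _ hi

end CfsgLib.Recog.LThreeThree
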