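import Mathlib.RingTheory.Polynomial.Cyclotomic.Eval
import Mathlib.RingTheory.Polynomial.Cyclotomic.Expand
import Cfsg.Agent.Lib.ClassK.Zsigmondy
import Mathlib.Tactic

/-!
Large primitive prime divisors of `q ^ n - 1` (Feit).
-/

set_option autoImplicit false
set_option linter.style.haveILetI false
set_option linter.unusedTactic false
set_option linter.unreachableTactic false
set_option linter.unnecessarySeqFocus false

namespace CfsgLib.Recog

open Polynomial

variable {a n r : ℕ}

private noncomputable abbrev phi (n a : ℕ) : ℤ := (cyclotomic n ℤ).eval (a : ℤ)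

private theorem dvd_phi_iff [Fact r.Prime] :
    (r : ℤ) ∣ phi n a ↔ (cyclotomic n (ZMod r)).IsRoot (a : ZMod r) := by
  rw [← ZMod.intCast_zmod_eq_zero_iff_dvd, Polynomial.IsRoot.def,
    ← Polynomial.map_cyclotomic n (Int.castRingHom (ZMod r)),
    show (a : ZMod r) = Int.castRingHom (ZMod r) (a : ℤ) by simp, Polynomial.eval_map_apply]
  simp

private theorem phi_dvd_pow_sub_one (n a : ℕ) : phi n a ∣ (a : ℤ) ^ n - 1 := by
  have := eval_dvd (x := (a : ℤ)) (cyclotomic.dvd_X_pow_sub_one n ℤ)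
  simpa using this

private theorem primitive_of_not_dvd (hr : r.Prime) (hd : (r : ℤ) ∣ phi n a) (hn : ¬ r ∣ n) :
    r ∣ a ^ n - 1 ∧ (∀ k : ℕ, 0 < k → k < n → ¬ r ∣ a ^ k - 1) ∧ n ∣ r - 1 := by
  haveI : Fact r.Prime := ⟨hr⟩
  haveI : NeZero (n : ZMod r) := ⟨fun h => hn ((ZMod.natCast_eq_zero_iff _ _).1 h)⟩
  have hroot := isRoot_cyclotomic_iff.1 (dvd_phi_iff.1 hd)
  have hn0 : 0 < n := Nat.pos_of_ne_zero fun h => hn (h ▸ dvd_zero r)
  have h0 : (a : ZMod r) ≠ 0 := hroot.ne_zero hn0.ne'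
  have key : ∀ k, r ∣ a ^ k - 1 ↔ (a : ZMod r) ^ k = 1 := by
    intro k
    rw [← ZMod.natCast_eq_zero_iff, Nat.cast_sub, Nat.cast_pow, Nat.cast_one, sub_eq_zero]
    exact Nat.one_le_pow _ _ (Nat.pos_of_ne_zero fun h => h0 (by simp [h]))
  exact ⟨(key n).2 hroot.pow_eq_one, fun k hk hkn h =>
      hroot.pow_ne_one_of_pos_of_lt hk.ne' hkn ((key k).1 h),
    hroot.dvd_of_pow_eq_one _ (ZMod.pow_card_sub_one_eq_one h0)⟩

private theorem le_of_dvd_phi (hr : r.Prime) (hd : (r : ℤ) ∣ phi n a) (hn : r ∣ n) (hn0 : 0 < n)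
    {s : ℕ} (hs : s.Prime) (hsn : s ∣ n) : s ≤ r := by
  haveI : Fact r.Prime := ⟨hr⟩
  obtain ⟨k, m, hm, rfl⟩ := Nat.exists_eq_pow_mul_and_not_dvd hn0.ne' r hr.ne_one
  haveI : NeZero (m : ZMod r) := ⟨fun h => hm ((ZMod.natCast_eq_zero_iff _ _).1 h)⟩
  have hroot := isRoot_cyclotomic_prime_pow_mul_iff_of_charP.1 (dvd_phi_iff.1 hd)
  rcases (Nat.Prime.dvd_mul hs).1 hsn with h | h
  · exact (Nat.prime_dvd_prime_iff_eq hs hr).1 (hs.dvd_of_dvd_pow h) |>.le
  · have hm0 : m ≠ 0 := fun h0 => hm (h0 ▸ dvd_zero r)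
    have h1 : m ∣ r - 1 :=
      hroot.dvd_of_pow_eq_one _ (ZMod.pow_card_sub_one_eq_one (hroot.ne_zero hm0))
    have := Nat.le_of_dvd (by have := hr.two_le; omega) (h.trans h1)
    omega

/-- For `n > 2` a prime dividing `n` and `Φ_n(a)` divides the latter once only. -/
private theorem not_sq_dvd_phi (hr : r.Prime) (hd : (r : ℤ) ∣ phi n a) (hrn : r ∣ n) (hn : 2 < n) :
    ¬ (r : ℤ) ^ 2 ∣ phi n a := by
  intro h2
  haveI : Fact r.Prime := ⟨hr⟩
  obtain ⟨d, rfl⟩ := hrn
  have hd0 : 0 < d := Nat.pos_of_ne_zero (by rintro rfl; simp at hn)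
  have hdp : d ∈ (r * d).properDivisors :=
    Nat.mem_properDivisors.2 ⟨dvd_mul_left d r, by nlinarith [hr.two_le]⟩
  set b : ℤ := (a : ℤ) ^ d
  have hgeom : phi (r * d) a ∣ ∑ i ∈ Finset.range r, b ^ i := by
    have hne : (X ^ d - 1 : ℤ[X]) ≠ 0 := (monic_X_pow_sub_C 1 hd0.ne').ne_zero
    have hdiv := X_pow_sub_one_mul_cyclotomic_dvd_X_pow_sub_one_of_dvd ℤ hdp
    have hsum : (X ^ (r * d) - 1 : ℤ[X]) = (X ^ d - 1) * ∑ i ∈ Finset.range r, (X ^ d) ^ i := by
      rw [mul_geom_sum, ← pow_mul, mul_comm r d]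
    rw [hsum, mul_dvd_mul_iff_left hne] at hdiv
    have := eval_dvd (x := (a : ℤ)) hdiv
    simpa [phi, b, eval_finsetSum, ← pow_mul] using this
  have hb1 : (r : ℤ) ∣ b - 1 := by
    have h1 : (r : ℤ) ∣ (a : ℤ) ^ (r * d) - 1 := hd.trans (phi_dvd_pow_sub_one _ _)
    rw [← ZMod.intCast_zmod_eq_zero_iff_dvd] at h1 ⊢
    push_cast [b] at h1 ⊢
    rw [mul_comm, pow_mul, ZMod.pow_card] at h1
    exact h1
  have hsq : (r : ℤ) ^ 2 ∣ ∑ i ∈ Finset.range r, b ^ i := h2.trans hgeom
  obtain ⟨t, ht⟩ := hb1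
  have hbt : b = 1 + r * t := by linarith
  have hmod : ∀ i : ℕ, (r : ℤ) ^ 2 ∣ b ^ i - (1 + i * (r * t)) := by
    intro i
    induction i with
    | zero => simp
    | succ i ih =>
      have e : b ^ (i + 1) - (1 + ((i + 1 : ℕ) : ℤ) * (r * t)) =
          (b ^ i - (1 + i * (r * t))) * b + (r : ℤ) ^ 2 * (i * t ^ 2) := by
        push_cast; rw [pow_succ, hbt]; ring
      rw [e]
      exact dvd_add (dvd_mul_of_dvd_left ih _) (dvd_mul_right _ _)
  have hs2 : ∀ m : ℕ, 2 * ∑ i ∈ Finset.range m, (i : ℤ) = (m : ℤ) * ((m : ℤ) - 1) := by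
    intro m
    induction m with
    | zero => simp
    | succ m ih => rw [Finset.sum_range_succ, mul_add, ih]; push_cast; ring
  have hlin : (r : ℤ) ^ 2 ∣ (r : ℤ) + (∑ i ∈ Finset.range r, (i : ℤ)) * (r * t) := by
    have h := dvd_sub hsq (Finset.dvd_sum fun i (_ : i ∈ Finset.range r) => hmod i)
    rw [← Finset.sum_sub_distrib] at h
    simpa [Finset.sum_add_distrib, ← Finset.sum_mul] using h
  rcases hr.eq_two_or_odd with rfl | hodd
  · have hd2 : 2 ∣ d := by
      by_contra hc
      have hd1 : d ≠ 1 := by omega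
      have h3 := le_of_dvd_phi hr hd (dvd_mul_right 2 d) (by omega) (Nat.minFac_prime hd1)
        ((Nat.minFac_dvd d).trans (dvd_mul_left d 2))
      have h2' := (Nat.minFac_prime hd1).two_le
      exact hc ((show d.minFac = 2 by omega) ▸ Nat.minFac_dvd d)
    obtain ⟨c, rfl⟩ := hd2
    simp [Finset.sum_range_succ] at hlin
    have hb : b = ((a : ℤ) ^ c) ^ 2 := by rw [← pow_mul, mul_comm c 2]
    rcases Int.even_or_odd ((a : ℤ) ^ c) with ⟨u, hu⟩ | ⟨u, hu⟩ <;> rw [hu, hbt] at hb <;>
      push_cast at hb <;> ring_nf at hb <;> omega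
  · obtain ⟨j, hj⟩ : ∃ j, r = 2 * j + 1 := ⟨r / 2, by omega⟩
    have h4 : ∑ i ∈ Finset.range r, (i : ℤ) = (r : ℤ) * j := by
      have := hs2 r
      have hj' : (r : ℤ) = 2 * j + 1 := by exact_mod_cast hj
      rw [hj'] at this ⊢
      linarith
    rw [h4, show (r : ℤ) * j * (r * t) = (r : ℤ) ^ 2 * (j * t) by ring,
      dvd_add_left (dvd_mul_right _ _)] at hlin
    have := Int.le_of_dvd (by exact_mod_cast hr.pos) hlin
    have h2' : (2 : ℤ) ≤ r := by exact_mod_cast hr.two_le
    nlinarith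

/-- `Φ_{r^(k+1) d}(q) Φ_d(q^(r^k)) = Φ_d(q^(r^(k+1)))`. -/
private theorem phi_prime_pow_mul {r d : ℕ} (hr : r.Prime) (hd : ¬ r ∣ d) (k : ℕ) :
    ∀ q : ℕ, phi (r ^ (k + 1) * d) q * phi d (q ^ r ^ k) = phi d (q ^ r ^ (k + 1)) := by
  induction k with
  | zero =>
    intro q
    rw [zero_add, pow_one, pow_zero, pow_one, mul_comm r d, phi, phi, ← eval_mul,
      ← cyclotomic_expand_eq_cyclotomic_mul hr hd, expand_eval]
    simp [phi]
  | succ k ih =>
    intro q
    have e : phi (r ^ (k + 1 + 1) * d) q = phi (r ^ (k + 1) * d) (q ^ r) := by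
      rw [show r ^ (k + 1 + 1) * d = r ^ (k + 1) * d * r by ring, phi,
        ← cyclotomic_expand_eq_cyclotomic hr (by
          exact dvd_mul_of_dvd_left (dvd_pow_self r k.succ_ne_zero) d), expand_eval]
      simp [phi]
    rw [e, show q ^ r ^ (k + 1) = (q ^ r) ^ r ^ k by rw [← pow_mul, pow_succ']]
    rw [show q ^ r ^ (k + 1 + 1) = (q ^ r) ^ r ^ (k + 1) by rw [← pow_mul, pow_succ' r (k + 1)]]
    exact ih (q ^ r)

private theorem phi_pos (n : ℕ) {q : ℕ} (hq : 1 < q) : 0 < phi n q :=
  cyclotomic_pos' n (by exact_mod_cast hq)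

private theorem phi_bounds {d x : ℕ} (_hd : 2 ≤ d) (hx : 1 < x) :
    ((x : ℤ) - 1) ^ d.totient ≤ phi d x ∧ phi d x ≤ ((x : ℤ) + 1) ^ d.totient := by
  have hx' : (1 : ℝ) < x := by exact_mod_cast hx
  have e : ((phi d x : ℤ) : ℝ) = (cyclotomic d ℝ).eval (x : ℝ) := by
    have := (cyclotomic.eval_apply (x : ℤ) d (algebraMap ℤ ℝ))
    simpa [phi] using this.symm
  constructor <;> rw [← @Int.cast_le ℝ, e] <;> push_cast
  · exact sub_one_pow_totient_le_cyclotomic_eval hx' d
  · exact cyclotomic_eval_le_add_one_pow_totient hx' d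

private theorem prod_le_mul_prod_sub_one (S : Finset ℕ) : ∀ m : ℕ, 1 ≤ m →
    (∀ p ∈ S, 2 ≤ p ∧ p ≤ m) → ∏ p ∈ S, p ≤ m * ∏ p ∈ S, (p - 1) := by
  induction S using Finset.induction_on_max with
  | empty => intro m hm _; simpa using hm
  | insert a s hlt ih =>
    intro m _ h
    have ha := h a (Finset.mem_insert_self a s)
    have has : a ∉ s := fun h' => lt_irrefl a (hlt a h')
    rw [Finset.prod_insert has, Finset.prod_insert has]
    have := ih (a - 1) (by omega) fun p hp =>
      ⟨(h p (Finset.mem_insert_of_mem hp)).1, by have := hlt p hp; omega⟩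
    calc a * ∏ p ∈ s, p ≤ a * ((a - 1) * ∏ p ∈ s, (p - 1)) := Nat.mul_le_mul_left a this
      _ ≤ m * ((a - 1) * ∏ p ∈ s, (p - 1)) := Nat.mul_le_mul_right _ ha.2

/-- If all primes of `d` are at most `m` then `d ≤ m φ(d)`. -/
private theorem le_mul_totient {d m : ℕ} (hm : 1 ≤ m)
    (h : ∀ p : ℕ, p.Prime → p ∣ d → p ≤ m) : d ≤ m * d.totient := by
  rcases Nat.eq_zero_or_pos d with rfl | hd
  · simp
  have hS : ∏ p ∈ d.primeFactors, p ≤ m * ∏ p ∈ d.primeFactors, (p - 1) :=
    prod_le_mul_prod_sub_one _ m hm fun p hp =>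
      ⟨(Nat.prime_of_mem_primeFactors hp).two_le,
        h p (Nat.prime_of_mem_primeFactors hp) (Nat.dvd_of_mem_primeFactors hp)⟩
  have h2 : (d.totient * ∏ p ∈ d.primeFactors, p) = d * ∏ p ∈ d.primeFactors, (p - 1) :=
    Nat.totient_mul_prod_primeFactors d
  have hpos : 0 < ∏ p ∈ d.primeFactors, (p - 1) :=
    Finset.prod_pos fun p hp => by have := (Nat.prime_of_mem_primeFactors hp).two_le; omega
  refine Nat.le_of_mul_le_mul_right ?_ hpos
  calc d * ∏ p ∈ d.primeFactors, (p - 1) = d.totient * ∏ p ∈ d.primeFactors, p := h2.symm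
    _ ≤ d.totient * (m * ∏ p ∈ d.primeFactors, (p - 1)) := Nat.mul_le_mul_left _ hS
    _ = m * d.totient * ∏ p ∈ d.primeFactors, (p - 1) := by ring

private theorem phi_two (x : ℕ) : phi 2 x = (x : ℤ) + 1 := by
  rw [phi, cyclotomic_two]; simp

private theorem phi_six (x : ℕ) : phi 6 x = (x : ℤ) ^ 2 - x + 1 := by
  rw [phi, cyclotomic_six]; simp

private theorem phi_two_pow (k x : ℕ) : phi (2 ^ (k + 1)) x = (x : ℤ) ^ 2 ^ k + 1 := by
  rw [phi, cyclotomic_prime_pow_eq_geom_sum Nat.prime_two]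
  simp [Finset.sum_range_succ]; ring

private theorem lt_pow_of_base {e r X₀ : ℕ} (he : 1 ≤ e) (hX₀ : 1 ≤ X₀)
    (h : r * X₀ < 2 ^ (e * X₀)) : ∀ X, X₀ ≤ X → r * X < 2 ^ (e * X) := by
  intro X hX
  induction X, hX using Nat.le_induction with
  | base => exact h
  | succ X hle ih =>
    have h1 : r * (X + 1) ≤ 2 * (r * X) := by
      have : X + 1 ≤ 2 * X := by omega
      calc r * (X + 1) ≤ r * (2 * X) := Nat.mul_le_mul_left r this
        _ = 2 * (r * X) := by ring
    have h2 : 2 * 2 ^ (e * X) ≤ 2 ^ (e * (X + 1)) := by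
      rw [← pow_succ']; exact Nat.pow_le_pow_right (by omega) (by rw [Nat.mul_succ]; omega)
    omega

private theorem two_pow_gt (r : ℕ) (hr : 11 ≤ r) : r * (2 * r + 1) < 2 ^ (r - 2) := by
  induction r, hr using Nat.le_induction with
  | base => norm_num
  | succ r hle ih =>
    rw [show r + 1 - 2 = r - 2 + 1 by omega, pow_succ]
    nlinarith

private theorem cube_lt (r : ℕ) (hr : 7 ≤ r) : r ^ 3 * 2 < 2 ^ ((r - 2) * 2) := by
  induction r, hr using Nat.le_induction with
  | base => norm_num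
  | succ r hle ih =>
    rw [show (r + 1 - 2) * 2 = (r - 2) * 2 + 2 by omega, pow_add]
    have h1 : (r + 1) ^ 3 ≤ 4 * r ^ 3 := by nlinarith [Nat.mul_le_mul_left (r * r) hle]
    norm_num
    omega

/-- The arithmetic core: `Φ_n(q)` divides `r (n + 1)` only in small cases. -/
private theorem phi_not_dvd {q n r k d : ℕ} (hq : 2 ≤ q) (hr : r.Prime) (hrd : ¬ r ∣ d)
    (hn : n = r ^ (k + 1) * d) (hn4 : 4 ≤ n) (heven : Even n)
    (hmax : ∀ s : ℕ, s.Prime → s ∣ n → s ≤ r)
    (h2 : ¬ (q = 2 ∧ (n = 4 ∨ n = 6 ∨ n = 10 ∨ n = 12 ∨ n = 18)))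
    (h3 : ¬ (q = 3 ∧ (n = 4 ∨ n = 6))) (h4 : ¬ (q = 5 ∧ n = 6)) :
    ¬ phi n q ∣ (r : ℤ) * ((n : ℤ) + 1) := by
  intro hdiv
  have hd0 : 0 < d := Nat.pos_of_ne_zero (by rintro rfl; simp at hn; omega)
  have hM : 0 < phi n q := phi_pos n (by omega)
  have hMle : phi n q ≤ (r : ℤ) * ((n : ℤ) + 1) := Int.le_of_dvd (by
    have := hr.pos; positivity) hdiv
  have hid := phi_prime_pow_mul hr hrd k q
  rw [← hn] at hid
  rcases hr.eq_two_or_odd with rfl | hodd
  · obtain rfl : d = 1 := by
      by_contra hd1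
      have h' := hmax _ (Nat.minFac_prime hd1) ((Nat.minFac_dvd d).trans (hn ▸ dvd_mul_left d _))
      have h'' := (Nat.minFac_prime hd1).two_le
      exact hrd ((show d.minFac = 2 by omega) ▸ Nat.minFac_dvd d)
    rw [mul_one] at hn
    subst hn
    rw [phi_two_pow] at hdiv hMle
    have hk : k < 4 := by
      by_contra hk
      push Not at hk
      have h16 : 2 ^ 4 ≤ 2 ^ k := Nat.pow_le_pow_right (by omega) hk
      have hlt := lt_pow_of_base (e := 1) (r := 5) (X₀ := 16) (by omega) (by omega) (by norm_num)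
        (2 ^ k) (by omega)
      have hq' : 2 ^ 2 ^ k ≤ q ^ 2 ^ k := Nat.pow_le_pow_left hq _
      rw [one_mul] at hlt
      have e : ((q ^ 2 ^ k + 1 : ℕ) : ℤ) ≤ ((2 * (2 ^ (k + 1) + 1) : ℕ) : ℤ) := by
        push_cast; push_cast at hMle; linarith
      have e' := Int.ofNat_le.1 e
      have : 2 ^ (k + 1) = 2 * 2 ^ k := by ring
      omega
    have hk1 : 1 ≤ k := by
      by_contra h; obtain rfl : k = 0 := by omega
      norm_num at hn4
    have hsq : ((q : ℤ)) ^ 2 ≤ (q : ℤ) ^ 2 ^ k := pow_le_pow_right₀ (by omega)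
      (Nat.le_self_pow (by omega) 2)
    have hq6 : q ≤ 5 := by
      by_contra hq6
      push Not at hq6
      have : (6 : ℤ) ≤ q := by exact_mod_cast hq6
      interval_cases k <;> norm_num at hMle hsq ⊢ <;>
        nlinarith [pow_le_pow_left₀ (by norm_num) this 2, pow_le_pow_left₀ (by norm_num) this 4,
          pow_le_pow_left₀ (by norm_num) this 8]
    interval_cases k <;> interval_cases q <;>
      first | (norm_num at hdiv; done) | (norm_num at h2; done) | (norm_num at h3; done)
  · have hr3 : 3 ≤ r := by have := hr.two_le; omega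
    have hdeven : 2 ∣ d := by
      rcases Nat.prime_two.dvd_mul.1 (hn ▸ heven.two_dvd) with h | h
      · have := (Nat.prime_dvd_prime_iff_eq Nat.prime_two hr).1 (Nat.prime_two.dvd_of_dvd_pow h)
        omega
      · exact h
    have hd2 : 2 ≤ d := Nat.le_of_dvd hd0 hdeven
    have hdt : d ≤ (r - 1) * d.totient := le_mul_totient (by omega) fun p hp hpd => by
      have := hmax p hp (hn ▸ hpd.mul_left _)
      have : p ≠ r := by rintro rfl; exact hrd hpd
      omega
    set A := r ^ k with hA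
    set t := d.totient with ht
    have hA1 : 1 ≤ A := Nat.one_le_pow _ _ hr.pos
    have ht1 : 1 ≤ t := Nat.totient_pos.2 hd0
    have hn' : n = r * A * d := by rw [hn, pow_succ', hA]
    set Q := q ^ A with hQ
    have hQ2 : 2 ≤ Q := hq.trans (Nat.le_self_pow (by omega) q)
    rw [show q ^ r ^ (k + 1) = Q ^ r by rw [hQ, ← pow_mul, hA, pow_succ]] at hid
    have hlow : Q ^ ((r - 2) * t) ≤ r * (n + 1) := by
      have b1 := (phi_bounds hd2 (show 1 < Q ^ r from Nat.one_lt_pow hr.ne_zero (by omega))).1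
      have b2 := (phi_bounds hd2 (show 1 < Q by omega)).2
      have b3 : ((Q : ℤ) ^ (r - 2) * ((Q : ℤ) + 1)) ^ t ≤ (((Q ^ r : ℕ) : ℤ) - 1) ^ t := by
        refine pow_le_pow_left₀ (by positivity) ?_ t
        push_cast
        conv_rhs => rw [show r = r - 2 + 2 by omega, pow_add]
        have hP : (1 : ℤ) ≤ (Q : ℤ) ^ (r - 2) := one_le_pow₀ (by omega)
        have hQ' : (2 : ℤ) ≤ Q := by exact_mod_cast hQ2
        have h1' : (1 : ℤ) ≤ (Q : ℤ) ^ 2 - Q - 1 := by nlinarith
        nlinarith [mul_le_mul hP h1' zero_le_one (le_trans zero_le_one hP)]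
      rw [mul_pow, ← pow_mul] at b3
      have b4 : (Q : ℤ) ^ ((r - 2) * t) * ((Q : ℤ) + 1) ^ t ≤ phi n q * ((Q : ℤ) + 1) ^ t :=
        calc _ ≤ (((Q ^ r : ℕ) : ℤ) - 1) ^ t := b3
          _ ≤ phi d (Q ^ r) := b1
          _ = phi n q * phi d Q := hid.symm
          _ ≤ _ := Int.mul_le_mul_of_nonneg_left b2 hM.le
      have := (le_of_mul_le_mul_right b4 (by positivity)).trans hMle
      exact_mod_cast this
    have hmain : q ^ ((r - 2) * (A * t)) ≤ r * (r * A * d + 1) := by
      rw [← hn', show (r - 2) * (A * t) = A * ((r - 2) * t) by ring, pow_mul, ← hQ]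
      exact hlow
    have h2main : 2 ^ ((r - 2) * (A * t)) ≤ r * (r * A * d + 1) :=
      (Nat.pow_le_pow_left hq _).trans hmain
    have hX : 1 ≤ A * t := Nat.one_le_iff_ne_zero.2 (by positivity)
    have hdiv' : phi d (Q ^ r) ∣ ((r : ℤ) * ((n : ℤ) + 1)) * phi d Q := by
      rw [← hid]; exact mul_dvd_mul_right hdiv _
    have hgen : r * (r * A * d + 1) ≤ r ^ 3 * (A * t) := by
      have e1 : r * A * d ≤ r * A * ((r - 1) * t) := Nat.mul_le_mul_left _ hdt
      obtain ⟨j, rfl⟩ : ∃ j, r = j + 1 := ⟨r - 1, by omega⟩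
      rw [Nat.add_sub_cancel] at e1
      nlinarith [Nat.mul_le_mul_left (j + 1) e1, mul_le_mul' hr3 hX]
    rcases (show r = 3 ∨ r = 4 ∨ r = 5 ∨ r = 6 ∨ 7 ≤ r by omega) with rfl | rfl | rfl | rfl | h7
    · have hk1 : k ≤ 1 := by
        by_contra hk
        have h9 : 3 ^ 2 ≤ A := Nat.pow_le_pow_right (by omega) (by omega)
        have := lt_pow_of_base (e := 1) (r := 21) (X₀ := 8) (by omega) (by omega) (by norm_num)
          (A * t) (le_trans (by omega) (Nat.le_mul_of_pos_right A ht1))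
        norm_num at h2main hdt
        rw [one_mul] at this
        nlinarith
      have ht7 : A * t ≤ 7 := by
        by_contra hX8
        have := lt_pow_of_base (e := 1) (r := 21) (X₀ := 8) (by omega) (by omega) (by norm_num)
          (A * t) (by omega)
        norm_num at h2main hdt
        rw [one_mul] at this
        nlinarith
      have htA : t ≤ A * t := Nat.le_mul_of_pos_left t hA1
      have hd14 : d < 15 := by norm_num at hdt; omega
      have hlist : d = 2 ∨ d = 4 ∨ d = 8 :=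
        (show ∀ x : ℕ, x < 15 → (0 < x ∧ 2 ∣ x ∧ ¬ 3 ∣ x ∧ x ≤ 2 * Nat.totient x) →
          x = 2 ∨ x = 4 ∨ x = 8 by decide) d hd14 ⟨hd0, hdeven, hrd, by norm_num at hdt; exact hdt⟩
      rcases (show k = 0 ∨ k = 1 by omega) with rfl | rfl <;>
        rcases hlist with rfl | rfl | rfl <;>
        first
          | (norm_num [hA, ht, show Nat.totient 8 = 4 by decide] at ht7; done)
          | norm_num [hA, ht, show Nat.totient 2 = 1 by decide, show Nat.totient 4 = 2 by decide,
              show Nat.totient 8 = 4 by decide] at hmain hn'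
      · have hq' : q ≤ 21 := by omega
        rw [phi_two, phi_two] at hdiv'
        subst hn'
        interval_cases q <;>
          first | (norm_num [hQ, hA] at hdiv'; done) |
            (norm_num [hQ, hA] at h2; done) |
            (norm_num [hQ, hA] at h3; done) |
            (norm_num [hQ, hA] at h4; done)
      · have hq' : q ≤ 6 := by
          by_contra h
          push Not at h
          have := Nat.pow_le_pow_left h 2
          norm_num at this
          omega
        rw [show (4 : ℕ) = 2 ^ (1 + 1) by rfl, phi_two_pow, phi_two_pow] at hdiv'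
        subst hn'
        interval_cases q <;>
          first | (norm_num [hQ, hA] at hdiv'; done) |
            (norm_num [hQ, hA] at h2; done)
      · have hq' : q ≤ 2 := by
          by_contra h
          push Not at h
          have := Nat.pow_le_pow_left h 4
          norm_num at this
          omega
        rw [show (8 : ℕ) = 2 ^ (2 + 1) by rfl, phi_two_pow, phi_two_pow] at hdiv'
        subst hn'
        interval_cases q <;>
          first | (norm_num [hQ, hA] at hdiv'; done) |
            (norm_num [hQ, hA] at h2; done)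
      · have hq' : q ≤ 3 := by
          by_contra h
          push Not at h
          have := Nat.pow_le_pow_left h 3
          norm_num at this
          omega
        rw [phi_two, phi_two] at hdiv'
        subst hn'
        interval_cases q <;>
          first | (norm_num [hQ, hA] at hdiv'; done) |
            (norm_num [hQ, hA] at h2; done)
      · have hq' : q ≤ 2 := by
          by_contra h
          push Not at h
          have := Nat.pow_le_pow_left h 6
          norm_num at this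
          omega
        rw [show (4 : ℕ) = 2 ^ (1 + 1) by rfl, phi_two_pow, phi_two_pow] at hdiv'
        subst hn'
        interval_cases q <;>
          first | (norm_num [hQ, hA] at hdiv'; done) |
            (norm_num [hQ, hA] at h2; done)
    · norm_num at hr
    · have hX2 : A * t ≤ 2 := by
        by_contra h
        have := lt_pow_of_base (e := 3) (r := 125) (X₀ := 3) (by omega) (by omega) (by norm_num)
          (A * t) (by omega)
        norm_num at h2main hgen
        omega
      have hk0 : k = 0 := by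
        by_contra hk
        have h5 : 5 ≤ A := Nat.le_self_pow hk 5
        have := Nat.le_mul_of_pos_right A ht1
        omega
      subst hk0
      have hA' : A = 1 := pow_zero 5
      have ht2 : t ≤ 2 := by rw [hA', one_mul] at hX2; exact hX2
      have hd8 : d < 9 := by norm_num at hdt; omega
      have hlist : d = 2 ∨ d = 4 ∨ d = 6 :=
        (show ∀ x < 9, 0 < x → 2 ∣ x → Nat.totient x ≤ 2 → x = 2 ∨ x = 4 ∨ x = 6 by decide)
          d hd8 hd0 hdeven (ht ▸ ht2)
      rcases hlist with rfl | rfl | rfl <;> norm_num [hA', ht, show Nat.totient 2 = 1 by decide,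
          show Nat.totient 4 = 2 by decide, show Nat.totient 6 = 2 by decide] at hmain hn'
      · have hq' : q ≤ 3 := by
          by_contra h
          push Not at h
          have := Nat.pow_le_pow_left h 3
          norm_num at this
          omega
        rw [phi_two, phi_two] at hdiv'
        subst hn'
        interval_cases q <;>
          first | (norm_num [hQ, hA'] at hdiv'; done) |
            (norm_num [hQ, hA'] at h2; done)
      · have hq' : q ≤ 2 := by
          by_contra h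
          push Not at h
          have := Nat.pow_le_pow_left h 6
          norm_num at this
          omega
        rw [show (4 : ℕ) = 2 ^ (1 + 1) by rfl, phi_two_pow, phi_two_pow] at hdiv'
        subst hn'
        interval_cases q <;>
          first | (norm_num [hQ, hA'] at hdiv'; done) |
            (norm_num [hQ, hA'] at h2; done)
      · have hq' : q ≤ 2 := by
          by_contra h
          push Not at h
          have := Nat.pow_le_pow_left h 6
          norm_num at this
          omega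
        rw [phi_six, phi_six] at hdiv'
        subst hn'
        interval_cases q <;>
          first | (norm_num [hQ, hA'] at hdiv'; done) |
            (norm_num [hQ, hA'] at h2; done)
    · norm_num at hr
    · have hX1 : A * t = 1 := by
        by_contra h
        have := lt_pow_of_base (e := r - 2) (r := r ^ 3) (X₀ := 2) (by omega) (by omega)
          (cube_lt r h7) (A * t) (by omega)
        omega
      obtain ⟨hA', ht'⟩ := mul_eq_one.1 hX1
      have hd' : d = 2 := (Nat.totient_eq_one_iff.1 ht').resolve_left (by omega)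
      subst hd'
      rw [hA', ht'] at h2main hmain
      norm_num at h2main hmain
      have hr7 : r = 7 := by
        by_contra h
        have h11 : 11 ≤ r := by
          by_contra h'
          interval_cases r <;> first | omega | (norm_num at hr; done)
        have := two_pow_gt r h11
        rw [mul_comm r 2] at h2main
        omega
      subst hr7
      norm_num at hmain
      have hq' : q ≤ 2 := by
        by_contra h
        push Not at h
        have := Nat.pow_le_pow_left h 5
        norm_num at this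
        omega
      rw [phi_two, phi_two] at hdiv'
      subst hn'
      interval_cases q <;>
        first | (norm_num [hQ, hA'] at hdiv'; done)

/-- **Feit's large primitive prime divisors.** -/
theorem exists_large_primitive_prime (q n : ℕ) (hq : 2 ≤ q) (hn : 2 ≤ n)
    (h1 : ¬ (n = 2 ∧ ∃ s t : ℕ, t ≤ 1 ∧ q + 1 = 2 ^ s * 3 ^ t))
    (h2 : ¬ (q = 2 ∧ (n = 4 ∨ n = 6 ∨ n = 10 ∨ n = 12 ∨ n = 18)))
    (h3 : ¬ (q = 3 ∧ (n = 4 ∨ n = 6))) (h4 : ¬ (q = 5 ∧ n = 6)) :
    ∃ p : ℕ, p.Prime ∧ p ∣ q ^ n - 1 ∧ (∀ i : ℕ, 1 ≤ i → i < n → ¬ p ∣ q ^ i - 1) ∧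
      (n + 1 < p ∨ p ^ 2 ∣ q ^ n - 1) := by
  rcases (show n = 2 ∨ 3 ≤ n by omega) with rfl | hn3
  · -- `q + 1` has a prime factor `≥ 5`, or is divisible by `9`
    have hfac : q ^ 2 - 1 = (q + 1) * (q - 1) := by
      simpa using Nat.sq_sub_sq q 1
    have prim : ∀ p : ℕ, p.Prime → p ∣ q + 1 → 3 ≤ p →
        ∀ i : ℕ, 1 ≤ i → i < 2 → ¬ p ∣ q ^ i - 1 := by
      intro p hp hpq hp3 i hi1 hi2 hd
      obtain rfl : i = 1 := by omega
      rw [pow_one] at hd
      have := Nat.dvd_sub hpq hd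
      have h' : q + 1 - (q - 1) = 2 := by omega
      rw [h'] at this
      have := Nat.le_of_dvd (by omega) this
      omega
    by_cases h9 : 9 ∣ q + 1
    · exact ⟨3, Nat.prime_three, hfac ▸ ((dvd_trans (by norm_num) h9).mul_right _),
        prim 3 Nat.prime_three (dvd_trans (by norm_num) h9) le_rfl,
        Or.inr (by norm_num; exact hfac ▸ (h9.mul_right _))⟩
    by_cases hbig : ∃ p : ℕ, p.Prime ∧ 5 ≤ p ∧ p ∣ q + 1
    · obtain ⟨p, hp, h5, hd⟩ := hbig
      exact ⟨p, hp, hfac ▸ (hd.mul_right _), prim p hp hd (by omega), Or.inl (by omega)⟩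
    exfalso
    push Not at hbig
    obtain ⟨s, m, hm2, hsm⟩ := Nat.exists_eq_pow_mul_and_not_dvd (show q + 1 ≠ 0 by omega) 2 (by omega)
    obtain ⟨t, m', hm3, htm⟩ := Nat.exists_eq_pow_mul_and_not_dvd (show m ≠ 0 by
      rintro rfl; simp at hm2) 3 (by omega)
    have hm'1 : m' = 1 := by
      by_contra hne
      have hp := Nat.minFac_prime hne
      have hdm : m'.minFac ∣ q + 1 := by
        rw [hsm, htm]; exact ((Nat.minFac_dvd m').mul_left _).mul_left _
      have h5 : m'.minFac < 5 := by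
        by_contra h; exact hbig _ hp (by omega) hdm
      have := hp.two_le
      rcases (show m'.minFac = 2 ∨ m'.minFac = 3 ∨ m'.minFac = 4 by omega) with e | e | e
      · exact hm2 (htm ▸ (e ▸ Nat.minFac_dvd m').mul_left _)
      · exact hm3 (e ▸ Nat.minFac_dvd m')
      · rw [e] at hp; norm_num at hp
    subst hm'1
    rw [mul_one] at htm
    refine h1 ⟨rfl, s, t, ?_, by rw [hsm, htm]⟩
    by_contra ht
    exact h9 (hsm ▸ htm ▸ (Dvd.dvd.mul_left (Nat.pow_dvd_pow 3 (show 2 ≤ t by omega)) _))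
  rcases Nat.even_or_odd n with heven | hodd
  swap
  · -- odd `n`: any primitive divisor is `≡ 1 mod 2n`
    obtain ⟨p, hp, hd, hprim⟩ := CfsgLib.ClassK.zsigmondy (a := q) (n := n) (by omega) (by omega)
      (fun h => by obtain ⟨u, hu⟩ := hodd; omega) (fun h => by omega)
    refine ⟨p, hp, hd, fun i hi => hprim i (by omega), Or.inl ?_⟩
    haveI : Fact p.Prime := ⟨hp⟩
    have key : ∀ k, p ∣ q ^ k - 1 ↔ (q : ZMod p) ^ k = 1 := by
      intro k
      rw [← ZMod.natCast_eq_zero_iff, Nat.cast_sub (Nat.one_le_pow _ _ (by omega)), Nat.cast_pow,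
        Nat.cast_one, sub_eq_zero]
    have h0 : (q : ZMod p) ≠ 0 := fun h0 => by
      have := (key n).1 hd
      rw [h0, zero_pow (by omega)] at this
      exact zero_ne_one this
    have hord : orderOf (q : ZMod p) = n := (orderOf_eq_iff (by omega)).2
      ⟨(key n).1 hd, fun m hm hm0 h => hprim m hm0 hm ((key m).2 h)⟩
    have hdvd : n ∣ p - 1 := hord ▸ ZMod.orderOf_dvd_card_sub_one h0
    have hp2 := hp.two_le
    obtain ⟨u, hu⟩ := hodd
    obtain ⟨c, hc⟩ := hdvd
    have hp1 : p ≠ 2 := by rintro rfl; rcases Nat.eq_zero_or_pos c with rfl | hc0 <;> [omega; nlinarith]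
    have heven' := hp.eq_two_or_odd.resolve_left hp1
    have hc2 : 2 ≤ c := by
      by_contra h
      rcases (show c = 0 ∨ c = 1 by omega) with rfl | rfl <;> omega
    have : n * 2 ≤ n * c := Nat.mul_le_mul_left n hc2
    omega
  by_contra hcon
  push Not at hcon
  have hn4 : 4 ≤ n := by obtain ⟨u, hu⟩ := heven; omega
  obtain ⟨r, hr, hrn, hmax⟩ : ∃ r : ℕ, r.Prime ∧ r ∣ n ∧ ∀ s : ℕ, s.Prime → s ∣ n → s ≤ r := by
    have hne : n.primeFactors.Nonempty := Nat.nonempty_primeFactors.2 (by omega)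
    have hmem := Finset.max'_mem _ hne
    exact ⟨_, Nat.prime_of_mem_primeFactors hmem, Nat.dvd_of_mem_primeFactors hmem,
      fun s hs hsn => Finset.le_max' _ s (Nat.mem_primeFactors.2 ⟨hs, hsn, by omega⟩)⟩
  obtain ⟨k, d, hrd, hnd⟩ := Nat.exists_eq_pow_mul_and_not_dvd (show n ≠ 0 by omega) r hr.ne_one
  obtain ⟨k, rfl⟩ : ∃ j, k = j + 1 := by
    refine ⟨k - 1, ?_⟩
    rcases Nat.eq_zero_or_pos k with rfl | h
    · exact absurd (by simpa [hnd] using hrn) hrd
    · omega
  refine phi_not_dvd hq hr hrd hnd hn4 heven hmax h2 h3 h4 ?_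
  set N := (phi n q).natAbs with hN
  have hNpos : 0 < phi n q := phi_pos n (by omega)
  have hN0 : N ≠ 0 := by omega
  have hfac : ∀ s : ℕ, s.Prime → s ∣ N → (s = r ∨ s = n + 1) ∧ ¬ s ^ 2 ∣ N := by
    intro s hs hsN
    have hsd : (s : ℤ) ∣ phi n q := Int.natCast_dvd.2 hsN
    by_cases hsn : s ∣ n
    · have hsr : s = r := le_antisymm (hmax s hs hsn) (le_of_dvd_phi hs hsd hsn (by omega) hr hrn)
      refine ⟨Or.inl hsr, fun h => not_sq_dvd_phi hs hsd hsn (by omega) ?_⟩
      rw [← Nat.cast_pow, Int.natCast_dvd]; exact h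
    · obtain ⟨hd1, hp1, hmod⟩ := primitive_of_not_dvd hs hsd hsn
      obtain ⟨hle, hsq⟩ := hcon s hs hd1 (fun i hi => hp1 i (by omega))
      have hle' : n ≤ s - 1 := Nat.le_of_dvd (by have := hs.two_le; omega) hmod
      refine ⟨Or.inr (by omega), fun h => hsq ?_⟩
      have h1' : ((s ^ 2 : ℕ) : ℤ) ∣ phi n q := Int.natCast_dvd.2 h
      have h2' := h1'.trans (phi_dvd_pow_sub_one n q)
      rw [← Int.natCast_dvd_natCast, Nat.cast_sub (Nat.one_le_pow _ _ (by omega))]
      push_cast at h2' ⊢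
      exact h2'
  have hsqf : Squarefree N := Nat.squarefree_iff_prime_squarefree.2 fun s hs h =>
    (hfac s hs (dvd_trans (dvd_mul_right s s) h)).2 (by rw [sq]; exact h)
  have hdvdN : N ∣ r * (n + 1) := by
    rw [← Nat.prod_primeFactors_of_squarefree hsqf]
    have hrne : r ∉ ({n + 1} : Finset ℕ) := by
      simp only [Finset.mem_singleton]; have := Nat.le_of_dvd (by omega) hrn; omega
    have e : ∏ s ∈ ({r, n + 1} : Finset ℕ), s = r * (n + 1) := by
      rw [Finset.prod_insert hrne, Finset.prod_singleton]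
    rw [← e]
    refine Finset.prod_dvd_prod_of_subset _ _ _ fun s hs => ?_
    have := (hfac s (Nat.prime_of_mem_primeFactors hs) (Nat.dvd_of_mem_primeFactors hs)).1
    simpa using this
  have := Int.natCast_dvd_natCast.2 hdvdN
  rw [hN, Int.natAbs_of_nonneg hNpos.le] at this
  exact_mod_cast this

end CfsgLib.Recog
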