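import Cfsg.Agent.Lib.Recog.PermChain
import Mathlib.GroupTheory.GroupAction.MultipleTransitivity
import Mathlib.Data.Fintype.CardEmbedding
import Mathlib.Data.List.GetD

/-! The chain of stabilisers in the Mathieu group of degree twelve given by eight generators. -/

set_option autoImplicit false

namespace CfsgLib.Recog.MTwelve

open CfsgLib.Recog

/-- Generator 0. -/
def g0 : Equiv.Perm (Fin 12) :=
  Equiv.swap (3 : Fin 12) 5 * Equiv.swap (3 : Fin 12) 4 * Equiv.swap (6 : Fin 12) 8 * Equiv.swap (6 : Fin 12) 7 * Equiv.swap (9 : Fin 12) 11 * Equiv.swap (9 : Fin 12) 10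

/-- Generator 1. -/
def g1 : Equiv.Perm (Fin 12) :=
  Equiv.swap (3 : Fin 12) 9 * Equiv.swap (3 : Fin 12) 6 * Equiv.swap (4 : Fin 12) 10 * Equiv.swap (4 : Fin 12) 7 * Equiv.swap (5 : Fin 12) 11 * Equiv.swap (5 : Fin 12) 8

/-- Generator 2. -/
def g2 : Equiv.Perm (Fin 12) :=
  Equiv.swap (4 : Fin 12) 9 * Equiv.swap (4 : Fin 12) 5 * Equiv.swap (4 : Fin 12) 6 * Equiv.swap (7 : Fin 12) 10 * Equiv.swap (7 : Fin 12) 11 * Equiv.swap (7 : Fin 12) 8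

/-- Generator 3. -/
def g3 : Equiv.Perm (Fin 12) :=
  Equiv.swap (4 : Fin 12) 11 * Equiv.swap (4 : Fin 12) 5 * Equiv.swap (4 : Fin 12) 7 * Equiv.swap (6 : Fin 12) 8 * Equiv.swap (6 : Fin 12) 9 * Equiv.swap (6 : Fin 12) 10

/-- Generator 4. -/
def g4 : Equiv.Perm (Fin 12) :=
  Equiv.swap (4 : Fin 12) 8 * Equiv.swap (4 : Fin 12) 5 * Equiv.swap (4 : Fin 12) 10 * Equiv.swap (6 : Fin 12) 7 * Equiv.swap (6 : Fin 12) 9 * Equiv.swap (6 : Fin 12) 11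

/-- Generator 5. -/
def g5 : Equiv.Perm (Fin 12) :=
  Equiv.swap (0 : Fin 12) 3 * Equiv.swap (6 : Fin 12) 7 * Equiv.swap (8 : Fin 12) 10 * Equiv.swap (9 : Fin 12) 11

/-- Generator 6. -/
def g6 : Equiv.Perm (Fin 12) :=
  Equiv.swap (0 : Fin 12) 1 * Equiv.swap (6 : Fin 12) 9 * Equiv.swap (7 : Fin 12) 10 * Equiv.swap (8 : Fin 12) 11

/-- Generator 7. -/
def g7 : Equiv.Perm (Fin 12) :=
  Equiv.swap (1 : Fin 12) 2 * Equiv.swap (6 : Fin 12) 11 * Equiv.swap (7 : Fin 12) 9 * Equiv.swap (8 : Fin 12) 10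

/-- The generators. -/
def gen : Fin 8 → Equiv.Perm (Fin 12) := ![g0, g1, g2, g3, g4, g5, g6, g7]

/-- Their tables. -/
def tab : Fin 8 → List ℕ := ![[0, 1, 2, 4, 5, 3, 7, 8, 6, 10, 11, 9], [0, 1, 2, 6, 7, 8, 9, 10, 11, 3, 4, 5], [0, 1, 2, 3, 6, 9, 5, 8, 11, 4, 7, 10], [0, 1, 2, 3, 7, 11, 10, 5, 6, 8, 9, 4], [0, 1, 2, 3, 10, 8, 11, 6, 4, 7, 5, 9], [3, 1, 2, 0, 4, 5, 7, 6, 10, 11, 8, 9], [1, 0, 2, 3, 4, 5, 9, 10, 11, 6, 7, 8], [0, 2, 1, 3, 4, 5, 11, 9, 10, 7, 8, 6]]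

theorem tab_spec : ∀ (i : Fin 8) (j : Fin 12), (tab i).getD j 0 = gen i j ∧ (tab i).length = 12 := by
  decide +kernel

/-- The product of a word. -/
def wordPerm (w : List (Fin 8)) : Equiv.Perm (Fin 12) := (w.map gen).prod

/-- The table of a word. -/
def wordTab : List (Fin 8) → List ℕ
  | [] => List.range 12
  | i :: w => (wordTab w).map fun x => (tab i).getD x 0

theorem wordTab_spec : ∀ (w : List (Fin 8)) (j : Fin 12),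
    (wordTab w).getD j 0 = wordPerm w j ∧ (wordTab w).length = 12
  | [], j => ⟨by simp [wordTab, wordPerm, List.getD_eq_getElem?_getD], by simp [wordTab]⟩
  | i :: w, j => by
    obtain ⟨h1, h2⟩ := wordTab_spec w j
    refine ⟨?_, by simp [wordTab, h2]⟩
    have hlt : j.val < (wordTab w).length := by rw [h2]; exact j.isLt
    rw [List.getD_eq_getElem _ _ hlt] at h1
    rw [wordTab, List.getD_eq_getElem _ _ (by simpa using hlt), List.getElem_map, h1, (tab_spec i _).1]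
    rfl

theorem wordPerm_append (v w : List (Fin 8)) : wordPerm (v ++ w) = wordPerm v * wordPerm w := by
  simp [wordPerm]

theorem word_eq {v w : List (Fin 8)} (h : wordTab v = wordTab w) : wordPerm v = wordPerm w :=
  Equiv.ext fun j => Fin.ext (by rw [← (wordTab_spec v j).1, ← (wordTab_spec w j).1, h])

/-- The group generated by some of the generators. -/
def grp (I : List (Fin 8)) : Subgroup (Equiv.Perm (Fin 12)) := Subgroup.closure (gen '' {i | i ∈ I})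

theorem word_mem {I w : List (Fin 8)} (h : ∀ i ∈ w, i ∈ I) : wordPerm w ∈ grp I :=
  list_prod_mem fun x hx => by
    obtain ⟨i, hi, rfl⟩ := List.mem_map.1 hx
    exact Subgroup.subset_closure ⟨i, h i hi, rfl⟩

theorem grp_nil : grp [] = ⊥ := by simp [grp]

/-- The check of one level. -/
def levelCheck (I J : List (Fin 8)) (b : Fin 12) (reps : List (List (Fin 8)))
    (certs : List (Fin 8 × List (Fin 8) × List (Fin 8) × List (Fin 8))) : Bool :=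
  J.all (fun j => I.contains j && (tab j).getD b 0 == b.val) && reps.contains [] &&
    reps.all (fun w => w.all fun i => I.contains i) &&
    decide (reps.map fun w => (wordTab w).getD b 0).Nodup &&
    I.all fun g => reps.all fun w => certs.any fun c =>
      c.1 == g && c.2.1 == w && reps.contains c.2.2.1 && c.2.2.2.all (fun j => J.contains j) &&
        wordTab (g :: w) == wordTab (c.2.2.1 ++ c.2.2.2)

theorem level_spec {I J : List (Fin 8)} {b : Fin 12} {reps : List (List (Fin 8))}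
    {certs : List (Fin 8 × List (Fin 8) × List (Fin 8) × List (Fin 8))} (h : levelCheck I J b reps certs = true) :
    grp I ⊓ MulAction.stabilizer (Equiv.Perm (Fin 12)) b = grp J ∧
      Nat.card (grp I) = reps.length * Nat.card (grp J) := by
  simp only [levelCheck, Bool.and_eq_true, List.all_eq_true, List.any_eq_true, List.contains_iff_mem,
    beq_iff_eq, decide_eq_true_eq] at h
  obtain ⟨⟨⟨⟨hJ, h1⟩, hI⟩, hnd⟩, hc⟩ := h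
  have := PermChain.level (S := gen '' {i | i ∈ I}) (H := grp J) b (reps.map wordPerm)
    (Subgroup.closure_mono (Set.image_mono fun j hj => (hJ j hj).1))
    (fun x hx => (Subgroup.closure_le (MulAction.stabilizer (Equiv.Perm (Fin 12)) b)).2 (by
      rintro _ ⟨j, hj, rfl⟩
      exact Fin.ext (by rw [Equiv.Perm.smul_def, ← (tab_spec j b).1, (hJ j hj).2])) hx)
    (by
      intro r hr
      obtain ⟨w, hw, rfl⟩ := List.mem_map.1 hr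
      exact word_mem (hI w hw))
    (List.mem_map.2 ⟨[], h1, rfl⟩)
    (by
      rw [List.map_map]
      refine List.Nodup.of_map Fin.val ?_
      rw [List.map_map]
      convert hnd using 2
      funext w
      exact ((wordTab_spec w b).1).symm)
    (by
      rintro _ ⟨g, hg, rfl⟩ r hr
      obtain ⟨w, hw, rfl⟩ := List.mem_map.1 hr
      obtain ⟨c, -, ⟨⟨⟨-, -⟩, hc1⟩, hc2⟩, hc3⟩ := hc g hg w hw
      refine ⟨wordPerm c.2.2.1, List.mem_map.2 ⟨_, hc1, rfl⟩, ?_⟩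
      have e := word_eq hc3
      rw [wordPerm_append] at e
      rw [show gen g * wordPerm w = wordPerm (g :: w) from rfl, e, inv_mul_cancel_left]
      exact word_mem hc2)
  rw [List.length_map] at this
  exact this

/-- The transversal at level 0. -/
def reps0 : List (List (Fin 8)) :=
  [[], [7], [6, 7], [5, 6, 7], [0, 5, 6, 7], [1, 5, 6, 7], [0, 0, 5, 6, 7], [1, 0, 5, 6, 7], [4, 0, 5, 6, 7], [1, 1, 5, 6, 7], [4, 1, 5, 6, 7], [1, 0, 0, 5, 6, 7]]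

/-- The certificate at level 0. -/
def certs0 : List (Fin 8 × List (Fin 8) × List (Fin 8) × List (Fin 8)) :=
  [(0, [], [], [0]), (0, [7], [7], [0]), (0, [6, 7], [6, 7], [0]), (0, [5, 6, 7], [0, 5, 6, 7], []), (0, [0, 5, 6, 7], [0, 0, 5, 6, 7], []), (0, [1, 5, 6, 7], [1, 0, 5, 6, 7], []), (0, [0, 0, 5, 6, 7], [5, 6, 7], []), (0, [1, 0, 5, 6, 7], [1, 0, 0, 5, 6, 7], []), (0, [4, 0, 5, 6, 7], [4, 1, 5, 6, 7], []), (0, [1, 1, 5, 6, 7], [4, 0, 5, 6, 7], [3, 4]), (0, [4, 1, 5, 6, 7], [1, 1, 5, 6, 7], [2]), (0, [1, 0, 0, 5, 6, 7], [1, 5, 6, 7], []), (1, [], [], [1]), (1, [7], [7], [4, 1, 2, 3]), (1, [6, 7], [6, 7], [1, 0]), (1, [5, 6, 7], [1, 5, 6, 7], []), (1, [0, 5, 6, 7], [1, 0, 5, 6, 7], []), (1, [1, 5, 6, 7], [1, 1, 5, 6, 7], []), (1, [0, 0, 5, 6, 7], [1, 0, 0, 5, 6, 7], []), (1, [1, 0, 5, 6, 7], [4, 0, 5, 6, 7], [3, 4]), (1, [4, 0, 5, 6,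 7], [0, 5, 6, 7], [2]), (1, [1, 1, 5, 6, 7], [5, 6, 7], []), (1, [4, 1, 5, 6, 7], [0, 0, 5, 6, 7], [2]), (1, [1, 0, 0, 5, 6, 7], [4, 1, 5, 6, 7], [3, 4]), (2, [], [], [2]), (2, [7], [7], [4, 2]), (2, [6, 7], [6, 7], [3]), (2, [5, 6, 7], [5, 6, 7], [2, 3]), (2, [0, 5, 6, 7], [1, 5, 6, 7], [2, 3]), (2, [1, 5, 6, 7], [0, 0, 5, 6, 7], [2, 3]), (2, [0, 0, 5, 6, 7], [1, 1, 5, 6, 7], [2, 3]), (2, [1, 0, 5, 6, 7], [1, 0, 0, 5, 6, 7], [2, 3]), (2, [4, 0, 5, 6, 7], [1, 0, 5, 6, 7], [3]), (2, [1, 1, 5, 6, 7], [0, 5, 6, 7], [2, 3]), (2, [4, 1, 5, 6, 7], [4, 0, 5, 6, 7], [4]), (2, [1, 0, 0, 5, 6, 7], [4, 1, 5, 6, 7], [3]), (3, [], [], [3]), (3, [7], [7], [3, 4]), (3, [6, 7], [6, 7], [2, 3]), (3, [5, 6, 7], [5, 6, 7], [3]), (3, [0, 5, 6, 7], [1, 0, 5, 6, 7], [3]), (3, [1, 5, 6, 7], [4, 0, 5, 6, 7], [4]), (3, [0, 0, 5, 6, 7], [4, 1, 5, 6, 7], [4]), (3,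 [1, 0, 5, 6, 7], [0, 0, 5, 6, 7], [3]), (3, [4, 0, 5, 6, 7], [1, 1, 5, 6, 7], [4]), (3, [1, 1, 5, 6, 7], [1, 0, 0, 5, 6, 7], [3]), (3, [4, 1, 5, 6, 7], [0, 5, 6, 7], [4]), (3, [1, 0, 0, 5, 6, 7], [1, 5, 6, 7], [3]), (4, [], [], [4]), (4, [7], [7], [2, 3]), (4, [6, 7], [6, 7], [3, 4]), (4, [5, 6, 7], [5, 6, 7], [2]), (4, [0, 5, 6, 7], [4, 0, 5, 6, 7], []), (4, [1, 5, 6, 7], [4, 1, 5, 6, 7], []), (4, [0, 0, 5, 6, 7], [1, 0, 0, 5, 6, 7], [2]), (4, [1, 0, 5, 6, 7], [1, 5, 6, 7], [2]), (4, [4, 0, 5, 6, 7], [0, 0, 5, 6, 7], [2, 2]), (4, [1, 1, 5, 6, 7], [1, 0, 5, 6, 7], [2]), (4, [4, 1, 5, 6, 7], [1, 1, 5, 6, 7], [2, 2]), (4, [1, 0, 0, 5, 6, 7], [0, 5, 6, 7], [2]), (5, [], [], [5]), (5, [7], [7], [5]), (5, [6, 7], [5, 6, 7], []), (5, [5, 6, 7], [6, 7], []), (5, [0, 5, 6, 7], [0, 5, 6, 7], [0, 0, 2, 2]), (5, [1, 5, 6, 7], [1, 0, 5, 6, 7], [4, 1,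 3]), (5, [0, 0, 5, 6, 7], [0, 0, 5, 6, 7], [0, 2, 2]), (5, [1, 0, 5, 6, 7], [1, 5, 6, 7], [4, 0, 4, 2]), (5, [4, 0, 5, 6, 7], [1, 0, 0, 5, 6, 7], [1, 2]), (5, [1, 1, 5, 6, 7], [4, 1, 5, 6, 7], [4, 0, 2, 3]), (5, [4, 1, 5, 6, 7], [1, 1, 5, 6, 7], [1, 0, 0]), (5, [1, 0, 0, 5, 6, 7], [4, 0, 5, 6, 7], [0, 0, 3, 4]), (6, [], [], [6]), (6, [7], [6, 7], []), (6, [6, 7], [7], []), (6, [5, 6, 7], [5, 6, 7], [5]), (6, [0, 5, 6, 7], [0, 5, 6, 7], [5]), (6, [1, 5, 6, 7], [1, 1, 5, 6, 7], [5]), (6, [0, 0, 5, 6, 7], [0, 0, 5, 6, 7], [5]), (6, [1, 0, 5, 6, 7], [4, 0, 5, 6, 7], [5, 4, 2]), (6, [4, 0, 5, 6, 7], [1, 0, 5, 6, 7], [5, 2]), (6, [1, 1, 5, 6, 7], [1, 5, 6, 7], [5]), (6, [4, 1, 5, 6, 7], [1, 0, 0, 5, 6, 7], [5, 2]), (6, [1, 0, 0, 5, 6, 7], [4, 1, 5, 6, 7], [5, 4, 2]), (7, [], [7], []), (7, [7], [], []), (7, [6, 7], [6, 7], [6]), (7, [5, 6, 7],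 [5, 6, 7], [6]), (7, [0, 5, 6, 7], [0, 5, 6, 7], [6]), (7, [1, 5, 6, 7], [4, 1, 5, 6, 7], [6, 2]), (7, [0, 0, 5, 6, 7], [0, 0, 5, 6, 7], [6]), (7, [1, 0, 5, 6, 7], [1, 1, 5, 6, 7], [6]), (7, [4, 0, 5, 6, 7], [1, 0, 0, 5, 6, 7], [6, 2]), (7, [1, 1, 5, 6, 7], [1, 0, 5, 6, 7], [6]), (7, [4, 1, 5, 6, 7], [1, 5, 6, 7], [6, 2]), (7, [1, 0, 0, 5, 6, 7], [4, 0, 5, 6, 7], [6, 2])]

theorem chain0 : grp [0, 1, 2, 3, 4, 5, 6, 7] ⊓ MulAction.stabilizer (Equiv.Perm (Fin 12)) (2 : Fin 12) = grp [0, 1, 2, 3, 4, 5, 6] ∧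
    Nat.card (grp [0, 1, 2, 3, 4, 5, 6, 7]) = 12 * Nat.card (grp [0, 1, 2, 3, 4, 5, 6]) :=
  level_spec (reps := reps0) (certs := certs0) (by decide +kernel)

/-- The transversal at level 1. -/
def reps1 : List (List (Fin 8)) :=
  [[], [6], [5, 6], [0, 5, 6], [1, 5, 6], [0, 0, 5, 6], [1, 0, 5, 6], [4, 0, 5, 6], [1, 1, 5, 6], [4, 1, 5, 6], [1, 0, 0, 5, 6]]

/-- The certificate at level 1. -/
def certs1 : List (Fin 8 × List (Fin 8) × List (Fin 8) × List (Fin 8)) :=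
  [(0, [], [], [0]), (0, [6], [6], [0]), (0, [5, 6], [0, 5, 6], []), (0, [0, 5, 6], [0, 0, 5, 6], []), (0, [1, 5, 6], [1, 0, 5, 6], []), (0, [0, 0, 5, 6], [5, 6], []), (0, [1, 0, 5, 6], [1, 0, 0, 5, 6], []), (0, [4, 0, 5, 6], [4, 1, 5, 6], []), (0, [1, 1, 5, 6], [4, 0, 5, 6], [3]), (0, [4, 1, 5, 6], [1, 1, 5, 6], [4, 2]), (0, [1, 0, 0, 5, 6], [1, 5, 6], []), (1, [], [], [1]), (1, [6], [6], [1, 1]), (1, [5, 6], [1, 5, 6], []), (1, [0, 5, 6], [1, 0, 5, 6], []), (1, [1, 5, 6], [1, 1, 5, 6], []), (1, [0, 0, 5, 6], [1, 0, 0, 5, 6], []), (1, [1, 0, 5, 6], [4, 0, 5, 6], [3]), (1, [4, 0, 5, 6], [0, 5, 6], [4, 2]), (1, [1, 1, 5, 6], [5, 6], []), (1, [4, 1, 5, 6], [0, 0, 5, 6], [4, 2]), (1, [1, 0, 0, 5, 6], [4, 1, 5, 6], [3]), (2, [], [], [2]), (2, [6], [6], [3, 4]), (2, [5, 6], [5, 6], [4]), (2, [0, 5, 6], [1, 5, 6], [4]), (2, [1, 5, 6], [0, 0, 5,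 6], [4]), (2, [0, 0, 5, 6], [1, 1, 5, 6], [4]), (2, [1, 0, 5, 6], [1, 0, 0, 5, 6], [4]), (2, [4, 0, 5, 6], [1, 0, 5, 6], [3, 4]), (2, [1, 1, 5, 6], [0, 5, 6], [4]), (2, [4, 1, 5, 6], [4, 0, 5, 6], [2, 3]), (2, [1, 0, 0, 5, 6], [4, 1, 5, 6], [3, 4]), (3, [], [], [3]), (3, [6], [6], [4]), (3, [5, 6], [5, 6], [3, 4]), (3, [0, 5, 6], [1, 0, 5, 6], [3, 4]), (3, [1, 5, 6], [4, 0, 5, 6], [2, 3]), (3, [0, 0, 5, 6], [4, 1, 5, 6], [2, 3]), (3, [1, 0, 5, 6], [0, 0, 5, 6], [3, 4]), (3, [4, 0, 5, 6], [1, 1, 5, 6], [2, 3]), (3, [1, 1, 5, 6], [1, 0, 0, 5, 6], [3, 4]), (3, [4, 1, 5, 6], [0, 5, 6], [2, 3]), (3, [1, 0, 0, 5, 6], [1, 5, 6], [3, 4]), (4, [], [], [4]), (4, [6], [6], [3]), (4, [5, 6], [5, 6], [4, 2]), (4, [0, 5, 6], [4, 0, 5, 6], []), (4, [1, 5, 6], [4, 1, 5, 6], []), (4, [0, 0, 5, 6], [1, 0, 0, 5, 6], [4, 2]), (4, [1, 0, 5, 6], [1, 5, 6], [4,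 2]), (4, [4, 0, 5, 6], [0, 0, 5, 6], [2, 2]), (4, [1, 1, 5, 6], [1, 0, 5, 6], [4, 2]), (4, [4, 1, 5, 6], [1, 1, 5, 6], [2, 2]), (4, [1, 0, 0, 5, 6], [0, 5, 6], [4, 2]), (5, [], [], [5]), (5, [6], [5, 6], []), (5, [5, 6], [6], []), (5, [0, 5, 6], [0, 5, 6], [0, 0, 2, 2]), (5, [1, 5, 6], [1, 0, 5, 6], [1, 4, 2]), (5, [0, 0, 5, 6], [0, 0, 5, 6], [0, 2, 2]), (5, [1, 0, 5, 6], [1, 5, 6], [1, 0, 0, 3]), (5, [4, 0, 5, 6], [1, 0, 0, 5, 6], [4, 1, 2]), (5, [1, 1, 5, 6], [4, 1, 5, 6], [1, 0, 0]), (5, [4, 1, 5, 6], [1, 1, 5, 6], [4, 0, 2, 3]), (5, [1, 0, 0, 5, 6], [4, 0, 5, 6], [0, 0, 3]), (6, [], [6], []), (6, [6], [], []), (6, [5, 6], [5, 6], [5]), (6, [0, 5, 6], [0, 5, 6], [5]), (6, [1, 5, 6], [1, 1, 5, 6], [5]), (6, [0, 0, 5, 6], [0, 0, 5, 6], [5]), (6, [1, 0, 5, 6], [4, 0, 5, 6], [5, 2]), (6, [4, 0, 5, 6], [1, 0, 5, 6], [5, 4, 2]), (6, [1, 1,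 5, 6], [1, 5, 6], [5]), (6, [4, 1, 5, 6], [1, 0, 0, 5, 6], [5, 4, 2]), (6, [1, 0, 0, 5, 6], [4, 1, 5, 6], [5, 2])]

theorem chain1 : grp [0, 1, 2, 3, 4, 5, 6] ⊓ MulAction.stabilizer (Equiv.Perm (Fin 12)) (1 : Fin 12) = grp [0, 1, 2, 3, 4, 5] ∧
    Nat.card (grp [0, 1, 2, 3, 4, 5, 6]) = 11 * Nat.card (grp [0, 1, 2, 3, 4, 5]) :=
  level_spec (reps := reps1) (certs := certs1) (by decide +kernel)

/-- The transversal at level 2. -/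
def reps2 : List (List (Fin 8)) :=
  [[], [5], [0, 5], [1, 5], [0, 0, 5], [1, 0, 5], [4, 0, 5], [1, 1, 5], [4, 1, 5], [1, 0, 0, 5]]

/-- The certificate at level 2. -/
def certs2 : List (Fin 8 × List (Fin 8) × List (Fin 8) × List (Fin 8)) :=
  [(0, [], [], [0]), (0, [5], [0, 5], []), (0, [0, 5], [0, 0, 5], []), (0, [1, 5], [1, 0, 5], []), (0, [0, 0, 5], [5], []), (0, [1, 0, 5], [1, 0, 0, 5], []), (0, [4, 0, 5], [4, 1, 5], []), (0, [1, 1, 5], [4, 0, 5], [4]), (0, [4, 1, 5], [1, 1, 5], [2, 3]), (0, [1, 0, 0, 5], [1, 5], []), (1, [], [], [1]), (1, [5], [1, 5], []), (1, [0, 5], [1, 0, 5], []), (1, [1, 5], [1, 1, 5], []), (1, [0, 0, 5], [1, 0, 0, 5], []), (1, [1, 0, 5], [4, 0, 5], [4]), (1, [4, 0, 5], [0, 5], [2, 3]), (1, [1, 1, 5], [5], []), (1, [4, 1, 5], [0, 0, 5], [2, 3]), (1, [1, 0, 0, 5], [4, 1, 5], [4]), (2, [], [], [2]), (2, [5], [5],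 [3]), (2, [0, 5], [1, 5], [3]), (2, [1, 5], [0, 0, 5], [3]), (2, [0, 0, 5], [1, 1, 5], [3]), (2, [1, 0, 5], [1, 0, 0, 5], [3]), (2, [4, 0, 5], [1, 0, 5], [2]), (2, [1, 1, 5], [0, 5], [3]), (2, [4, 1, 5], [4, 0, 5], [4, 2]), (2, [1, 0, 0, 5], [4, 1, 5], [2]), (3, [], [], [3]), (3, [5], [5], [2]), (3, [0, 5], [1, 0, 5], [2]), (3, [1, 5], [4, 0, 5], [4, 2]), (3, [0, 0, 5], [4, 1, 5], [4, 2]), (3, [1, 0, 5], [0, 0, 5], [2]), (3, [4, 0, 5], [1, 1, 5], [4, 2]), (3, [1, 1, 5], [1, 0, 0, 5], [2]), (3, [4, 1, 5], [0, 5], [4, 2]), (3, [1, 0, 0, 5], [1, 5], [2]), (4, [], [], [4]), (4, [5], [5], [2, 3]), (4, [0, 5], [4, 0, 5], []), (4, [1, 5], [4, 1, 5], []), (4, [0, 0, 5], [1, 0, 0, 5], [2, 3]), (4, [1, 0, 5], [1, 5], [2, 3]), (4, [4, 0, 5], [0, 0, 5], [2, 2]), (4, [1, 1, 5], [1, 0, 5], [2, 3]), (4, [4, 1, 5], [1, 1, 5], [2, 2]), (4, [1, 0, 0, 5],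 [0, 5], [2, 3]), (5, [], [5], []), (5, [5], [], []), (5, [0, 5], [0, 5], [0, 0, 2, 2]), (5, [1, 5], [1, 0, 5], [1, 1, 2, 3]), (5, [0, 0, 5], [0, 0, 5], [0, 2, 2]), (5, [1, 0, 5], [1, 5], [4, 1]), (5, [4, 0, 5], [1, 0, 0, 5], [1, 0, 0, 2, 3]), (5, [1, 1, 5], [4, 1, 5], [4, 1, 2, 3]), (5, [4, 1, 5], [1, 1, 5], [1, 0]), (5, [1, 0, 0, 5], [4, 0, 5], [0, 0, 4])]

theorem chain2 : grp [0, 1, 2, 3, 4, 5] ⊓ MulAction.stabilizer (Equiv.Perm (Fin 12)) (0 : Fin 12) = grp [0, 1, 2, 3, 4] ∧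
    Nat.card (grp [0, 1, 2, 3, 4, 5]) = 10 * Nat.card (grp [0, 1, 2, 3, 4]) :=
  level_spec (reps := reps2) (certs := certs2) (by decide +kernel)

/-- The transversal at level 3. -/
def reps3 : List (List (Fin 8)) :=
  [[], [0], [1], [0, 0], [1, 0], [4, 0], [1, 1], [4, 1], [1, 0, 0]]

/-- The certificate at level 3. -/
def certs3 : List (Fin 8 × List (Fin 8) × List (Fin 8) × List (Fin 8)) :=
  [(0, [], [0], []), (0, [0], [0, 0], []), (0, [1], [1, 0], []), (0, [0, 0], [], []), (0, [1, 0], [1, 0, 0], []), (0, [4, 0], [4, 1], []), (0, [1, 1], [4, 0], [2, 3]), (0, [4, 1], [1, 1], [4]), (0, [1, 0, 0], [1], []), (1, [], [1], []), (1, [0], [1, 0], []), (1, [1], [1, 1], []), (1, [0, 0], [1, 0, 0], []), (1, [1, 0], [4, 0], [2, 3]), (1, [4, 0], [0], [4]), (1, [1, 1], [], []), (1, [4, 1], [0, 0], [4]), (1, [1, 0, 0], [4, 1], [2, 3]), (2, [], [], [2]),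 (2, [0], [1], [2]), (2, [1], [0, 0], [2]), (2, [0, 0], [1, 1], [2]), (2, [1, 0], [1, 0, 0], [2]), (2, [4, 0], [1, 0], [3]), (2, [1, 1], [0], [2]), (2, [4, 1], [4, 0], [3, 4]), (2, [1, 0, 0], [4, 1], [3]), (3, [], [], [3]), (3, [0], [1, 0], [3]), (3, [1], [4, 0], [3, 4]), (3, [0, 0], [4, 1], [3, 4]), (3, [1, 0], [0, 0], [3]), (3, [4, 0], [1, 1], [3, 4]), (3, [1, 1], [1, 0, 0], [3]), (3, [4, 1], [0], [3, 4]), (3, [1, 0, 0], [1], [3]), (4, [], [], [4]), (4, [0], [4, 0], []), (4, [1], [4, 1], []), (4, [0, 0], [1, 0, 0], [4]), (4, [1, 0], [1], [4]), (4, [4, 0], [0, 0], [2, 2]), (4, [1, 1], [1, 0], [4]), (4, [4, 1], [1, 1], [2, 2]), (4, [1, 0, 0], [0], [4])]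

theorem chain3 : grp [0, 1, 2, 3, 4] ⊓ MulAction.stabilizer (Equiv.Perm (Fin 12)) (3 : Fin 12) = grp [2, 3, 4] ∧
    Nat.card (grp [0, 1, 2, 3, 4]) = 9 * Nat.card (grp [2, 3, 4]) :=
  level_spec (reps := reps3) (certs := certs3) (by decide +kernel)

/-- The transversal at level 4. -/
def reps4 : List (List (Fin 8)) :=
  [[], [2], [3], [4], [2, 2], [4, 2], [2, 3], [3, 4]]

/-- The certificate at level 4. -/
def certs4 : List (Fin 8 × List (Fin 8) × List (Fin 8) × List (Fin 8)) :=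
  [(2, [], [2], []), (2, [2], [2, 2], []), (2, [3], [2, 3], []), (2, [4], [3], []), (2, [2, 2], [3, 4], []), (2, [4, 2], [4], []), (2, [2, 3], [4, 2], []), (2, [3, 4], [], []), (3, [], [3], []), (3, [2], [4], []), (3, [3], [2, 2], []), (3, [4], [3, 4], []), (3, [2, 2], [4, 2], []), (3, [4, 2], [], []), (3, [2, 3], [2], []), (3, [3, 4], [2, 3], []), (4, [], [4], []), (4, [2], [4, 2], []), (4, [3], [2], []), (4, [4], [2, 2], []), (4, [2, 2], [2, 3], []), (4, [4, 2], [3, 4], []), (4, [2, 3], [], []), (4, [3, 4], [3], [])]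

theorem chain4 : grp [2, 3, 4] ⊓ MulAction.stabilizer (Equiv.Perm (Fin 12)) (4 : Fin 12) = grp [] ∧
    Nat.card (grp [2, 3, 4]) = 8 * Nat.card (grp []) :=
  level_spec (reps := reps4) (certs := certs4) (by decide +kernel)

theorem card_all : Nat.card (grp [0, 1, 2, 3, 4, 5, 6, 7]) = 95040 ∧ Nat.card (grp [0, 1, 2, 3, 4, 5, 6]) = 7920 := by
  rw [chain0.2, chain1.2, chain2.2, chain3.2, chain4.2, grp_nil, Subgroup.card_bot]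
  exact ⟨rfl, rfl⟩

theorem eq_one_of_fix {x : Equiv.Perm (Fin 12)} (hx : x ∈ grp [0, 1, 2, 3, 4, 5, 6, 7]) (h2 : x 2 = 2) (h1 : x 1 = 1) (h0 : x 0 = 0)
    (h3 : x 3 = 3) (h4 : x 4 = 4) : x = 1 := by
  have a1 : x ∈ grp [0, 1, 2, 3, 4, 5, 6] := chain0.1 ▸ Subgroup.mem_inf.2 ⟨hx, h2⟩
  have a2 : x ∈ grp [0, 1, 2, 3, 4, 5] := chain1.1 ▸ Subgroup.mem_inf.2 ⟨a1, h1⟩
  have a3 : x ∈ grp [0, 1, 2, 3, 4] := chain2.1 ▸ Subgroup.mem_inf.2 ⟨a2, h0⟩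
  have a4 : x ∈ grp [2, 3, 4] := chain3.1 ▸ Subgroup.mem_inf.2 ⟨a3, h3⟩
  have a5 : x ∈ grp [] := chain4.1 ▸ Subgroup.mem_inf.2 ⟨a4, h4⟩
  rwa [grp_nil, Subgroup.mem_bot] at a5

theorem sharply_five : MulAction.IsMultiplyPretransitive (grp [0, 1, 2, 3, 4, 5, 6, 7]) (Fin 12) 5 ∧
    ∀ y : Fin 5 ↪ Fin 12, MulAction.stabilizer (grp [0, 1, 2, 3, 4, 5, 6, 7]) y = ⊥ := by
  let y₀ : Fin 5 ↪ Fin 12 := ⟨![2, 1, 0, 3, 4], by decide⟩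
  let f : grp [0, 1, 2, 3, 4, 5, 6, 7] → (Fin 5 ↪ Fin 12) := fun g => g • y₀
  have hinj : Function.Injective f := by
    intro g h e
    have e' : ∀ i, (h⁻¹ * g : grp [0, 1, 2, 3, 4, 5, 6, 7]).1 (y₀ i) = y₀ i := by
      intro i
      have := congrArg (fun y : Fin 5 ↪ Fin 12 => h⁻¹ • y i) e
      simpa [f, Function.Embedding.smul_apply, Subgroup.smul_def, Equiv.Perm.smul_def, mul_smul] using this
    have h1 := eq_one_of_fix (h⁻¹ * g).2 (e' 0) (e' 1) (e' 2) (e' 3) (e' 4)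
    exact (inv_mul_eq_one.1 (Subtype.ext h1)).symm
  have hcard : Nat.card (grp [0, 1, 2, 3, 4, 5, 6, 7]) = Nat.card (Fin 5 ↪ Fin 12) := by
    rw [card_all.1, Nat.card_eq_fintype_card, Fintype.card_embedding_eq, Fintype.card_fin, Fintype.card_fin]
    decide
  have hb : Function.Bijective f := (Nat.bijective_iff_injective_and_card f).2 ⟨hinj, hcard⟩
  refine ⟨(MulAction.isPretransitive_iff_base (G := grp [0, 1, 2, 3, 4, 5, 6, 7]) y₀).2 hb.2, fun y => ?_⟩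
  obtain ⟨g, rfl⟩ := hb.2 y
  rw [eq_bot_iff]
  intro k hk
  rw [MulAction.mem_stabilizer_iff] at hk
  have : f (k * g) = f g := by exact (mul_smul k g y₀).trans hk
  exact Subgroup.mem_bot.2 (mul_eq_right.1 (hinj this))

end CfsgLib.Recog.MTwelve
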