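import Mathlib

/-! The minimal Frobenius group `a^e ⋊ b` for two distinct primes, `e` the order of `a` mod `b`. -/

namespace CfsgLib.Recog

variable {F : Type*} [Field F]

/-- Multiplication by units, as automorphisms of the additive group of a field. -/
noncomputable def fieldScaleAut (C : Subgroup Fˣ) : ↥C →* MulAut (Multiplicative F) where
  toFun c :=
    { toFun := fun v => Multiplicative.ofAdd (((c : Fˣ) : F) * v.toAdd)
      invFun := fun v => Multiplicative.ofAdd ((((c : Fˣ)⁻¹ : Fˣ) : F) * v.toAdd)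
      left_inv := fun v => by simp
      right_inv := fun v => by simp
      map_mul' := fun v w => by simp [mul_add] }
  map_one' := by ext v; simp
  map_mul' c d := by ext v; simp [mul_assoc]

theorem fieldScaleAut_apply (C : Subgroup Fˣ) (c : ↥C) (v : Multiplicative F) :
    (fieldScaleAut C c v).toAdd = ((c : Fˣ) : F) * v.toAdd := rfl

/-- `F ⋊ C`. -/
abbrev FieldScale (C : Subgroup Fˣ) : Type _ := Multiplicative F ⋊[fieldScaleAut C] ↥C

theorem fieldScale_pow_left (C : Subgroup Fˣ) (g : FieldScale C) (n : ℕ) :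
    (g ^ n).right = g.right ^ n ∧ (g ^ n).left.toAdd = (∑ i ∈ Finset.range n, ((g.right : Fˣ) : F) ^ i) * g.left.toAdd := by
  induction n with
  | zero => simp
  | succ n ih =>
    refine ⟨by rw [pow_succ, SemidirectProduct.mul_right, ih.1, pow_succ], ?_⟩
    rw [pow_succ, SemidirectProduct.mul_left, toAdd_mul, ih.2, ih.1, fieldScaleAut_apply,
      Finset.sum_range_succ, add_mul]
    simp

theorem fieldScale_pow_prime_eq_one (C : Subgroup Fˣ) {b : ℕ} (hC : Nat.card C = b)
    (g : FieldScale C) (hg : g.right ≠ 1) : g ^ b = 1 := by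
  obtain ⟨h1, h2⟩ := fieldScale_pow_left C g b
  have hr : g.right ^ b = 1 := hC ▸ pow_card_eq_one'
  apply SemidirectProduct.ext
  · apply Multiplicative.toAdd.injective
    rw [h2]
    have hne : ((g.right : Fˣ) : F) - 1 ≠ 0 := sub_ne_zero.mpr fun e =>
      hg (Subtype.ext (Units.ext e))
    have hs : (∑ i ∈ Finset.range b, ((g.right : Fˣ) : F) ^ i) * (((g.right : Fˣ) : F) - 1) = 0 := by
      rw [geom_sum_mul, sub_eq_zero, ← Units.val_pow_eq_pow_val, ← Subgroup.coe_pow, hr]
      rfl
    rw [(mul_eq_zero.mp hs).resolve_right hne, zero_mul]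
    rfl
  · rw [h1, hr]; rfl

/-- The minimal Frobenius group of exponent `a·b`. -/
theorem exists_minimal_frobenius {a b : ℕ} (ha : a.Prime) (hb : b.Prime) (hab : a ≠ b) :
    ∃ (G : Type) (_ : Group G) (_ : Fintype G),
      Nat.card G = a ^ orderOf (a : ZMod b) * b ∧
      (∀ g : G, orderOf g = 1 ∨ orderOf g = a ∨ orderOf g = b) ∧
      (∃ g : G, orderOf g = a) ∧ (∃ g : G, orderOf g = b) ∧
      (∀ H : Subgroup G, (∃ g ∈ H, orderOf g = a) → (∃ g ∈ H, orderOf g = b) → H = ⊤) ∧
      (∀ N : Subgroup G, N.Normal → N ≠ ⊥ → ∀ g : G, g ^ b ∈ N) := by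
  classical
  haveI : Fact a.Prime := ⟨ha⟩
  haveI : Fact b.Prime := ⟨hb⟩
  have ha0 : (a : ZMod b) ≠ 0 := by
    rw [Ne, ZMod.natCast_eq_zero_iff, Nat.prime_dvd_prime_iff_eq hb ha]
    exact fun h => hab h.symm
  set e := orderOf (a : ZMod b) with he_def
  have he : e ≠ 0 := by
    have : (a : ZMod b) ^ (b - 1) = 1 := ZMod.pow_card_sub_one_eq_one ha0
    exact (orderOf_pos_iff.mpr (isOfFinOrder_iff_pow_eq_one.mpr
      ⟨b - 1, by have := hb.two_le; omega, this⟩)).ne'
  let F := GaloisField a e
  haveI : Fintype F := Fintype.ofFinite F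
  have hF : Fintype.card F = a ^ e := by rw [← Nat.card_eq_fintype_card]; exact GaloisField.card a e he
  have hbdvd : b ∣ Fintype.card Fˣ := by
    rw [Fintype.card_units, hF, ← ZMod.natCast_eq_zero_iff, Nat.cast_sub (Nat.one_le_pow _ _ ha.pos),
      Nat.cast_pow, Nat.cast_one, pow_orderOf_eq_one, sub_self]
  obtain ⟨ζ, hζ⟩ := exists_prime_orderOf_dvd_card b hbdvd
  let C := Subgroup.zpowers ζ
  have hC : Nat.card C = b := by rw [Nat.card_zpowers, hζ]
  haveI : Finite (FieldScale C) := Finite.of_equiv _ SemidirectProduct.equivProd.symm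
  letI : Fintype (FieldScale C) := Fintype.ofFinite (FieldScale C)
  have hchar : ∀ v : F, a • v = 0 := fun v => by rw [nsmul_eq_mul, CharP.cast_eq_zero F a, zero_mul]
  have hker : ∀ g : (FieldScale C), g.right = 1 → g ^ a = 1 := by
    intro g hg
    obtain ⟨h1, h2⟩ := fieldScale_pow_left C g a
    apply SemidirectProduct.ext
    · apply Multiplicative.toAdd.injective
      rw [h2, hg]
      simp only [OneMemClass.coe_one, Units.val_one, one_pow, Finset.sum_const, Finset.card_range]
      rw [hchar, zero_mul]; rfl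
    · rw [h1, hg, one_pow]; rfl
  have hne : ∀ g : (FieldScale C), g.right ≠ 1 → orderOf g = b := fun g hg =>
    orderOf_eq_prime (fieldScale_pow_prime_eq_one C hC g hg)
      fun h => hg (by rw [h]; rfl)
  -- only nonzero `ζ`-invariant additive subgroup is everything
  have hirr : ∀ W : AddSubgroup F, (∀ w ∈ W, (ζ : F) * w ∈ W) → ∀ w ∈ W, w ≠ 0 → ∀ v, v ∈ W := by
    intro W hW w hw hw0 v
    let R : Subring F :=
      { carrier := {r | ∀ x ∈ W, r * x ∈ W}
        one_mem' := fun x hx => by rwa [one_mul]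
        mul_mem' := fun {r s} hr hs x hx => by rw [mul_assoc]; exact hr _ (hs _ hx)
        zero_mem' := fun x _ => by rw [zero_mul]; exact W.zero_mem
        add_mem' := fun {r s} hr hs x hx => by rw [add_mul]; exact W.add_mem (hr _ hx) (hs _ hx)
        neg_mem' := fun {r} hr x hx => by rw [neg_mul]; exact W.neg_mem (hr _ hx) }
    haveI : Fintype R := Fintype.ofFinite R
    letI : Field R := Fintype.fieldOfDomain R
    have hRdvd : Fintype.card R ∣ a ^ e := by
      rw [← hF, ← Nat.card_eq_fintype_card, ← Nat.card_eq_fintype_card]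
      exact AddSubgroup.card_addSubgroup_dvd_card R.toAddSubgroup
    obtain ⟨d, hde, hd⟩ := (Nat.dvd_prime_pow ha).mp hRdvd
    let ζR : R := ⟨(ζ : F), hW⟩
    have hζR : orderOf ζR = b := by
      rw [← hζ, ← orderOf_units, ← orderOf_injective R.subtype.toMonoidHom Subtype.val_injective ζR]
      rfl
    have hζ0 : ζR ≠ 0 := fun h => ζ.ne_zero (congrArg Subtype.val h)
    have hdvd : b ∣ a ^ d - 1 := by
      rw [← hζR, ← hd]
      exact orderOf_dvd_of_pow_eq_one (FiniteField.pow_card_sub_one_eq_one ζR hζ0)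
    have hed : e ∣ d := by
      apply orderOf_dvd_of_pow_eq_one
      rw [← sub_eq_zero, ← Nat.cast_pow, ← Nat.cast_one, ← Nat.cast_sub (Nat.one_le_pow _ _ ha.pos),
        ZMod.natCast_eq_zero_iff]
      exact hdvd
    have hd0 : d ≠ 0 := by
      rintro rfl
      have := Fintype.one_lt_card (α := R)
      simp [hd] at this
    have hde' : d = e := le_antisymm hde (Nat.le_of_dvd (Nat.pos_of_ne_zero hd0) hed)
    have hR : R.toAddSubgroup = ⊤ := AddSubgroup.eq_top_of_card_eq _ (by
      rw [Nat.card_eq_fintype_card (α := F), hF, show a ^ e = a ^ d by rw [hde'], ← hd, ← Nat.card_eq_fintype_card]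
      rfl)
    have : v * w⁻¹ ∈ R := by
      change v * w⁻¹ ∈ R.toAddSubgroup
      rw [hR]; exact AddSubgroup.mem_top _
    simpa [mul_assoc, inv_mul_cancel₀ hw0] using this w hw
  let inl : Multiplicative F →* (FieldScale C) := SemidirectProduct.inl
  -- a subgroup normalised by an element outside the kernel contains all of the kernel or none
  have hfull : ∀ H : Subgroup (FieldScale C), ∀ c : (FieldScale C), c.right ≠ 1 → c ∈ Subgroup.normalizer (H : Set (FieldScale C)) →
      ∀ v : Multiplicative F, v ≠ 1 → inl v ∈ H → ∀ w, inl w ∈ H := by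
    intro H c hc hn v hv hvH w
    let W : AddSubgroup F :=
      { carrier := {x | inl (Multiplicative.ofAdd x) ∈ H}
        zero_mem' := by simp
        add_mem' := fun {x y} hx hy => by
          simp only [Set.mem_setOf_eq, ofAdd_add, map_mul] at hx hy ⊢; exact H.mul_mem hx hy
        neg_mem' := fun {x} hx => by
          simp only [Set.mem_setOf_eq, ofAdd_neg, map_inv] at hx ⊢; exact H.inv_mem hx }
    haveI : Fact (Nat.card C).Prime := ⟨hC ▸ hb⟩
    obtain ⟨k, hk⟩ : ∃ k : ℕ, c.right ^ k = (⟨ζ, Subgroup.mem_zpowers ζ⟩ : C) :=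
      mem_powers_iff_mem_zpowers.mpr (by
        rw [zpowers_eq_top_of_prime_card (p := b) hC hc]; exact Subgroup.mem_top _)
    have hW : ∀ x ∈ W, (ζ : F) * x ∈ W := by
      intro x hx
      have hck := (Subgroup.mem_normalizer_iff.mp (pow_mem hn k) (inl (Multiplicative.ofAdd x))).mp hx
      have heq : (c ^ k) * inl (Multiplicative.ofAdd x) * (c ^ k)⁻¹
          = inl (Multiplicative.ofAdd ((ζ : F) * x)) := by
        rw [mul_inv_eq_iff_eq_mul]
        apply SemidirectProduct.ext
        · apply Multiplicative.toAdd.injective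
          simp [inl, (fieldScale_pow_left C c k).1, hk, fieldScaleAut_apply, add_comm]
        · simp [inl]
      show inl (Multiplicative.ofAdd ((ζ : F) * x)) ∈ H
      rw [← heq]; exact hck
    exact hirr W hW v.toAdd hvH (fun h => hv (Multiplicative.toAdd.injective h)) w.toAdd
  refine ⟨(FieldScale C), inferInstance, inferInstance, ?_, ?_, ?_, ?_, ?_, ?_⟩
  · rw [SemidirectProduct.card, Nat.card_congr Multiplicative.toAdd, Nat.card_eq_fintype_card, hF, hC]
  · intro g
    by_cases hg : g.right = 1
    · rcases (Nat.dvd_prime ha).mp (orderOf_dvd_of_pow_eq_one (hker g hg)) with h | h <;> tauto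
    · exact Or.inr (Or.inr (hne g hg))
  · refine ⟨inl (Multiplicative.ofAdd 1), orderOf_eq_prime (hker _ rfl) fun h => ?_⟩
    exact one_ne_zero (α := F) (congrArg (fun g : (FieldScale C) => g.left.toAdd) h)
  · refine ⟨SemidirectProduct.inr ⟨ζ, Subgroup.mem_zpowers ζ⟩, hne _ fun h => ?_⟩
    have hz : ζ = 1 := congrArg Subtype.val h
    rw [hz, orderOf_one] at hζ
    exact hb.one_lt.ne hζ
  · rintro H ⟨g, hgH, hg⟩ ⟨c, hcH, hc⟩
    have hgr : g.right = 1 := by
      by_contra h; exact hab (hg.symm.trans (hne g h))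
    have hcr : c.right ≠ 1 := fun h => by
      have := orderOf_dvd_of_pow_eq_one (hker c h)
      rw [hc, Nat.prime_dvd_prime_iff_eq hb ha] at this
      exact hab this.symm
    have hgi : g = inl g.left := SemidirectProduct.ext rfl hgr
    have hg1 : g.left ≠ 1 := fun h => by
      rw [hgi, h, map_one, orderOf_one] at hg; exact ha.one_lt.ne hg
    have hall := hfull H c hcr (Subgroup.le_normalizer hcH) g.left hg1 (hgi ▸ hgH)
    rw [Subgroup.eq_top_iff']
    intro x
    obtain ⟨k, hk⟩ : ∃ k : ℕ, c.right ^ k = x.right :=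
      mem_powers_iff_mem_zpowers.mpr (by
        haveI : Fact (Nat.card C).Prime := ⟨hC ▸ hb⟩
        rw [zpowers_eq_top_of_prime_card (p := b) hC hcr]; exact Subgroup.mem_top _)
    have hx : x * (c ^ k)⁻¹ = inl (x * (c ^ k)⁻¹).left := SemidirectProduct.ext rfl (by
      simp [inl, (fieldScale_pow_left C c k).1, hk])
    have := H.mul_mem (hall (x * (c ^ k)⁻¹).left) (H.pow_mem hcH k)
    rwa [← hx, inv_mul_cancel_right] at this
  · intro N hN hN0 g
    by_cases hg : g.right = 1
    swap
    · rw [fieldScale_pow_prime_eq_one C hC g hg]; exact N.one_mem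
    apply N.pow_mem
    obtain ⟨⟨n, hnN⟩, hn'⟩ := (N.ne_bot_iff_exists_ne_one).mp hN0
    have hn1 : n ≠ 1 := fun h => hn' (Subtype.ext h)
    let z : (FieldScale C) := SemidirectProduct.inr ⟨ζ, Subgroup.mem_zpowers ζ⟩
    have hz : z.right ≠ 1 := fun h => by
      have hz : ζ = 1 := congrArg Subtype.val h
      rw [hz, orderOf_one] at hζ
      exact hb.one_lt.ne hζ
    have hzn : z ∈ Subgroup.normalizer (N : Set (FieldScale C)) := by
      rw [Subgroup.normalizer_eq_top_iff.mpr hN]; exact Subgroup.mem_top _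
    suffices ∃ v : Multiplicative F, v ≠ 1 ∧ inl v ∈ N by
      obtain ⟨v, hv, hvN⟩ := this
      have hgi : g = inl g.left := SemidirectProduct.ext rfl hg
      rw [hgi]; exact hfull N z hz hzn v hv hvN g.left
    by_cases hnr : n.right = 1
    · refine ⟨n.left, fun h => hn1 (SemidirectProduct.ext h hnr), ?_⟩
      have : n = inl n.left := SemidirectProduct.ext rfl hnr
      exact this ▸ hnN
    · -- the commutator with the translation by `1`
      let t : (FieldScale C) := inl (Multiplicative.ofAdd 1)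
      have hmem : n * t * n⁻¹ * t⁻¹ ∈ N := by
        rw [mul_assoc n t, mul_assoc n]
        exact N.mul_mem hnN (hN.conj_mem _ (N.inv_mem hnN) t)
      have heq : n * t * n⁻¹ * t⁻¹ = inl (Multiplicative.ofAdd (((n.right : Fˣ) : F) - 1)) := by
        rw [mul_inv_eq_iff_eq_mul, mul_inv_eq_iff_eq_mul]
        apply SemidirectProduct.ext
        · apply Multiplicative.toAdd.injective
          simp [t, inl, fieldScaleAut_apply]; ring
        · simp [t, inl]
      refine ⟨_, ?_, heq ▸ hmem⟩
      intro h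
      exact hnr (Subtype.ext (Units.ext (sub_eq_zero.mp (Multiplicative.ofAdd.injective h))))

end CfsgLib.Recog
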