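import Mathlib.GroupTheory.PGroup
import Mathlib.GroupTheory.OrderOfElement
import Mathlib.RingTheory.IntegralDomain
import Mathlib.Algebra.Module.Equiv.Basic
import Mathlib.Algebra.Field.ZMod
import Mathlib.Data.ZMod.Units
import Mathlib.Tactic

/-! The automorphism group of the monomial 2-group on a plane over a Fermat prime field. -/

set_option autoImplicit false

namespace CfsgLib.Recog.MonomialAut

variable {T : Type*} [Group T] {σ : MulAut T} {k : ℕ}

theorem pow_aut {a y : T} (ha : σ a = a) (hy : σ y = y * a) : ∀ n : ℕ, (σ ^ n) y = y * a ^ n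
  | 0 => by simp
  | n + 1 => by
    rw [pow_succ', MulAut.mul_apply, pow_aut ha hy n, map_mul, map_pow, ha, hy, mul_assoc, ← pow_succ']

theorem self_eq_mul_right' {y b : T} (h : y = y * b) : b = 1 :=
  mul_left_cancel (a := y) (by rw [← h, mul_one])

theorem fix_of_coset (hk : Odd k) (hσ : σ ^ k = 1) {a y : T} (ha : σ a = a) (h2 : ∃ n : ℕ, a ^ 2 ^ n = 1)
    (hy : σ y = y * a) : σ y = y := by
  obtain ⟨n, hn⟩ := h2
  have h := pow_aut ha hy k
  rw [hσ, MulAut.one_apply] at h
  have hak : a ^ k = 1 := (self_eq_mul_right' h)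
  have : orderOf a = 1 := Nat.eq_one_of_dvd_coprimes ((Nat.coprime_two_right.2 hk).pow_right n)
    (orderOf_dvd_of_pow_eq_one hak) (orderOf_dvd_of_pow_eq_one hn)
  rw [hy, orderOf_eq_one_iff.1 this, mul_one]

theorem fix_pair (hk : Odd k) (hσ : σ ^ k = 1) {u v : T} (hu : σ u = u ∨ σ u = v) (hv : σ v = u ∨ σ v = v) :
    σ u = u := by
  rcases hu with h | h
  · exact h
  · rcases hv with h' | h'
    · have h2 : ∀ n : ℕ, (σ ^ (2 * n)) u = u := by
        intro n
        induction n with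
        | zero => simp
        | succ n ih => rw [mul_add, pow_add, MulAut.mul_apply, mul_one, pow_two, MulAut.mul_apply, h, h', ih]
      obtain ⟨m, rfl⟩ := hk
      have h3 := DFunLike.congr_fun hσ u
      rw [pow_succ', MulAut.mul_apply, h2, MulAut.one_apply] at h3
      exact h3
    · exact σ.injective (by rw [h, h'] )

theorem fix_cyclic (hk : Odd k) (hσ : σ ^ k = 1) {x : T} {n : ℕ} (hx : orderOf x = 2 ^ n)
    {j : ℕ} (hj : σ x = x ^ j) : σ x = x := by
  rcases Nat.eq_zero_or_pos n with hn | hn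
  · subst hn
    rw [pow_zero, orderOf_eq_one_iff] at hx
    simp [hx]
  have hpow : ∀ i : ℕ, (σ ^ i) x = x ^ j ^ i := by
    intro i
    induction i with
    | zero => simp
    | succ i ih => rw [pow_succ', MulAut.mul_apply, ih, map_pow, hj, ← pow_mul, ← pow_succ']
  have h := hpow k
  rw [hσ, MulAut.one_apply] at h
  haveI : NeZero (2 ^ n) := ⟨by positivity⟩
  have hjk : (j : ZMod (2 ^ n)) ^ k = 1 := by
    have := pow_eq_pow_iff_modEq.1 (show x ^ j ^ k = x ^ 1 by rw [pow_one]; exact h.symm)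
    rw [hx, ← ZMod.natCast_eq_natCast_iff] at this
    simpa using this
  have hk0 : k ≠ 0 := by rintro rfl; exact absurd hk (by decide)
  have hu : IsUnit (j : ZMod (2 ^ n)) := IsUnit.of_pow_eq_one hjk hk0
  have hcard : hu.unit ^ 2 ^ (n - 1) = 1 := by
    have := ZMod.pow_totient hu.unit
    rwa [Nat.totient_prime_pow Nat.prime_two hn, Nat.add_one_sub_one, mul_one] at this
  have hku : hu.unit ^ k = 1 := Units.ext hjk
  have h1 : orderOf hu.unit = 1 := Nat.eq_one_of_dvd_coprimes ((Nat.coprime_two_right.2 hk).pow_right (n - 1))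
    (orderOf_dvd_of_pow_eq_one hku) (orderOf_dvd_of_pow_eq_one hcard)
  have hj1 : (j : ZMod (2 ^ n)) = ((1 : ℕ) : ZMod (2 ^ n)) := by
    have := congrArg Units.val (orderOf_eq_one_iff.1 h1)
    simpa using this
  rw [ZMod.natCast_eq_natCast_iff] at hj1
  rw [hj]
  conv_rhs => rw [← pow_one x]
  exact pow_eq_pow_iff_modEq.2 (hx ▸ hj1)

omit σ k in
theorem isPGroup_of_odd [Finite T] (h : ∀ (σ : MulAut T) (k : ℕ), Odd k → σ ^ k = 1 → σ = 1) :
    IsPGroup 2 (MulAut T) := by
  intro σ
  obtain ⟨v, k, hk, he⟩ := Nat.exists_eq_two_pow_mul_odd (orderOf_pos σ).ne'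
  exact ⟨v, h _ k hk (by rw [← pow_mul, ← he, pow_orderOf_eq_one])⟩

variable {q : ℕ} [Fact q.Prime]

/-- A diagonal map. -/
def diag (a b : (ZMod q)ˣ) : (Fin 2 → ZMod q) ≃ₗ[ZMod q] (Fin 2 → ZMod q) :=
  LinearEquiv.piCongrRight ![LinearEquiv.smulOfUnit a, LinearEquiv.smulOfUnit b]

/-- The swap. -/
def swp : (Fin 2 → ZMod q) ≃ₗ[ZMod q] (Fin 2 → ZMod q) :=
  LinearEquiv.funCongrLeft (ZMod q) (ZMod q) (Equiv.swap 0 1)

theorem diag_apply (a b : (ZMod q)ˣ) (v : Fin 2 → ZMod q) : diag a b v = ![a * v 0, b * v 1] := by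
  funext i; fin_cases i <;> simp [diag, LinearEquiv.smulOfUnit, Units.smul_def]

theorem swp_apply (v : Fin 2 → ZMod q) : swp v = ![v 1, v 0] := by
  funext i; fin_cases i <;> simp [swp]

theorem diag_mul (a b c d : (ZMod q)ˣ) : diag a b * diag c d = diag (a * c) (b * d) := by
  apply LinearEquiv.ext; intro v
  rw [LinearEquiv.mul_apply, diag_apply, diag_apply, diag_apply]
  simp [mul_assoc]

theorem swp_diag (a b : (ZMod q)ˣ) : swp * diag a b = diag b a * swp := by
  apply LinearEquiv.ext; intro v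
  rw [LinearEquiv.mul_apply, LinearEquiv.mul_apply, diag_apply, diag_apply, swp_apply, swp_apply]
  simp

theorem swp_swp : (swp : (Fin 2 → ZMod q) ≃ₗ[ZMod q] (Fin 2 → ZMod q)) * swp = 1 := by
  apply LinearEquiv.ext; intro v
  rw [LinearEquiv.mul_apply, swp_apply, swp_apply]
  funext i; fin_cases i <;> simp

theorem diag_one : diag (1 : (ZMod q)ˣ) 1 = 1 := by
  apply LinearEquiv.ext; intro v
  rw [diag_apply]; funext i; fin_cases i <;> simp

theorem diag_pow (a b : (ZMod q)ˣ) : ∀ n : ℕ, diag a b ^ n = diag (a ^ n) (b ^ n)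
  | 0 => by simp [diag_one]
  | n + 1 => by rw [pow_succ, diag_pow a b n, diag_mul, pow_succ, pow_succ]

theorem diag_inj {a b c d : (ZMod q)ˣ} (h : diag a b = diag c d) : a = c ∧ b = d := by
  have h0 := congrFun (LinearEquiv.congr_fun h 1) 0
  have h1 := congrFun (LinearEquiv.congr_fun h 1) 1
  rw [diag_apply, diag_apply] at h0 h1
  simp at h0 h1
  exact ⟨Units.ext h0, Units.ext h1⟩

theorem swp_diag_ne (a b c d : (ZMod q)ˣ) : swp * diag a b ≠ diag c d := by
  intro h
  have h0 := congrFun (LinearEquiv.congr_fun h ![1, 0]) 0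
  rw [LinearEquiv.mul_apply, diag_apply, diag_apply, swp_apply] at h0
  simp at h0
  exact c.ne_zero h0.symm

theorem unit_sq_one (u : (ZMod q)ˣ) (hu : u ^ 2 = 1) : u = 1 ∨ u = -1 := by
  have h : (u : ZMod q) * u = 1 := by rw [← pow_two, ← Units.val_pow_eq_pow_val, hu, Units.val_one]
  rcases mul_self_eq_one_iff.1 h with h1 | h1
  · exact Or.inl (Units.ext h1)
  · exact Or.inr (Units.ext (by rw [h1, Units.val_neg, Units.val_one]))

theorem units2 : ∀ u : (ZMod 2)ˣ, u = 1 := by decide

theorem units3 : ∀ u : (ZMod 3)ˣ, u = 1 ∨ u = -1 := by decide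

theorem ne3 : (1 : (ZMod 3)ˣ) ≠ -1 := by decide

theorem isPGroup_aut {m : ℕ} (hq : q = 2 ^ m + 1) (hq5 : q ≠ 5)
    (T : Subgroup ((Fin 2 → ZMod q) ≃ₗ[ZMod q] (Fin 2 → ZMod q)))
    (hT : ∀ f, f ∈ T ↔ ∃ a s : (ZMod q)ˣ, s ^ 2 = 1 ∧ (f = diag a (s * a⁻¹) ∨ f = swp * diag a (s * a⁻¹))) :
    IsPGroup 2 (MulAut T) := by
  haveI : Finite (Fin 2 → ZMod q) := inferInstance
  haveI : Finite ((Fin 2 → ZMod q) ≃ₗ[ZMod q] (Fin 2 → ZMod q)) :=
    Finite.of_injective _ DFunLike.coe_injective
  refine isPGroup_of_odd fun σ k hk hσ => ?_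
  suffices h : ∀ t : T, σ t = t from MulEquiv.ext h
  have h1 : (1 : (ZMod q)ˣ) ^ 2 = 1 := one_pow 2
  have hn1 : (-1 : (ZMod q)ˣ) ^ 2 = 1 := neg_one_sq
  let D : (a s : (ZMod q)ˣ) → s ^ 2 = 1 → T := fun a s hs => ⟨diag a (s * a⁻¹), (hT _).2 ⟨a, s, hs, Or.inl rfl⟩⟩
  let W : T := ⟨swp, (hT _).2 ⟨1, 1, h1, Or.inr (by rw [inv_one, mul_one, diag_one, mul_one])⟩⟩
  have hWW : W * W = 1 := Subtype.ext swp_swp
  have hcases : ∀ t : T, (∃ a b, t.1 = diag a b ∧ (a * b) ^ 2 = 1) ∨ (∃ a b, t.1 = swp * diag a b ∧ (a * b) ^ 2 = 1) := by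
    rintro ⟨t, ht⟩
    obtain ⟨a, s, hs, h | h⟩ := (hT t).1 ht
    · exact Or.inl ⟨a, s * a⁻¹, h, by rw [mul_comm, inv_mul_cancel_right, hs]⟩
    · exact Or.inr ⟨a, s * a⁻¹, h, by rw [mul_comm, inv_mul_cancel_right, hs]⟩
  have hWsplit : ∀ t : T, (∃ a b, t.1 = diag a b) ∨ ∃ a b, (W * t : T).1 = diag a b := by
    intro t
    rcases hcases t with ⟨a, b, h, -⟩ | ⟨a, b, h, -⟩
    · exact Or.inl ⟨a, b, h⟩
    · refine Or.inr ⟨a, b, ?_⟩
      rw [Subgroup.coe_mul, h]
      show swp * (swp * diag a b) = _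
      rw [← mul_assoc, swp_swp, one_mul]
  have finish : (∀ a b, ∀ t : T, t.1 = diag a b → σ t = t) → (∀ a b, ∀ t : T, t.1 = diag a b → ∃ n : ℕ, t ^ 2 ^ n = 1) →
      ∀ t : T, σ t = t := by
    intro hd h2
    have hW : σ W = W := by
      rcases hWsplit (σ W) with ⟨a, b, h⟩ | ⟨a, b, h⟩
      · exfalso
        have hW' := σ.injective (hd a b _ h)
        exact swp_diag_ne 1 1 a b (by rw [diag_one, mul_one, ← h, hW'])
      · refine fix_of_coset hk hσ (a := W * σ W) (hd a b _ h) (h2 a b _ h) ?_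
        rw [← mul_assoc, hWW, one_mul]
    intro t
    rcases hWsplit t with ⟨a, b, h⟩ | ⟨a, b, h⟩
    · exact hd a b t h
    · have h' := hd a b _ h
      rwa [map_mul, hW, mul_right_inj] at h'
  have hqp : q.Prime := Fact.out
  have h2pow : ∀ a b, ∀ t : T, t.1 = diag a b → ∃ n : ℕ, t ^ 2 ^ n = 1 := by
    intro a b t h
    have hu : ∀ u : (ZMod q)ˣ, u ^ 2 ^ m = 1 := fun u => by
      have := ZMod.units_pow_card_sub_one_eq_one q u
      rwa [show q - 1 = 2 ^ m by rw [hq, Nat.add_sub_cancel]] at this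
    exact ⟨m, Subtype.ext (by rw [SubgroupClass.coe_pow, h, diag_pow, hu, hu, diag_one]; rfl)⟩
  rcases Nat.lt_or_ge m 3 with hm | hm
  · interval_cases m
    · -- two elements
      norm_num at hq; subst hq
      refine finish (fun a b t h => ?_) h2pow
      have := units2
      have : t = 1 := Subtype.ext (by rw [h, this a, this b, diag_one]; rfl)
      rw [this, map_one]
    · -- order eight
      norm_num at hq; subst hq
      have hu := units3
      let Z : T := D 1 (-1) hn1
      let R : T := W * Z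
      have hR2 : ∀ t : T, t * t ≠ 1 → t = R ∨ t = R⁻¹ := by
        intro t ht
        have hRinv : (R⁻¹ : T).1 = swp * diag (-1 : (ZMod 3)ˣ) 1 := by
          rw [Subgroup.coe_inv]
          refine inv_eq_of_mul_eq_one_right ?_
          show swp * diag 1 (-1 * 1⁻¹) * (swp * diag (-1 : (ZMod 3)ˣ) 1) = 1
          rw [inv_one, mul_one, mul_assoc, ← mul_assoc (diag 1 (-1)), ← swp_diag, mul_assoc, ← mul_assoc, swp_swp, one_mul, diag_mul]
          simp [diag_one]
        rcases hcases t with ⟨a, b, h, -⟩ | ⟨a, b, h, -⟩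
        · refine absurd (Subtype.ext ?_) ht
          rw [Subgroup.coe_mul, h, diag_mul]
          rcases hu a with rfl | rfl <;> rcases hu b with rfl | rfl <;> simp [diag_one]
        · rcases hu a with rfl | rfl <;> rcases hu b with rfl | rfl
          · refine absurd (Subtype.ext ?_) ht
            rw [Subgroup.coe_mul, h, diag_one, mul_one, swp_swp]; rfl
          · left; refine Subtype.ext (h.trans ?_)
            show _ = swp * diag 1 (-1 * 1⁻¹)
            rw [inv_one, mul_one]
          · exact Or.inr (Subtype.ext (h.trans hRinv.symm))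
          · refine absurd (Subtype.ext ?_) ht
            rw [Subgroup.coe_mul, h, mul_assoc, ← mul_assoc (diag _ _), ← swp_diag, mul_assoc, ← mul_assoc, swp_swp, one_mul, diag_mul]
            simp [diag_one]
      have hRR : R * R ≠ 1 := by
        intro e
        have e' := congrArg Subtype.val e
        change swp * diag 1 (-1 * 1⁻¹) * (swp * diag 1 (-1 * 1⁻¹)) = (1 : _) at e'
        rw [inv_one, mul_one, mul_assoc, ← mul_assoc (diag _ _), ← swp_diag, mul_assoc, ← mul_assoc, swp_swp, one_mul, diag_mul, ← diag_one] at e'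
        exact absurd (diag_inj e').1 (by simp [ne3, ne3.symm])
      have hfR : σ R = R := by
        refine fix_pair hk hσ (v := R⁻¹) (hR2 _ fun e => hRR (σ.injective (by rw [map_mul, e, map_one]))) (hR2 _ fun e => ?_)
        rw [map_inv, ← mul_inv_rev, inv_eq_one] at e
        exact hRR (σ.injective (by rw [map_mul, e, map_one]))
      have hR2f : σ (R * R) = R * R := by rw [map_mul, hfR]
      -- every element lies in the cyclic subgroup or its coset by Z
      have hfix : ∀ t : T, (t = 1 ∨ t = R ∨ t = R⁻¹ ∨ t = R * R) → σ t = t := by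
        rintro t (rfl | rfl | rfl | rfl)
        · exact map_one σ
        · exact hfR
        · rw [map_inv, hfR]
        · exact hR2f
      have hRRval : (R * R : T).1 = diag (-1 : (ZMod 3)ˣ) (-1) := by
        show swp * diag 1 (-1 * 1⁻¹) * (swp * diag 1 (-1 * 1⁻¹)) = _
        rw [inv_one, mul_one, mul_assoc, ← mul_assoc (diag _ _), ← swp_diag, mul_assoc, ← mul_assoc, swp_swp, one_mul, diag_mul]
        simp
      have hcoset : ∀ t : T, (t = 1 ∨ t = R ∨ t = R⁻¹ ∨ t = R * R) ∨ (Z⁻¹ * t = 1 ∨ Z⁻¹ * t = R ∨ Z⁻¹ * t = R⁻¹ ∨ Z⁻¹ * t = R * R) := by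
        intro t
        by_cases ht : t * t = 1
        swap
        · rcases hR2 t ht with h | h
          · exact Or.inl (Or.inr (Or.inl h))
          · exact Or.inl (Or.inr (Or.inr (Or.inl h)))
        by_cases hz : (Z⁻¹ * t) * (Z⁻¹ * t) = 1
        swap
        · rcases hR2 _ hz with h | h
          · exact Or.inr (Or.inr (Or.inl h))
          · exact Or.inr (Or.inr (Or.inr (Or.inl h)))
        have hZi : (Z⁻¹ : T).1 = diag (1 : (ZMod 3)ˣ) (-1) := by
          rw [Subgroup.coe_inv]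
          refine inv_eq_of_mul_eq_one_right ?_
          show diag 1 (-1 * 1⁻¹) * diag (1 : (ZMod 3)ˣ) (-1) = 1
          rw [diag_mul]; simp [diag_one]
        rcases hcases t with ⟨a, b, h, -⟩ | ⟨a, b, h, -⟩
        · rcases hu a with rfl | rfl <;> rcases hu b with rfl | rfl
          · exact Or.inl (Or.inl (Subtype.ext (by rw [h, diag_one]; rfl)))
          · refine Or.inr (Or.inl (Subtype.ext ?_))
            rw [Subgroup.coe_mul, hZi, h, diag_mul]; simp [diag_one]
          · refine Or.inr (Or.inr (Or.inr (Or.inr (Subtype.ext ?_))))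
            rw [Subgroup.coe_mul, hZi, h, diag_mul, hRRval]; simp
          · exact Or.inl (Or.inr (Or.inr (Or.inr (Subtype.ext (by rw [h, hRRval])))))
        · exfalso
          rcases hu a with rfl | rfl <;> rcases hu b with rfl | rfl
          case inl.inr | inr.inl =>
            have e := congrArg Subtype.val ht
            rw [Subgroup.coe_mul, h, mul_assoc, ← mul_assoc (diag _ _), ← swp_diag, mul_assoc, ← mul_assoc, swp_swp, one_mul, diag_mul, OneMemClass.coe_one, ← diag_one] at e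
            exact absurd (diag_inj e).1 (by simp [ne3, ne3.symm])
          all_goals
            have e := congrArg Subtype.val hz
            rw [Subgroup.coe_mul, Subgroup.coe_mul, hZi, h, ← mul_assoc (diag (1 : (ZMod 3)ˣ) (-1)), ← swp_diag, mul_assoc swp,
              diag_mul, mul_assoc, ← mul_assoc (diag _ _), ← swp_diag, mul_assoc, ← mul_assoc, swp_swp, one_mul, diag_mul,
              OneMemClass.coe_one, ← diag_one] at e
            exact absurd (diag_inj e).1 (by simp [ne3, ne3.symm])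
      have hZ : σ Z = Z := by
        rcases hcoset (σ Z) with h | h
        · have e := σ.injective (hfix _ h)
          rw [e] at h
          exact hfix _ h
        · refine fix_of_coset hk hσ (a := Z⁻¹ * σ Z) (hfix _ h) ?_ (by rw [mul_inv_cancel_left])
          refine ⟨2, ?_⟩
          have h4 : R ^ 4 = 1 := Subtype.ext (by
            rw [show R ^ 4 = (R * R) * (R * R) by simp [pow_succ, mul_assoc], Subgroup.coe_mul, hRRval, diag_mul]
            simp [diag_one])
          rcases h with e | e | e | e <;> rw [e]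
          · exact one_pow _
          · exact h4
          · rw [inv_pow]; exact inv_eq_one.2 h4
          · rw [← pow_two, ← pow_mul, show 2 * 2 ^ 2 = 4 * 2 by norm_num, pow_mul, h4, one_pow]
      intro t
      rcases hcoset t with h | h
      · exact hfix t h
      · have := hfix _ h
        rwa [map_mul, map_inv, hZ, mul_right_inj] at this
    · norm_num at hq; exact absurd hq hq5
  -- the general case
  refine finish ?_ h2pow
  obtain ⟨g, hg⟩ := IsCyclic.exists_generator (α := (ZMod q)ˣ)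
  have hog : orderOf g = 2 ^ m := by
    rw [orderOf_eq_card_of_forall_mem_zpowers hg, Nat.card_units, Nat.card_zmod, hq, Nat.add_sub_cancel]
  have h8 : 8 ≤ 2 ^ m := le_trans (by norm_num) (Nat.pow_le_pow_right (by norm_num) hm)
  have hlow : ∀ i, 0 < i → i < 2 ^ m → g ^ i ≠ 1 := fun i h0 h1 => pow_ne_one_of_lt_orderOf h0.ne' (hog ▸ h1)
  let X : T := D g 1 h1
  let Z : T := D 1 (-1) hn1
  let N : T := D (-1) 1 h1
  have hXv : X.1 = diag g g⁻¹ := by show diag g (1 * g⁻¹) = _; rw [one_mul]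
  have hZv : Z.1 = diag 1 (-1) := by show diag 1 (-1 * 1⁻¹) = _; rw [inv_one, mul_one]
  have hNv : N.1 = diag (-1) (-1) := by show diag (-1) (1 * (-1)⁻¹) = _; simp
  obtain ⟨m', rfl⟩ : ∃ m', m = m' + 3 := ⟨m - 3, by omega⟩
  -- the image of X is diagonal
  obtain ⟨a, b, hab, hsq⟩ : ∃ a b, (σ X : T).1 = diag a b ∧ (a * b) ^ 2 = 1 := by
    rcases hcases (σ X) with h | ⟨a, b, h, hsq⟩
    · exact h
    · exfalso
      have h4 : (σ X) ^ 4 = 1 := Subtype.ext (by
        rw [SubgroupClass.coe_pow, h, show 4 = 2 * 2 by rfl, pow_mul, pow_two (swp * diag a b), mul_assoc,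
          ← mul_assoc (diag a b), ← swp_diag, mul_assoc, ← mul_assoc swp, swp_swp, one_mul, diag_mul, diag_pow,
          mul_comm b a, hsq]
        simp [diag_one])
      rw [← map_pow] at h4
      have e := congrArg Subtype.val (σ.injective (h4.trans (map_one σ).symm))
      rw [SubgroupClass.coe_pow, hXv, diag_pow, OneMemClass.coe_one, ← diag_one] at e
      exact hlow 4 (by norm_num) (by omega) (diag_inj e).1
  obtain ⟨j, hj⟩ := (Submonoid.mem_powers_iff _ _).1 (mem_powers_iff_mem_zpowers.2 (hg a))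
  have hX2 : σ (X ^ 2) = X ^ 2 := by
    refine fix_cyclic hk hσ (n := m' + 2) ?_ (j := j) ?_
    · rw [← Subgroup.orderOf_coe, SubgroupClass.coe_pow, hXv, diag_pow]
      have hinj : orderOf (diag (g ^ 2) (g⁻¹ ^ 2)) = orderOf (g ^ 2) := orderOf_eq_orderOf_iff.2 fun n => by
        rw [diag_pow, ← diag_one]
        refine ⟨fun h => (diag_inj h).1, fun h => ?_⟩
        rw [inv_pow, inv_pow, h, inv_one]
      rw [hinj, orderOf_pow_of_dvd (by norm_num) (hog ▸ dvd_pow_self 2 (by omega)), hog]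
      rw [pow_succ, Nat.mul_div_cancel _ (by norm_num)]
    · refine Subtype.ext ?_
      rw [map_pow, SubgroupClass.coe_pow, hab, SubgroupClass.coe_pow, SubgroupClass.coe_pow, hXv, diag_pow, diag_pow, diag_pow]
      rw [mul_pow, mul_eq_one_iff_eq_inv'] at hsq
      rw [hsq, ← hj, ← pow_mul, ← pow_mul, mul_comm j 2, inv_pow, inv_pow, ← pow_mul]
  have ha2 : a ^ 2 = g ^ 2 ∧ b ^ 2 = g⁻¹ ^ 2 := by
    have e := congrArg Subtype.val hX2
    rw [map_pow, SubgroupClass.coe_pow, SubgroupClass.coe_pow, hab, hXv, diag_pow, diag_pow] at e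
    exact diag_inj e
  have hNX : N = X ^ (2 ^ (m' + 2)) := by
    refine Subtype.ext ?_
    rw [hNv, SubgroupClass.coe_pow, hXv, diag_pow]
    have e : g ^ 2 ^ (m' + 2) = -1 := by
      rcases unit_sq_one (g ^ 2 ^ (m' + 2)) (by rw [← pow_mul, ← pow_succ, ← hog, pow_orderOf_eq_one]) with h | h
      · exact absurd h (hlow _ (by positivity) (by rw [pow_succ 2 (m' + 2)]; have := Nat.two_pow_pos (m' + 2); omega))
      · exact h
    rw [inv_pow, e, inv_neg, inv_one]
  have hfN : σ N = N := by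
    rw [hNX, show 2 ^ (m' + 2) = 2 * 2 ^ (m' + 1) by rw [pow_succ'], pow_mul, map_pow, hX2]
  have hXne : a ≠ b := by
    intro e
    rw [e] at ha2
    have := ha2.1.symm.trans ha2.2
    rw [inv_pow, eq_inv_iff_mul_eq_one, ← pow_add] at this
    exact hlow 4 (by norm_num) (by omega) this
  have hdiag : ∀ t : T, Commute t (σ X) → ∃ c d, t.1 = diag c d := by
    intro t ht
    rcases hWsplit t with h | ⟨c, d, h⟩
    · exact h
    · exfalso
      have ht' : t.1 = swp * diag c d := by
        rw [← h]; show _ = swp * (swp * t.1)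
        rw [← mul_assoc, swp_swp, one_mul]
      have e := congrArg Subtype.val ht.eq
      rw [Subgroup.coe_mul, Subgroup.coe_mul, ht', hab, mul_assoc, diag_mul, ← mul_assoc (diag a b), ← swp_diag b a, mul_assoc, diag_mul] at e
      have := diag_inj (mul_left_cancel e)
      exact hXne (mul_right_cancel (b := c) (by rw [mul_comm a c, this.1]))
  have hinv : ∀ t : T, t ^ 2 = 1 → (∃ c d, t.1 = diag c d) → t = 1 ∨ t = N ∨ t = Z ∨ t = N * Z := by
    rintro t ht ⟨c, d, h⟩
    have e := congrArg Subtype.val ht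
    rw [SubgroupClass.coe_pow, h, diag_pow, OneMemClass.coe_one, ← diag_one] at e
    rcases unit_sq_one c (diag_inj e).1 with rfl | rfl <;> rcases unit_sq_one d (diag_inj e).2 with rfl | rfl
    · exact Or.inl (Subtype.ext (by rw [h, diag_one]; rfl))
    · exact Or.inr (Or.inr (Or.inl (Subtype.ext (by rw [h, hZv]))))
    · exact Or.inr (Or.inr (Or.inr (Subtype.ext (by rw [h, Subgroup.coe_mul, hNv, hZv, diag_mul]; simp))))
    · exact Or.inr (Or.inl (Subtype.ext (by rw [h, hNv])))
  have hZ2 : Z ^ 2 = 1 := Subtype.ext (by rw [SubgroupClass.coe_pow, hZv, diag_pow]; simp [diag_one])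
  have hN2 : N ^ 2 = 1 := Subtype.ext (by rw [SubgroupClass.coe_pow, hNv, diag_pow]; simp [diag_one])
  have hcom : ∀ t : T, (∃ c d, t.1 = diag c d) → Commute t X := by
    rintro t ⟨c, d, h⟩
    refine Subtype.ext ?_
    rw [Subgroup.coe_mul, Subgroup.coe_mul, h, hXv, diag_mul, diag_mul, mul_comm c, mul_comm d]
  have hne1 : (1 : (ZMod q)ˣ) ≠ -1 := by
    intro e
    exact hlow 4 (by norm_num) (by omega) (by
      rcases unit_sq_one (g ^ 2 ^ (m' + 2)) (by rw [← pow_mul, ← pow_succ, ← hog, pow_orderOf_eq_one]) with h | h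
      · exact absurd h (hlow _ (by positivity) (by rw [pow_succ 2 (m' + 2)]; have := Nat.two_pow_pos (m' + 2); omega))
      · exact absurd (h.trans e.symm) (hlow _ (by positivity) (by rw [pow_succ 2 (m' + 2)]; have := Nat.two_pow_pos (m' + 2); omega)))
  have himg : ∀ t : T, t ^ 2 = 1 → (∃ c d, t.1 = diag c d) → t ≠ 1 → t ≠ N → σ t = Z ∨ σ t = N * Z := by
    intro t ht hd h1 hN
    rcases hinv (σ t) (by rw [← map_pow, ht, map_one]) (hdiag _ ((hcom t hd).map σ)) with h | h | h | h
    · exact absurd (σ.injective (h.trans (map_one σ).symm)) h1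
    · exact absurd (σ.injective (h.trans hfN.symm)) hN
    · exact Or.inl h
    · exact Or.inr h
  have hZne : Z ≠ 1 ∧ Z ≠ N := by
    constructor <;> intro e <;> have e' := congrArg Subtype.val e
    · rw [hZv, OneMemClass.coe_one, ← diag_one] at e'; exact hne1 (diag_inj e').2.symm
    · rw [hZv, hNv] at e'; exact hne1 (diag_inj e').1
  have hNZ : (N * Z : T).1 = diag (-1) 1 := by rw [Subgroup.coe_mul, hNv, hZv, diag_mul]; simp
  have hfZ : σ Z = Z := by
    refine fix_pair hk hσ (v := N * Z) (himg Z hZ2 ⟨_, _, hZv⟩ hZne.1 hZne.2) ?_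
    refine himg _ ?_ ⟨_, _, hNZ⟩ (fun e => ?_) (fun e => ?_)
    · exact Subtype.ext (by rw [SubgroupClass.coe_pow, hNZ, diag_pow]; simp [diag_one])
    · have e' := congrArg Subtype.val e
      rw [hNZ, OneMemClass.coe_one, ← diag_one] at e'; exact hne1 (diag_inj e').1.symm
    · have e' := congrArg Subtype.val e
      rw [hNZ, hNv] at e'; exact hne1 (diag_inj e').2
  have hfinv : ∀ t : T, t ^ 2 = 1 → (∃ c d, t.1 = diag c d) → σ t = t := by
    intro t ht hd
    rcases hinv t ht hd with rfl | rfl | rfl | rfl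
    · exact map_one σ
    · exact hfN
    · exact hfZ
    · rw [map_mul, hfN, hfZ]
  have hfX : σ X = X := by
    have hc : (X⁻¹ * σ X : T).1 = diag (g⁻¹ * a) (g * b) := by
      rw [Subgroup.coe_mul, Subgroup.coe_inv, hab, hXv, inv_eq_of_mul_eq_one_right (b := diag g⁻¹ g) (by rw [diag_mul]; simp [diag_one]), diag_mul]
    have hc2 : (X⁻¹ * σ X) ^ 2 = 1 := Subtype.ext (by
      rw [SubgroupClass.coe_pow, hc, diag_pow, mul_pow, mul_pow, ha2.1, ha2.2]; simp [diag_one])
    exact fix_of_coset hk hσ (hfinv _ hc2 ⟨_, _, hc⟩) ⟨1, by rwa [pow_one]⟩ (by rw [mul_inv_cancel_left])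
  intro c d t ht
  obtain ⟨i, hi⟩ := (Submonoid.mem_powers_iff _ _).1 (mem_powers_iff_mem_zpowers.2 (hg c))
  have hrest : ((X ^ i)⁻¹ * t : T).val = diag 1 ((g ^ i) * d) := by
    rw [Subgroup.coe_mul, Subgroup.coe_inv, SubgroupClass.coe_pow, hXv, diag_pow, ht,
      inv_eq_of_mul_eq_one_right (b := diag (g ^ i)⁻¹ (g ^ i)) (by rw [diag_mul]; simp [diag_one, inv_pow]), diag_mul, hi,
      inv_mul_cancel]
  have hsq1 : ((X ^ i)⁻¹ * t) ^ 2 = 1 := by
    rcases hcases t with ⟨a', b', h', hs'⟩ | ⟨a', b', h', -⟩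
    · obtain ⟨rfl, rfl⟩ := diag_inj (ht.symm.trans h')
      refine Subtype.ext ?_
      rw [SubgroupClass.coe_pow, hrest, diag_pow, hi, hs']
      simp [diag_one]
    · exact absurd (h'.symm.trans ht) (swp_diag_ne _ _ _ _)
  have e := hfinv _ hsq1 ⟨_, _, hrest⟩
  rwa [map_mul, map_inv, map_pow, hfX, mul_right_inj] at e

end CfsgLib.Recog.MonomialAut
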