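import Cfsg.Agent.Lib.Block.PrimeSylowPrincipal
import Cfsg.Agent.Lib.BlockB.ClassMul
import Cfsg.Agent.Lib.Char.Column
import Cfsg.Agent.Lib.Transfer.ExcSimple

/-!
# Tools for simple groups of order 7920

The degree equation at one coset of the principal block of a Sylow subgroup of prime order, a
lower bound for character norms on an element of prime order, class multiplication counts.
-/

set_option autoImplicit false
set_option linter.unusedSectionVars false

namespace CfsgLib.Recog.OrderM11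

open Cfsg CfsgLib.Char
open scoped ComplexConjugate Classical

universe u

variable {G : Type u} [Group G] [Finite G]

/-- The row of a principal block character at a unit, with its congruence. -/
structure RowsAt (p e : ℕ) (M : Ideal AlgInt) (P : Subgroup G) (r : (ZMod p)ˣ)
    (a : IrrCharacter G → (ZMod p)ˣ → ℤ) (S : Finset (IrrCharacter G)) : Prop where
  mem : ∀ χ ∈ S, χ ∈ principalBlock M G
  full : ∀ χ ∈ principalBlock M G, a χ r ≠ 0 → χ ∈ S
  card : S.card = e + 1
  sign : ∀ χ ∈ S, a χ r = 1 ∨ a χ r = -1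
  shape : ∀ χ ∈ S,
    ((∀ v, a χ v = a χ r) ∧
      a χ r * (charDegree (χ : G → ℂ) : ℤ) ≡ -1 [ZMOD p] ∧
      ∀ y ∈ P, y ≠ 1 → ∀ z ∈ Subgroup.centralizer (P : Set G), ¬ p ∣ orderOf z →
        (χ : G → ℂ) (y * z) = -(a χ r : ℂ)) ∨
    ((∃ v, a χ v = 0) ∧ e ≠ p - 1 ∧ a χ r * (charDegree (χ : G → ℂ) : ℤ) ≡ e [ZMOD p])
  one_mem : (⟨fun _ => 1, isIrrCharacter_one⟩ : IrrCharacter G) ∈ S
  one_eq : a ⟨fun _ => 1, isIrrCharacter_one⟩ r = -1
  relation : ∀ g : G, ¬ p ∣ orderOf g → ∑ χ ∈ S, (a χ r : ℂ) * (χ : G → ℂ) g = 0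

theorem RowsAt.degree {p e : ℕ} [hp : Fact p.Prime] {M : Ideal AlgInt} {P : Subgroup G} {r : (ZMod p)ˣ}
    {a : IrrCharacter G → (ZMod p)ˣ → ℤ} {S : Finset (IrrCharacter G)}
    (h : RowsAt p e M P r a S) :
    ∑ χ ∈ S, a χ r * (charDegree (χ : G → ℂ) : ℤ) = 0 := by
  have h1 := h.relation 1 (by rw [orderOf_one]; exact hp.out.not_dvd_one)
  simp only [← CfsgLib.BlockB.irr_degree_cast] at h1
  exact_mod_cast h1

theorem exists_rowsAt {p : ℕ} [hp : Fact p.Prime] {M : Ideal AlgInt} (hM : IsPModular p M)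
    (P : Sylow p G) (hP : Nat.card P = p) {e : ℕ}
    (he : (Subgroup.centralizer ((P : Subgroup G) : Set G)).relIndex
      (Subgroup.normalizer ((P : Subgroup G) : Set G)) = e) (he2 : 2 ≤ e) (hedvd : e ∣ p - 1) :
    ∃ a : IrrCharacter G → (ZMod p)ˣ → ℤ,
      Nat.card (principalBlock M G) * e = e * e + (p - 1) ∧
      (∀ r, ∃ S, RowsAt p e M (P : Subgroup G) r a S) ∧
      ∀ χ ∈ principalBlock M G, ∃ r, a χ r ≠ 0 := by
  have := hM.2.1.isPrime
  obtain ⟨E, a, hE, hcard, hshape, hdeg, hval, hgram, hrel⟩ :=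
    CfsgLib.Block.PrimeRows.exists_rows p M hM P hP e he
  refine ⟨a, hcard, fun r => ?_, fun χ hχ => ?_⟩
  rotate_left
  · obtain ⟨c, hc, h | ⟨w, hw⟩⟩ := hshape χ hχ
    · exact ⟨1, by rw [h]; rcases hc with rfl | rfl <;> decide⟩
    · exact ⟨w, by rw [(hw w).1 (by simp)]; rcases hc with rfl | rfl <;> decide⟩
  have := Fintype.ofFinite (IrrCharacter G)
  set B := principalBlock M G
  set S := Finset.univ.filter fun χ => χ ∈ B ∧ a χ r ≠ 0 with hS
  have hmem : ∀ χ ∈ S, χ ∈ B ∧ a χ r ≠ 0 := fun χ h => (Finset.mem_filter.1 h).2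
  have hshapeS : ∀ χ ∈ S, (a χ r = 1 ∨ a χ r = -1) ∧
      ((∀ v, a χ v = a χ r) ∨ ((∃ v, a χ v = 0) ∧ e ≠ p - 1) ∧
        ∑ v, a χ v = (e : ℤ) * a χ r) := by
    intro χ hχ
    obtain ⟨hB, hne⟩ := hmem χ hχ
    obtain ⟨c, hc, h | ⟨w, hw⟩⟩ := hshape χ hB
    · exact ⟨by rw [h]; exact hc, Or.inl fun v => by rw [h, h]⟩
    · have hr : w⁻¹ * r ∈ E := by
        by_contra h
        exact hne ((hw r).2 h)
      refine ⟨by rw [(hw r).1 hr]; exact hc, ?_⟩
      by_cases hall : ∀ v, w⁻¹ * v ∈ E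
      · exact Or.inl fun v => by rw [(hw v).1 (hall v), (hw r).1 hr]
      push Not at hall
      obtain ⟨v, hv⟩ := hall
      refine Or.inr ⟨⟨⟨v, (hw v).2 hv⟩, fun hep => hv ?_⟩, ?_⟩
      · rw [Subgroup.eq_top_of_card_eq E (by
          rw [hE, Nat.card_eq_fintype_card, ZMod.card_units, hep])]
        exact Subgroup.mem_top _
      have hi : ∀ v, a χ v = if w⁻¹ * v ∈ E then c else 0 := fun v => by
        split_ifs with h
        · exact (hw v).1 h
        · exact (hw v).2 h
      rw [Finset.sum_congr rfl fun v _ => hi v, ← Finset.sum_filter, Finset.sum_const,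
        (hw r).1 hr, nsmul_eq_mul]
      congr 2
      rw [← hE, Nat.card_eq_fintype_card]
      exact (Finset.card_bij (fun (u : E) _ => w * (u : (ZMod p)ˣ))
        (fun u _ => Finset.mem_filter.2 ⟨Finset.mem_univ _, by simp⟩)
        (fun u _ u' _ h => Subtype.ext (mul_left_cancel h))
        (fun v hv => ⟨⟨w⁻¹ * v, (Finset.mem_filter.1 hv).2⟩, Finset.mem_univ _, by simp⟩)).symm
  have hone : (⟨fun _ => 1, isIrrCharacter_one⟩ : IrrCharacter G) ∈ B :=
    CfsgLib.Block.one_mem_principalBlock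
  have hd1 : charDegree (fun _ : G => (1 : ℂ)) = 1 := by simp [charDegree]
  have hone' : ∀ r, a ⟨fun _ => 1, isIrrCharacter_one⟩ r = -1 := by
    intro r
    obtain ⟨c, hc, h | ⟨w, hw⟩⟩ := hshape _ hone
    · have h1 := hdeg _ hone
      simp only [hd1, Nat.cast_one, h, Finset.sum_const, Finset.card_univ, ZMod.card_units,
        nsmul_eq_mul] at h1
      rw [h]
      rcases hc with rfl | rfl
      · exfalso
        have h2 := h1.symm.dvd
        rw [mul_one, Nat.cast_sub hp.out.one_le, Nat.cast_one] at h2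
        have h4 : (p : ℤ) ∣ 2 := by
          have h3 := dvd_add h2 (dvd_refl (p : ℤ))
          rw [show (1 : ℤ) - ((p : ℤ) - 1) + p = 2 by ring] at h3
          exact h3
        have h5 := Nat.le_of_dvd two_pos (Int.natCast_dvd_natCast.1 h4)
        have hp2 := hp.out.two_le
        have := Nat.le_of_dvd (by omega) hedvd
        omega
      · rfl
    · have hi : ∀ v, a ⟨fun _ => 1, isIrrCharacter_one⟩ v = if w⁻¹ * v ∈ E then c else 0 :=
        fun v => by
          split_ifs with h
          · exact (hw v).1 h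
          · exact (hw v).2 h
      have h1 := hdeg _ hone
      simp only [hd1, Nat.cast_one, hi, ← Finset.sum_filter, Finset.sum_const, nsmul_eq_mul] at h1
      have hcardE : (Finset.univ.filter fun v => w⁻¹ * v ∈ E).card = e := by
        rw [← hE, Nat.card_eq_fintype_card]
        exact (Finset.card_bij (fun (u : E) _ => w * (u : (ZMod p)ˣ))
          (fun u _ => Finset.mem_filter.2 ⟨Finset.mem_univ _, by simp⟩)
          (fun u _ u' _ h => Subtype.ext (mul_left_cancel h))
          (fun v hv => ⟨⟨w⁻¹ * v, (Finset.mem_filter.1 hv).2⟩, Finset.mem_univ _, by simp⟩)).symm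
      rw [hcardE] at h1
      have hp2 := hp.out.two_le
      have hle := Nat.le_of_dvd (by omega) hedvd
      have h2 := h1.symm.dvd
      rcases hc with rfl | rfl
      · exfalso
        rw [mul_one] at h2
        have h3 : (p : ℤ) ∣ ((e : ℤ) - 1) := by
          have := h2.neg_right
          rwa [neg_sub] at this
        have h4 := Int.le_of_dvd (by omega) h3
        omega
      · rw [mul_neg, mul_one, sub_neg_eq_add] at h2
        have h4 := Int.le_of_dvd (by omega) h2
        have hep : e = p - 1 := by omega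
        have htop : E = ⊤ := by
          refine Subgroup.eq_top_of_card_eq E ?_
          rw [hE, Nat.card_eq_fintype_card, ZMod.card_units, hep]
        exact (hw r).1 (htop ▸ Subgroup.mem_top _)
  refine ⟨S, ⟨fun χ h => (hmem χ h).1,
    fun χ hχ hne => Finset.mem_filter.2 ⟨Finset.mem_univ _, hχ, hne⟩, ?_, fun χ h => (hshapeS χ h).1, fun χ h => ?_,
    Finset.mem_filter.2 ⟨Finset.mem_univ _, hone, by rw [hone']; decide⟩, hone' r,
    fun g hg => ?_⟩⟩
  · have h1 := hgram r r
    rw [if_pos (by simp), finsum_mem_eq_finite_toFinset_sum _ (Set.toFinite B)] at h1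
    have h2 : ∀ χ : IrrCharacter G, χ ∈ B → a χ r * a χ r = if a χ r ≠ 0 then 1 else 0 := by
      intro χ hχ
      split_ifs with hne
      · rcases (hshapeS χ (Finset.mem_filter.2 ⟨Finset.mem_univ _, hχ, hne⟩)).1 with h | h <;>
          simp [h]
      · simp [not_ne_iff.1 hne]
    rw [Finset.sum_congr rfl fun χ hχ => h2 χ ((Set.toFinite B).mem_toFinset.1 hχ),
      ← Finset.sum_filter, Finset.sum_const, nsmul_eq_mul, mul_one] at h1
    have h3 : ((Set.toFinite B).toFinset.filter fun χ => a χ r ≠ 0) = S := by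
      ext χ; simp [hS]
    rw [h3] at h1
    have h4 : (S.card : ℤ) = (e : ℤ) + 1 := h1.trans (add_comm _ _)
    exact_mod_cast h4
  · rcases (hshapeS χ h).2 with hc | ⟨⟨hz, hne⟩, hsum⟩
    · refine Or.inl ⟨hc, ?_, fun y hy hy1 z hz hzo => hval χ (hmem χ h).1 _ hc y hy hy1 z hz hzo⟩
      have h1 := (hdeg χ (hmem χ h).1).mul_left (a χ r)
      refine h1.trans ?_
      rw [Finset.sum_congr rfl fun v _ => hc v, Finset.sum_const, Finset.card_univ,
        ZMod.card_units, nsmul_eq_mul, Nat.cast_sub hp.out.one_le, Nat.cast_one]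
      refine Int.modEq_iff_dvd.2 ?_
      rcases (hshapeS χ h).1 with hs | hs <;> rw [hs] <;> ring_nf <;> simp
    · refine Or.inr ⟨hz, hne, ?_⟩
      have h1 := (hdeg χ (hmem χ h).1).mul_left (a χ r)
      rw [hsum] at h1
      refine h1.trans ?_
      rcases (hshapeS χ h).1 with hs | hs <;> rw [hs] <;> ring_nf <;> exact Int.ModEq.refl _
  · have h1 := hrel g hg r
    rw [finsum_mem_eq_finite_toFinset_sum _ (Set.toFinite B)] at h1
    rw [← h1]
    refine Finset.sum_subset (fun χ h => (Set.toFinite B).mem_toFinset.2 (hmem χ h).1)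
      fun χ hχ hn => ?_
    have : a χ r = 0 := by
      by_contra hne
      exact hn (Finset.mem_filter.2
        ⟨Finset.mem_univ _, (Set.toFinite B).mem_toFinset.1 hχ, hne⟩)
    simp [this]

/-- The sum of a character along a homomorphism is a multiple of the order of the source. -/
theorem exists_sum_comp_eq {H : Type u} [Group H] [Fintype H] {χ : G → ℂ} (hχ : IsCharacter G χ)
    (f : H →* G) : ∃ k : ℕ, ∑ h : H, χ (f h) = (Nat.card H : ℂ) * k := by
  obtain ⟨k, hk⟩ := classInner_isCharacter_nat (isCharacter_comp hχ f) (isCharacter_one (G := H))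
  refine ⟨k, ?_⟩
  rw [classInner_def] at hk
  rw [← hk, ← mul_assoc, mul_inv_cancel₀ natCard_ne_zero, one_mul]
  simp

/-- A character constant on `⟨y⟩ \ {1}` and on `(⟨y⟩ \ {1}) z`, for commuting `y` of prime order and
an involution `z`. -/
theorem exists_pair_eq {p : ℕ} [hp : Fact p.Prime] {y z : G} (hy : orderOf y = p) (hz : orderOf z = 2)
    (hyz : Commute y z) {χ : G → ℂ} (hχ : IsCharacter G χ) {α β : ℂ}
    (hα : ∀ u ∈ Subgroup.zpowers y, u ≠ 1 → χ u = α)
    (hβ : ∀ u ∈ Subgroup.zpowers y, u ≠ 1 → χ (u * z) = β) :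
    ∃ k : ℕ, χ 1 + χ z + ((p : ℂ) - 1) * (α + β) = 2 * (p : ℂ) * k := by
  have := Fintype.ofFinite (Subgroup.zpowers y)
  have := Fintype.ofFinite (Subgroup.zpowers z)
  let f : Subgroup.zpowers y × Subgroup.zpowers z →* G :=
    MonoidHom.noncommCoprod (Subgroup.zpowers y).subtype (Subgroup.zpowers z).subtype
      (fun a b => by
        obtain ⟨i, hi⟩ := a.2
        obtain ⟨j, hj⟩ := b.2
        change Commute (a : G) (b : G)
        rw [← hi, ← hj]
        exact hyz.zpow_zpow i j)
  obtain ⟨k, hk⟩ := exists_sum_comp_eq hχ f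
  refine ⟨k, ?_⟩
  rw [Nat.card_prod, Nat.card_zpowers, Nat.card_zpowers, hy, hz, Fintype.sum_prod_type] at hk
  have hzz : (z : G) ≠ 1 := fun h => by simp [h] at hz
  have huniv : (Finset.univ : Finset (Subgroup.zpowers z)) = {1, ⟨z, Subgroup.mem_zpowers z⟩} := by
    refine (Finset.eq_univ_of_card _ ?_).symm
    rw [Finset.card_pair fun h => hzz (congrArg Subtype.val h).symm, ← Nat.card_eq_fintype_card,
      Nat.card_zpowers, hz]
  have hin : ∀ a : Subgroup.zpowers y, ∑ b, χ (f (a, b)) = χ a + χ ((a : G) * z) := fun a => by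
    rw [huniv, Finset.sum_pair fun h => hzz (congrArg Subtype.val h).symm]
    simp [f]
  simp only [hin] at hk
  rw [← Finset.add_sum_erase _ _ (Finset.mem_univ (1 : Subgroup.zpowers y))] at hk
  rw [Finset.sum_congr rfl (g := fun _ => α + β) (fun a ha => by
    have ha1 : (a : G) ≠ 1 := fun h => (Finset.mem_erase.1 ha).1 (Subtype.ext h)
    rw [hα a a.2 ha1, hβ a a.2 ha1]), Finset.sum_const, Finset.card_erase_of_mem (Finset.mem_univ _),
    Finset.card_univ, ← Nat.card_eq_fintype_card, Nat.card_zpowers, hy, nsmul_eq_mul,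
    Nat.cast_sub hp.out.one_le, OneMemClass.coe_one, one_mul] at hk
  push_cast at hk
  linear_combination hk

/-- Norms of a character on the nontrivial powers of an element of order `p`. -/
theorem normSq_powers_lower {p : ℕ} [hp : Fact p.Prime] {x : G} (hx : orderOf x = p)
    {χ : G → ℂ} (hχ : IsCharacter G χ) :
    ((charDegree χ % p * (p - charDegree χ % p) : ℕ) : ℝ) ≤
      ∑ i ∈ Finset.univ.erase (0 : ZMod p), Complex.normSq (χ (x ^ i.val)) := by
  have hψ : (ZMod.stdAddChar (N := p)).IsPrimitive := ZMod.isPrimitive_stdAddChar p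
  obtain ⟨b, hb⟩ := CfsgLib.Block.exists_multiplicity hx hχ hψ
  have hd : (charDegree χ : ℤ) = ∑ s, (b s : ℤ) := by
    have h := hb 0
    rw [ZMod.val_zero, pow_zero, ← CfsgLib.BlockB.charDegree_cast hχ] at h
    simp only [mul_zero, AddChar.map_zero_eq_one, mul_one] at h
    exact_mod_cast h
  have hpars : ∑ i : ZMod p, χ (x ^ i.val) * conj (χ (x ^ i.val)) =
      (p : ℂ) * ∑ s, (b s : ℂ) ^ 2 := by
    simp only [hb, map_sum, map_mul, Complex.conj_natCast, Finset.sum_mul, Finset.mul_sum]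
    rw [Finset.sum_comm]
    refine Finset.sum_congr rfl fun s _ => ?_
    rw [Finset.sum_comm, Finset.sum_eq_single s]
    · simp only [← AddChar.map_neg_eq_conj]
      rw [Finset.sum_congr rfl (g := fun _ => (b s : ℂ) ^ 2) (fun i _ => by
        rw [mul_mul_mul_comm, ← AddChar.map_add_eq_mul, add_neg_cancel, AddChar.map_zero_eq_one]
        ring), Finset.sum_const, Finset.card_univ, ZMod.card, nsmul_eq_mul]
    · intro t _ ht
      simp only [← AddChar.map_neg_eq_conj]
      rw [Finset.sum_congr rfl (g := fun i => (b s : ℂ) * b t * ZMod.stdAddChar (i * (t - s)))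
        (fun i _ => by
          rw [mul_mul_mul_comm, ← AddChar.map_add_eq_mul,
            show i * (t - s) = t * i + -(s * i) by ring]
          ring_nf), ← Finset.mul_sum, AddChar.sum_mulShift _ hψ, if_neg (sub_ne_zero.2 ht),
        Nat.cast_zero, mul_zero]
    · simp
  have hre : (∑ i : ZMod p, Complex.normSq (χ (x ^ i.val))) =
      (p : ℝ) * ∑ s, (b s : ℝ) ^ 2 := by
    have h : ((∑ i : ZMod p, Complex.normSq (χ (x ^ i.val)) : ℝ) : ℂ) =
        (((p : ℝ) * ∑ s, (b s : ℝ) ^ 2 : ℝ) : ℂ) := by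
      push_cast
      rw [← hpars]
      exact Finset.sum_congr rfl fun i _ => (Complex.mul_conj _).symm
    exact_mod_cast h
  rw [← Finset.add_sum_erase _ _ (Finset.mem_univ (0 : ZMod p))] at hre
  rw [ZMod.val_zero, pow_zero, ← CfsgLib.BlockB.charDegree_cast hχ,
    Complex.normSq_natCast] at hre
  set d := charDegree χ
  set q : ℤ := ((d / p : ℕ) : ℤ) with hq
  set r : ℤ := ((d % p : ℕ) : ℤ) with hr
  have hdiv : (d : ℤ) = q * p + r := by
    rw [hq, hr]
    exact_mod_cast (Nat.div_add_mod' d p).symm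
  have hsum : 0 ≤ ∑ s : ZMod p, ((b s : ℤ) - q) * ((b s : ℤ) - q - 1) :=
    Finset.sum_nonneg fun s _ => by
      rcases le_or_gt (b s : ℤ) q with h | h <;> nlinarith
  have hexp : ∑ s : ZMod p, ((b s : ℤ) - q) * ((b s : ℤ) - q - 1) =
      ∑ s, (b s : ℤ) ^ 2 - (2 * q + 1) * ∑ s, (b s : ℤ) + (p : ℤ) * (q * (q + 1)) := by
    rw [Finset.mul_sum, ← Finset.sum_sub_distrib,
      show (p : ℤ) * (q * (q + 1)) = ∑ _s : ZMod p, q * (q + 1) by simp [ZMod.card],
      ← Finset.sum_add_distrib]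
    exact Finset.sum_congr rfl fun s _ => by ring
  rw [hexp, ← hd] at hsum
  have hfin : r * ((p : ℤ) - r) ≤ (p : ℤ) * ∑ s, (b s : ℤ) ^ 2 - (d : ℤ) * d := by
    rw [hdiv] at hsum ⊢
    have := mul_nonneg (Int.natCast_nonneg p) hsum
    nlinarith
  have hrp : d % p ≤ p := (Nat.mod_lt d hp.out.pos).le
  have hfin' : ((d % p * (p - d % p) : ℕ) : ℝ) ≤ (p : ℝ) * ∑ s, (b s : ℝ) ^ 2 - (d : ℝ) * d := by
    have h := (Int.cast_le (R := ℝ)).2 hfin
    rw [hr] at h
    push_cast [Nat.cast_sub hrp] at h ⊢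
    exact h
  linarith

/-- The number of products `a (t b t⁻¹)` conjugate to `c`. -/
theorem card_products [Fintype G] [Fintype (IrrCharacter G)] (a b c : G) :
    ((Finset.univ.filter fun t : G => IsConj (a * (t * b * t⁻¹)) c).card : ℂ) =
      (Nat.card (ConjClasses.mk c).carrier : ℂ) * ∑ χ : IrrCharacter G,
        (χ : G → ℂ) a * (χ : G → ℂ) b * conj ((χ : G → ℂ) c) / (χ : G → ℂ) 1 := by
  have h := CfsgLib.BlockB.sum_classFun_mul_conj
    (classIndicator_isClassFunction (ConjClasses.mk c)) a b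
  have hl : ∑ t : G, classIndicator (ConjClasses.mk c) (a * (t * b * t⁻¹)) =
      ((Finset.univ.filter fun t : G => IsConj (a * (t * b * t⁻¹)) c).card : ℂ) := by
    rw [← Finset.sum_boole]
    exact Finset.sum_congr rfl fun t _ => by
      simp [classIndicator, ConjClasses.mk_eq_mk_iff_isConj]
  rw [hl] at h
  rw [h, Finset.mul_sum, Finset.mul_sum]
  refine Finset.sum_congr rfl fun χ _ => ?_
  rw [classInner_def, sum_classIndicator_mul _ _ (irr_isClassFunction χ.2) c rfl]
  have hG : (Nat.card G : ℂ) ≠ 0 := natCard_ne_zero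
  field_simp

end CfsgLib.Recog.OrderM11
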