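import Cfsg.Agent.Lib.Recog.OrderM11Eleven
import Cfsg.Agent.Lib.Block.SelfCentralPrime

/-!
# Simple groups of order 7920: the principal 11-block
-/

set_option autoImplicit false
set_option linter.unusedSectionVars false

namespace CfsgLib.Recog.OrderM11

open Cfsg CfsgLib.Char
open scoped ComplexConjugate _root_.Classical

universe u

variable {G : Type u} [Group G] [Finite G] [IsSimpleGroup G] (hcard : Nat.card G = 7920)
include hcard

theorem centralizer_eleven {x : G} (hx : orderOf x = 11) :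
    Subgroup.centralizer ({x} : Set G) = Subgroup.zpowers x := by
  have : Fact (Nat.Prime 11) := ⟨by norm_num⟩
  have hx1 : x ≠ 1 := fun h => by simp [h] at hx
  let P : Sylow 11 G := Sylow.ofCard (Subgroup.zpowers x) (by
    rw [Nat.card_zpowers, hx, hcard]
    have h1 : (7920 : ℕ).factorization 11 = 1 := by
      rw [Nat.factorization_def _ (by norm_num : Nat.Prime 11)]
      have e : (7920 : ℕ) = 11 ^ 1 * 720 := by norm_num
      rw [e, padicValNat.mul (by norm_num) (by norm_num), padicValNat.prime_pow,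
        padicValNat.eq_zero_of_not_dvd (by norm_num)]
    rw [h1, pow_one])
  obtain ⟨hP, hC, -⟩ := eleven hcard P
  exact CfsgLib.Transfer.centralizer_singleton_eq (P : Subgroup G) hP hC x
    (Subgroup.mem_zpowers x) hx1

theorem not_eleven_dvd_centralizer {y : G} (hy : y ≠ 1) (hy11 : orderOf y ≠ 11) :
    ¬ 11 ∣ Nat.card (Subgroup.centralizer ({y} : Set G)) := by
  intro h
  have : Fact (Nat.Prime 11) := ⟨by norm_num⟩
  obtain ⟨⟨x, hxy⟩, hx⟩ := exists_prime_orderOf_dvd_card' 11 h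
  rw [Subgroup.orderOf_mk] at hx
  have hy' : y ∈ Subgroup.centralizer ({x} : Set G) :=
    Subgroup.mem_centralizer_singleton_iff.2 (Subgroup.mem_centralizer_singleton_iff.1 hxy).symm
  rw [centralizer_eleven hcard hx] at hy'
  have hd := Subgroup.orderOf_dvd_natCard _ hy'
  rw [Nat.card_zpowers, hx] at hd
  rcases (Nat.dvd_prime (by norm_num : Nat.Prime 11)).1 hd with h1 | h1
  · exact hy (orderOf_eq_one_iff.1 h1)
  · exact hy11 h1

/-- A faithful character of degree 5 is impossible. -/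
theorem degree_ne_five (χ : IrrCharacter G) : charDegree (χ : G → ℂ) ≠ 5 := by
  intro h5
  have hne : (χ : G → ℂ) ≠ fun _ => 1 := fun h => by simp [h, charDegree] at h5
  have := Fintype.ofFinite G
  have hfaith : ∀ g : G, (χ : G → ℂ) g = (χ : G → ℂ) 1 → g = 1 := fun g hg => by
    by_contra hg1
    exact CfsgLib.Transfer.irr_apply_ne_apply_one χ hne hg1 hg
  have hnn : ∀ H : Subgroup G, H.Normal → Nat.card H ≠ 11 := by
    intro H hH h11
    rcases hH.eq_bot_or_eq_top with rfl | rfl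
    · simp at h11
    · rw [Subgroup.card_top, hcard] at h11
      norm_num at h11
  obtain ⟨e⟩ := CfsgLib.Block.SmallBlock.quotient_center_psl (p := 11) (by norm_num)
    (by rw [hcard]; norm_num) (by rw [hcard]; norm_num) hnn (irr_isCharacter χ.2) hfaith
    (by rw [h5])
  have : Fact (Nat.Prime 11) := ⟨by norm_num⟩
  have h := Nat.card_congr e.toEquiv
  rw [CfsgLib.Classical.card_psl_two_eq (ZMod.card 11) 660 (by norm_num),
    ← Subgroup.index_eq_card, CfsgLib.Invol.center_eq_bot_of_simple (not_comm hcard),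
    Subgroup.index_bot, hcard] at h
  norm_num at h

theorem centralizer_power {p : ℕ} [Fact p.Prime] {x : G} (hx : orderOf x = p)
    (hC : Subgroup.centralizer ({x} : Set G) = Subgroup.zpowers x) {i : ZMod p} (hi : i ≠ 0) :
    Nat.card (Subgroup.centralizer ({x ^ i.val} : Set G)) = p := by
  have hP : Nat.card (Subgroup.zpowers x) = p := by rw [Nat.card_zpowers, hx]
  have hCP : Nat.card (Subgroup.centralizer ((Subgroup.zpowers x : Subgroup G) : Set G)) = p := by
    rw [Subgroup.zpowers_eq_closure, Subgroup.centralizer_closure, hC, hP]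
  rw [CfsgLib.Transfer.centralizer_singleton_eq _ hP hCP _
    (Subgroup.pow_mem _ (Subgroup.mem_zpowers x) _) ?_, hP]
  rw [Ne, ← orderOf_eq_one_iff, orderOf_pow' x ((ZMod.val_ne_zero i).2 hi), hx]
  have hp := (Fact.out : p.Prime)
  rw [Nat.Coprime.gcd_eq_one ((Nat.Prime.coprime_iff_not_dvd hp).2 fun h =>
    absurd (Nat.le_of_dvd (Nat.pos_of_ne_zero ((ZMod.val_ne_zero i).2 hi)) h)
      (not_le.2 (ZMod.val_lt i))), Nat.div_one]
  exact hp.ne_one

/-- If some characters exhaust the norms on the nontrivial powers of a self-centralizing element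
of prime order, the others vanish there and have degree divisible by the prime. -/
theorem rest_vanish [Fintype (IrrCharacter G)] {p : ℕ} [hp : Fact p.Prime] {x : G}
    (hx : orderOf x = p) (hC : Subgroup.centralizer ({x} : Set G) = Subgroup.zpowers x)
    (S : Finset (IrrCharacter G))
    (hS : ((p - 1) * p : ℕ) ≤ ∑ χ ∈ S,
      charDegree (χ : G → ℂ) % p * (p - charDegree (χ : G → ℂ) % p))
    (χ : IrrCharacter G) (hχ : χ ∉ S) :
    p ∣ charDegree (χ : G → ℂ) ∧ (χ : G → ℂ) x = 0 := by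
  have := Fintype.ofFinite G
  set F : IrrCharacter G → ℝ := fun ψ =>
    ∑ i ∈ Finset.univ.erase (0 : ZMod p), Complex.normSq ((ψ : G → ℂ) (x ^ i.val)) with hF
  have htot : ∑ ψ : IrrCharacter G, F ψ = (((p - 1) * p : ℕ) : ℝ) := by
    rw [hF, Finset.sum_comm]
    have h1 : ∀ i ∈ Finset.univ.erase (0 : ZMod p),
        ∑ ψ : IrrCharacter G, Complex.normSq ((ψ : G → ℂ) (x ^ i.val)) = (p : ℝ) := by
      intro i hi
      have h := column_orthogonality (x ^ i.val) (x ^ i.val)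
      rw [if_pos (IsConj.refl _), centralizer_power hcard hx hC (Finset.mem_erase.1 hi).1] at h
      simp only [Complex.mul_conj] at h
      exact_mod_cast h
    rw [Finset.sum_congr rfl h1, Finset.sum_const, Finset.card_erase_of_mem (Finset.mem_univ _),
      Finset.card_univ, ZMod.card, nsmul_eq_mul, Nat.cast_mul]
  have hlow : ∀ ψ : IrrCharacter G,
      ((charDegree (ψ : G → ℂ) % p * (p - charDegree (ψ : G → ℂ) % p) : ℕ) : ℝ) ≤ F ψ :=
    fun ψ => normSq_powers_lower hx (irr_isCharacter ψ.2)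
  have hSsum : (((p - 1) * p : ℕ) : ℝ) ≤ ∑ ψ ∈ S, F ψ :=
    le_trans (Nat.cast_le.2 hS) (by rw [Nat.cast_sum]; exact Finset.sum_le_sum fun ψ _ => hlow ψ)
  have hpos : ∀ ψ, 0 ≤ F ψ := fun ψ => Finset.sum_nonneg fun i _ => Complex.normSq_nonneg _
  have hzero : F χ = 0 := by
    refine le_antisymm ?_ (hpos χ)
    have h2 : F χ + ∑ ψ ∈ S, F ψ ≤ ∑ ψ, F ψ := by
      rw [← Finset.sum_insert (f := F) hχ]
      exact Finset.sum_le_sum_of_subset_of_nonneg (Finset.subset_univ _) fun ψ _ _ => hpos ψ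
    linarith
  refine ⟨?_, ?_⟩
  · have h := hlow χ
    rw [hzero] at h
    have h' : charDegree (χ : G → ℂ) % p * (p - charDegree (χ : G → ℂ) % p) = 0 :=
      Nat.le_zero.1 (Nat.cast_le.1 (h.trans (le_of_eq (Nat.cast_zero).symm)))
    rcases mul_eq_zero.1 h' with h' | h'
    · exact Nat.dvd_of_mod_eq_zero h'
    · have := Nat.mod_lt (charDegree (χ : G → ℂ)) hp.out.pos
      omega
  · have h := (Finset.sum_eq_zero_iff_of_nonneg fun i _ => Complex.normSq_nonneg _).1 hzero 1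
      (Finset.mem_erase.2 ⟨one_ne_zero, Finset.mem_univ _⟩)
    rwa [Complex.normSq_eq_zero, ZMod.val_one, pow_one] at h

/-- The principal 11-block of a simple group of order 7920. -/
theorem exists_blockEleven [Fintype (IrrCharacter G)] :
    ∃ (x : G) (t : Fin 3 → IrrCharacter G) (u ψ ψ' : IrrCharacter G), BlockEleven x t u ψ ψ' := by
  have : Fact (Nat.Prime 11) := ⟨by norm_num⟩
  have := Fintype.ofFinite G
  obtain ⟨x, hx⟩ := exists_prime_orderOf_dvd_card' (G := G) 11 (by rw [hcard]; norm_num)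
  obtain ⟨P, hP'⟩ := CfsgLib.Block.SelfCentralPrime.exists_sylow_eq hx (centralizer_eleven hcard hx)
  obtain ⟨hP, -, hrel⟩ := eleven hcard P
  have hxP : x ∈ (P : Subgroup G) := hP' ▸ Subgroup.mem_zpowers x
  have hx1 : x ≠ 1 := fun h => by simp [h] at hx
  obtain ⟨M, hM⟩ := CfsgLib.BlockB.exists_isPModular (p := 11) (by norm_num)
  obtain ⟨a, -, hrows, -⟩ := exists_rowsAt hM P hP hrel (by norm_num) (by norm_num)
  obtain ⟨S, hS⟩ := hrows 1
  set one : IrrCharacter G := ⟨fun _ => 1, isIrrCharacter_one⟩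
  have hd1 : charDegree (one : G → ℂ) = 1 := by simp [one, charDegree]
  set T := (S.erase one).filter fun χ => ∀ v, a χ v = a χ 1
  set I := (S.erase one).filter fun χ => ¬ ∀ v, a χ v = a χ 1
  have hTI : T.card + I.card = 5 := by
    rw [Finset.card_filter_add_card_filter_not, Finset.card_erase_of_mem hS.one_mem, hS.card]
  have hTS : ∀ χ ∈ T, χ ∈ S ∧ χ ≠ one ∧ (∀ v, a χ v = a χ 1) := fun χ hχ =>
    ⟨Finset.mem_of_mem_erase (Finset.mem_filter.1 hχ).1,
      (Finset.mem_erase.1 (Finset.mem_filter.1 hχ).1).1, (Finset.mem_filter.1 hχ).2⟩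
  have hne1 : ∀ χ : IrrCharacter G, χ ≠ one → (χ : G → ℂ) ≠ fun _ => 1 := fun χ h h' =>
    h (Subtype.ext h')
  have hT : ∀ χ ∈ T, (a χ 1 * (charDegree (χ : G → ℂ) : ℤ) = 10 ∨
      a χ 1 * (charDegree (χ : G → ℂ) : ℤ) = -12 ∨ a χ 1 * (charDegree (χ : G → ℂ) : ℤ) = -45) ∧
      (χ : G → ℂ) x = -(a χ 1 : ℂ) := by
    intro χ hχ
    obtain ⟨hm, hne, hcst⟩ := hTS χ hχ
    rcases hS.shape χ hm with ⟨-, hmod, hval⟩ | ⟨⟨v, hv⟩, -, -⟩
    · have h11 := hval x hxP hx1 1 (Subgroup.one_mem _) (by rw [orderOf_one]; norm_num)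
      rw [mul_one] at h11
      refine ⟨?_, h11⟩
      obtain ⟨hd, hl, h1⟩ := degree_facts hcard χ
      have h1' := h1 (hne1 χ hne)
      have hmem := degree_mem hcard hd hl
      simp only [List.mem_cons, List.not_mem_nil, or_false] at hmem
      rw [Int.ModEq] at hmod
      rcases hS.sign χ hm with h | h <;> rw [h] at hmod ⊢ <;> omega
    · rcases hS.sign χ hm with h | h <;> rw [hcst v, h] at hv <;> norm_num at hv
  have hI : ∀ χ ∈ I, (∃ v, a χ v = 0) ∧ (a χ 1 * (charDegree (χ : G → ℂ) : ℤ) = 5 ∨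
      a χ 1 * (charDegree (χ : G → ℂ) : ℤ) = -6 ∨ a χ 1 * (charDegree (χ : G → ℂ) : ℤ) = 16 ∨
      a χ 1 * (charDegree (χ : G → ℂ) : ℤ) = 60 ∨ a χ 1 * (charDegree (χ : G → ℂ) : ℤ) = -72) := by
    intro χ hχ
    have hm : χ ∈ S := Finset.mem_of_mem_erase (Finset.mem_filter.1 hχ).1
    rcases hS.shape χ hm with ⟨hc, -, -⟩ | ⟨hv, -, hmod⟩
    · exact absurd hc (Finset.mem_filter.1 hχ).2
    · refine ⟨hv, ?_⟩
      obtain ⟨hd, hl, -⟩ := degree_facts hcard χ
      have hmem := degree_mem hcard hd hl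
      simp only [List.mem_cons, List.not_mem_nil, or_false] at hmem
      rw [Int.ModEq] at hmod
      rcases hS.sign χ hm with h | h <;> rw [h] at hmod ⊢ <;> omega
  have hsplit : ∀ {R : Type} [AddCommMonoid R] (f : IrrCharacter G → R),
      ∑ χ ∈ S, f χ = f one + (∑ χ ∈ T, f χ + ∑ χ ∈ I, f χ) := fun f => by
    rw [← Finset.add_sum_erase _ _ hS.one_mem,
      ← Finset.sum_filter_add_sum_filter_not (S.erase one) fun χ => ∀ v, a χ v = a χ 1]
  have hdeg := hS.degree
  rw [hsplit, hS.one_eq, hd1] at hdeg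
  have hcardI : I.card = 1 := by
    have hz := congrArg (fun n : ℤ => (n : ZMod 11)) hdeg
    simp only [Int.cast_add, Int.cast_sum, Int.cast_zero] at hz
    have eT : ∑ χ ∈ T, ((a χ 1 * (charDegree (χ : G → ℂ) : ℤ) : ℤ) : ZMod 11) =
        ∑ χ ∈ T, (-1 : ZMod 11) := Finset.sum_congr rfl fun χ hχ => by
      rcases (hT χ hχ).1 with h | h | h <;> rw [h] <;> rfl
    have eI : ∑ χ ∈ I, ((a χ 1 * (charDegree (χ : G → ℂ) : ℤ) : ℤ) : ZMod 11) =
        ∑ χ ∈ I, (5 : ZMod 11) := Finset.sum_congr rfl fun χ hχ => by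
      rcases (hI χ hχ).2 with h | h | h | h | h <;> rw [h] <;> rfl
    rw [eT, eI, Finset.sum_const, Finset.sum_const, show T.card = 5 - I.card by omega] at hz
    have h2 : (((-1 : ℤ) + ((5 - I.card : ℕ) : ℤ) * (-1) + (I.card : ℤ) * 5 : ℤ) : ZMod 11) = 0 := by
      rw [← hz]
      push_cast
      simp only [nsmul_eq_mul]
      ring
    rw [ZMod.intCast_zmod_eq_zero_iff_dvd] at h2
    push_cast at h2
    omega
  obtain ⟨ψ, hψ⟩ := Finset.card_eq_one.1 hcardI
  have hψI : ψ ∈ I := by rw [hψ]; exact Finset.mem_singleton_self _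
  rw [hψ, Finset.sum_singleton] at hdeg
  have hψS : ψ ∈ S := Finset.mem_of_mem_erase (Finset.mem_filter.1 hψI).1
  obtain ⟨s, hs⟩ := (hI ψ hψI).1
  obtain ⟨S', hS'⟩ := hrows s
  have hT' : insert one T ⊆ S' := by
    intro χ hχ
    rcases Finset.mem_insert.1 hχ with rfl | hχ
    · exact hS'.one_mem
    · refine hS'.full χ (hS.mem χ (hTS χ hχ).1) ?_
      rw [(hTS χ hχ).2.2 s]
      rcases hS.sign χ (hTS χ hχ).1 with h | h <;> rw [h] <;> norm_num
  have honeT : one ∉ T := fun h => (hTS one h).2.1 rfl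
  have hc' : (S' \ insert one T).card = 1 := by
    rw [Finset.card_sdiff_of_subset hT', hS'.card, Finset.card_insert_of_notMem honeT]
    omega
  obtain ⟨ψ', hψ'⟩ := Finset.card_eq_one.1 hc'
  have hψ'm : ψ' ∈ S' ∧ ψ' ∉ insert one T :=
    Finset.mem_sdiff.1 (hψ' ▸ Finset.mem_singleton_self ψ')
  have hψ's : a ψ' s ≠ 0 := fun h => by
    rcases hS'.sign ψ' hψ'm.1 with e | e <;> rw [h] at e <;> norm_num at e
  have hψne : ψ ≠ ψ' := fun h => hψ's (h ▸ hs)
  have hψTo : ψ ∉ insert one T := by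
    rw [Finset.mem_insert, not_or]
    exact ⟨(Finset.mem_erase.1 (Finset.mem_filter.1 hψI).1).1,
      fun h => (Finset.mem_filter.1 hψI).2 (hTS ψ h).2.2⟩
  have hψ'5 : a ψ' s * (charDegree (ψ' : G → ℂ) : ℤ) ≡ (5 : ℕ) [ZMOD (11 : ℕ)] := by
    rcases hS'.shape ψ' hψ'm.1 with ⟨hc, -, -⟩ | ⟨-, -, h⟩
    · exfalso
      have hmem : ψ' ∈ S := hS.full ψ' (hS'.mem ψ' hψ'm.1) (by rw [hc]; exact hψ's)
      have hne : ψ' ≠ one := fun h => hψ'm.2 (Finset.mem_insert.2 (Or.inl h))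
      have hmI : ψ' ∈ I := by
        refine Finset.mem_filter.2 ⟨Finset.mem_erase.2 ⟨hne, hmem⟩, fun hall => hψ'm.2 ?_⟩
        exact Finset.mem_insert.2
          (Or.inr (Finset.mem_filter.2 ⟨Finset.mem_erase.2 ⟨hne, hmem⟩, hall⟩))
      rw [hψ, Finset.mem_singleton] at hmI
      exact hψne hmI.symm
    · exact h
  have hsplit' : ∀ {R : Type} [AddCommMonoid R] (f : IrrCharacter G → R),
      ∑ χ ∈ S', f χ = f one + ∑ χ ∈ T, f χ + f ψ' := fun f => by
    rw [← Finset.sum_sdiff hT', hψ', Finset.sum_singleton, Finset.sum_insert honeT, add_comm]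
  have hTs : ∀ χ ∈ T, a χ s = a χ 1 := fun χ hχ => (hTS χ hχ).2.2 s
  have hdeg' := hS'.degree
  rw [hsplit', hS'.one_eq, hd1, Finset.sum_congr rfl fun χ hχ => by rw [hTs χ hχ]] at hdeg'
  have hdd : a ψ' s = a ψ 1 ∧ charDegree (ψ' : G → ℂ) = charDegree (ψ : G → ℂ) := by
    have h1 := CfsgLib.BlockB.irr_degree_pos ψ
    have h2 := CfsgLib.BlockB.irr_degree_pos ψ'
    rcases hS.sign ψ hψS with e | e <;> rcases hS'.sign ψ' hψ'm.1 with e' | e' <;>
      rw [e] at hdeg ⊢ <;> rw [e'] at hdeg' ⊢ <;> constructor <;> omega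
  -- counting
  set A := T.filter fun χ => a χ 1 * (charDegree (χ : G → ℂ) : ℤ) = 10
  set B := T.filter fun χ => a χ 1 * (charDegree (χ : G → ℂ) : ℤ) = -12
  set C := T.filter fun χ => a χ 1 * (charDegree (χ : G → ℂ) : ℤ) = -45
  have hthree : ∀ {R : Type} [AddCommMonoid R] (f : IrrCharacter G → R),
      ∑ χ ∈ T, f χ = ∑ χ ∈ A, f χ + ∑ χ ∈ B, f χ + ∑ χ ∈ C, f χ := by
    intro R _ f
    simp only [A, B, C, Finset.sum_filter, ← Finset.sum_add_distrib]
    refine Finset.sum_congr rfl fun χ hχ => ?_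
    rcases (hT χ hχ).1 with h | h | h <;> simp [h]
  have hdA : ∀ χ ∈ A, a χ 1 = 1 ∧ charDegree (χ : G → ℂ) = 10 := by
    intro χ hχ
    have h := (Finset.mem_filter.1 hχ).2
    rcases hS.sign χ (hTS χ (Finset.mem_filter.1 hχ).1).1 with e | e <;> rw [e] at h ⊢ <;> omega
  have hdB : ∀ χ ∈ B, a χ 1 = -1 ∧ charDegree (χ : G → ℂ) = 12 := by
    intro χ hχ
    have h := (Finset.mem_filter.1 hχ).2
    rcases hS.sign χ (hTS χ (Finset.mem_filter.1 hχ).1).1 with e | e <;> rw [e] at h ⊢ <;> omega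
  have hdC : ∀ χ ∈ C, a χ 1 = -1 ∧ charDegree (χ : G → ℂ) = 45 := by
    intro χ hχ
    have h := (Finset.mem_filter.1 hχ).2
    rcases hS.sign χ (hTS χ (Finset.mem_filter.1 hχ).1).1 with e | e <;> rw [e] at h ⊢ <;> omega
  have hsum := hthree fun χ => a χ 1 * (charDegree (χ : G → ℂ) : ℤ)
  have wA : ∑ χ ∈ A, a χ 1 * (charDegree (χ : G → ℂ) : ℤ) = ∑ χ ∈ A, (10 : ℤ) :=
    Finset.sum_congr rfl fun χ hχ => (Finset.mem_filter.1 hχ).2
  have wB : ∑ χ ∈ B, a χ 1 * (charDegree (χ : G → ℂ) : ℤ) = ∑ χ ∈ B, (-12 : ℤ) :=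
    Finset.sum_congr rfl fun χ hχ => (Finset.mem_filter.1 hχ).2
  have wC : ∑ χ ∈ C, a χ 1 * (charDegree (χ : G → ℂ) : ℤ) = ∑ χ ∈ C, (-45 : ℤ) :=
    Finset.sum_congr rfl fun χ hχ => (Finset.mem_filter.1 hχ).2
  rw [wA, wB, wC] at hsum
  simp only [Finset.sum_const, nsmul_eq_mul] at hsum
  have hcnt := hthree fun _ => (1 : ℕ)
  simp only [Finset.sum_const, smul_eq_mul, mul_one] at hcnt
  set U := insert ψ (insert ψ' (insert one T))
  have hψ'U : ψ ∉ insert ψ' (insert one T) := by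
    rw [Finset.mem_insert, not_or]; exact ⟨hψne, hψTo⟩
  have hU : ∀ {R : Type} [AddCommMonoid R] (f : IrrCharacter G → R),
      ∑ χ ∈ U, f χ = f ψ + (f ψ' + (f one + ∑ χ ∈ T, f χ)) := fun f => by
    rw [Finset.sum_insert hψ'U, Finset.sum_insert hψ'm.2, Finset.sum_insert honeT]
  have hsq : ∑ χ ∈ U, charDegree (χ : G → ℂ) ^ 2 ≤ 7920 := by
    have h1 := sum_irr_sq (G := G)
    simp only [← CfsgLib.BlockB.irr_degree_cast, hcard] at h1
    have h2 : ∑ χ : IrrCharacter G, charDegree (χ : G → ℂ) ^ 2 = 7920 := by exact_mod_cast h1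
    exact (Finset.sum_le_sum_of_subset (Finset.subset_univ U)).trans_eq h2
  have qA : ∑ χ ∈ A, charDegree (χ : G → ℂ) ^ 2 = ∑ χ ∈ A, 100 :=
    Finset.sum_congr rfl fun χ hχ => by rw [(hdA χ hχ).2]; rfl
  have qB : ∑ χ ∈ B, charDegree (χ : G → ℂ) ^ 2 = ∑ χ ∈ B, 144 :=
    Finset.sum_congr rfl fun χ hχ => by rw [(hdB χ hχ).2]; rfl
  have qC : ∑ χ ∈ C, charDegree (χ : G → ℂ) ^ 2 = ∑ χ ∈ C, 2025 :=
    Finset.sum_congr rfl fun χ hχ => by rw [(hdC χ hχ).2]; rfl
  rw [hU, hthree, qA, qB, qC, hdd.2, hd1] at hsq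
  simp only [Finset.sum_const, smul_eq_mul] at hsq
  have hfin : A.card = 3 ∧ B.card = 0 ∧ C.card = 1 ∧ a ψ 1 = 1 ∧
      charDegree (ψ : G → ℂ) = 16 := by
    have h5 := degree_ne_five hcard ψ
    have hdv := (hI ψ hψI).2
    rcases hS.sign ψ hψS with e | e <;> rw [e] at hdeg hdv ⊢ <;>
      rcases (show charDegree (ψ : G → ℂ) = 6 ∨ charDegree (ψ : G → ℂ) = 16 ∨
        charDegree (ψ : G → ℂ) = 60 ∨ charDegree (ψ : G → ℂ) = 72 by omega) with hd | hd | hd | hd <;>
      rw [hd] at hdeg hsq hdv ⊢ <;> omega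
  obtain ⟨hA3, hB0, hC1, haψ, hdψ⟩ := hfin
  rw [Finset.card_eq_zero] at hB0
  obtain ⟨u, hu⟩ := Finset.card_eq_one.1 hC1
  let t : Fin 3 → IrrCharacter G := fun i => ((Finset.equivFinOfCardEq hA3).symm i : IrrCharacter G)
  have ht : ∀ i, t i ∈ A := fun i => ((Finset.equivFinOfCardEq hA3).symm i).2
  have hAimg : A = Finset.univ.image t := by
    refine (Finset.eq_of_subset_of_card_le (Finset.image_subset_iff.2 fun i _ => ht i) ?_).symm
    rw [Finset.card_image_of_injective _ fun i j h =>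
      (Finset.equivFinOfCardEq hA3).symm.injective (Subtype.ext h), Finset.card_univ,
      Fintype.card_fin, hA3]
  have huC : u ∈ C := hu ▸ Finset.mem_singleton_self u
  refine ⟨x, t, u, ψ, ψ', hx, fun i j h =>
    (Finset.equivFinOfCardEq hA3).symm.injective (Subtype.ext h), hψne,
    fun i => (hdA _ (ht i)).2, (hdC _ huC).2, hdψ, hdd.2.trans hdψ, fun i => ?_, ?_, fun g hg => ?_,
    fun χ => ?_⟩
  · rw [(hT _ (Finset.mem_filter.1 (ht i)).1).2, (hdA _ (ht i)).1]; norm_num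
  · rw [(hT _ (Finset.mem_filter.1 huC).1).2, (hdC _ huC).1]; norm_num
  · have e1 := hS.relation g hg
    have e2 := hS'.relation g hg
    rw [hsplit, hS.one_eq, hψ, Finset.sum_singleton, haψ] at e1
    rw [hsplit', hS'.one_eq, hdd.1, haψ, Finset.sum_congr rfl fun χ hχ => by rw [hTs χ hχ]] at e2
    rw [hthree, hB0, hu, hAimg, Finset.sum_image (fun i _ j _ h =>
      (Finset.equivFinOfCardEq hA3).symm.injective (Subtype.ext h)), Fin.sum_univ_three,
      (hdA _ (ht 0)).1, (hdA _ (ht 1)).1, (hdA _ (ht 2)).1, Finset.sum_empty,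
      Finset.sum_singleton, (hdC _ huC).1] at e1 e2
    have h1 : ((one : IrrCharacter G) : G → ℂ) g = 1 := rfl
    rw [h1] at e1 e2
    push_cast at e1 e2
    exact ⟨by linear_combination e1, by linear_combination e2 - e1⟩
  · by_cases hχ : χ ∈ U
    · simp only [U, Finset.mem_insert] at hχ
      rcases hχ with h | h | h | h
      · exact Or.inr (Or.inr (Or.inr (Or.inl h)))
      · exact Or.inr (Or.inr (Or.inr (Or.inr (Or.inl h))))
      · exact Or.inl (by rw [h])
      · rcases (hT χ h).1 with h' | h' | h'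
        · have hm : χ ∈ A := Finset.mem_filter.2 ⟨h, h'⟩
          rw [hAimg, Finset.mem_image] at hm
          obtain ⟨i, -, hi⟩ := hm
          exact Or.inr (Or.inl ⟨i, hi.symm⟩)
        · exact absurd (hB0 ▸ (Finset.mem_filter.2 ⟨h, h'⟩ : χ ∈ B)) (Finset.notMem_empty χ)
        · have hm : χ ∈ C := Finset.mem_filter.2 ⟨h, h'⟩
          rw [hu, Finset.mem_singleton] at hm
          exact Or.inr (Or.inr (Or.inl hm))
    · refine Or.inr (Or.inr (Or.inr (Or.inr (Or.inr (rest_vanish hcard hx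
        (centralizer_eleven hcard hx) U ?_ χ hχ)))))
      rw [hU, hthree, hB0, hu, Finset.sum_congr rfl (g := fun _ => 10) (fun χ hχ => by
          rw [(hdA χ hχ).2]),
        hdd.2, hdψ, hd1, Finset.sum_const, hA3, Finset.sum_empty, Finset.sum_singleton,
        (hdC _ huC).2]
      norm_num

end CfsgLib.Recog.OrderM11
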