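import Cfsg.Agent.Lib.Recog.OrderM11Basic
import Cfsg.Agent.Lib.Transfer.PrimeSylow
import Cfsg.Agent.Lib.Block.SmallHalfTheorem
import Cfsg.Agent.Lib.BlockB.PModular
import Cfsg.Agent.Lib.Classical.PSLTwoPerm
import Cfsg.Agent.Lib.Invol.Simple
import Cfsg.Agent.Lib.Char.Diag

/-!
# Simple groups of order 7920: the prime 11

An element of order 11 is self-centralizing, its normalizer has order 55, and the principal
11-block has degrees 1, 10, 10, 10, 45, 16, 16.
-/

set_option autoImplicit false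
set_option linter.unusedSectionVars false

namespace CfsgLib.Recog.OrderM11

open Cfsg CfsgLib.Char
open scoped ComplexConjugate _root_.Classical

universe u

variable {G : Type u} [Group G] [Finite G] [IsSimpleGroup G] (hcard : Nat.card G = 7920)
include hcard

theorem not_comm : ¬ IsMulCommutative G :=
  CfsgLib.Transfer.not_isMulCommutative_of_not_prime (by rw [hcard]; norm_num)

/-- Sylow numbers for a prime dividing 7920 once. -/
theorem sylow_data {p : ℕ} [Fact p.Prime] (h1 : p ∣ 7920) (h2 : ¬ p ^ 2 ∣ 7920) (P : Sylow p G) :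
    Nat.card (P : Subgroup G) = p ∧ ∃ n e C : ℕ,
      C = Nat.card (Subgroup.centralizer ((P : Subgroup G) : Set G)) ∧
      (Subgroup.centralizer ((P : Subgroup G) : Set G)).relIndex
        (Subgroup.normalizer ((P : Subgroup G) : Set G)) = e ∧
      p ∣ C ∧ e ∣ p - 1 ∧ 1 < e ∧ n * (e * C) = 7920 ∧ n % p = 1 ∧ 1 < n ∧
      15840 ∣ n.factorial ∧ (n = p + 1 → 2 * (e * C) ∣ p * (p - 1) ∨ p = 2) := by
  have hG := not_comm hcard
  have hP := CfsgLib.Transfer.card_sylow_eq_prime P (hcard ▸ h1) (hcard ▸ h2)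
  refine ⟨hP, ?_⟩
  obtain ⟨P', n, e, C, hP', hn, hn1, hnp, hfac, hC, hN, hpC, he, he1, hmul, -, hclause⟩ :=
    CfsgLib.Transfer.prime_sylow_data (p := p) hG (hcard ▸ h1) (hcard ▸ h2)
  obtain ⟨e₀, he₀, hpC₀, hN₀⟩ :=
    CfsgLib.Transfer.normalizer_centralizer_index (P : Subgroup G) hP
  have hcardN : ∀ Q : Sylow p G,
      n * Nat.card (Subgroup.normalizer ((Q : Subgroup G) : Set G)) = 7920 := fun Q => by
    rw [hn, Q.card_eq_index_normalizer]
    exact (Subgroup.index_mul_card _).trans hcard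
  have hNN : e₀ * Nat.card (Subgroup.centralizer ((P : Subgroup G) : Set G)) = e * C := by
    refine Nat.eq_of_mul_eq_mul_left (show 0 < n by omega) ?_
    rw [← hN₀, ← hN, hcardN, hcardN]
  have hrel : (Subgroup.centralizer ((P : Subgroup G) : Set G)).relIndex
      (Subgroup.normalizer ((P : Subgroup G) : Set G)) = e₀ := by
    refine Nat.eq_of_mul_eq_mul_right
      (Nat.card_pos (α := Subgroup.centralizer ((P : Subgroup G) : Set G))) ?_
    rw [← hN₀, ← Nat.card_congr (Subgroup.subgroupOfEquivOfLe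
      (Subgroup.centralizer_le_normalizer _)).toEquiv, Subgroup.relIndex, Subgroup.index_mul_card]
  refine ⟨n, e₀, _, rfl, hrel, hpC₀, he₀, ?_, by rw [hNN, hmul, hcard], hnp, hn1,
    by rwa [hcard] at hfac, fun h => hNN ▸ hclause h⟩
  rcases Nat.eq_zero_or_pos e₀ with h | h
  · exact absurd he₀ (by
      rw [h, zero_dvd_iff]
      have := (Fact.out : p.Prime).two_le
      omega)
  by_contra hle
  have he01 : e₀ = 1 := by omega
  refine CfsgLib.Transfer.not_normalizer_le_centralizer hG (hcard ▸ h1) P ?_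
  refine Subgroup.relIndex_eq_one.1 ?_
  rw [hrel, he01]

theorem degree_facts [Fintype (IrrCharacter G)] (χ : IrrCharacter G) :
    charDegree (χ : G → ℂ) ∣ 7920 ∧ charDegree (χ : G → ℂ) ≤ 88 ∧
      ((χ : G → ℂ) ≠ (fun _ => 1) → charDegree (χ : G → ℂ) ≠ 1) := by
  have := Fintype.ofFinite G
  refine ⟨hcard ▸ CfsgLib.BlockB.irr_degree_dvd_card χ, ?_, fun hne h => ?_⟩
  · have h1 := sum_irr_sq (G := G)
    simp only [← CfsgLib.BlockB.irr_degree_cast, hcard] at h1
    have h2 : ∑ ψ : IrrCharacter G, charDegree (ψ : G → ℂ) ^ 2 = 7920 := by exact_mod_cast h1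
    have h3 := Finset.single_le_sum (f := fun ψ : IrrCharacter G => charDegree (ψ : G → ℂ) ^ 2)
      (fun _ _ => Nat.zero_le _) (Finset.mem_univ χ)
    rw [h2] at h3
    by_contra hlt
    have : 89 ^ 2 ≤ charDegree (χ : G → ℂ) ^ 2 := Nat.pow_le_pow_left (by omega) 2
    omega
  · refine CfsgLib.Transfer.irr_apply_one_ne_one (not_comm hcard) χ hne ?_
    rw [← CfsgLib.BlockB.irr_degree_cast, h, Nat.cast_one]

theorem degree_mem {d : ℕ} (h : d ∣ 7920) (h88 : d ≤ 88) :
    d ∈ [1, 2, 3, 4, 5, 6, 8, 9, 10, 11, 12, 15, 16, 18, 20, 22, 24, 30, 33, 36, 40, 44, 45, 48,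
      55, 60, 66, 72, 80, 88] := by
  have : ∀ d < 89, d ∣ 7920 → d ∈ [1, 2, 3, 4, 5, 6, 8, 9, 10, 11, 12, 15, 16, 18, 20, 22, 24,
      30, 33, 36, 40, 44, 45, 48, 55, 60, 66, 72, 80, 88] := by
    decide +kernel
  exact this d (by omega) h

/-- An element of order 11 is self-centralizing and its normalizer has order 55. -/
theorem eleven (P : Sylow 11 G) :
    Nat.card (P : Subgroup G) = 11 ∧
      Nat.card (Subgroup.centralizer ((P : Subgroup G) : Set G)) = 11 ∧
      (Subgroup.centralizer ((P : Subgroup G) : Set G)).relIndex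
        (Subgroup.normalizer ((P : Subgroup G) : Set G)) = 5 := by
  have : Fact (Nat.Prime 11) := ⟨by norm_num⟩
  obtain ⟨hP, n, e, C, hC, hrel, h11, he, he1, hmul, hn, hn1, hfac, hclause⟩ :=
    sylow_data hcard (p := 11) (by norm_num) (by norm_num) P
  refine ⟨hP, ?_⟩
  rw [← hC, hrel]
  obtain ⟨c, rfl⟩ := h11
  have hmul' : n * e * c = 720 := by nlinarith
  have hd : n ∣ 720 := ⟨e * c, by rw [← hmul', mul_assoc]⟩
  have hn3 : n = 12 ∨ n = 45 ∨ n = 144 := by
    have : ∀ n < 721, n ∣ 720 → n % 11 = 1 → 1 < n → n = 12 ∨ n = 45 ∨ n = 144 := by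
      decide +kernel
    exact this n (Nat.lt_succ_of_le (Nat.le_of_dvd (by norm_num) hd)) hd hn hn1
  have he' : e = 2 ∨ e = 5 ∨ e = 10 := by
    have h10 := Nat.le_of_dvd (by norm_num) he
    interval_cases e <;> first | (norm_num at he; done) | norm_num
  rcases hn3 with rfl | rfl | rfl
  · exfalso
    have h := Nat.le_of_dvd (by norm_num) ((hclause rfl).resolve_right (by norm_num))
    nlinarith
  · exfalso
    have hec : e = 2 ∧ c = 8 := by rcases he' with rfl | rfl | rfl <;> omega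
    obtain ⟨rfl, rfl⟩ := hec
    have := Fintype.ofFinite (IrrCharacter G)
    obtain ⟨M, hM⟩ := CfsgLib.BlockB.exists_isPModular (p := 11) (by norm_num)
    obtain ⟨a, -, hrows, -⟩ := exists_rowsAt hM P hP hrel le_rfl (by norm_num)
    obtain ⟨S, hS⟩ := hrows 1
    have hdeg := hS.degree
    rw [← Finset.add_sum_erase _ _ hS.one_mem, hS.one_eq] at hdeg
    have hc2 : (S.erase ⟨fun _ => 1, isIrrCharacter_one⟩).card = 2 := by
      rw [Finset.card_erase_of_mem hS.one_mem, hS.card]
    obtain ⟨u, v, huv, hset⟩ := Finset.card_eq_two.1 hc2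
    rw [hset, Finset.sum_pair huv, show charDegree (fun _ : G => (1 : ℂ)) = 1 by simp [charDegree]]
      at hdeg
    have key : ∀ u v : IrrCharacter G, u ∈ S → v ∈ S → (u : G → ℂ) ≠ (fun _ => 1) →
        (∀ y ∈ (P : Subgroup G), y ≠ 1 →
          ∀ z ∈ Subgroup.centralizer ((P : Subgroup G) : Set G), ¬ 11 ∣ orderOf z →
          (u : G → ℂ) (y * z) = -(a u 1 : ℂ)) →
        a u 1 * (charDegree (u : G → ℂ) : ℤ) ≡ -1 [ZMOD (11 : ℕ)] →
        a v 1 * (charDegree (v : G → ℂ) : ℤ) ≡ (2 : ℕ) [ZMOD (11 : ℕ)] →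
        a u 1 * (charDegree (u : G → ℂ) : ℤ) + a v 1 * (charDegree (v : G → ℂ) : ℤ) = 1 →
        False := by
      intro u v hu hv hne hval hmu hmv hsum
      obtain ⟨hdu, hlu, hu1⟩ := degree_facts hcard u
      obtain ⟨hdv, hlv, -⟩ := degree_facts hcard v
      have hu10 : a u 1 = 1 ∧ charDegree (u : G → ℂ) = 10 := by
        have hmu' := hmu
        have hmv' := hmv
        rw [Int.ModEq] at hmu' hmv'
        have hu' := hu1 hne
        have hmem := degree_mem hcard hdu hlu
        have hmem' := degree_mem hcard hdv hlv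
        simp only [List.mem_cons, List.not_mem_nil, or_false] at hmem hmem'
        rcases hS.sign u hu with h | h <;> rcases hS.sign v hv with h' | h' <;>
          rw [h] at hmu' hsum ⊢ <;> rw [h'] at hmv' hsum <;> omega
      have hz8 : 2 ∣ Nat.card (Subgroup.centralizer ((P : Subgroup G) : Set G)) := by
        rw [← hC]; norm_num
      obtain ⟨z, hz⟩ := exists_prime_orderOf_dvd_card' 2 hz8
      have hzo : orderOf (z : G) = 2 := by rwa [Subgroup.orderOf_coe]
      obtain ⟨y, hyo, hgen⟩ : ∃ y : G, orderOf y = 11 ∧ Subgroup.zpowers y ≤ (P : Subgroup G) := by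
        obtain ⟨y, hy⟩ := exists_prime_orderOf_dvd_card' (G := (P : Subgroup G)) 11 hP.symm.dvd
        exact ⟨y, by rwa [Subgroup.orderOf_coe], Subgroup.zpowers_le.2 y.2⟩
      have hcomm : Commute y (z : G) :=
        Subgroup.mem_centralizer_iff.1 z.2 y (hgen (Subgroup.mem_zpowers y))
      obtain ⟨k, hk⟩ := exists_pair_eq hyo hzo hcomm (irr_isCharacter u.2)
        (α := -1) (β := -1)
        (fun w hw hw1 => by
          have := hval w (hgen hw) hw1 1 (Subgroup.one_mem _)
            (by rw [orderOf_one]; norm_num)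
          rw [mul_one, hu10.1] at this
          exact_mod_cast this)
        (fun w hw hw1 => by
          have := hval w (hgen hw) hw1 z z.2 (by rw [hzo]; norm_num)
          rw [hu10.1] at this
          exact_mod_cast this)
      have := Fintype.ofFinite G
      obtain ⟨j, hj⟩ := CfsgLib.Transfer.exists_int_char_involution (irr_isCharacter u.2)
        (show (z : G) * z = 1 by rw [← pow_two, ← hzo]; exact pow_orderOf_eq_one _)
      have hz1 : (z : G) ≠ 1 := fun h => by simp [h] at hzo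
      have hne' := CfsgLib.Transfer.irr_apply_ne_apply_one u hne hz1
      have hb : |j| ≤ 10 := by
        obtain ⟨m, ρ, hρ, hρu⟩ := u.2
        have h := norm_char_le ρ (z : G)
        have h1 : (Module.finrank ℂ (Fin m → ℂ) : ℂ) = 10 := by
          rw [← Representation.char_one (ρ := ρ), hρu, ← CfsgLib.BlockB.irr_degree_cast, hu10.2]
          norm_num
        rw [hρu, hj, Complex.norm_intCast,
          show (Module.finrank ℂ (Fin m → ℂ) : ℝ) = 10 by exact_mod_cast h1] at h
        exact_mod_cast h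
      rw [hj, ← CfsgLib.BlockB.irr_degree_cast, hu10.2] at hk hne'
      have hk' : (10 : ℤ) + j - 20 = 22 * k := by
        have : ((10 + j - 20 : ℤ) : ℂ) = ((22 * k : ℤ) : ℂ) := by
          push_cast at hk ⊢; linear_combination hk
        exact_mod_cast this
      have hj' : j ≠ 10 := fun h => hne' (by rw [h]; norm_num)
      rw [abs_le] at hb
      omega
    have hu : u ∈ S := Finset.mem_of_mem_erase (by rw [hset]; simp : u ∈ S.erase _)
    have hv : v ∈ S := Finset.mem_of_mem_erase (by rw [hset]; simp : v ∈ S.erase _)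
    have hune : ∀ w ∈ ({u, v} : Finset (IrrCharacter G)), (w : G → ℂ) ≠ fun _ => 1 := by
      intro w hw h
      rw [← hset] at hw
      exact (Finset.mem_erase.1 hw).1 (Subtype.ext h)
    rcases hS.shape u hu with ⟨-, hmu, hval⟩ | ⟨-, -, hmu⟩ <;>
      rcases hS.shape v hv with ⟨-, hmv, hval'⟩ | ⟨-, -, hmv⟩
    · rw [Int.ModEq] at hmu hmv; omega
    · exact key u v hu hv (hune u (by simp)) hval hmu hmv (by norm_num at hdeg; linarith)
    · exact key v u hv hu (hune v (by simp)) hval' hmv hmu (by norm_num at hdeg; linarith)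
    · rw [Int.ModEq] at hmu hmv; omega
  · rcases he' with rfl | rfl | rfl
    · omega
    · omega
    · omega

/-- The principal 11-block. -/
structure BlockEleven (x : G) (t : Fin 3 → IrrCharacter G) (u ψ ψ' : IrrCharacter G) : Prop where
  order : orderOf x = 11
  inj : Function.Injective t
  ne : ψ ≠ ψ'
  deg_t : ∀ i, charDegree (t i : G → ℂ) = 10
  deg_u : charDegree (u : G → ℂ) = 45
  deg_ψ : charDegree (ψ : G → ℂ) = 16
  deg_ψ' : charDegree (ψ' : G → ℂ) = 16
  val_t : ∀ i, (t i : G → ℂ) x = -1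
  val_u : (u : G → ℂ) x = 1
  regular : ∀ g : G, ¬ 11 ∣ orderOf g →
    (t 0 : G → ℂ) g + (t 1 : G → ℂ) g + (t 2 : G → ℂ) g - (u : G → ℂ) g + (ψ : G → ℂ) g = 1 ∧
      (ψ' : G → ℂ) g = (ψ : G → ℂ) g
  rest : ∀ χ : IrrCharacter G, (χ : G → ℂ) = (fun _ => 1) ∨ (∃ i, χ = t i) ∨ χ = u ∨ χ = ψ ∨
    χ = ψ' ∨ (11 ∣ charDegree (χ : G → ℂ) ∧ (χ : G → ℂ) x = 0)

end CfsgLib.Recog.OrderM11
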