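import Cfsg.Agent.Lib.Recog.OrderM11Semiregular

/-!
# Simple groups of order 7920: the graph on Sylow 3-subgroups

Its parameters: 55 vertices, valency 18, and an edge lies in nine triangles, one of which is given
by the third Sylow 3-subgroup inverted by the common involution.
-/

set_option autoImplicit false
set_option linter.unusedSectionVars false

namespace CfsgLib.Recog.OrderM11

set_option synthInstance.maxSize 1024 in
/-- No symmetric circulant solves the quotient equations of a graph with parameters (55,18,1,8). -/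
theorem no_circulant : ∀ a < (10 : ℕ), ∀ b < (10 : ℕ), ∀ e < (19 : ℕ), e + 2 * a + 2 * b = 18 →
    e * e + 2 * (a * a) + 2 * (b * b) + 7 * e = 98 →
    2 * (e * a) + 2 * (a * b) + b * b + 7 * a = 88 → False := by
  decide +kernel

open Cfsg CfsgLib.Char
open scoped _root_.Classical Pointwise

universe u

variable {G : Type u} [Group G] [Finite G] [IsSimpleGroup G] (hcard : Nat.card G = 7920)
include hcard

theorem exists_smul_edge {P R U W : Sylow 3 G} (h : Adj P R) (h' : Adj U W) :
    ∃ g : G, g • P = U ∧ g • R = W := by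
  have : Fact (Nat.Prime 3) := ⟨by norm_num⟩
  obtain ⟨g, rfl⟩ := MulAction.exists_smul_eq G P U
  obtain ⟨k, hk1, hk2⟩ := exists_smul_adj hcard ((adj_smul_iff g P R).2 h) h'
  exact ⟨k * g, by rw [mul_smul, hk1], by rw [mul_smul, hk2]⟩

theorem card_adj (P : Sylow 3 G) : Nat.card {U : Sylow 3 G // Adj P U} = 18 := by
  obtain ⟨R, hR⟩ := exists_adj hcard P
  have h := card_orbit_mul hcard P R
  rw [hR.2] at h
  have e : {U : Sylow 3 G // Adj P U} ≃ MulAction.orbit (MulAction.stabilizer G P) R :=
    Equiv.subtypeEquivRight fun U => by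
      constructor
      · intro hU
        obtain ⟨g, hg, hgR⟩ := exists_smul_adj hcard hR hU
        exact ⟨⟨g, hg⟩, hgR⟩
      · rintro ⟨g, rfl⟩
        have hgP : (g : G) • P = P := g.2
        have h2 := (adj_smul_iff (g : G) P R).2 hR
        rw [hgP] at h2
        exact h2
  rw [Nat.card_congr e]
  omega

/-- The stabilizer of `P` is transitive on the non-neighbours. -/
theorem exists_smul_nonadj {P U W : Sylow 3 G} (hU : P ≠ U) (hU' : ¬ Adj P U) (hW : P ≠ W)
    (hW' : ¬ Adj P W) : ∃ g : G, g • P = P ∧ g • U = W := by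
  have := Fintype.ofFinite (Sylow 3 G)
  have h55 : Fintype.card (Sylow 3 G) = 55 := by
    rw [← Nat.card_eq_fintype_card]; exact card_sylow hcard
  set A := Finset.univ.filter fun V : Sylow 3 G => Adj P V with hA
  set B := (Finset.univ.erase P).filter fun V : Sylow 3 G => ¬ Adj P V with hB
  have hA18 : A.card = 18 := by
    rw [hA, ← Fintype.card_subtype, ← Nat.card_eq_fintype_card]
    exact card_adj hcard P
  have hB36 : B.card = 36 := by
    have e : (Finset.univ.erase P).filter (fun V : Sylow 3 G => Adj P V) = A := by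
      rw [hA]
      ext V
      simp only [Finset.mem_filter, Finset.mem_erase, Finset.mem_univ, and_true, true_and]
      exact ⟨fun h => h.2, fun h => ⟨h.1.symm, h⟩⟩
    have h := Finset.card_filter_add_card_filter_not (s := Finset.univ.erase P)
      (fun V : Sylow 3 G => Adj P V)
    rw [e, hA18, ← hB, Finset.card_erase_of_mem (Finset.mem_univ _), Finset.card_univ, h55] at h
    omega
  set O := Finset.univ.filter fun V : Sylow 3 G =>
    V ∈ MulAction.orbit (MulAction.stabilizer G P) U with hO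
  have hOB : O ⊆ B := by
    intro V hV
    obtain ⟨g, rfl⟩ := (Finset.mem_filter.1 hV).2
    have hgP : (g : G) • P = P := g.2
    refine Finset.mem_filter.2 ⟨Finset.mem_erase.2 ⟨fun e => hU ?_, Finset.mem_univ _⟩, fun h => hU' ?_⟩
    · refine smul_left_cancel (g : G) ?_
      rw [hgP]
      exact e.symm
    · refine (adj_smul_iff (g : G) P U).1 ?_
      rw [hgP]
      exact h
  have hOcard : O.card * Nat.card (pairStab P U) = 144 := by
    rw [hO, ← Fintype.card_subtype, ← Nat.card_eq_fintype_card]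
    exact card_orbit_mul hcard P U
  have h16 := card_pairStab_dvd hcard hU
  have h8 : Nat.card (pairStab P U) ≠ 8 := fun h => hU' ⟨hU, h⟩
  have hne16 : Nat.card (pairStab P U) ≠ 16 := by
    intro h
    have : Fact (Nat.Prime 2) := ⟨by norm_num⟩
    set X := pairStab P U
    have hXp : IsPGroup 2 X := IsPGroup.of_card (n := 4) (by rw [h]; norm_num)
    have : Nontrivial X := Finite.one_lt_card_iff_nontrivial.1 (by rw [h]; norm_num)
    have := hXp.center_nontrivial
    have hd : 2 ∣ Nat.card (Subgroup.center X) := by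
      obtain ⟨k, hk, e⟩ :=
        (hXp.to_subgroup (Subgroup.center X)).nontrivial_iff_card.1 inferInstance
      rw [e]; exact dvd_pow_self 2 hk.ne'
    obtain ⟨z, hz⟩ := exists_prime_orderOf_dvd_card' 2 hd
    rw [← Subgroup.orderOf_coe, ← Subgroup.orderOf_coe] at hz
    have hcomm : ∀ τ ∈ X, τ * ((z : X) : G) = ((z : X) : G) * τ := fun τ hτ =>
      congrArg Subtype.val (Subgroup.mem_center_iff.1 z.2 ⟨τ, hτ⟩)
    obtain ⟨_, hT⟩ := exists_triple hcard hz hU
      (inverts_of_central hcard P X inf_le_left (by rw [h]; norm_num) (dvd_of_eq h) (z : X).2 hz hcomm)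
      (inverts_of_central hcard U X inf_le_right (by rw [h]; norm_num) (dvd_of_eq h) (z : X).2 hz hcomm)
    have h' := hT.card
    rw [h] at h'
    norm_num at h'
  have hOle := Finset.card_le_card hOB
  rw [hB36] at hOle
  have hO36 : O.card = 36 := by
    rw [show (16 : ℕ) = 2 ^ 4 by norm_num, Nat.dvd_prime_pow Nat.prime_two] at h16
    obtain ⟨j, hj, hj'⟩ := h16
    rw [hj'] at hOcard h8 hne16
    interval_cases j <;> (try norm_num at hOcard) <;> (try norm_num at h8) <;> (try norm_num at hne16) <;> omega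
  have hWB : W ∈ B := Finset.mem_filter.2 ⟨Finset.mem_erase.2 ⟨hW.symm, Finset.mem_univ _⟩, hW'⟩
  rw [← Finset.eq_of_subset_of_card_le hOB (by rw [hB36, hO36])] at hWB
  obtain ⟨g, hg⟩ := (Finset.mem_filter.1 hWB).2
  exact ⟨g, g.2, hg⟩

/-- The neighbours of `P` form two orbits of `P`. -/
theorem Triple.adj_iff {P R R' : Sylow 3 G} {z : G} (h : Triple P R R' z) :
    (∀ U : Sylow 3 G, Adj P U ↔ ∃ q ∈ (P : Subgroup G), q • R = U ∨ q • R' = U) ∧
      (∀ q ∈ (P : Subgroup G), ∀ q' ∈ (P : Subgroup G), q • R ≠ q' • R') ∧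
      ∀ q ∈ (P : Subgroup G), q ≠ 1 → ∀ q' ∈ (P : Subgroup G), q' ≠ 1 →
        ∃ g ∈ pairStab P R, g * q * g⁻¹ = q' := by
  have : Fact (Nat.Prime 3) := ⟨by norm_num⟩
  obtain ⟨hPc, -, -⟩ := sylow_three hcard P
  have := Fintype.ofFinite (Sylow 3 G)
  have := Fintype.ofFinite (pairStab P R)
  have := Fintype.ofFinite (P : Subgroup G)
  have htrans : ∀ q ∈ (P : Subgroup G), q ≠ 1 → ∀ q' ∈ (P : Subgroup G), q' ≠ 1 →
      ∃ g ∈ pairStab P R, g * q * g⁻¹ = q' := by
    intro q hq hq1 q' hq' hq1'
    have hmem : ∀ g ∈ pairStab P R, g * q * g⁻¹ ∈ (P : Subgroup G) := fun g hg =>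
      ((smul_eq_iff_forall.1 (mem_pairStab.1 hg).1) q).1 hq
    set S := (Finset.univ : Finset (P : Subgroup G)).erase 1
    set I := (Finset.univ : Finset (pairStab P R)).image
      fun g : pairStab P R => (⟨(g : G) * q * (g : G)⁻¹, hmem g g.2⟩ : (P : Subgroup G))
    have hI : I = S := by
      refine Finset.eq_of_subset_of_card_le (fun v hv => ?_) ?_
      · obtain ⟨g, -, rfl⟩ := Finset.mem_image.1 hv
        exact Finset.mem_erase.2 ⟨fun e => hq1 (conj_eq_one_iff.1 (congrArg Subtype.val e)),
          Finset.mem_univ _⟩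
      · rw [Finset.card_image_of_injective _ fun a b e => ?_, Finset.card_univ,
          Finset.card_erase_of_mem (Finset.mem_univ _), Finset.card_univ,
          ← Nat.card_eq_fintype_card, ← Nat.card_eq_fintype_card, hPc, h.card]
        have e' : (a : G) * q * (a : G)⁻¹ = (b : G) * q * (b : G)⁻¹ := congrArg Subtype.val e
        by_contra hab
        refine hq1 (h.semiregular hcard (g := (b : G)⁻¹ * a) (mul_mem (inv_mem b.2) a.2)
          (fun e1 => hab (Subtype.ext (inv_mul_eq_one.1 e1).symm)) hq ?_)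
        calc (b : G)⁻¹ * a * q = (b : G)⁻¹ * ((a : G) * q * (a : G)⁻¹) * a := by group
          _ = q * ((b : G)⁻¹ * a) := by rw [e']; group
    have hm : (⟨q', hq'⟩ : (P : Subgroup G)) ∈ I :=
      hI ▸ Finset.mem_erase.2 ⟨fun e => hq1' (congrArg Subtype.val e), Finset.mem_univ _⟩
    obtain ⟨g, -, hg⟩ := Finset.mem_image.1 hm
    exact ⟨g, g.2, congrArg Subtype.val hg⟩
  have hdisj : ∀ q ∈ (P : Subgroup G), ∀ q' ∈ (P : Subgroup G), q • R ≠ q' • R' := by
    intro q hq q' hq' e
    set r := q'⁻¹ * q with hr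
    have hrP : r ∈ (P : Subgroup G) := mul_mem (inv_mem hq') hq
    have hrR : r • R = R' := by rw [hr, mul_smul, e, inv_smul_smul]
    have hr1 : r ≠ 1 := fun e1 => h.ne'' (by rwa [e1, one_smul] at hrR)
    obtain ⟨g, hg, hgr⟩ := htrans r hrP hr1 r⁻¹ (inv_mem hrP) (fun e1 => hr1 (inv_eq_one.1 e1))
    have e2 : r⁻¹ • R = r • R := by
      rw [← hgr, mul_smul, mul_smul, inv_smul_eq_iff.2 (mem_pairStab.1 hg).2.symm, hrR, h.fix g hg]
    have h2 := eq_of_smul_smul hcard (inv_mem hrP) hrP h.ne e2
    have h3 : orderOf r ∣ 2 := orderOf_dvd_of_pow_eq_one (by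
      rw [pow_two]; nth_rewrite 1 [← h2]; exact inv_mul_cancel r)
    have h9 := Subgroup.orderOf_dvd_natCard _ hrP
    rw [hPc] at h9
    exact hr1 (orderOf_eq_one_iff.1 (Nat.eq_one_of_dvd_one (Nat.dvd_gcd h3 h9)))
  refine ⟨?_, hdisj, htrans⟩
  obtain ⟨hPR, hPR', -⟩ := h.adj hcard
  have hsmul : ∀ q ∈ (P : Subgroup G), ∀ V, Adj P V → Adj P (q • V) := fun q hq V hV => by
    have h2 := (adj_smul_iff q P V).2 hV
    rwa [Sylow.smul_eq_iff_mem_normalizer.2 (Subgroup.le_normalizer hq)] at h2
  set A := Finset.univ.filter fun V : Sylow 3 G => Adj P V with hA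
  have hA18 : A.card = 18 := by
    rw [hA, ← Fintype.card_subtype, ← Nat.card_eq_fintype_card]
    exact card_adj hcard P
  set I₁ := (Finset.univ : Finset (P : Subgroup G)).image fun q : (P : Subgroup G) => (q : G) • R
  set I₂ := (Finset.univ : Finset (P : Subgroup G)).image fun q : (P : Subgroup G) => (q : G) • R'
  have hc : (I₁ ∪ I₂).card = 18 := by
    rw [Finset.card_union_of_disjoint, Finset.card_image_of_injective _ fun a b e =>
        Subtype.ext (eq_of_smul_smul hcard a.2 b.2 h.ne e),
      Finset.card_image_of_injective _ fun a b e =>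
        Subtype.ext (eq_of_smul_smul hcard a.2 b.2 h.ne' e), Finset.card_univ,
      ← Nat.card_eq_fintype_card, hPc]
    rw [Finset.disjoint_left]
    intro V hV hV'
    obtain ⟨a, -, rfl⟩ := Finset.mem_image.1 hV
    obtain ⟨b, -, hb⟩ := Finset.mem_image.1 hV'
    exact hdisj a a.2 b b.2 hb.symm
  have hIA : I₁ ∪ I₂ = A := by
    refine Finset.eq_of_subset_of_card_le (fun V hV => ?_) (by rw [hA18, hc])
    refine Finset.mem_filter.2 ⟨Finset.mem_univ _, ?_⟩
    rcases Finset.mem_union.1 hV with hV | hV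
    · obtain ⟨a, -, rfl⟩ := Finset.mem_image.1 hV
      exact hsmul a a.2 R hPR
    · obtain ⟨a, -, rfl⟩ := Finset.mem_image.1 hV
      exact hsmul a a.2 R' hPR'
  intro U
  constructor
  · intro hU
    have hm : U ∈ I₁ ∪ I₂ := hIA.symm ▸ Finset.mem_filter.2 ⟨Finset.mem_univ _, hU⟩
    rcases Finset.mem_union.1 hm with hm | hm
    · obtain ⟨a, -, ha⟩ := Finset.mem_image.1 hm
      exact ⟨a, a.2, Or.inl ha⟩
    · obtain ⟨a, -, ha⟩ := Finset.mem_image.1 hm
      exact ⟨a, a.2, Or.inr ha⟩
  · rintro ⟨q, hq, rfl | rfl⟩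
    · exact hsmul q hq R hPR
    · exact hsmul q hq R' hPR'

/-- A graph invariant number: the common neighbours. -/
theorem card_common_smul (g : G) (U W : Sylow 3 G) [Fintype (Sylow 3 G)] :
    (Finset.univ.filter fun V => Adj (g • U) V ∧ Adj (g • W) V).card =
      (Finset.univ.filter fun V => Adj U V ∧ Adj W V).card := by
  refine Finset.card_bij' (fun V _ => g⁻¹ • V) (fun V _ => g • V) (fun V hV => ?_) (fun V hV => ?_)
    (fun V _ => smul_inv_smul g V) (fun V _ => inv_smul_smul g V)
  · obtain ⟨-, h1, h2⟩ := Finset.mem_filter.1 hV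
    refine Finset.mem_filter.2 ⟨Finset.mem_univ _, ?_, ?_⟩
    · exact (adj_smul_iff g U _).1 (by rwa [smul_inv_smul])
    · exact (adj_smul_iff g W _).1 (by rwa [smul_inv_smul])
  · obtain ⟨-, h1, h2⟩ := Finset.mem_filter.1 hV
    exact Finset.mem_filter.2
      ⟨Finset.mem_univ _, (adj_smul_iff g U V).2 h1, (adj_smul_iff g W V).2 h2⟩

/-- Double counting of paths of length two. -/
theorem count_paths [Fintype (Sylow 3 G)] (P : Sylow 3 G) {l m : ℕ}
    (hl : ∀ U, Adj P U → (Finset.univ.filter fun V => Adj P V ∧ Adj U V).card = l)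
    (hm : ∀ U, P ≠ U → ¬ Adj P U →
      (Finset.univ.filter fun V => Adj P V ∧ Adj U V).card = m) :
    18 + 18 * l + 36 * m = 324 := by
  have hdeg : ∀ V : Sylow 3 G, (Finset.univ.filter fun U => Adj V U).card = 18 := fun V => by
    rw [← Fintype.card_subtype, ← Nat.card_eq_fintype_card]
    exact card_adj hcard V
  have hsum : ∑ U : Sylow 3 G, (Finset.univ.filter fun V => Adj P V ∧ Adj U V).card = 324 := by
    simp only [Finset.card_filter]
    rw [Finset.sum_comm]
    have : ∀ V : Sylow 3 G, (∑ U : Sylow 3 G, if Adj P V ∧ Adj U V then 1 else 0) =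
        if Adj P V then 18 else 0 := by
      intro V
      split_ifs with hV
      · rw [← hdeg V, Finset.card_filter]
        exact Finset.sum_congr rfl fun U _ => by
          simp only [hV, true_and]
          exact if_congr ⟨Adj.symm, Adj.symm⟩ rfl rfl
      · exact Finset.sum_eq_zero fun U _ => if_neg fun h => hV h.1
    rw [Finset.sum_congr rfl fun V _ => this V, ← Finset.sum_filter, Finset.sum_const, hdeg P]
    rfl
  have hsplit : ∀ U : Sylow 3 G, (Finset.univ.filter fun V => Adj P V ∧ Adj U V).card =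
      if U = P then 18 else if Adj P U then l else m := by
    intro U
    split_ifs with h1 h2
    · subst h1
      simp only [and_self]
      exact hdeg U
    · exact hl U h2
    · exact hm U (Ne.symm h1) h2
  rw [Finset.sum_congr rfl fun U _ => hsplit U,
    ← Finset.add_sum_erase _ _ (Finset.mem_univ P), if_pos rfl,
    Finset.sum_congr rfl (g := fun U => if Adj P U then l else m)
      (fun U hU => if_neg (Finset.mem_erase.1 hU).1),
    Finset.sum_ite, Finset.sum_const, Finset.sum_const, smul_eq_mul, smul_eq_mul] at hsum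
  have e : (Finset.univ.erase P).filter (fun U => Adj P U) =
      Finset.univ.filter fun U => Adj P U := by
    ext V
    simp only [Finset.mem_filter, Finset.mem_erase, Finset.mem_univ, and_true, true_and]
    exact ⟨fun h => h.2, fun h => ⟨h.1.symm, h⟩⟩
  have hc := Finset.card_filter_add_card_filter_not (s := Finset.univ.erase P)
    (fun U : Sylow 3 G => Adj P U)
  rw [e, hdeg P, Finset.card_erase_of_mem (Finset.mem_univ _), Finset.card_univ,
    ← Nat.card_eq_fintype_card, card_sylow hcard] at hc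
  rw [e, hdeg P] at hsum
  rw [show ((Finset.univ.erase P).filter fun U => ¬ Adj P U).card = 36 by omega] at hsum
  omega

/-- An orbit of the normalizer of a Sylow 11-subgroup rules out parameters (55, 18, 1, 8). -/
theorem not_one_eight [Fintype (Sylow 3 G)]
    (hl : ∀ P U : Sylow 3 G, Adj P U →
      (Finset.univ.filter fun V => Adj P V ∧ Adj U V).card = 1)
    (hm : ∀ P U : Sylow 3 G, P ≠ U → ¬ Adj P U →
      (Finset.univ.filter fun V => Adj P V ∧ Adj U V).card = 8) : False := by
  have : Fact (Nat.Prime 11) := ⟨by norm_num⟩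
  have := Fintype.ofFinite G
  obtain ⟨x, hx⟩ := exists_prime_orderOf_dvd_card' (G := G) 11 (by rw [hcard]; norm_num)
  have hC := centralizer_eleven hcard hx
  obtain ⟨Q, hQ⟩ := CfsgLib.Block.SelfCentralPrime.exists_sylow_eq hx hC
  obtain ⟨-, -, hrel⟩ := eleven hcard Q
  have hCQ : Subgroup.centralizer ((Q : Subgroup G) : Set G) = (Q : Subgroup G) := by
    rw [hQ, Subgroup.zpowers_eq_closure, Subgroup.centralizer_closure, hC,
      ← Subgroup.zpowers_eq_closure]
  rw [hCQ, hQ] at hrel
  set N := Subgroup.normalizer ((Subgroup.zpowers x : Subgroup G) : Set G)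
  have hN : Nat.card N = 55 := by
    rw [CfsgLib.Block.SelfCentralPrime.natCard_normalizer hx hC, hrel]
  obtain ⟨T0⟩ := (inferInstance : Nonempty (Sylow 3 G))
  have hfree : ∀ n ∈ N, n • T0 = T0 → n = 1 := by
    intro n hn h
    have h1 := Subgroup.orderOf_dvd_natCard _ hn
    have h2 := Subgroup.orderOf_dvd_natCard _ (MulAction.mem_stabilizer_iff.2 h)
    rw [hN] at h1
    rw [card_stabilizer hcard T0] at h2
    exact orderOf_eq_one_iff.1 (Nat.eq_one_of_dvd_one (Nat.dvd_gcd h1 h2))
  let f : N → Sylow 3 G := fun n => (n : G) • T0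
  have hinj : Function.Injective f := fun a b e => by
    have h : ((b : G)⁻¹ * a) • T0 = T0 := by
      rw [mul_smul, inv_smul_eq_iff]
      exact e
    exact Subtype.ext (inv_mul_eq_one.1 (hfree _ (mul_mem (inv_mem b.2) a.2) h)).symm
  have hf : Function.Bijective f := (Fintype.bijective_iff_injective_and_card f).2 ⟨hinj, by
    rw [← Nat.card_eq_fintype_card, ← Nat.card_eq_fintype_card, hN, card_sylow hcard]⟩
  set K := (Subgroup.zpowers x).subgroupOf N
  have : K.Normal := Subgroup.normal_in_normalizer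
  have hK : Nat.card K = 11 := by
    rw [Nat.card_congr (Subgroup.subgroupOfEquivOfLe (Subgroup.le_normalizer :
      Subgroup.zpowers x ≤ N)).toEquiv, Nat.card_zpowers, hx]
  have hQ5 : Nat.card (N ⧸ K) = 5 := by
    have h := Subgroup.card_eq_card_quotient_mul_card_subgroup K
    rw [hN, hK] at h
    omega
  have : Fact (Nat.Prime 5) := ⟨by norm_num⟩
  have := isCyclic_of_prime_card hQ5
  obtain ⟨w, hw⟩ := IsCyclic.exists_generator (α := N ⧸ K)
  have hw5 : orderOf w = 5 := by rw [orderOf_eq_card_of_forall_mem_zpowers hw, hQ5]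
  set c : N ⧸ K → ℕ := fun i =>
    (Finset.univ.filter fun n : N => (QuotientGroup.mk n : N ⧸ K) = i ∧ Adj T0 (f n)).card with hc
  have hshift : ∀ a b : N, Adj (f a) (f b) ↔ Adj T0 (f (a⁻¹ * b)) := fun a b => by
    rw [← adj_smul_iff ((a : G)⁻¹) (f a) (f b)]
    simp only [f, inv_smul_smul, Subgroup.coe_mul, Subgroup.coe_inv, mul_smul]
  have hsymm : ∀ i, c i⁻¹ = c i := by
    intro i
    refine Finset.card_bij' (fun n _ => n⁻¹) (fun n _ => n⁻¹) (fun n hn => ?_) (fun n hn => ?_)
      (fun n _ => inv_inv n) (fun n _ => inv_inv n)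
    all_goals
      obtain ⟨-, h1, h2⟩ := Finset.mem_filter.1 hn
      refine Finset.mem_filter.2 ⟨Finset.mem_univ _, by simp [h1], ?_⟩
      have h3 := h2.symm
      rw [show T0 = f 1 by simp [f], hshift, inv_one] at h2
      rw [show T0 = f 1 by simp [f], hshift, mul_one] at h3
      simpa [f] using h3
  -- common neighbours summed over a coset
  have hcommon : ∀ n : N, (Finset.univ.filter fun m : N => Adj T0 (f m) ∧ Adj (f n) (f m)).card =
      (Finset.univ.filter fun V => Adj T0 V ∧ Adj (f n) V).card := fun n => by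
    refine Finset.card_bij (fun m _ => f m)
      (fun m hm => Finset.mem_filter.2 ⟨Finset.mem_univ _, (Finset.mem_filter.1 hm).2⟩)
      (fun a _ b _ e => hinj e) fun V hV => ?_
    obtain ⟨m, rfl⟩ := hf.2 V
    exact ⟨m, Finset.mem_filter.2 ⟨Finset.mem_univ _, (Finset.mem_filter.1 hV).2⟩, rfl⟩
  have hdeg : (Finset.univ.filter fun m : N => Adj T0 (f m)).card = 18 := by
    rw [← card_adj hcard T0, Nat.card_eq_fintype_card, Fintype.card_subtype]
    refine Finset.card_bij (fun m _ => f m)
      (fun m hm => Finset.mem_filter.2 ⟨Finset.mem_univ _, (Finset.mem_filter.1 hm).2⟩)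
      (fun a _ b _ e => hinj e) fun V hV => ?_
    obtain ⟨m, rfl⟩ := hf.2 V
    exact ⟨m, Finset.mem_filter.2 ⟨Finset.mem_univ _, (Finset.mem_filter.1 hV).2⟩, rfl⟩
  have hfib : ∀ i, (Finset.univ.filter fun n : N => (QuotientGroup.mk n : N ⧸ K) = i).card = 11 := by
    intro i
    obtain ⟨n₀, rfl⟩ := QuotientGroup.mk_surjective i
    rw [← hK, Nat.card_eq_fintype_card, ← Finset.card_univ]
    refine (Finset.card_bij (fun (k : K) _ => n₀ * (k : N))
      (fun k _ => Finset.mem_filter.2 ⟨Finset.mem_univ _, by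
        rw [QuotientGroup.mk_mul, (QuotientGroup.eq_one_iff (k : N)).2 k.2, mul_one]⟩)
      (fun a _ b _ e => Subtype.ext (mul_left_cancel e)) fun n hn => ?_).symm
    refine ⟨⟨n₀⁻¹ * n, QuotientGroup.eq.1 (Finset.mem_filter.1 hn).2.symm⟩, Finset.mem_univ _, ?_⟩
    simp
  have hval : ∀ n : N, (Finset.univ.filter fun V => Adj T0 V ∧ Adj (f n) V).card +
      (if Adj T0 (f n) then 7 else 0) = 8 + if n = 1 then 10 else 0 := by
    intro n
    by_cases h1 : n = 1
    · subst h1
      have e : f 1 = T0 := by simp [f]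
      rw [e, if_neg (fun h : Adj T0 T0 => h.1 rfl), if_pos rfl]
      simp only [and_self]
      rw [← Fintype.card_subtype, ← Nat.card_eq_fintype_card, card_adj hcard T0]
    · have hne : T0 ≠ f n := fun e => h1 (hinj (by rw [← e]; simp [f]))
      rw [if_neg h1]
      by_cases h2 : Adj T0 (f n)
      · rw [if_pos h2, hl _ _ h2]
      · rw [if_neg h2, hm _ _ hne h2]
  have heq : ∀ i : N ⧸ K,
      (∑ j : N ⧸ K, c (i * j) * c j) + 7 * c i = 88 + if i = 1 then 10 else 0 := by
    intro i
    have h1 : ∑ n ∈ Finset.univ.filter (fun n : N => (QuotientGroup.mk n : N ⧸ K) = i),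
        (Finset.univ.filter fun m : N => Adj T0 (f m) ∧ Adj (f n) (f m)).card =
        ∑ j : N ⧸ K, c (i * j) * c j := by
      have e : ∀ j : N ⧸ K, c (i * j) * c j =
          ((Finset.univ.filter fun m : N =>
              (QuotientGroup.mk m : N ⧸ K) = i * j ∧ Adj T0 (f m)) ×ˢ
            (Finset.univ.filter fun k : N =>
              (QuotientGroup.mk k : N ⧸ K) = j ∧ Adj T0 (f k))).card := fun j => by
        rw [Finset.card_product]
      rw [Finset.sum_congr rfl fun j _ => e j, ← Finset.card_sigma, ← Finset.card_sigma]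
      refine Finset.card_bij'
        (fun p _ => ⟨(QuotientGroup.mk (p.1⁻¹ * p.2) : N ⧸ K), (p.2, p.1⁻¹ * p.2)⟩)
        (fun p _ => ⟨p.2.1 * p.2.2⁻¹, p.2.1⟩) (fun p hp => ?_) (fun p hp => ?_) (fun p hp => ?_)
        (fun p hp => ?_)
      · simp only [Finset.mem_sigma, Finset.mem_filter, Finset.mem_univ, true_and,
          Finset.mem_product] at hp ⊢
        obtain ⟨h1, h2, h3⟩ := hp
        refine ⟨⟨?_, h2⟩, (hshift _ _).1 h3⟩
        rw [← h1, ← QuotientGroup.mk_mul, mul_inv_cancel_left]
      · simp only [Finset.mem_sigma, Finset.mem_filter, Finset.mem_univ, true_and,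
          Finset.mem_product] at hp ⊢
        obtain ⟨⟨h1, h2⟩, h3, h4⟩ := hp
        refine ⟨?_, h2, (hshift _ _).2 ?_⟩
        · rw [QuotientGroup.mk_mul, QuotientGroup.mk_inv, h1, h3, mul_inv_cancel_right]
        · rwa [show (p.2.1 * p.2.2⁻¹)⁻¹ * p.2.1 = p.2.2 by group]
      · obtain ⟨a, b⟩ := p
        simp [mul_assoc]
      · obtain ⟨j, a, b⟩ := p
        simp only [Finset.mem_sigma, Finset.mem_filter, Finset.mem_univ, true_and,
          Finset.mem_product] at hp
        obtain ⟨-, h3, -⟩ := hp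
        have e1 : (a * b⁻¹)⁻¹ * a = b := by group
        simp only [e1, h3]
    rw [← h1, Finset.sum_congr rfl fun n _ => hcommon n]
    have h2 := Finset.sum_congr (s₁ := Finset.univ.filter fun n : N => (QuotientGroup.mk n : N ⧸ K) = i)
      rfl fun n _ => hval n
    rw [Finset.sum_add_distrib, Finset.sum_add_distrib, Finset.sum_const, hfib,
      ← Finset.sum_filter, ← Finset.sum_filter, Finset.filter_filter, Finset.filter_filter,
      Finset.sum_const, Finset.sum_const, smul_eq_mul, smul_eq_mul, smul_eq_mul] at h2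
    have h3 : (Finset.univ.filter fun n : N =>
        (QuotientGroup.mk n : N ⧸ K) = i ∧ n = 1).card = if i = 1 then 1 else 0 := by
      split_ifs with hi
      · subst hi
        rw [Finset.card_eq_one]
        refine ⟨1, ?_⟩
        ext n
        simp only [Finset.mem_filter, Finset.mem_univ, true_and, Finset.mem_singleton]
        exact ⟨fun h => h.2, fun h => ⟨by rw [h]; rfl, h⟩⟩
      · rw [Finset.card_eq_zero, Finset.filter_eq_empty_iff]
        rintro n - ⟨h, rfl⟩
        exact hi h.symm
    rw [h3] at h2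
    have h4 : (Finset.univ.filter fun n : N =>
        (QuotientGroup.mk n : N ⧸ K) = i ∧ Adj T0 (f n)).card = c i := rfl
    rw [h4] at h2
    split_ifs at h2 ⊢ <;> omega
  -- five numbers
  let e : Fin 5 ≃ N ⧸ K := Equiv.ofBijective (fun k : Fin 5 => w ^ (k : ℕ))
    ((Fintype.bijective_iff_injective_and_card _).2 ⟨fun a b h => Fin.ext
      (pow_injOn_Iio_orderOf (by rw [hw5]; exact a.2) (by rw [hw5]; exact b.2) h), by
        rw [Fintype.card_fin, ← Nat.card_eq_fintype_card, hQ5]⟩)
  have hsum : ∀ g : N ⧸ K → ℕ, ∑ j, g j = g 1 + g w + g (w ^ 2) + g (w ^ 3) + g (w ^ 4) :=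
    fun g => by
      rw [← e.sum_comp, Fin.sum_univ_five]
      simp [e]
  have h5 : w ^ 5 = 1 := by rw [← hw5]; exact pow_orderOf_eq_one w
  have hw4 : c (w ^ 4) = c w := by
    rw [← hsymm w]
    congr 1
    exact (inv_eq_of_mul_eq_one_right (by rw [← pow_succ', h5])).symm
  have hw3 : c (w ^ 3) = c (w ^ 2) := by
    rw [← hsymm (w ^ 2)]
    congr 1
    exact (inv_eq_of_mul_eq_one_right (by rw [← pow_add, h5])).symm
  have hne : w ≠ 1 := fun h => by simp [h] at hw5
  have h18 : ∑ j, c j = 18 := by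
    rw [← hdeg, Finset.card_eq_sum_card_fiberwise
      (f := fun n : N => (QuotientGroup.mk n : N ⧸ K)) (t := Finset.univ) (fun _ _ => Finset.mem_univ _)]
    refine Finset.sum_congr rfl fun j _ => ?_
    rw [hc, Finset.filter_filter]
    exact congrArg Finset.card (Finset.filter_congr fun n _ => and_comm)
  rw [hsum, hw4, hw3] at h18
  have E0 := heq 1
  have E1 := heq w
  rw [hsum] at E0 E1
  simp only [one_mul, mul_one, if_pos, hw4, hw3] at E0
  rw [if_neg hne, mul_one, show w * w = w ^ 2 from (pow_two w).symm, ← pow_succ' w 2,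
    ← pow_succ' w 3, ← pow_succ' w 4, h5, hw4, hw3] at E1
  refine no_circulant (c w) (by omega) (c (w ^ 2)) (by omega) (c 1) (by omega) (by omega) ?_ ?_
  · linarith
  · linarith

end CfsgLib.Recog.OrderM11
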