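import Cfsg.Agent.Lib.Recog.OrderM11Shape

/-!
# Simple groups of order 7920: a subgroup of index 11

The stabilizer of a maximal clique of the graph on Sylow 3-subgroups has order 720.
-/

set_option autoImplicit false
set_option linter.unusedSectionVars false

namespace CfsgLib.Recog.OrderM11

open Cfsg CfsgLib.Char
open scoped _root_.Classical Pointwise

universe u

variable {G : Type u} [Group G] [Finite G]

/-- The clique of ten through an edge. -/
def clique (P R : Sylow 3 G) : Set (Sylow 3 G) :=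
  {V | V = P ∨ V = R ∨ (Adj P V ∧ Adj R V ∧ ∃ g ∈ pairStab P R, g • V ≠ V)}

theorem clique_comm (P R : Sylow 3 G) : clique P R = clique R P := by
  ext V
  simp only [clique, Set.mem_ofPred_eq, pairStab_comm P R]
  tauto

theorem smul_clique (g : G) (P R : Sylow 3 G) : g • clique P R = clique (g • P) (g • R) := by
  ext V
  obtain ⟨W, rfl⟩ : ∃ W, g • W = V := ⟨g⁻¹ • V, smul_inv_smul g V⟩
  rw [Set.smul_mem_smul_set_iff]
  simp only [clique, Set.mem_ofPred_eq, smul_left_cancel_iff, adj_smul_iff, mem_pairStab, ne_eq]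
  refine or_congr_right (or_congr_right (and_congr_right' (and_congr_right' ⟨?_, ?_⟩)))
  · rintro ⟨h, ⟨h1, h2⟩, h3⟩
    refine ⟨g * h * g⁻¹, ⟨?_, ?_⟩, fun e => h3 ?_⟩
    · rw [mul_smul, mul_smul, inv_smul_smul, h1]
    · rw [mul_smul, mul_smul, inv_smul_smul, h2]
    · rwa [mul_smul, mul_smul, inv_smul_smul, smul_left_cancel_iff] at e
  · rintro ⟨h, ⟨h1, h2⟩, h3⟩
    refine ⟨g⁻¹ * h * g, ⟨?_, ?_⟩, fun e => h3 ?_⟩
    · rw [mul_smul, mul_smul, h1, inv_smul_smul]
    · rw [mul_smul, mul_smul, h2, inv_smul_smul]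
    · rwa [mul_smul, mul_smul, inv_smul_eq_iff] at e

variable [IsSimpleGroup G] (hcard : Nat.card G = 7920)
include hcard

theorem mem_clique {P R : Sylow 3 G} (h : Adj P R) (V : Sylow 3 G) :
    V ∈ clique P R ↔ V = P ∨ ∃ q ∈ (P : Subgroup G), q • R = V := by
  obtain ⟨R', z, hT⟩ := h.exists_triple' hcard
  obtain ⟨hadj, hdisj, -⟩ := hT.adj_iff hcard
  constructor
  · rintro (rfl | rfl | ⟨h1, h2, g, hg, hgV⟩)
    · exact Or.inl rfl
    · exact Or.inr ⟨1, one_mem _, one_smul _ _⟩
    · obtain ⟨q, hq, rfl | rfl⟩ := (hadj V).1 h1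
      · exact Or.inr ⟨q, hq, rfl⟩
      · by_cases hq1 : q = 1
        · exact absurd (by rw [hq1, one_smul, hT.fix g hg]) hgV
        · exact absurd h2 (hT.shape hcard hq hq1).2
  · rintro (rfl | ⟨q, hq, rfl⟩)
    · exact Or.inl rfl
    · by_cases hq1 : q = 1
      · exact Or.inr (Or.inl (by rw [hq1, one_smul]))
      refine Or.inr (Or.inr ⟨(hadj _).2 ⟨q, hq, Or.inl rfl⟩, (hT.shape hcard hq hq1).1, ?_⟩)
      by_contra! hfix
      rcases hT.fixed hcard hfix with e | e | e
      · exact h.1 (smul_left_cancel q (by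
          rw [Sylow.smul_eq_iff_mem_normalizer.2 (Subgroup.le_normalizer hq), e]))
      · exact hq1 (eq_one_of_smul hcard hq h.1 e)
      · exact hdisj q hq 1 (one_mem _) (by rw [one_smul]; exact e)

/-- A simple group of order 7920 has a subgroup of index 11. -/
theorem exists_index_eleven : ∃ M : Subgroup G, M.index = 11 := by
  have : Fact (Nat.Prime 3) := ⟨by norm_num⟩
  obtain ⟨P⟩ := (inferInstance : Nonempty (Sylow 3 G))
  obtain ⟨R, hPR⟩ := exists_adj hcard P
  obtain ⟨hPc, -, -⟩ := sylow_three hcard P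
  have := Fintype.ofFinite (P : Subgroup G)
  have := Fintype.ofFinite (Sylow 3 G)
  set K := clique P R with hK
  set M := MulAction.stabilizer G K
  have hPfix : ∀ q ∈ (P : Subgroup G), q • P = P := fun q hq =>
    Sylow.smul_eq_iff_mem_normalizer.2 (Subgroup.le_normalizer hq)
  have hPM : (P : Subgroup G) ≤ M := by
    intro q hq
    have hqR : Adj P (q • R) := by
      have h2 := (adj_smul_iff q P R).2 hPR
      rwa [hPfix q hq] at h2
    refine MulAction.mem_stabilizer_iff.2 ?_
    rw [hK, smul_clique, hPfix q hq]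
    ext V
    rw [mem_clique hcard hqR, mem_clique hcard hPR]
    refine or_congr_right ⟨?_, ?_⟩
    · rintro ⟨r, hr, rfl⟩
      exact ⟨r * q, mul_mem hr hq, mul_smul _ _ _⟩
    · rintro ⟨r, hr, rfl⟩
      exact ⟨r * q⁻¹, mul_mem hr (inv_mem hq), by rw [mul_smul, inv_smul_smul]⟩
  have hXM : pairStab P R ≤ M := fun g hg => MulAction.mem_stabilizer_iff.2 (by
    rw [hK, smul_clique, (mem_pairStab.1 hg).1, (mem_pairStab.1 hg).2])
  -- the orbit of `P` is the clique
  have horb : MulAction.orbit M P = K := by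
    ext V
    constructor
    · rintro ⟨g, rfl⟩
      have h2 : (g : G) • P ∈ (g : G) • K := Set.smul_mem_smul_set (Or.inl rfl)
      rwa [MulAction.mem_stabilizer_iff.1 g.2] at h2
    · intro hV
      obtain ⟨g, hg1, hg2⟩ := exists_smul_edge hcard hPR hPR.symm
      have hgM : g ∈ M := MulAction.mem_stabilizer_iff.2 (by
        rw [hK, smul_clique, hg1, hg2, clique_comm])
      rcases (mem_clique hcard hPR V).1 hV with rfl | ⟨q, hq, rfl⟩
      · exact ⟨1, one_smul _ _⟩
      · exact ⟨⟨q * g, mul_mem (hPM hq) hgM⟩, by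
          change (q * g) • P = q • R
          rw [mul_smul, hg1]⟩
  have hK10 : Nat.card (MulAction.orbit M P) = 10 := by
    rw [horb, Nat.card_eq_fintype_card, ← Set.toFinset_card]
    have e : K.toFinset = insert P ((Finset.univ : Finset (P : Subgroup G)).image
        fun q : (P : Subgroup G) => (q : G) • R) := by
      ext V
      simp only [Set.mem_toFinset, Finset.mem_insert, Finset.mem_image, Finset.mem_univ, true_and,
        hK, mem_clique hcard hPR]
      exact or_congr_right ⟨fun ⟨q, hq, e⟩ => ⟨⟨q, hq⟩, e⟩, fun ⟨q, e⟩ => ⟨q, q.2, e⟩⟩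
    rw [e, Finset.card_insert_of_notMem, Finset.card_image_of_injective _ fun a b e =>
        Subtype.ext (eq_of_smul_smul hcard a.2 b.2 hPR.1 e), Finset.card_univ,
      ← Nat.card_eq_fintype_card, hPc]
    intro hm
    obtain ⟨q, -, e'⟩ := Finset.mem_image.1 hm
    exact hPR.1 (smul_left_cancel (q : G) (by rw [hPfix q q.2, e']))
  set N := M ⊓ MulAction.stabilizer G P
  have hNcard : Nat.card N = 72 := by
    have h144 : Nat.card N ∣ 144 := card_stabilizer hcard P ▸ Subgroup.card_dvd_of_le inf_le_right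
    have hP9 : 9 ∣ Nat.card N := hPc ▸ Subgroup.card_dvd_of_le
      (le_inf hPM fun q hq => MulAction.mem_stabilizer_iff.2 (hPfix q hq))
    have hX8 : 8 ∣ Nat.card N := hPR.2 ▸ Subgroup.card_dvd_of_le (le_inf hXM inf_le_left)
    have h72 : 72 ∣ Nat.card N := Nat.Coprime.mul_dvd_of_dvd_of_dvd (by norm_num : Nat.Coprime 9 8) hP9 hX8
    have hne : Nat.card N ≠ 144 := by
      intro h
      have hle : MulAction.stabilizer G P ≤ M := by
        have e : N = MulAction.stabilizer G P :=
          Subgroup.eq_of_le_of_card_ge inf_le_right (by rw [h, card_stabilizer hcard P])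
        exact e ▸ inf_le_left
      obtain ⟨R', z, hT⟩ := hPR.exists_triple' hcard
      obtain ⟨g, hgP, hgR⟩ := hT.swap
      have hgM := MulAction.mem_stabilizer_iff.1 (hle (MulAction.mem_stabilizer_iff.2 hgP))
      have h2 : g • R ∈ g • K := Set.smul_mem_smul_set (Or.inr (Or.inl rfl))
      rw [hgM, hgR, hK, mem_clique hcard hPR] at h2
      obtain ⟨-, hdisj, -⟩ := hT.adj_iff hcard
      rcases h2 with e | ⟨q, hq, e⟩
      · exact hT.ne' e.symm
      · exact hdisj q hq 1 (one_mem _) (by rw [one_smul]; exact e)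
    obtain ⟨k, hk⟩ := h72
    have := Nat.le_of_dvd (by norm_num) h144
    have : 0 < Nat.card N := Nat.card_pos
    omega
  refine ⟨M, ?_⟩
  have h1 := Nat.card_congr (MulAction.orbitProdStabilizerEquivGroup M P)
  rw [Nat.card_prod, hK10] at h1
  have e : (MulAction.stabilizer M P).map M.subtype = N := by
    ext g
    rw [Subgroup.mem_map]
    refine ⟨?_, fun h => ⟨⟨g, h.1⟩, h.2, rfl⟩⟩
    rintro ⟨a, ha, rfl⟩
    exact ⟨a.2, ha⟩
  rw [← Subgroup.card_map_of_injective (K := MulAction.stabilizer M P)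
    (Subgroup.subtype_injective M), e, hNcard] at h1
  have h2 := M.index_mul_card
  rw [← h1, hcard] at h2
  omega

end CfsgLib.Recog.OrderM11
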