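import Cfsg.Agent.Lib.Recog.OrderM11Three

/-!
# Simple groups of order 7920: pairs of Sylow 3-subgroups

Two Sylow 3-normalizers meet in a group of order 4 or 8. The second case is described through the
involutions inverting a Sylow 3-subgroup.
-/

set_option autoImplicit false
set_option linter.unusedSectionVars false

namespace CfsgLib.Recog.OrderM11

open Cfsg CfsgLib.Char
open scoped _root_.Classical Pointwise

universe u

variable {G : Type u} [Group G]

/-- `z` inverts the subgroup `P`. -/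
def Inverts (z : G) (P : Subgroup G) : Prop := ∀ q ∈ P, z * q * z⁻¹ = q⁻¹

/-- The common normalizer of two Sylow 3-subgroups. -/
def pairStab (P R : Sylow 3 G) : Subgroup G :=
  MulAction.stabilizer G P ⊓ MulAction.stabilizer G R

theorem mem_pairStab {P R : Sylow 3 G} {g : G} : g ∈ pairStab P R ↔ g • P = P ∧ g • R = R := by
  simp [pairStab, MulAction.mem_stabilizer_iff]

theorem pairStab_comm (P R : Sylow 3 G) : pairStab P R = pairStab R P := inf_comm _ _

/-- Adjacency in the graph on Sylow 3-subgroups. -/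
def Adj (P R : Sylow 3 G) : Prop := P ≠ R ∧ Nat.card (pairStab P R) = 8

theorem Adj.symm {P R : Sylow 3 G} (h : Adj P R) : Adj R P :=
  ⟨h.1.symm, by rw [pairStab_comm]; exact h.2⟩

theorem adj_smul_iff [Finite G] (g : G) (P R : Sylow 3 G) : Adj (g • P) (g • R) ↔ Adj P R := by
  have h : pairStab (g • P) (g • R) = (pairStab P R).map (MulAut.conj g).toMonoidHom := by
    ext x
    rw [Subgroup.mem_map_equiv, mem_pairStab, mem_pairStab]
    simp only [MulAut.conj_symm_apply, mul_smul, inv_smul_eq_iff]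
  simp only [Adj, ne_eq, smul_left_cancel_iff, h]
  rw [Subgroup.card_map_of_injective (f := (MulAut.conj g).toMonoidHom) (MulAut.conj g).injective]

/-- The first factor of a product normalizing. -/
theorem smul_eq_iff_forall [Finite G] {P : Sylow 3 G} {g : G} :
    g • P = P ↔ ∀ q, q ∈ (P : Subgroup G) ↔ g * q * g⁻¹ ∈ (P : Subgroup G) := by
  rw [Sylow.smul_eq_iff_mem_normalizer]
  exact Subgroup.mem_normalizer_iff

theorem eq_of_mem_smul [Finite G] {P R : Sylow 3 G} {q : G} (hq : q ∈ (P : Subgroup G))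
    (h : q • R = R) : q ∈ (R : Subgroup G) := by
  have h2 : q ∈ (P : Subgroup G) ⊓ Subgroup.normalizer ((R : Subgroup G) : Set G) :=
    ⟨hq, Sylow.smul_eq_iff_mem_normalizer.1 h⟩
  exact (P.2.inf_normalizer_sylow (Q := R) ▸ h2 : q ∈ (P : Subgroup G) ⊓ (R : Subgroup G)).2

variable [Finite G] [IsSimpleGroup G] (hcard : Nat.card G = 7920)
include hcard

theorem card_stabilizer (P : Sylow 3 G) : Nat.card (MulAction.stabilizer G P) = 144 := by
  rw [Sylow.stabilizer_eq_normalizer]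
  exact card_normalizer_three hcard P

theorem card_sylow : Nat.card (Sylow 3 G) = 55 := by
  obtain ⟨P⟩ := (inferInstance : Nonempty (Sylow 3 G))
  have h : Nat.card (Sylow 3 G) *
      Nat.card (Subgroup.normalizer ((P : Subgroup G) : Set G)) = 7920 := by
    rw [P.card_eq_index_normalizer]
    exact (Subgroup.index_mul_card _).trans hcard
  rw [card_normalizer_three hcard P] at h
  omega

/-- A central involution of a group of order at least 8 normalizing a Sylow 3-subgroup inverts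
it. -/
theorem inverts_of_central (P : Sylow 3 G) (T : Subgroup G)
    (hTN : T ≤ MulAction.stabilizer G P) (h4 : 4 < Nat.card T)
    (hT16 : Nat.card T ∣ 16) {s : G} (hsT : s ∈ T) (hs : orderOf s = 2)
    (hcomm : ∀ τ ∈ T, τ * s = s * τ) : Inverts s (P : Subgroup G) := by
  obtain ⟨hP, hab, hC⟩ := sylow_three hcard P
  have hTC : ∀ a ∈ T, a ∈ Subgroup.centralizer ((P : Subgroup G) : Set G) → a = 1 := by
    intro a ha ha'
    have h1 := (Subgroup.orderOf_dvd_natCard _ ha).trans hT16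
    have h2 := Subgroup.orderOf_dvd_natCard _ ha'
    rw [hC] at h2
    exact orderOf_eq_one_iff.1 (Nat.eq_one_of_dvd_one (Nat.dvd_gcd h1 h2))
  have hconj : ∀ τ ∈ T, ∀ q ∈ (P : Subgroup G), τ * q * τ⁻¹ ∈ (P : Subgroup G) :=
    fun τ hτ q hq => ((smul_eq_iff_forall.1 (MulAction.mem_stabilizer_iff.1 (hTN hτ))) q).1 hq
  have hss : s * s = 1 := by rw [← pow_two, ← hs]; exact pow_orderOf_eq_one _
  have hs1 : s ≠ 1 := fun h => by simp [h] at hs
  have hsinv : s⁻¹ = s := inv_eq_of_mul_eq_one_right hss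
  by_cases hfix : ∀ q ∈ (P : Subgroup G), s * q * s⁻¹ = q → q = 1
  · intro q hq
    have h := hfix (q * (s * q * s⁻¹)) (mul_mem hq (hconj s hsT q hq)) ?_
    · exact (inv_eq_of_mul_eq_one_right h).symm
    · rw [hab q hq _ (hconj s hsT q hq)]
      calc s * (s * q * s⁻¹ * q) * s⁻¹ = (s * s) * q * (s⁻¹ * q * s⁻¹) := by group
        _ = q * (s * q * s⁻¹) := by rw [hss, one_mul, hsinv]
        _ = _ := by rw [hab q hq _ (hconj s hsT q hq)]
  exfalso
  push Not at hfix
  obtain ⟨l, hl, hls, hl1⟩ := hfix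
  set L := (P : Subgroup G) ⊓ Subgroup.centralizer ({s} : Set G)
  have hlL : l ∈ L :=
    ⟨hl, Subgroup.mem_centralizer_singleton_iff.2 (mul_inv_eq_iff_eq_mul.1 hls).symm⟩
  obtain ⟨q₀, hq₀, hq₀'⟩ : ∃ q ∈ (P : Subgroup G), s * q * s⁻¹ ≠ q := by
    by_contra! h
    exact hs1 (hTC s hsT (Subgroup.mem_centralizer_iff.2 fun q hq =>
      (mul_inv_eq_iff_eq_mul.1 (h q hq)).symm))
  set M := inverted (P : Subgroup G) hab s
  set w := q₀⁻¹ * (s * q₀ * s⁻¹)
  have hwM : w ∈ M := by
    refine ⟨mul_mem (inv_mem hq₀) (hconj s hsT q₀ hq₀), ?_⟩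
    rw [mul_inv_rev, inv_inv,
      show s * (q₀⁻¹ * (s * q₀ * s⁻¹)) * s⁻¹ = (s * q₀⁻¹ * s⁻¹) * ((s * s) * q₀ * (s * s)⁻¹) by
        group, hss]
    group
  have hw1 : w ≠ 1 := fun h => hq₀' (inv_mul_eq_one.1 h).symm
  have card3 : ∀ H : Subgroup G, H ≤ (P : Subgroup G) → H ≠ (P : Subgroup G) →
      ∀ a ∈ H, a ≠ 1 → Nat.card H = 3 := by
    intro H hH hne a ha ha1
    have h := Subgroup.card_dvd_of_le hH
    rw [hP, show (9 : ℕ) = 3 ^ 2 by norm_num, Nat.dvd_prime_pow Nat.prime_three] at h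
    obtain ⟨k, hk, hk'⟩ := h
    interval_cases k
    · rw [pow_zero, Subgroup.card_eq_one] at hk'
      exact absurd (Subgroup.mem_bot.1 (hk' ▸ ha)) ha1
    · simpa using hk'
    · exact absurd (Subgroup.eq_of_le_of_card_ge hH (by rw [hk', hP]; norm_num)) hne
  have hodd : ∀ a ∈ (P : Subgroup G), a = a⁻¹ → a = 1 := by
    intro a ha h
    have h2 : orderOf a ∣ 2 := orderOf_dvd_of_pow_eq_one (by
      rw [pow_two]; nth_rewrite 2 [h]; exact mul_inv_cancel _)
    have h9 := Subgroup.orderOf_dvd_natCard _ ha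
    rw [hP] at h9
    exact orderOf_eq_one_iff.1 (Nat.eq_one_of_dvd_one (Nat.dvd_gcd h2 h9))
  have hL3 : Nat.card L = 3 := card3 L inf_le_left (fun h => hq₀' (by
    have h' : q₀ ∈ L := h.symm ▸ hq₀
    exact mul_inv_eq_iff_eq_mul.2 (Subgroup.mem_centralizer_singleton_iff.1 h'.2).symm)) l hlL hl1
  have hM3 : Nat.card M = 3 := card3 M (fun a ha => (mem_inverted.1 ha).1) (fun h => hl1 (by
    have h' : l ∈ M := h.symm ▸ hl
    exact hodd l hl (hls.symm.trans (mem_inverted.1 h').2))) w hwM hw1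
  have hgen : (P : Subgroup G) = Subgroup.closure {l, w} := by
    have hle : Subgroup.closure {l, w} ≤ (P : Subgroup G) :=
      (Subgroup.closure_le _).2 (Set.insert_subset hl (Set.singleton_subset_iff.2 hwM.1))
    refine (Subgroup.eq_of_le_of_card_ge hle ?_).symm
    by_contra hlt
    have h3 := card3 _ hle (fun h => hlt (by rw [h])) l (Subgroup.subset_closure (by simp)) hl1
    rcases eq_or_eq_inv_of_card_three h3 (Subgroup.subset_closure (by simp : w ∈ ({l, w} : Set G)))
      (Subgroup.subset_closure (by simp : l ∈ ({l, w} : Set G))) hw1 hl1 with h | h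
    · exact hw1 (hodd w hwM.1 (by rw [← hwM.2]; rw [h]; exact hls.symm))
    · exact hw1 (hodd w hwM.1 (by rw [← hwM.2]; rw [h, ← conj_inv, hls]))
  have himL : ∀ τ ∈ T, τ * l * τ⁻¹ = l ∨ τ * l * τ⁻¹ = l⁻¹ := by
    intro τ hτ
    refine eq_or_eq_inv_of_card_three hL3 ⟨hconj τ hτ l hl, ?_⟩ hlL
      (fun h => hl1 (conj_eq_one_iff.1 h)) hl1
    refine Subgroup.mem_centralizer_singleton_iff.2 ?_
    have h3 : Commute τ s := hcomm τ hτ
    have h2 : Commute l s := Subgroup.mem_centralizer_singleton_iff.1 hlL.2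
    exact ((h3.mul_left h2).mul_left h3.inv_left).eq
  have himM : ∀ τ ∈ T, τ * w * τ⁻¹ = w ∨ τ * w * τ⁻¹ = w⁻¹ := by
    intro τ hτ
    refine eq_or_eq_inv_of_card_three hM3 ⟨hconj τ hτ w hwM.1, ?_⟩ hwM
      (fun h => hw1 (conj_eq_one_iff.1 h)) hw1
    rw [show s * (τ * w * τ⁻¹) * s⁻¹ = (s * τ) * w * (s * τ)⁻¹ by group, ← hcomm τ hτ,
      show (τ * s) * w * (τ * s)⁻¹ = τ * (s * w * s⁻¹) * τ⁻¹ by group, hwM.2, ← conj_inv]
  let f : T → Bool × Bool := fun τ =>
    (decide ((τ : G) * l * (τ : G)⁻¹ = l), decide ((τ : G) * w * (τ : G)⁻¹ = w))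
  have hinj : Function.Injective f := by
    intro τ τ' h
    simp only [f, Prod.mk.injEq, decide_eq_decide] at h
    have hl' : (τ : G) * l * (τ : G)⁻¹ = (τ' : G) * l * (τ' : G)⁻¹ := by
      rcases himL τ τ.2 with e | e
      · rw [e, h.1.1 e]
      · rcases himL τ' τ'.2 with e' | e'
        · rw [e', h.1.2 e']
        · rw [e, e']
    have hw' : (τ : G) * w * (τ : G)⁻¹ = (τ' : G) * w * (τ' : G)⁻¹ := by
      rcases himM τ τ.2 with e | e
      · rw [e, h.2.1 e]
      · rcases himM τ' τ'.2 with e' | e'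
        · rw [e', h.2.2 e']
        · rw [e, e']
    have hr : ∀ a : G, (τ : G) * a * (τ : G)⁻¹ = (τ' : G) * a * (τ' : G)⁻¹ →
        a * ((τ' : G)⁻¹ * τ) = ((τ' : G)⁻¹ * τ) * a := fun a ha => by
      calc a * ((τ' : G)⁻¹ * τ) = (τ' : G)⁻¹ * ((τ' : G) * a * (τ' : G)⁻¹) * τ := by group
        _ = _ := by rw [← ha]; group
    have hc : (τ' : G)⁻¹ * τ ∈ Subgroup.centralizer ((P : Subgroup G) : Set G) := by
      rw [hgen, Subgroup.centralizer_closure, Subgroup.mem_centralizer_iff]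
      intro a ha
      rcases ha with e | e
      · rw [e]; exact hr l hl'
      · rw [Set.mem_singleton_iff] at e; rw [e]; exact hr w hw'
    exact Subtype.ext (inv_mul_eq_one.1 (hTC _ (mul_mem (inv_mem τ'.2) τ.2) hc)).symm
  have hle := Nat.card_le_card_of_injective f hinj
  have hb : Nat.card (Bool × Bool) = 4 := by simp
  omega

/-- A Sylow 2-subgroup of a Sylow 3-normalizer, with its inverting involution. -/
theorem exists_inverting_sylow (P : Sylow 3 G) :
    ∃ (S : Subgroup G) (z : G), Nat.card S = 16 ∧ S ≤ MulAction.stabilizer G P ∧ z ∈ S ∧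
      orderOf z = 2 ∧ (∀ τ ∈ S, τ * z = z * τ) ∧ Inverts z (P : Subgroup G) := by
  have : Fact (Nat.Prime 2) := ⟨by norm_num⟩
  obtain ⟨S₀, hS₀⟩ := Sylow.exists_subgroup_card_pow_prime (G := MulAction.stabilizer G P) 2 (n := 4)
    (by rw [card_stabilizer hcard P]; norm_num)
  set S := S₀.map (MulAction.stabilizer G P).subtype
  have hS : Nat.card S = 16 := by
    rw [Subgroup.card_map_of_injective (Subgroup.subtype_injective _), hS₀]; norm_num
  have hSp : IsPGroup 2 S := IsPGroup.of_card (n := 4) (by rw [hS]; norm_num)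
  have : Nontrivial S := Finite.one_lt_card_iff_nontrivial.1 (by rw [hS]; norm_num)
  have := hSp.center_nontrivial
  have hd : 2 ∣ Nat.card (Subgroup.center S) := by
    obtain ⟨k, hk, e⟩ := (hSp.to_subgroup (Subgroup.center S)).nontrivial_iff_card.1 inferInstance
    rw [e]; exact dvd_pow_self 2 hk.ne'
  obtain ⟨z, hz⟩ := exists_prime_orderOf_dvd_card' 2 hd
  rw [← Subgroup.orderOf_coe, ← Subgroup.orderOf_coe] at hz
  have hcomm : ∀ τ ∈ S, τ * ((z : S) : G) = ((z : S) : G) * τ := fun τ hτ =>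
    congrArg Subtype.val (Subgroup.mem_center_iff.1 z.2 ⟨τ, hτ⟩)
  exact ⟨S, _, hS, Subgroup.map_subtype_le _, (z : S).2, hz, hcomm,
    inverts_of_central hcard P S (Subgroup.map_subtype_le _) (by rw [hS]; norm_num)
      (by rw [hS]) (z : S).2 hz hcomm⟩

theorem card_centralizer_order_three {q : G} (hq : orderOf q = 3) :
    Nat.card (Subgroup.centralizer ({q} : Set G)) = 18 := by
  have : Fact (Nat.Prime 3) := ⟨by norm_num⟩
  obtain ⟨P, hP⟩ := (IsPGroup.of_card (p := 3) (n := 1) (G := Subgroup.zpowers q)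
    (by rw [Nat.card_zpowers, hq, pow_one])).exists_le_sylow
  have hqP : q ∈ (P : Subgroup G) := hP (Subgroup.mem_zpowers q)
  obtain ⟨hPc, hab, -⟩ := sylow_three hcard P
  obtain ⟨S, z, -, -, -, -, -, hz⟩ := exists_inverting_sylow hcard P
  refine card_centralizer_three hcard hq (isConj_iff.2 ⟨z, hz q hqP⟩) ?_
  rw [← hPc]
  exact Subgroup.card_dvd_of_le fun a ha =>
    Subgroup.mem_centralizer_singleton_iff.2 (hab a ha q hqP)

/-- Distinct Sylow 3-subgroups meet trivially. -/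
theorem eq_of_mem_both {P R : Sylow 3 G} {q : G} (hqP : q ∈ (P : Subgroup G))
    (hqR : q ∈ (R : Subgroup G)) (hq1 : q ≠ 1) : P = R := by
  have : Fact (Nat.Prime 3) := ⟨by norm_num⟩
  obtain ⟨hPc, habP, -⟩ := sylow_three hcard P
  obtain ⟨hRc, habR, -⟩ := sylow_three hcard R
  obtain ⟨q', hq', hq'P, hq'R⟩ : ∃ q', orderOf q' = 3 ∧ q' ∈ (P : Subgroup G) ∧
      q' ∈ (R : Subgroup G) := by
    have h3 : orderOf q = 3 ∨ orderOf q = 9 := by
      have h9 := Subgroup.orderOf_dvd_natCard _ hqP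
      rw [hPc, show (9 : ℕ) = 3 ^ 2 by norm_num, Nat.dvd_prime_pow Nat.prime_three] at h9
      obtain ⟨k, hk, hk'⟩ := h9
      interval_cases k
      · exact absurd (orderOf_eq_one_iff.1 (by simpa using hk')) hq1
      · exact Or.inl (by simpa using hk')
      · exact Or.inr (by simpa using hk')
    rcases h3 with h | h
    · exact ⟨q, h, hqP, hqR⟩
    · exact ⟨q ^ 3, by rw [orderOf_pow, h]; norm_num, pow_mem hqP 3, pow_mem hqR 3⟩
  have h18 := card_centralizer_order_three hcard hq'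
  have hAle : (P : Subgroup G) ≤ Subgroup.centralizer ({q'} : Set G) := fun a ha =>
    Subgroup.mem_centralizer_singleton_iff.2 (habP a ha q' hq'P)
  have hBle : (R : Subgroup G) ≤ Subgroup.centralizer ({q'} : Set G) := fun a ha =>
    Subgroup.mem_centralizer_singleton_iff.2 (habR a ha q' hq'R)
  have hidx2 : ((P : Subgroup G).subgroupOf (Subgroup.centralizer ({q'} : Set G))).index = 2 := by
    have := ((P : Subgroup G).subgroupOf (Subgroup.centralizer ({q'} : Set G))).card_mul_index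
    rw [Nat.card_congr (Subgroup.subgroupOfEquivOfLe hAle).toEquiv, hPc, h18] at this
    omega
  refine Sylow.ext (Subgroup.eq_of_le_of_card_ge (fun r hr => ?_) (by rw [hPc, hRc])).symm
  have h2 := Subgroup.sq_mem_of_index_two hidx2 ⟨r, hBle hr⟩
  rw [Subgroup.mem_subgroupOf, SubmonoidClass.coe_pow] at h2
  have h9 : r ^ 9 = 1 :=
    orderOf_dvd_iff_pow_eq_one.1 ((Subgroup.orderOf_dvd_natCard _ hr).trans (dvd_of_eq hRc))
  have := pow_mem h2 5
  rwa [← pow_mul, show 2 * 5 = 9 + 1 by norm_num, pow_add, h9, pow_one, one_mul] at this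

/-- A nontrivial element of a Sylow 3-subgroup fixes no other one. -/
theorem eq_one_of_smul {P R : Sylow 3 G} {q : G} (hq : q ∈ (P : Subgroup G)) (hne : P ≠ R)
    (h : q • R = R) : q = 1 := by
  by_contra h1
  exact hne (eq_of_mem_both hcard hq (eq_of_mem_smul hq h) h1)

theorem eq_of_smul_smul {P R : Sylow 3 G} {q q' : G} (hq : q ∈ (P : Subgroup G))
    (hq' : q' ∈ (P : Subgroup G)) (hne : P ≠ R) (h : q • R = q' • R) : q = q' :=
  (inv_mul_eq_one.1 (eq_one_of_smul hcard (mul_mem (inv_mem hq') hq) hne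
    (by rw [mul_smul, h, inv_smul_smul]))).symm

theorem card_pairStab_dvd {P R : Sylow 3 G} (hne : P ≠ R) : Nat.card (pairStab P R) ∣ 16 := by
  have : Fact (Nat.Prime 3) := ⟨by norm_num⟩
  refine Nat.Coprime.dvd_of_dvd_mul_right (n := 9) ?_
    ((Subgroup.card_dvd_of_le inf_le_left).trans
      (dvd_of_eq ((card_stabilizer hcard P).trans (by norm_num : (144 : ℕ) = 16 * 9))))
  rw [show (9 : ℕ) = 3 ^ 2 by norm_num]
  refine Nat.Coprime.pow_right _ (Nat.Coprime.symm ((Nat.Prime.coprime_iff_not_dvd Nat.prime_three).2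
    fun hd => ?_))
  obtain ⟨⟨q, hq'⟩, hq⟩ := exists_prime_orderOf_dvd_card' 3 hd
  rw [Subgroup.orderOf_mk] at hq
  obtain ⟨hqP, hqR⟩ := mem_pairStab.1 hq'
  obtain ⟨Q, hQ⟩ := (IsPGroup.of_card (p := 3) (n := 1) (G := Subgroup.zpowers q)
    (by rw [Nat.card_zpowers, hq, pow_one])).exists_le_sylow
  have hq1 : q ≠ 1 := fun h => by simp [h] at hq
  have hqQ : q ∈ (Q : Subgroup G) := hQ (Subgroup.mem_zpowers q)
  have e1 : Q = P := by_contra fun h => hq1 (eq_one_of_smul hcard hqQ h hqP)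
  have e2 : Q = R := by_contra fun h => hq1 (eq_one_of_smul hcard hqQ h hqR)
  exact hne (e1.symm.trans e2)

/-- The orbit of `R` under the normalizer of `P`. -/
theorem card_orbit_mul (P R : Sylow 3 G) :
    Nat.card (MulAction.orbit (MulAction.stabilizer G P) R) * Nat.card (pairStab P R) = 144 := by
  have h1 := Nat.card_congr
    (MulAction.orbitProdStabilizerEquivGroup (MulAction.stabilizer G P) R)
  rw [Nat.card_prod, card_stabilizer hcard P] at h1
  have e : (MulAction.stabilizer (MulAction.stabilizer G P) R).map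
      (MulAction.stabilizer G P).subtype = pairStab P R := by
    ext g
    rw [Subgroup.mem_map, mem_pairStab]
    refine ⟨?_, fun h => ⟨⟨g, h.1⟩, h.2, rfl⟩⟩
    rintro ⟨a, ha, rfl⟩
    exact ⟨a.2, ha⟩
  rwa [← e, Subgroup.card_map_of_injective (Subgroup.subtype_injective _)]

/-- The three Sylow 3-subgroups inverted by an involution. -/
theorem inverted_orbit {P R : Sylow 3 G} {z : G} (hz : orderOf z = 2)
    (hP : Inverts z (P : Subgroup G)) (hR : Inverts z (R : Subgroup G)) :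
    ∃ c ∈ Subgroup.centralizer ({z} : Set G), c • P = R := by
  have : Fact (Nat.Prime 3) := ⟨by norm_num⟩
  obtain ⟨hPc, hab, hC⟩ := sylow_three hcard P
  obtain ⟨g, rfl⟩ := MulAction.exists_smul_eq G P R
  have hgz : Inverts (g⁻¹ * z * g) (P : Subgroup G) := by
    intro q hq
    have hgq : g * q * g⁻¹ ∈ ((g • P : Sylow 3 G) : Subgroup G) := by
      rw [Sylow.coe_subgroup_smul, Subgroup.mem_pointwise_smul_iff_inv_smul_mem]
      simpa [MulAut.smul_def, mul_assoc] using hq
    have h := hR _ hgq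
    calc g⁻¹ * z * g * q * (g⁻¹ * z * g)⁻¹ = g⁻¹ * (z * (g * q * g⁻¹) * z⁻¹) * g := by group
      _ = q⁻¹ := by rw [h]; group
  set d := z⁻¹ * (g⁻¹ * z * g)
  have hd : d ∈ Subgroup.centralizer ((P : Subgroup G) : Set G) := by
    refine Subgroup.mem_centralizer_iff.2 fun q hq => ?_
    have h3 : z⁻¹ * (g⁻¹ * z * g) * q * (z⁻¹ * (g⁻¹ * z * g))⁻¹ = q := by
      calc z⁻¹ * (g⁻¹ * z * g) * q * (z⁻¹ * (g⁻¹ * z * g))⁻¹
          = z⁻¹ * ((g⁻¹ * z * g) * q * (g⁻¹ * z * g)⁻¹) * z := by group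
        _ = z⁻¹ * (z * q * z⁻¹) * z := by rw [hgz q hq, hP q hq]
        _ = q := by group
    exact (mul_inv_eq_iff_eq_mul.1 h3).symm
  have hdP : d ∈ (P : Subgroup G) := by
    have hle : (P : Subgroup G) ≤ Subgroup.centralizer ((P : Subgroup G) : Set G) := fun a ha =>
      Subgroup.mem_centralizer_iff.2 fun b hb => (hab a ha b hb).symm
    rw [Subgroup.eq_of_le_of_card_ge hle (by rw [hC, hPc])]
    exact hd
  -- a square root of `d`
  set r := d ^ 5
  have hd9 : d ^ 9 = 1 :=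
    orderOf_dvd_iff_pow_eq_one.1 ((Subgroup.orderOf_dvd_natCard _ hdP).trans (dvd_of_eq hPc))
  have hr2 : r * r = d := by
    rw [← pow_add, show 5 + 5 = 9 + 1 by norm_num, pow_add, hd9, pow_one, one_mul]
  have hrP : r ∈ (P : Subgroup G) := pow_mem hdP 5
  refine ⟨g * r⁻¹, Subgroup.mem_centralizer_singleton_iff.2 ?_, ?_⟩
  · have h1 : r⁻¹ * z * r = g⁻¹ * z * g := by
      calc r⁻¹ * z * r = z * (z⁻¹ * r⁻¹ * z) * r := by group
        _ = z * (r * r) := by
          rw [show z⁻¹ = z from inv_eq_of_mul_eq_one_right (by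
              rw [← pow_two, ← hz]; exact pow_orderOf_eq_one _),
            show z * r⁻¹ * z = z * r⁻¹ * z⁻¹ by
              rw [show z⁻¹ = z from inv_eq_of_mul_eq_one_right (by
                rw [← pow_two, ← hz]; exact pow_orderOf_eq_one _)],
            hP _ (inv_mem hrP), inv_inv, mul_assoc]
        _ = g⁻¹ * z * g := by rw [hr2]; simp only [d]; group
    calc g * r⁻¹ * z = g * (r⁻¹ * z * r) * r⁻¹ := by group
      _ = z * (g * r⁻¹) := by rw [h1]; group
  · rw [mul_smul, Sylow.smul_eq_iff_mem_normalizer.2 (Subgroup.le_normalizer (inv_mem hrP))]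

end CfsgLib.Recog.OrderM11
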