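import Cfsg.Agent.Lib.Recog.OrderM11Triple

/-!
# Simple groups of order 7920: the point stabilizer of a triple acts semiregularly
-/


set_option autoImplicit false
set_option linter.unusedSectionVars false

namespace CfsgLib.Recog.OrderM11

open Cfsg CfsgLib.Char
open scoped _root_.Classical Pointwise

universe u

variable {G : Type u} [Group G] [Finite G] [IsSimpleGroup G] (hcard : Nat.card G = 7920)
include hcard

/-- A nontrivial element of the common normalizer centralizes no nontrivial element of `P`. -/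
theorem Triple.semiregular {P R R' : Sylow 3 G} {z : G} (h : Triple P R R' z) {g q : G}
    (hg : g ∈ pairStab P R) (hg1 : g ≠ 1) (hq : q ∈ (P : Subgroup G))
    (hc : g * q = q * g) : q = 1 := by
  obtain ⟨hPc, hab, -⟩ := sylow_three hcard P
  set X := pairStab P R with hX
  obtain ⟨c, hc3, hcz, hcN⟩ := h.cycle
  have hz1 : z ≠ 1 := fun e => by simpa [e] using h.inv
  have h16 : Nat.card X ∣ 16 := ⟨2, by rw [h.card]⟩
  have hfix := (fixed_by_three hcard h16 hc3 hcN h.mem hz1 hcz).2
  have hzcomm : ∀ τ ∈ X, τ * z = z * τ := fun τ hτ =>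
    Subgroup.mem_centralizer_singleton_iff.1 (h.central hτ)
  have hzz : z * z = 1 := by rw [← pow_two, ← h.inv]; exact pow_orderOf_eq_one _
  have hcc : ∀ t, t ∈ X → c * t * c⁻¹ ∈ X := fun t ht => (Subgroup.mem_normalizer_iff.1 hcN t).1 ht
  have hzX := h.mem
  have honly : ∀ t ∈ X, t * t = 1 → t = 1 ∨ t = z := by
    intro t ht htt
    by_contra! hcon
    obtain ⟨ht1, htz⟩ := hcon
    have hc3' : c ^ 3 = 1 := by rw [← hc3]; exact pow_orderOf_eq_one _
    have hmz : ∀ a ∈ X, a * a = 1 → a * z * (a * z) = 1 := fun a ha haa => by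
      rw [mul_assoc, ← mul_assoc z, ← hzcomm a ha, mul_assoc, hzz, mul_one, haa]
    -- the involutions of `X` other than `z`
    let I : Type u := {a : G // a ∈ X ∧ a * a = 1 ∧ a ≠ 1 ∧ a ≠ z}
    have := Fintype.ofFinite I
    have hI3 : 3 ∣ Fintype.card I := by
      have : Fact (Nat.Prime 3) := ⟨by norm_num⟩
      have hmap : ∀ a : G, (a ∈ X ∧ a * a = 1 ∧ a ≠ 1 ∧ a ≠ z) ↔
          (c * a * c⁻¹ ∈ X ∧ (c * a * c⁻¹) * (c * a * c⁻¹) = 1 ∧ c * a * c⁻¹ ≠ 1 ∧
            c * a * c⁻¹ ≠ z) := fun a => by
        have e1 : c * a * c⁻¹ * (c * a * c⁻¹) = c * (a * a) * c⁻¹ := by group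
        have e2 : c * a * c⁻¹ = z ↔ a = z := by
          rw [mul_inv_eq_iff_eq_mul, ← hcz, mul_right_inj]
        simp only [e1, conj_eq_one_iff, ne_eq, e2]
        exact and_congr_left' (Subgroup.mem_normalizer_iff.1 hcN a)
      let σ : Equiv.Perm I := (MulAut.conj c).toEquiv.subtypeEquiv hmap
      have hσ : ∀ a : I, ((σ a : I) : G) = c * a * c⁻¹ := fun a => rfl
      let σe : Function.End I := ⇑σ
      have h3e : σe ^ 3 ^ 1 = 1 := by
        refine funext fun a => Subtype.ext ?_
        change ((σ (σ (σ a)) : I) : G) = a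
        rw [hσ, hσ, hσ, show c * (c * (c * (a : G) * c⁻¹) * c⁻¹) * c⁻¹ =
          c ^ 3 * a * (c ^ 3)⁻¹ by simp [pow_succ, mul_assoc], hc3', one_mul, inv_one, mul_one]
      have hfin : Fintype.card (Function.fixedPoints σ) = 0 := by
        rw [Fintype.card_eq_zero_iff]
        refine ⟨fun a => ?_⟩
        have e : c * ((a : I) : G) * c⁻¹ = ((a : I) : G) := by
          rw [← hσ]; exact congrArg Subtype.val (a.2 : σ a = a)
        rcases hfix _ (a : I).2.1 (mul_inv_eq_iff_eq_mul.1 e) with e' | e'
        · exact (a : I).2.2.2.1 e'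
        · exact (a : I).2.2.2.2 e'
      have hm := Equiv.Perm.card_fixedPoints_modEq (f := σe) (p := 3) (n := 1) h3e
      rw [hfin] at hm
      exact Nat.modEq_zero_iff_dvd.1 hm
    have hI2 : 2 ∣ Fintype.card I := by
      have : Fact (Nat.Prime 2) := ⟨Nat.prime_two⟩
      let f : I → I := fun a => ⟨(a : G) * z, mul_mem a.2.1 hzX, hmz _ a.2.1 a.2.2.1,
        fun e => a.2.2.2.2 (by
          have e' := congrArg (· * z) e
          simpa [mul_assoc, hzz] using e'),
        fun e => a.2.2.2.1 (mul_eq_right.1 e)⟩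
      have hf : Function.Involutive f := fun a => Subtype.ext (by
        change (a : G) * z * z = a
        rw [mul_assoc, hzz, mul_one])
      let σ : Equiv.Perm I := hf.toPerm f
      let σe : Function.End I := ⇑σ
      have h2 : σe ^ 2 ^ 1 = 1 := by
        refine funext fun a => ?_
        change f (f a) = a
        exact hf a
      have hfin : Fintype.card (Function.fixedPoints σ) = 0 := by
        rw [Fintype.card_eq_zero_iff]
        refine ⟨fun a => hz1 ?_⟩
        have e : ((a : I) : G) * z = ((a : I) : G) := congrArg Subtype.val (a.2 : σ a = a)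
        exact mul_eq_left.1 e
      have hm := Equiv.Perm.card_fixedPoints_modEq (f := σe) (p := 2) (n := 1) h2
      rw [hfin] at hm
      exact Nat.modEq_zero_iff_dvd.1 hm
    have := Fintype.ofFinite X
    have hI6 : Fintype.card I ≤ 6 ∧ 0 < Fintype.card I := by
      refine ⟨?_, Fintype.card_pos_iff.2 ⟨⟨t, ht, htt, ht1, htz⟩⟩⟩
      have hle : Fintype.card I ≤ ((Finset.univ.erase (1 : X)).erase ⟨z, hzX⟩).card := by
        rw [← Finset.card_univ]
        refine Finset.card_le_card_of_injOn (fun a => ⟨(a : G), a.2.1⟩) (fun a _ => ?_)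
          fun a _ b _ e => Subtype.ext (congrArg (fun v : X => (v : G)) e)
        simp [Subtype.ext_iff, a.2.2.2.1, a.2.2.2.2]
      rw [Finset.card_erase_of_mem (Finset.mem_erase.2 ⟨fun e => hz1 (congrArg Subtype.val e),
          Finset.mem_univ _⟩), Finset.card_erase_of_mem (Finset.mem_univ _), Finset.card_univ,
        ← Nat.card_eq_fintype_card (α := X), h.card] at hle
      exact hle
    have hI : Fintype.card I = 6 := by omega
    have hall : ∀ s ∈ X, s * s = 1 := by
      intro s hs
      by_contra hss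
      have hle : Fintype.card I ≤
          (((Finset.univ.erase (1 : X)).erase ⟨z, hzX⟩).erase ⟨s, hs⟩).card := by
        rw [← Finset.card_univ]
        refine Finset.card_le_card_of_injOn (fun a => ⟨(a : G), a.2.1⟩) (fun a _ => ?_)
          fun a _ b _ e => Subtype.ext (congrArg (fun v : X => (v : G)) e)
        have hne : (a : G) ≠ s := fun e => hss (e ▸ a.2.2.1)
        simp [Subtype.ext_iff, a.2.2.2.1, a.2.2.2.2, hne]
      rw [Finset.card_erase_of_mem (Finset.mem_erase.2
          ⟨fun e => hss (by rw [show s = z from congrArg Subtype.val e]; exact hzz),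
            Finset.mem_erase.2 ⟨fun e => hss (by
              rw [show s = 1 from congrArg Subtype.val e, one_mul]), Finset.mem_univ _⟩⟩),
        Finset.card_erase_of_mem (Finset.mem_erase.2 ⟨fun e => hz1 (congrArg Subtype.val e),
          Finset.mem_univ _⟩), Finset.card_erase_of_mem (Finset.mem_univ _), Finset.card_univ,
        ← Nat.card_eq_fintype_card (α := X), h.card, hI] at hle
      norm_num at hle
    -- then all involutions invert `P`
    have hsinv : ∀ s ∈ X, s ≠ 1 → Inverts s (P : Subgroup G) := fun s hs hs1 =>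
      inverts_of_central hcard P X inf_le_left (by rw [h.card]; norm_num) h16 hs
        (orderOf_eq_prime (by rw [pow_two]; exact hall s hs) hs1) fun τ hτ => by
          have h1 := hall _ (mul_mem hτ hs)
          calc τ * s = (τ * τ) * (s * τ) * (s * s) := by
                have e2 : τ * s = (τ * s)⁻¹ := eq_inv_of_mul_eq_one_left h1
                rw [hall τ hτ, hall s hs, one_mul, mul_one, e2, mul_inv_rev,
                  inv_eq_of_mul_eq_one_right (hall s hs), inv_eq_of_mul_eq_one_right (hall τ hτ)]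
            _ = s * τ := by rw [hall τ hτ, hall s hs, one_mul, mul_one]
    exact htz (inverts_unique hcard P h16 ht h.mem (hsinv t ht ht1) h.invP)
  -- some power of `g` is `z`
  have : Fact (Nat.Prime 2) := ⟨by norm_num⟩
  obtain ⟨j, -, hj⟩ := (Nat.dvd_prime_pow Nat.prime_two).1 (((Subgroup.orderOf_dvd_natCard _ hg).trans
    h16).trans (dvd_of_eq (by norm_num : (16 : ℕ) = 2 ^ 4)))
  rcases j with _ | j
  · exact absurd (orderOf_eq_one_iff.1 (by rw [hj, pow_zero])) hg1
  have hsq : g ^ 2 ^ j * g ^ 2 ^ j = 1 := by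
    rw [← pow_add, ← two_mul, ← pow_succ', ← hj, pow_orderOf_eq_one]
  have hne1 : g ^ 2 ^ j ≠ 1 := pow_ne_one_of_lt_orderOf (pow_ne_zero _ two_ne_zero)
    (hj ▸ Nat.pow_lt_pow_right one_lt_two j.lt_succ_self)
  have hgz : g ^ 2 ^ j = z := (honly _ (pow_mem hg _) hsq).resolve_left hne1
  have h1 : z * q = q * z := hgz ▸ ((show Commute g q from hc).pow_left _).eq
  have h2 := h.invP q hq
  rw [h1, mul_inv_cancel_right] at h2
  have h3 : orderOf q ∣ 2 := orderOf_dvd_of_pow_eq_one (by
    rw [pow_two]; nth_rewrite 2 [h2]; exact mul_inv_cancel _)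
  have h9 := Subgroup.orderOf_dvd_natCard _ hq
  rw [hPc] at h9
  exact orderOf_eq_one_iff.1 (Nat.eq_one_of_dvd_one (Nat.dvd_gcd h3 h9))

end CfsgLib.Recog.OrderM11
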