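import Cfsg.Agent.Lib.Recog.OrderM11Graph

/-!
# Simple groups of order 7920: the shape of the common neighbourhood of an edge
-/


set_option autoImplicit false
set_option linter.unusedSectionVars false

namespace CfsgLib.Recog.OrderM11

open Cfsg CfsgLib.Char
open scoped _root_.Classical Pointwise

universe u

variable {G : Type u} [Group G] [Finite G] [IsSimpleGroup G] (hcard : Nat.card G = 7920)
include hcard

/-- An edge lies in the triangles given by one orbit. -/
theorem Triple.shape {P R R' : Sylow 3 G} {z : G} (h : Triple P R R' z) {q : G}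
    (hq : q ∈ (P : Subgroup G)) (hq1 : q ≠ 1) : Adj R (q • R) ∧ ¬ Adj R (q • R') := by
  have : Fact (Nat.Prime 3) := ⟨by norm_num⟩
  have := Fintype.ofFinite (Sylow 3 G)
  have := Fintype.ofFinite (P : Subgroup G)
  obtain ⟨hadj, hdisj, htrans⟩ := h.adj_iff hcard
  obtain ⟨hPR, -, hRR'⟩ := h.adj hcard
  obtain ⟨hPc, -, -⟩ := sylow_three hcard P
  have huni : ∀ r ∈ (P : Subgroup G), r ≠ 1 →
      (Adj R (r • R) ↔ Adj R (q • R)) ∧ (Adj R (r • R') ↔ Adj R (q • R')) := by
    intro r hr hr1
    obtain ⟨g, hg, rfl⟩ := htrans q hq hq1 r hr hr1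
    have hgR := (mem_pairStab.1 hg).2
    constructor
    · rw [mul_smul, mul_smul, inv_smul_eq_iff.2 hgR.symm]
      nth_rewrite 1 [← hgR]
      exact adj_smul_iff g R _
    · rw [mul_smul, mul_smul, inv_smul_eq_iff.2 (h.fix g hg).symm]
      nth_rewrite 1 [← hgR]
      exact adj_smul_iff g R _
  have hqfix : ∀ r ∈ (P : Subgroup G), r • P = P := fun r hr =>
    Sylow.smul_eq_iff_mem_normalizer.2 (Subgroup.le_normalizer hr)
  -- the common neighbours of the edge
  set C := Finset.univ.filter fun V => Adj P V ∧ Adj R V with hC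
  have hCimg : C = insert R'
      ((if Adj R (q • R) then ((Finset.univ : Finset (P : Subgroup G)).erase 1).image
          (fun r : (P : Subgroup G) => (r : G) • R) else ∅) ∪
        (if Adj R (q • R') then ((Finset.univ : Finset (P : Subgroup G)).erase 1).image
          (fun r : (P : Subgroup G) => (r : G) • R') else ∅)) := by
    ext V
    simp only [hC, Finset.mem_filter, Finset.mem_univ, true_and, Finset.mem_insert,
      Finset.mem_union]
    constructor
    · rintro ⟨h1, h2⟩
      obtain ⟨r, hr, rfl | rfl⟩ := (hadj V).1 h1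
      · have hr1 : r ≠ 1 := fun e => h2.1 (by rw [e, one_smul])
        refine Or.inr (Or.inl ?_)
        rw [if_pos ((huni r hr hr1).1.1 h2)]
        exact Finset.mem_image.2 ⟨⟨r, hr⟩,
          Finset.mem_erase.2 ⟨fun e => hr1 (congrArg Subtype.val e), Finset.mem_univ _⟩, rfl⟩
      · by_cases hr1 : r = 1
        · exact Or.inl (by rw [hr1, one_smul])
        refine Or.inr (Or.inr ?_)
        rw [if_pos ((huni r hr hr1).2.1 h2)]
        exact Finset.mem_image.2 ⟨⟨r, hr⟩,
          Finset.mem_erase.2 ⟨fun e => hr1 (congrArg Subtype.val e), Finset.mem_univ _⟩, rfl⟩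
    · rintro (rfl | hV | hV)
      · exact ⟨(hadj _).2 ⟨1, one_mem _, Or.inr (one_smul G _)⟩, hRR'⟩
      · by_cases ha : Adj R (q • R)
        · rw [if_pos ha] at hV
          obtain ⟨r, hr, rfl⟩ := Finset.mem_image.1 hV
          exact ⟨(hadj _).2 ⟨r, r.2, Or.inl rfl⟩,
            (huni r r.2 fun e => (Finset.mem_erase.1 hr).1 (Subtype.ext e)).1.2 ha⟩
        · rw [if_neg ha] at hV
          exact absurd hV (Finset.notMem_empty _)
      · by_cases hb : Adj R (q • R')
        · rw [if_pos hb] at hV
          obtain ⟨r, hr, rfl⟩ := Finset.mem_image.1 hV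
          exact ⟨(hadj _).2 ⟨r, r.2, Or.inr rfl⟩,
            (huni r r.2 fun e => (Finset.mem_erase.1 hr).1 (Subtype.ext e)).2.2 hb⟩
        · rw [if_neg hb] at hV
          exact absurd hV (Finset.notMem_empty _)
  have hlam : ∀ U W : Sylow 3 G, Adj U W →
      (Finset.univ.filter fun V => Adj U V ∧ Adj W V).card = C.card := by
    intro U W hUW
    obtain ⟨g, rfl, rfl⟩ := exists_smul_edge hcard hPR hUW
    exact card_common_smul hcard g P R
  have hmu : ∀ U W U' W' : Sylow 3 G, U ≠ W → ¬ Adj U W → U' ≠ W' → ¬ Adj U' W' →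
      (Finset.univ.filter fun V => Adj U V ∧ Adj W V).card =
        (Finset.univ.filter fun V => Adj U' V ∧ Adj W' V).card := by
    intro U W U' W' h1 h2 h3 h4
    obtain ⟨g, hg⟩ := MulAction.exists_smul_eq G U U'
    have h1' : U' ≠ g • W := fun e => h1 (smul_left_cancel g (hg.trans e))
    have h2' : ¬ Adj U' (g • W) := by rw [← hg, adj_smul_iff]; exact h2
    obtain ⟨k, hk1, hk2⟩ := exists_smul_nonadj hcard h1' h2' h3 h4
    rw [← card_common_smul hcard g U W, hg, ← card_common_smul hcard k U' (g • W), hk1, hk2]
  by_cases ha : Adj R (q • R) <;> by_cases hb : Adj R (q • R')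
  · -- the closed neighbourhoods of adjacent vertices coincide
    exfalso
    have hsame : ∀ U W : Sylow 3 G, Adj U W → ∀ V, Adj U V → V ≠ W → Adj W V := by
      intro U W hUW V hV hVW
      obtain ⟨g, rfl, rfl⟩ := exists_smul_edge hcard hPR hUW
      have hV' : Adj P (g⁻¹ • V) := (adj_smul_iff g P _).1 (by rwa [smul_inv_smul])
      have key : Adj R (g⁻¹ • V) := by
        obtain ⟨r, hr, e | e⟩ := (hadj _).1 hV'
        · rw [← e]
          refine (huni r hr fun e1 => hVW ?_).1.2 ha
          rw [e1, one_smul] at e
          rw [e, smul_inv_smul]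
        · rw [← e]
          by_cases hr1 : r = 1
          · rw [hr1, one_smul]; exact hRR'
          · exact (huni r hr hr1).2.2 hb
      have h2 := (adj_smul_iff g R (g⁻¹ • V)).2 key
      rwa [smul_inv_smul] at h2
    set W : Set (Sylow 3 G) := {V | V = P ∨ Adj P V}
    have hW : ∀ g : G, g • P ∈ W → g ∈ MulAction.stabilizer G W := by
      intro g hg
      have himg : ∀ V, V ∈ W ↔ V = g • P ∨ Adj (g • P) V := by
        intro V
        rcases hg with e | e
        · rw [e]; rfl
        · constructor
          · rintro (rfl | h1)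
            · exact Or.inr e.symm
            · by_cases h2 : V = g • P
              · exact Or.inl h2
              · exact Or.inr (hsame P _ e V h1 h2)
          · rintro (rfl | h1)
            · exact Or.inr e
            · by_cases h2 : V = P
              · exact Or.inl h2
              · exact Or.inr (hsame _ P e.symm V h1 h2)
      refine MulAction.mem_stabilizer_iff.2 (Set.ext fun V => ?_)
      rw [Set.mem_smul_set_iff_inv_smul_mem, himg V]
      change g⁻¹ • V = P ∨ Adj P (g⁻¹ • V) ↔ _
      rw [inv_smul_eq_iff, ← adj_smul_iff g P (g⁻¹ • V), smul_inv_smul]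
    set S := MulAction.stabilizer G W
    have horb : MulAction.orbit S P = W := by
      ext V
      constructor
      · rintro ⟨g, rfl⟩
        have h2 : (g : G) • P ∈ (g : G) • W := Set.smul_mem_smul_set (Or.inl rfl)
        rwa [MulAction.mem_stabilizer_iff.1 g.2] at h2
      · intro hV
        obtain ⟨g, rfl⟩ := MulAction.exists_smul_eq G P V
        exact ⟨⟨g, hW g hV⟩, rfl⟩
    have h19 : Nat.card (MulAction.orbit S P) = 19 := by
      rw [horb, Nat.card_eq_fintype_card, ← Set.toFinset_card]
      have e : W.toFinset = insert P (Finset.univ.filter fun V => Adj P V) := by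
        ext V; simp [W]
      rw [e, Finset.card_insert_of_notMem (fun h1 => (Finset.mem_filter.1 h1).2.1 rfl),
        ← Fintype.card_subtype, ← Nat.card_eq_fintype_card, card_adj hcard P]
    have h1 := Nat.card_congr (MulAction.orbitProdStabilizerEquivGroup S P)
    rw [Nat.card_prod, h19] at h1
    have h2 := (Dvd.intro _ h1).trans (Subgroup.card_subgroup_dvd_card S)
    rw [hcard] at h2
    norm_num at h2
  · exact ⟨ha, hb⟩
  · -- two non-adjacent vertices with ten common neighbours
    exfalso
    have hC9 : C.card = 9 := by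
      rw [hCimg, if_neg ha, if_pos hb, Finset.empty_union, Finset.card_insert_of_notMem,
        Finset.card_image_of_injective _ fun a b e =>
          Subtype.ext (eq_of_smul_smul hcard a.2 b.2 h.ne' e),
        Finset.card_erase_of_mem (Finset.mem_univ _), Finset.card_univ, ← Nat.card_eq_fintype_card,
        hPc]
      intro hm
      obtain ⟨r, hr, e⟩ := Finset.mem_image.1 hm
      exact (Finset.mem_erase.1 hr).1 (Subtype.ext (eq_one_of_smul hcard r.2 h.ne' e))
    have hne : R ≠ q • R := fun e => hq1 (eq_one_of_smul hcard hq h.ne e.symm)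
    have hcount := count_paths hcard R (l := 9)
      (fun U hU => (hlam R U hU).trans hC9)
      (m := (Finset.univ.filter fun V => Adj R V ∧ Adj (q • R) V).card)
      (fun U h1 h2 => hmu R U R (q • R) h1 h2 hne ha)
    have hb1 : ∀ r ∈ (P : Subgroup G), Adj R (r • R') := by
      intro r hr
      by_cases hr1 : r = 1
      · rw [hr1, one_smul]; exact hRR'
      · exact (huni r hr hr1).2.2 hb
    have hsub : insert P ((Finset.univ : Finset (P : Subgroup G)).image
        fun r : (P : Subgroup G) => (r : G) • R') ⊆
        Finset.univ.filter fun V => Adj R V ∧ Adj (q • R) V := by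
      intro V hV
      refine Finset.mem_filter.2 ⟨Finset.mem_univ _, ?_⟩
      rcases Finset.mem_insert.1 hV with rfl | hV
      · refine ⟨hPR.symm, ?_⟩
        have h2 := (adj_smul_iff q R _).2 hPR.symm
        rwa [hqfix q hq] at h2
      · obtain ⟨r, -, rfl⟩ := Finset.mem_image.1 hV
        refine ⟨hb1 r r.2, ?_⟩
        have h2 := (adj_smul_iff q R _).2 (hb1 (q⁻¹ * r) (mul_mem (inv_mem hq) r.2))
        rwa [mul_smul, smul_inv_smul] at h2
    have h10 := Finset.card_le_card hsub
    rw [Finset.card_insert_of_notMem, Finset.card_image_of_injective _ fun a b e =>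
        Subtype.ext (eq_of_smul_smul hcard a.2 b.2 h.ne' e), Finset.card_univ,
      ← Nat.card_eq_fintype_card, hPc] at h10
    · omega
    · intro hm
      obtain ⟨r, -, e⟩ := Finset.mem_image.1 hm
      exact h.ne' (smul_left_cancel (r : G) (by rw [hqfix r r.2, e]))
  · -- parameters (55, 18, 1, 8)
    exfalso
    have hC1 : C.card = 1 := by
      rw [hCimg, if_neg ha, if_neg hb, Finset.empty_union]
      rfl
    refine not_one_eight hcard (fun U W hUW => (hlam U W hUW).trans hC1) fun U W hUW hUW' => ?_
    have hne : R ≠ q • R := fun e => hq1 (eq_one_of_smul hcard hq h.ne e.symm)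
    have hcount := count_paths hcard R (l := 1) (fun V hV => (hlam R V hV).trans hC1)
      (m := (Finset.univ.filter fun V => Adj R V ∧ Adj (q • R) V).card)
      (fun V h1 h2 => hmu R V R (q • R) h1 h2 hne ha)
    rw [hmu U W R (q • R) hUW hUW' hne ha]
    omega

end CfsgLib.Recog.OrderM11
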