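import Cfsg.Agent.Lib.Recog.OrderM11Local
import Cfsg.Agent.Lib.Transfer.SimpleCount

/-!
# Simple groups of order 7920: Sylow 3-normalizers
-/

set_option autoImplicit false
set_option linter.unusedSectionVars false

namespace CfsgLib.Recog.OrderM11

open Cfsg CfsgLib.Char
open scoped ComplexConjugate _root_.Classical

universe u

variable {G : Type u} [Group G]

/-- The elements of an abelian subgroup inverted by `τ`. -/
def inverted (P : Subgroup G) (hab : ∀ a ∈ P, ∀ b ∈ P, a * b = b * a) (τ : G) : Subgroup G where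
  carrier := {q | q ∈ P ∧ τ * q * τ⁻¹ = q⁻¹}
  one_mem' := ⟨one_mem P, by simp⟩
  mul_mem' := fun {a b} ⟨ha, ha'⟩ ⟨hb, hb'⟩ => ⟨mul_mem ha hb, by
    rw [show τ * (a * b) * τ⁻¹ = (τ * a * τ⁻¹) * (τ * b * τ⁻¹) by group, ha', hb', mul_inv_rev,
      hab _ (inv_mem ha) _ (inv_mem hb)]⟩
  inv_mem' := fun {a} ⟨ha, ha'⟩ => ⟨inv_mem ha, by rw [← conj_inv, ha']⟩

theorem mem_inverted {P : Subgroup G} {hab : ∀ a ∈ P, ∀ b ∈ P, a * b = b * a} {τ q : G} :
    q ∈ inverted P hab τ ↔ q ∈ P ∧ τ * q * τ⁻¹ = q⁻¹ := Iff.rfl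

theorem eq_or_eq_inv_of_card_three {H : Subgroup G} (hH : Nat.card H = 3) {a b : G} (ha : a ∈ H)
    (hb : b ∈ H) (ha1 : a ≠ 1) (hb1 : b ≠ 1) : a = b ∨ a = b⁻¹ := by
  have : Fact (Nat.Prime 3) := ⟨by norm_num⟩
  have : Finite H := Nat.finite_of_card_ne_zero (by rw [hH]; norm_num)
  have := Fintype.ofFinite H
  have hbb : (⟨b, hb⟩ : H) ≠ ⟨b, hb⟩⁻¹ := by
    intro h
    have h2 : orderOf (⟨b, hb⟩ : H) ∣ 2 := by
      refine orderOf_dvd_of_pow_eq_one ?_
      rw [pow_two]
      nth_rewrite 2 [h]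
      exact mul_inv_cancel _
    have h3 : orderOf (⟨b, hb⟩ : H) ∣ 3 := hH ▸ orderOf_dvd_natCard _
    have h1 : orderOf (⟨b, hb⟩ : H) = 1 := Nat.eq_one_of_dvd_one (Nat.dvd_gcd h2 h3)
    exact hb1 (congrArg Subtype.val (orderOf_eq_one_iff.1 h1))
  have huniv : (Finset.univ : Finset H) = {1, ⟨b, hb⟩, ⟨b, hb⟩⁻¹} := by
    refine (Finset.eq_univ_of_card _ ?_).symm
    rw [Finset.card_insert_of_notMem, Finset.card_pair hbb, ← Nat.card_eq_fintype_card, hH]
    simp only [Finset.mem_insert, Finset.mem_singleton, not_or]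
    exact ⟨fun h => hb1 (congrArg Subtype.val h).symm,
      fun h => hb1 (by simpa using (congrArg Subtype.val h).symm)⟩
  have hm := Finset.mem_univ (⟨a, ha⟩ : H)
  rw [huniv] at hm
  simp only [Finset.mem_insert, Finset.mem_singleton] at hm
  rcases hm with h | h | h
  · exact absurd (congrArg Subtype.val h) ha1
  · exact Or.inl (congrArg Subtype.val h)
  · exact Or.inr (congrArg Subtype.val h)

variable [Finite G] [IsSimpleGroup G] (hcard : Nat.card G = 7920)
include hcard

theorem sylow_three (P : Sylow 3 G) :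
    Nat.card (P : Subgroup G) = 9 ∧
      (∀ a ∈ (P : Subgroup G), ∀ b ∈ (P : Subgroup G), a * b = b * a) ∧
      Nat.card (Subgroup.centralizer ((P : Subgroup G) : Set G)) = 9 := by
  have : Fact (Nat.Prime 3) := ⟨by norm_num⟩
  have hf : (7920 : ℕ).factorization 3 = 2 := by
    rw [Nat.factorization_def _ (by norm_num : Nat.Prime 3)]
    have e : (7920 : ℕ) = 3 ^ 2 * 880 := by norm_num
    rw [e, padicValNat.mul (by norm_num) (by norm_num), padicValNat.prime_pow,
      padicValNat.eq_zero_of_not_dvd (by norm_num)]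
  have hP : Nat.card (P : Subgroup G) = 9 := by
    rw [P.card_eq_multiplicity, hcard, hf]; norm_num
  have hab : ∀ a ∈ (P : Subgroup G), ∀ b ∈ (P : Subgroup G), a * b = b * a := fun a ha b hb => by
    have h := IsPGroup.commutative_of_card_eq_prime_sq (p := 3) (by rw [hP]; norm_num :
      Nat.card (P : Subgroup G) = 3 ^ 2) ⟨a, ha⟩ ⟨b, hb⟩
    exact congrArg Subtype.val h
  refine ⟨hP, hab, ?_⟩
  set C := Subgroup.centralizer ((P : Subgroup G) : Set G)
  have hle : (P : Subgroup G) ≤ C := fun a ha =>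
    Subgroup.mem_centralizer_iff.2 fun b hb => (hab a ha b hb).symm
  have hprime : ∀ p, p.Prime → p ∣ Nat.card C →
      ∀ k, (∀ y : G, orderOf y = p → Nat.card (Subgroup.centralizer ({y} : Set G)) = k) → 9 ∣ k := by
    intro p hp hd k hk
    have : Fact p.Prime := ⟨hp⟩
    obtain ⟨⟨y, hyC⟩, hy⟩ := exists_prime_orderOf_dvd_card' p hd
    rw [Subgroup.orderOf_mk] at hy
    rw [← hk y hy, ← hP]
    refine Subgroup.card_dvd_of_le fun a ha => ?_
    exact Subgroup.mem_centralizer_singleton_iff.2 (Subgroup.mem_centralizer_iff.1 hyC a ha)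
  have h2 : ¬ 2 ∣ Nat.card C := fun h => by
    have := hprime 2 Nat.prime_two h 48 fun y hy => card_centralizer_involution hcard hy
    norm_num at this
  have h5 : ¬ 5 ∣ Nat.card C := fun h => by
    have := hprime 5 (by norm_num) h 5 fun y hy => by
      rw [centralizer_five hcard hy, Nat.card_zpowers, hy]
    norm_num at this
  have h11 : ¬ 11 ∣ Nat.card C := fun h => by
    have := hprime 11 (by norm_num) h 11 fun y hy => by
      rw [centralizer_eleven hcard hy, Nat.card_zpowers, hy]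
    norm_num at this
  refine Nat.dvd_antisymm ?_ (hP ▸ Subgroup.card_dvd_of_le hle)
  refine Nat.Coprime.dvd_of_dvd_mul_right (n := 2 ^ 4 * (5 * 11)) ?_
    ((Subgroup.card_subgroup_dvd_card _).trans
      (dvd_of_eq (hcard.trans (show (7920 : ℕ) = 9 * (2 ^ 4 * (5 * 11)) by norm_num))))
  refine Nat.Coprime.mul_right (Nat.Coprime.pow_right _ ?_) (Nat.Coprime.mul_right ?_ ?_)
  · exact ((Nat.Prime.coprime_iff_not_dvd Nat.prime_two).2 h2).symm
  · exact ((Nat.Prime.coprime_iff_not_dvd (by norm_num)).2 h5).symm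
  · exact ((Nat.Prime.coprime_iff_not_dvd (by norm_num)).2 h11).symm

theorem normalizer_three_dvd (P : Sylow 3 G) :
    Nat.card (Subgroup.normalizer ((P : Subgroup G) : Set G)) ∣ 144 := by
  obtain ⟨hP, hab, hC⟩ := sylow_three hcard P
  set N := Subgroup.normalizer ((P : Subgroup G) : Set G)
  have key : ∀ p, p.Prime → (p = 5 ∨ p = 11) → ¬ p ∣ Nat.card N := by
    intro p hp h5 hd
    have : Fact p.Prime := ⟨hp⟩
    obtain ⟨y, hy⟩ := exists_prime_orderOf_dvd_card' p hd
    set σ := Subgroup.normalizerMonoidHom (P : Subgroup G) y with hσ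
    have hσp : σ ^ p = 1 := by rw [hσ, ← map_pow, ← hy, pow_orderOf_eq_one, map_one]
    let F : Subgroup (P : Subgroup G) :=
      MonoidHom.eqLocus σ.toMonoidHom (MonoidHom.id (P : Subgroup G))
    have hfix : MulAction.fixedPoints (Subgroup.zpowers σ) (P : Subgroup G) = (F : Set _) := by
      ext a
      constructor
      · intro h
        exact h ⟨σ, Subgroup.mem_zpowers σ⟩
      · intro h b
        obtain ⟨j, hj⟩ := Subgroup.mem_zpowers_iff.1 b.2
        have hs : σ ∈ MulAction.stabilizer (MulAut (P : Subgroup G)) a := h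
        have := Subgroup.zpow_mem _ hs j
        rw [hj] at this
        exact this
    have hσo : IsPGroup p (Subgroup.zpowers σ) := fun b => by
      refine ⟨1, Subtype.ext ?_⟩
      obtain ⟨j, hj⟩ := Subgroup.mem_zpowers_iff.1 b.2
      rw [pow_one, SubmonoidClass.coe_pow, ← hj, ← zpow_natCast, ← zpow_mul, mul_comm, zpow_mul,
        zpow_natCast, hσp, one_zpow]
      rfl
    have hmod := hσo.card_modEq_card_fixedPoints (P : Subgroup G)
    rw [hfix, hP] at hmod
    change 9 ≡ Nat.card F [MOD p] at hmod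
    have hF : Nat.card F ∣ 9 := hP ▸ Subgroup.card_subgroup_dvd_card F
    have hF9 : Nat.card F = 9 := by
      have h9 := Nat.le_of_dvd (by norm_num) hF
      have h0 : 0 < Nat.card F := Nat.card_pos
      rw [Nat.ModEq] at hmod
      rcases h5 with rfl | rfl
      · interval_cases h : Nat.card F <;> omega
      · interval_cases h : Nat.card F <;> omega
    have htop : F = ⊤ := Subgroup.eq_top_of_card_eq _ (hF9.trans hP.symm)
    have hyC : (y : G) ∈ Subgroup.centralizer ((P : Subgroup G) : Set G) := by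
      refine Subgroup.mem_centralizer_iff.2 fun a ha => ?_
      have h : (⟨a, ha⟩ : (P : Subgroup G)) ∈ F := htop ▸ Subgroup.mem_top _
      have h' : (y : G) * a * (y : G)⁻¹ = a := congrArg Subtype.val h
      exact (mul_inv_eq_iff_eq_mul.1 h').symm
    have hd9 := Subgroup.orderOf_dvd_natCard _ hyC
    rw [hC, Subgroup.orderOf_coe, hy] at hd9
    rcases h5 with rfl | rfl <;> norm_num at hd9
  refine Nat.Coprime.dvd_of_dvd_mul_right (n := 5 * 11) ?_
    ((Subgroup.card_subgroup_dvd_card _).trans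
      (dvd_of_eq (hcard.trans (show (7920 : ℕ) = 144 * (5 * 11) by norm_num))))
  exact Nat.Coprime.mul_right
    ((Nat.Prime.coprime_iff_not_dvd (by norm_num)).2 (key 5 (by norm_num) (Or.inl rfl))).symm
    ((Nat.Prime.coprime_iff_not_dvd (by norm_num)).2 (key 11 (by norm_num) (Or.inr rfl))).symm

/-- If the normalizer has order 36 some element inverts the Sylow 3-subgroup. -/
theorem exists_inverting (P : Sylow 3 G)
    (h36 : Nat.card (Subgroup.normalizer ((P : Subgroup G) : Set G)) = 36) :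
    ∃ τ : G, ∀ q ∈ (P : Subgroup G), τ * q * τ⁻¹ = q⁻¹ := by
  have : Fact (Nat.Prime 2) := ⟨by norm_num⟩
  obtain ⟨hP, hab, hC⟩ := sylow_three hcard P
  obtain ⟨T₀, hT₀⟩ := Sylow.exists_subgroup_card_pow_prime
    (G := Subgroup.normalizer ((P : Subgroup G) : Set G)) 2 (n := 2) (by rw [h36]; norm_num)
  set T := T₀.map (Subgroup.normalizer ((P : Subgroup G) : Set G)).subtype
  have hTN : T ≤ Subgroup.normalizer ((P : Subgroup G) : Set G) := Subgroup.map_subtype_le _
  have hT : Nat.card T = 2 ^ 2 := by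
    rw [Subgroup.card_map_of_injective (Subgroup.subtype_injective _), hT₀]
  have hTab : ∀ a ∈ T, ∀ b ∈ T, a * b = b * a := fun a ha b hb =>
    congrArg Subtype.val (IsPGroup.commutative_of_card_eq_prime_sq hT ⟨a, ha⟩ ⟨b, hb⟩)
  have hTC : ∀ a ∈ T, a ∈ Subgroup.centralizer ((P : Subgroup G) : Set G) → a = 1 := by
    intro a ha ha'
    have h1 := Subgroup.orderOf_dvd_natCard _ ha
    have h2 := Subgroup.orderOf_dvd_natCard _ ha'
    rw [hT] at h1
    rw [hC] at h2
    exact orderOf_eq_one_iff.1 (Nat.eq_one_of_dvd_one (Nat.dvd_gcd h1 h2))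
  have hconj : ∀ τ ∈ T, ∀ q ∈ (P : Subgroup G), τ * q * τ⁻¹ ∈ (P : Subgroup G) :=
    fun τ hτ q hq => (Subgroup.mem_normalizer_iff.1 (hTN hτ) q).1 hq
  obtain ⟨⟨s, hsT⟩, hs⟩ := exists_prime_orderOf_dvd_card' (G := T) 2 (by rw [hT]; norm_num)
  rw [Subgroup.orderOf_mk] at hs
  have hss : s * s = 1 := by rw [← pow_two, ← hs]; exact pow_orderOf_eq_one _
  have hs1 : s ≠ 1 := fun h => by simp [h] at hs
  by_cases hfix : ∀ q ∈ (P : Subgroup G), s * q * s⁻¹ = q → q = 1
  · refine ⟨s, fun q hq => ?_⟩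
    have h := hfix (q * (s * q * s⁻¹)) (mul_mem hq (hconj s hsT q hq)) ?_
    · exact (inv_eq_of_mul_eq_one_right h).symm
    · rw [hab q hq _ (hconj s hsT q hq)]
      calc s * (s * q * s⁻¹ * q) * s⁻¹ = (s * s) * q * (s⁻¹ * q * s⁻¹) := by group
        _ = q * (s * q * s⁻¹) := by
          rw [hss, one_mul, inv_eq_of_mul_eq_one_right hss]
        _ = _ := by rw [hab q hq _ (hconj s hsT q hq)]
  push Not at hfix
  obtain ⟨l, hl, hls, hl1⟩ := hfix
  set L := (P : Subgroup G) ⊓ Subgroup.centralizer ({s} : Set G)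
  set M := inverted (P : Subgroup G) hab s
  have hlL : l ∈ L :=
    ⟨hl, Subgroup.mem_centralizer_singleton_iff.2 (mul_inv_eq_iff_eq_mul.1 hls).symm⟩
  have hnfix : ∃ q ∈ (P : Subgroup G), s * q * s⁻¹ ≠ q := by
    by_contra! h
    exact hs1 (hTC s hsT (Subgroup.mem_centralizer_iff.2 fun q hq =>
      (mul_inv_eq_iff_eq_mul.1 (h q hq)).symm))
  obtain ⟨q₀, hq₀, hq₀'⟩ := hnfix
  set w := q₀⁻¹ * (s * q₀ * s⁻¹)
  have hwM : w ∈ M := by
    refine ⟨mul_mem (inv_mem hq₀) (hconj s hsT q₀ hq₀), ?_⟩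
    rw [mul_inv_rev, inv_inv,
      show s * (q₀⁻¹ * (s * q₀ * s⁻¹)) * s⁻¹ = (s * q₀⁻¹ * s⁻¹) * ((s * s) * q₀ * (s * s)⁻¹) by
        group, hss]
    group
  have hw1 : w ≠ 1 := fun h => hq₀' (inv_mul_eq_one.1 h).symm
  have card3 : ∀ H : Subgroup G, H ≤ (P : Subgroup G) → H ≠ (P : Subgroup G) →
      ∀ a ∈ H, a ≠ 1 → Nat.card H = 3 := by
    intro H hH hne a ha ha1
    have h := Subgroup.card_dvd_of_le hH
    rw [hP, show (9 : ℕ) = 3 ^ 2 by norm_num, Nat.dvd_prime_pow Nat.prime_three] at h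
    obtain ⟨k, hk, hk'⟩ := h
    interval_cases k
    · rw [pow_zero, Subgroup.card_eq_one] at hk'
      exact absurd (Subgroup.mem_bot.1 (hk' ▸ ha)) ha1
    · simpa using hk'
    · exact absurd (Subgroup.eq_of_le_of_card_ge hH (by rw [hk', hP]; norm_num)) hne
  have hodd : ∀ a ∈ (P : Subgroup G), a = a⁻¹ → a = 1 := by
    intro a ha h
    have h2 : orderOf a ∣ 2 := by
      refine orderOf_dvd_of_pow_eq_one ?_
      rw [pow_two]
      nth_rewrite 2 [h]
      exact mul_inv_cancel _
    have h9 := Subgroup.orderOf_dvd_natCard _ ha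
    rw [hP] at h9
    exact orderOf_eq_one_iff.1 (Nat.eq_one_of_dvd_one (Nat.dvd_gcd h2 h9))
  have hL3 : Nat.card L = 3 := card3 L inf_le_left (fun h => hq₀' (by
    have h' : q₀ ∈ L := h.symm ▸ hq₀
    exact mul_inv_eq_iff_eq_mul.2 (Subgroup.mem_centralizer_singleton_iff.1 h'.2).symm)) l hlL hl1
  have hM3 : Nat.card M = 3 := card3 M (fun a ha => (mem_inverted.1 ha).1) (fun h => hl1 (by
    have h' : l ∈ M := h.symm ▸ hl
    exact hodd l hl (hls.symm.trans (mem_inverted.1 h').2))) w hwM hw1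
  have hgen : (P : Subgroup G) = Subgroup.closure {l, w} := by
    have hle : Subgroup.closure {l, w} ≤ (P : Subgroup G) :=
      (Subgroup.closure_le _).2 (Set.insert_subset hl (Set.singleton_subset_iff.2 hwM.1))
    refine (Subgroup.eq_of_le_of_card_ge hle ?_).symm
    by_contra hlt
    have h3 := card3 _ hle (fun h => hlt (by rw [h])) l (Subgroup.subset_closure (by simp)) hl1
    rcases eq_or_eq_inv_of_card_three h3 (Subgroup.subset_closure (by simp : w ∈ ({l, w} : Set G)))
      (Subgroup.subset_closure (by simp : l ∈ ({l, w} : Set G))) hw1 hl1 with h | h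
    · exact hw1 (hodd w hwM.1 (by rw [← hwM.2]; rw [h]; exact hls.symm))
    · exact hw1 (hodd w hwM.1 (by
        rw [← hwM.2]; rw [h, ← conj_inv, hls]))
  have himL : ∀ τ ∈ T, τ * l * τ⁻¹ = l ∨ τ * l * τ⁻¹ = l⁻¹ := by
    intro τ hτ
    refine eq_or_eq_inv_of_card_three hL3 ⟨hconj τ hτ l hl, ?_⟩ hlL
      (fun h => hl1 (conj_eq_one_iff.1 h)) hl1
    refine Subgroup.mem_centralizer_singleton_iff.2 ?_
    have h1 := hTab τ hτ s hsT
    have h2 : Commute l s := Subgroup.mem_centralizer_singleton_iff.1 hlL.2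
    have h3 : Commute τ s := h1
    exact ((h3.mul_left h2).mul_left h3.inv_left).eq
  have himM : ∀ τ ∈ T, τ * w * τ⁻¹ = w ∨ τ * w * τ⁻¹ = w⁻¹ := by
    intro τ hτ
    refine eq_or_eq_inv_of_card_three hM3 ⟨hconj τ hτ w hwM.1, ?_⟩ hwM
      (fun h => hw1 (conj_eq_one_iff.1 h)) hw1
    rw [show s * (τ * w * τ⁻¹) * s⁻¹ = (s * τ) * w * (s * τ)⁻¹ by group, hTab s hsT τ hτ,
      show (τ * s) * w * (τ * s)⁻¹ = τ * (s * w * s⁻¹) * τ⁻¹ by group, hwM.2, ← conj_inv]
  let f : T → Bool × Bool := fun τ =>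
    (decide ((τ : G) * l * (τ : G)⁻¹ = l), decide ((τ : G) * w * (τ : G)⁻¹ = w))
  have hinj : Function.Injective f := by
    intro τ τ' h
    simp only [f, Prod.mk.injEq, decide_eq_decide] at h
    have hl' : (τ : G) * l * (τ : G)⁻¹ = (τ' : G) * l * (τ' : G)⁻¹ := by
      rcases himL τ τ.2 with e | e
      · rw [e, h.1.1 e]
      · rcases himL τ' τ'.2 with e' | e'
        · rw [e', h.1.2 e']
        · rw [e, e']
    have hw' : (τ : G) * w * (τ : G)⁻¹ = (τ' : G) * w * (τ' : G)⁻¹ := by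
      rcases himM τ τ.2 with e | e
      · rw [e, h.2.1 e]
      · rcases himM τ' τ'.2 with e' | e'
        · rw [e', h.2.2 e']
        · rw [e, e']
    have hr : ∀ a : G, (τ : G) * a * (τ : G)⁻¹ = (τ' : G) * a * (τ' : G)⁻¹ →
        a * ((τ' : G)⁻¹ * τ) = ((τ' : G)⁻¹ * τ) * a := fun a ha => by
      calc a * ((τ' : G)⁻¹ * τ) = (τ' : G)⁻¹ * ((τ' : G) * a * (τ' : G)⁻¹) * τ := by group
        _ = _ := by rw [← ha]; group
    have hc : (τ' : G)⁻¹ * τ ∈ Subgroup.centralizer ((P : Subgroup G) : Set G) := by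
      rw [hgen, Subgroup.centralizer_closure, Subgroup.mem_centralizer_iff]
      intro a ha
      rcases ha with e | e
      · rw [e]; exact hr l hl'
      · rw [Set.mem_singleton_iff] at e; rw [e]; exact hr w hw'
    exact Subtype.ext (inv_mul_eq_one.1 (hTC _ (mul_mem (inv_mem τ'.2) τ.2) hc)).symm
  have := Fintype.ofFinite T
  have hsurj : Function.Surjective f := ((Fintype.bijective_iff_injective_and_card f).2 ⟨hinj, by
    rw [← Nat.card_eq_fintype_card, hT]; rfl⟩).2
  obtain ⟨τ, hτ⟩ := hsurj (false, false)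
  simp only [f, Prod.mk.injEq, decide_eq_false_iff_not] at hτ
  refine ⟨τ, fun q hq => ?_⟩
  have hle : Subgroup.closure {l, w} ≤ inverted (P : Subgroup G) hab (τ : G) :=
    (Subgroup.closure_le _).2 (Set.insert_subset ⟨hl, (himL τ τ.2).resolve_left hτ.1⟩
      (Set.singleton_subset_iff.2 ⟨hwM.1, (himM τ τ.2).resolve_left hτ.2⟩))
  exact (mem_inverted.1 (hle (hgen ▸ hq))).2

/-- The centralizer of a real element of order 3 has order 18. -/
theorem card_centralizer_three {q : G} (hq : orderOf q = 3) (hreal : IsConj q q⁻¹)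
    (h9 : 9 ∣ Nat.card (Subgroup.centralizer ({q} : Set G))) :
    Nat.card (Subgroup.centralizer ({q} : Set G)) = 18 := by
  have : Fact (Nat.Prime 3) := ⟨by norm_num⟩
  have := Fintype.ofFinite G
  have := Fintype.ofFinite (IrrCharacter G)
  obtain ⟨x, c, T⟩ := exists_table hcard
  have hq1 : q ≠ 1 := fun h => by simp [h] at hq
  have hex : ∀ i, ∃ m : ℤ, (c i : G → ℂ) q = m ∧
      (3 : ℤ) ∣ (charDegree (c i : G → ℂ) : ℤ) + 2 * m := by
    intro i
    have := Fintype.ofFinite (Subgroup.zpowers q)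
    obtain ⟨k, hk⟩ := exists_sum_comp_eq (irr_isCharacter (c i).2) (Subgroup.zpowers q).subtype
    set g₀ : Subgroup.zpowers q := ⟨q, Subgroup.mem_zpowers q⟩
    have hg1 : g₀ ≠ 1 := fun h => hq1 (congrArg Subtype.val h)
    have hgi : g₀ ≠ g₀⁻¹ := fun h => by
      have h' : q = q⁻¹ := congrArg Subtype.val h
      have h2 : orderOf q ∣ 2 := orderOf_dvd_of_pow_eq_one (by
        rw [pow_two]; nth_rewrite 2 [h']; exact mul_inv_cancel _)
      rw [hq] at h2
      norm_num at h2
    have hmem : (1 : Subgroup.zpowers q) ∉ ({g₀, g₀⁻¹} : Finset _) := by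
      simp only [Finset.mem_insert, Finset.mem_singleton, not_or]
      exact ⟨hg1.symm, fun h => hg1 (by simpa using h.symm)⟩
    have huniv : (Finset.univ : Finset (Subgroup.zpowers q)) = {1, g₀, g₀⁻¹} := by
      refine (Finset.eq_univ_of_card _ ?_).symm
      rw [Finset.card_insert_of_notMem hmem, Finset.card_pair hgi, ← Nat.card_eq_fintype_card,
        Nat.card_zpowers, hq]
    rw [Nat.card_zpowers, hq, huniv, Finset.sum_insert hmem, Finset.sum_pair hgi] at hk
    simp only [map_one, Subgroup.coe_subtype, Subgroup.coe_inv, g₀,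
      ← CfsgLib.BlockB.irr_degree_cast] at hk
    rw [← isClassFunction_isConj (irr_isClassFunction (c i).2) hreal] at hk
    have hval : (c i : G → ℂ) q =
        (((3 * (k : ℤ) - (charDegree (c i : G → ℂ) : ℤ) : ℤ) : ℚ) / 2 : ℚ) := by
      push_cast
      linear_combination hk / 2
    obtain ⟨m, hm⟩ := CfsgLib.Char.exists_int_of_isIntegral_rat
      (hval ▸ CfsgLib.BlockB.irr_isIntegral (c i) q)
    have hm' : (c i : G → ℂ) q = (m : ℂ) := by rw [hval, hm]; simp
    refine ⟨m, hm', k, ?_⟩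
    rw [hm'] at hk
    have h : (((charDegree (c i : G → ℂ) : ℤ) + 2 * m : ℤ) : ℂ) = ((3 * (k : ℤ) : ℤ) : ℂ) := by
      push_cast
      linear_combination hk
    exact_mod_cast h
  choose v hv hpar using hex
  obtain ⟨r1, r2, r3, r4, r5⟩ := T.int_relations hcard hq1 (by rw [hq]; norm_num)
    (by rw [hq]; norm_num) hv
  have h45 : v 4 = 0 := by
    have h := CfsgLib.BlockB.irr_apply_eq_zero_of_defect_zero (p := 3) (c 4) (by
      rw [T.deg, hcard]
      have hf : (7920 : ℕ).factorization 3 = 2 := by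
        rw [Nat.factorization_def _ (by norm_num : Nat.Prime 3)]
        have e : (7920 : ℕ) = 3 ^ 2 * 880 := by norm_num
        rw [e, padicValNat.mul (by norm_num) (by norm_num), padicValNat.prime_pow,
          padicValNat.eq_zero_of_not_dvd (by norm_num)]
      rw [hf]; simp) (show 3 ∣ orderOf q by rw [hq])
    rw [hv] at h
    exact_mod_cast h
  have p := hpar 1
  have p2 := hpar 2
  have p3 := hpar 3
  have p5 := hpar 5
  have p7 := hpar 7
  simp only [T.deg, Matrix.cons_val] at p p2 p3 p5 p7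
  refine three_arith (a := v 1) (b := v 2) (c := v 3) (f := v 5) (g := v 7) (h := v 8)
    (by omega) (by omega) (by omega) (by omega) (by omega) (by omega) r2 ?_ ?_
    (coprime_centralizer hcard hq1 (by rw [hq]; norm_num) (by rw [hq]; norm_num)) h9
  · rw [h45] at r5
    have := Int.natCast_nonneg
      (Finset.univ.filter fun s : G => IsConj (q * (s * q * s⁻¹)) x).card
    rw [r5] at this
    linarith
  · rw [r4, r3, h45]; ring

/-- Sylow 3-normalizers have order 144. -/
theorem card_normalizer_three (P : Sylow 3 G) :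
    Nat.card (Subgroup.normalizer ((P : Subgroup G) : Set G)) = 144 := by
  have : Fact (Nat.Prime 3) := ⟨by norm_num⟩
  obtain ⟨hP, hab, hC⟩ := sylow_three hcard P
  set N := Subgroup.normalizer ((P : Subgroup G) : Set G) with hN
  have h144 := normalizer_three_dvd hcard P
  have h9 : 9 ∣ Nat.card N := hP ▸ Subgroup.card_dvd_of_le Subgroup.le_normalizer
  have hn : Nat.card (Sylow 3 G) * Nat.card N = 7920 := by
    rw [P.card_eq_index_normalizer]
    exact (Subgroup.index_mul_card _).trans hcard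
  have hn3 : Nat.card (Sylow 3 G) % 3 = 1 := card_sylow_modEq_one 3 G
  have hcase : Nat.card N = 144 ∨ Nat.card N = 36 ∨ Nat.card N = 9 := by
    obtain ⟨m, hm⟩ := h9
    rw [hm] at h144 hn ⊢
    have hm16 : m ∣ 16 := Nat.dvd_of_mul_dvd_mul_left (by norm_num) (h144.trans (by norm_num))
    rw [show (16 : ℕ) = 2 ^ 4 by norm_num, Nat.dvd_prime_pow Nat.prime_two] at hm16
    obtain ⟨j, hj, rfl⟩ := hm16
    interval_cases j <;> omega
  rcases hcase with h | h | h
  · exact h
  · exfalso
    obtain ⟨A, B, hAB, hidx⟩ := CfsgLib.Transfer.exists_large_intersection (p := 3) (G := G) 2 (by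
      rw [h] at hn
      rw [show Nat.card (Sylow 3 G) = 220 by omega]
      decide)
    obtain ⟨hA, habA, -⟩ := sylow_three hcard A
    obtain ⟨hB, habB, -⟩ := sylow_three hcard B
    set K := ((B : Subgroup G).subgroupOf (A : Subgroup G))
    have hK := K.card_mul_index
    rw [hA] at hK
    have hKd : Nat.card K ∣ 3 ^ 2 := Dvd.intro _ hK
    have hK3 : 3 ∣ Nat.card K := by
      rw [Nat.dvd_prime_pow Nat.prime_three] at hKd
      obtain ⟨j, hj, hj'⟩ := hKd
      rcases j with _ | j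
      · rw [hj', pow_zero, one_mul] at hK
        norm_num [hK] at hidx
      · rw [hj']; exact dvd_pow_self 3 j.succ_ne_zero
    obtain ⟨⟨⟨q, hqA⟩, hqB⟩, hq⟩ := exists_prime_orderOf_dvd_card' 3 hK3
    rw [Subgroup.orderOf_mk, Subgroup.orderOf_mk] at hq
    have hAle : (A : Subgroup G) ≤ Subgroup.centralizer ({q} : Set G) := fun a ha =>
      Subgroup.mem_centralizer_singleton_iff.2 (habA a ha q hqA)
    have hBle : (B : Subgroup G) ≤ Subgroup.centralizer ({q} : Set G) := fun a ha =>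
      Subgroup.mem_centralizer_singleton_iff.2 (habB a ha q hqB)
    have hA36 : Nat.card (Subgroup.normalizer ((A : Subgroup G) : Set G)) = 36 := by
      have e : Nat.card (Sylow 3 G) * Nat.card (Subgroup.normalizer ((A : Subgroup G) : Set G)) =
          7920 := by
        rw [A.card_eq_index_normalizer]
        exact (Subgroup.index_mul_card _).trans hcard
      rw [h] at hn
      rw [show Nat.card (Sylow 3 G) = 220 by omega] at e
      omega
    obtain ⟨τ, hτ⟩ := exists_inverting hcard A hA36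
    have h18 := card_centralizer_three hcard hq (isConj_iff.2 ⟨τ, hτ q hqA⟩)
      (hA ▸ Subgroup.card_dvd_of_le hAle)
    have hidx2 : ((A : Subgroup G).subgroupOf (Subgroup.centralizer ({q} : Set G))).index = 2 := by
      have := ((A : Subgroup G).subgroupOf (Subgroup.centralizer ({q} : Set G))).card_mul_index
      rw [Nat.card_congr (Subgroup.subgroupOfEquivOfLe hAle).toEquiv, hA, h18] at this
      omega
    refine hAB (Sylow.ext (Subgroup.eq_of_le_of_card_ge (fun r hr => ?_) (by rw [hA, hB])).symm)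
    have h2 := Subgroup.sq_mem_of_index_two hidx2 ⟨r, hBle hr⟩
    rw [Subgroup.mem_subgroupOf, SubmonoidClass.coe_pow] at h2
    have h9 : r ^ 9 = 1 :=
      orderOf_dvd_iff_pow_eq_one.1 ((Subgroup.orderOf_dvd_natCard _ hr).trans (dvd_of_eq hB))
    have := pow_mem h2 5
    rwa [← pow_mul, show 2 * 5 = 9 + 1 by norm_num, pow_add, h9, pow_one, one_mul] at this
  · exfalso
    refine CfsgLib.Transfer.not_normalizer_le_centralizer (not_comm hcard) (p := 3)
      (by rw [hcard]; norm_num) P ?_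
    have hNP : (P : Subgroup G) = N :=
      Subgroup.eq_of_le_of_card_ge Subgroup.le_normalizer (by rw [h, hP])
    intro a ha
    refine Subgroup.mem_centralizer_iff.2 fun b hb => ?_
    exact hab b hb a (hNP ▸ ha)

end CfsgLib.Recog.OrderM11
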