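import Cfsg.Agent.Lib.Recog.OrderM11Pairs

/-!
# Simple groups of order 7920: adjacency of Sylow 3-subgroups

An involution inverts exactly three Sylow 3-subgroups; two Sylow 3-subgroups are adjacent exactly
when an involution inverts both. The normalizer of one has two orbits, of 18 and 36, on the others.
-/

set_option autoImplicit false
set_option linter.unusedSectionVars false

namespace CfsgLib.Recog.OrderM11

open Cfsg CfsgLib.Char
open scoped _root_.Classical Pointwise

universe u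

variable {G : Type u} [Group G] [Finite G] [IsSimpleGroup G] (hcard : Nat.card G = 7920)
include hcard

theorem Inverts.smul {z : G} {P : Sylow 3 G} (h : Inverts z (P : Subgroup G)) {c : G}
    (hc : c ∈ Subgroup.centralizer ({z} : Set G)) :
    Inverts z ((c • P : Sylow 3 G) : Subgroup G) := by
  intro q hq
  rw [Sylow.coe_subgroup_smul, Subgroup.mem_pointwise_smul_iff_inv_smul_mem] at hq
  have hq' : c⁻¹ * q * c ∈ (P : Subgroup G) := by simpa [MulAut.smul_def, mul_assoc] using hq
  have hcz : c * z = z * c := Subgroup.mem_centralizer_singleton_iff.1 hc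
  calc z * q * z⁻¹ = c * (z * (c⁻¹ * q * c) * z⁻¹) * c⁻¹ := by
        rw [show c * (z * (c⁻¹ * q * c) * z⁻¹) * c⁻¹ = (c * z) * (c⁻¹ * q * c) * (c * z)⁻¹ by group,
          hcz]
        group
    _ = q⁻¹ := by rw [h _ hq']; group

/-- Two elements of a 2-subgroup of the normalizer inverting `P` are equal. -/
theorem inverts_unique (P : Sylow 3 G) {T : Subgroup G} (hT : Nat.card T ∣ 16) {z z' : G}
    (hz : z ∈ T) (hz' : z' ∈ T) (h : Inverts z (P : Subgroup G))
    (h' : Inverts z' (P : Subgroup G)) : z = z' := by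
  obtain ⟨-, -, hC⟩ := sylow_three hcard P
  have hd : z⁻¹ * z' ∈ Subgroup.centralizer ((P : Subgroup G) : Set G) := by
    refine Subgroup.mem_centralizer_iff.2 fun q hq => ?_
    have h3 : z⁻¹ * z' * q * (z⁻¹ * z')⁻¹ = q := by
      calc z⁻¹ * z' * q * (z⁻¹ * z')⁻¹ = z⁻¹ * (z' * q * z'⁻¹) * z := by group
        _ = z⁻¹ * (z * q * z⁻¹) * z := by rw [h' q hq, h q hq]
        _ = q := by group
    exact (mul_inv_eq_iff_eq_mul.1 h3).symm
  have h1 := (Subgroup.orderOf_dvd_natCard _ (mul_mem (inv_mem hz) hz')).trans hT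
  have h2 := Subgroup.orderOf_dvd_natCard _ hd
  rw [hC] at h2
  exact inv_mul_eq_one.1
    (orderOf_eq_one_iff.1 (Nat.eq_one_of_dvd_one (Nat.dvd_gcd h1 h2)))

/-- An element of order 3 acting on a 2-subgroup fixes exactly the central involution it fixes. -/
theorem fixed_by_three {T : Subgroup G} (hT : Nat.card T ∣ 16) {c z : G} (hc : orderOf c = 3)
    (hn : c ∈ Subgroup.normalizer (T : Set G)) (hzT : z ∈ T) (hz : z ≠ 1) (hcz : c * z = z * c) :
    Nat.card T % 3 = 2 ∧ ∀ t ∈ T, c * t = t * c → t = 1 ∨ t = z := by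
  have : Fact (Nat.Prime 3) := ⟨by norm_num⟩
  set σ := Subgroup.normalizerMonoidHom T ⟨c, hn⟩ with hσ
  have hσp : σ ^ 3 = 1 := by
    rw [hσ, ← map_pow]
    have : (⟨c, hn⟩ : Subgroup.normalizer (T : Set G)) ^ 3 = 1 :=
      Subtype.ext (by rw [SubmonoidClass.coe_pow, ← hc, pow_orderOf_eq_one]; rfl)
    rw [this, map_one]
  let F : Subgroup T := MonoidHom.eqLocus σ.toMonoidHom (MonoidHom.id T)
  have hfix : MulAction.fixedPoints (Subgroup.zpowers σ) T = (F : Set _) := by
    ext a
    constructor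
    · intro h
      exact h ⟨σ, Subgroup.mem_zpowers σ⟩
    · intro h b
      obtain ⟨j, hj⟩ := Subgroup.mem_zpowers_iff.1 b.2
      have hs : σ ∈ MulAction.stabilizer (MulAut T) a := h
      have := Subgroup.zpow_mem _ hs j
      rw [hj] at this
      exact this
  have hσo : IsPGroup 3 (Subgroup.zpowers σ) := fun b => by
    refine ⟨1, Subtype.ext ?_⟩
    obtain ⟨j, hj⟩ := Subgroup.mem_zpowers_iff.1 b.2
    rw [pow_one, SubmonoidClass.coe_pow, ← hj, ← zpow_natCast, ← zpow_mul, mul_comm, zpow_mul,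
      zpow_natCast, hσp, one_zpow]
    rfl
  have hmod := hσo.card_modEq_card_fixedPoints T
  rw [hfix] at hmod
  change Nat.card T ≡ Nat.card F [MOD 3] at hmod
  have hmem : ∀ t (ht : t ∈ T), (⟨t, ht⟩ : T) ∈ F ↔ c * t = t * c := by
    intro t ht
    refine ⟨fun h => ?_, fun h => Subtype.ext ?_⟩
    · have h' : c * t * c⁻¹ = t := congrArg Subtype.val h
      exact mul_inv_eq_iff_eq_mul.1 h'
    · change c * t * c⁻¹ = t
      exact mul_inv_eq_iff_eq_mul.2 h
  have hF2 : Nat.card F ∣ 2 := by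
    have h1 : Nat.card F ∣ 16 := (Subgroup.card_subgroup_dvd_card F).trans hT
    have h2 : Nat.card F ∣ 18 := by
      rw [← card_centralizer_order_three hcard hc,
        ← Subgroup.card_map_of_injective (Subgroup.subtype_injective T)]
      refine Subgroup.card_dvd_of_le ?_
      rintro _ ⟨a, ha, rfl⟩
      exact Subgroup.mem_centralizer_singleton_iff.2 ((hmem a a.2).1 ha).symm
    exact (Nat.dvd_gcd h1 h2).trans (by norm_num)
  have hFz : (⟨z, hzT⟩ : T) ∈ F := (hmem z hzT).2 hcz
  have hFne : F ≠ ⊥ := fun h => hz (congrArg (fun v : T => (v : G))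
    (show (⟨z, hzT⟩ : T) = 1 from Subgroup.mem_bot.1 (h ▸ hFz)))
  have hFc : Nat.card F = 2 := by
    rcases (Nat.dvd_prime Nat.prime_two).1 hF2 with h | h
    · exact absurd (Subgroup.card_eq_one.1 h) hFne
    · exact h
  refine ⟨by rw [hFc] at hmod; exact hmod, fun t ht htc => ?_⟩
  have := Fintype.ofFinite F
  have huniv : (Finset.univ : Finset F) = {1, ⟨⟨z, hzT⟩, hFz⟩} := by
    refine (Finset.eq_univ_of_card _ ?_).symm
    rw [Finset.card_pair fun h => hz (congrArg (fun a : F => ((a : T) : G)) h).symm,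
      ← Nat.card_eq_fintype_card, hFc]
  have hm := Finset.mem_univ (⟨⟨t, ht⟩, (hmem t ht).2 htc⟩ : F)
  rw [huniv] at hm
  simp only [Finset.mem_insert, Finset.mem_singleton, Subtype.ext_iff] at hm
  exact hm

/-- The data of the three Sylow 3-subgroups inverted by an involution. -/
structure Triple (P R R' : Sylow 3 G) (z : G) : Prop where
  inv : orderOf z = 2
  ne : P ≠ R
  ne' : P ≠ R'
  ne'' : R ≠ R'
  mem : z ∈ pairStab P R
  central : pairStab P R ≤ Subgroup.centralizer ({z} : Set G)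
  card : Nat.card (pairStab P R) = 8
  fix : ∀ g ∈ pairStab P R, g • R' = R'
  invP : Inverts z (P : Subgroup G)
  invR : Inverts z (R : Subgroup G)
  invR' : Inverts z (R' : Subgroup G)
  only : ∀ U : Sylow 3 G, Inverts z (U : Subgroup G) → U = P ∨ U = R ∨ U = R'
  swap : ∃ g : G, g • P = P ∧ g • R = R'
  cycle : ∃ c : G, orderOf c = 3 ∧ c * z = z * c ∧
    c ∈ Subgroup.normalizer ((pairStab P R : Subgroup G) : Set G)

theorem exists_triple {P R : Sylow 3 G} {z : G} (hz : orderOf z = 2) (hne : P ≠ R)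
    (hP : Inverts z (P : Subgroup G)) (hR : Inverts z (R : Subgroup G)) :
    ∃ R', Triple P R R' z := by
  have : Fact (Nat.Prime 3) := ⟨by norm_num⟩
  have : Fact (Nat.Prime 2) := ⟨by norm_num⟩
  set C := Subgroup.centralizer ({z} : Set G) with hC
  have hC48 : Nat.card C = 48 := card_centralizer_involution hcard hz
  have hz1 : z ≠ 1 := fun h => by simp [h] at hz
  have hzC : z ∈ C := Subgroup.mem_centralizer_singleton_iff.2 rfl
  have hzfix : ∀ U : Sylow 3 G, Inverts z (U : Subgroup G) → z • U = U := by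
    intro U hU
    refine smul_eq_iff_forall.2 fun q => ⟨fun hq => by rw [hU q hq]; exact inv_mem hq, fun hq => ?_⟩
    have h := hU _ hq
    have hzz : z * z = 1 := by rw [← pow_two, ← hz]; exact pow_orderOf_eq_one _
    rw [show z * (z * q * z⁻¹) * z⁻¹ = (z * z) * q * (z * z)⁻¹ by group, hzz] at h
    simp only [one_mul, inv_one, mul_one] at h
    rw [h]
    exact inv_mem hq
  set St := MulAction.stabilizer G P ⊓ C with hSt
  have hzSt : z ∈ St := ⟨MulAction.mem_stabilizer_iff.2 (hzfix P hP), hzC⟩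
  have hSt3 : ∀ c ∈ St, orderOf c ≠ 3 := by
    intro c hc h3
    obtain ⟨Q, hQ⟩ := (IsPGroup.of_card (p := 3) (n := 1) (G := Subgroup.zpowers c)
      (by rw [Nat.card_zpowers, h3, pow_one])).exists_le_sylow
    have hcQ : c ∈ (Q : Subgroup G) := hQ (Subgroup.mem_zpowers c)
    have hc1 : c ≠ 1 := fun h => by simp [h] at h3
    obtain rfl : Q = P :=
      by_contra fun h => hc1 (eq_one_of_smul hcard hcQ h (MulAction.mem_stabilizer_iff.1 hc.1))
    have h := hP c hcQ
    rw [← (Subgroup.mem_centralizer_singleton_iff.1 hc.2), mul_inv_cancel_right] at h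
    have h2 : orderOf c ∣ 2 := orderOf_dvd_of_pow_eq_one (by
      rw [pow_two]; nth_rewrite 2 [h]; exact mul_inv_cancel _)
    rw [h3] at h2
    norm_num at h2
  have hSt16 : Nat.card St ∣ 16 := by
    refine Nat.Coprime.dvd_of_dvd_mul_right (n := 3) ?_
      ((Subgroup.card_dvd_of_le inf_le_right).trans
        (dvd_of_eq (hC48.trans (by norm_num : (48 : ℕ) = 16 * 3))))
    refine ((Nat.Prime.coprime_iff_not_dvd Nat.prime_three).2 fun hd => ?_).symm
    obtain ⟨⟨q, hq'⟩, hq⟩ := exists_prime_orderOf_dvd_card' 3 hd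
    exact hSt3 q hq' (by rwa [Subgroup.orderOf_mk] at hq)
  obtain ⟨S, z₀, hS, hSle, hz₀S, hz₀, hS₀c, hz₀P⟩ := exists_inverting_sylow hcard P
  -- the orbit of `P` under `C`
  have horb : Nat.card (MulAction.orbit C P) * Nat.card St = 48 := by
    have h1 := Nat.card_congr (MulAction.orbitProdStabilizerEquivGroup C P)
    rw [Nat.card_prod, hC48] at h1
    have e : (MulAction.stabilizer C P).map C.subtype = St := by
      ext g
      rw [Subgroup.mem_map]
      refine ⟨?_, fun h => ⟨⟨g, h.2⟩, h.1, rfl⟩⟩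
      rintro ⟨a, ha, rfl⟩
      exact ⟨ha, a.2⟩
    rwa [← e, Subgroup.card_map_of_injective (Subgroup.subtype_injective _)]
  -- conjugate the inverting involution of a Sylow 2-subgroup to `z`
  have hStc : Nat.card St = 16 := by
    have hd : z₀⁻¹ * z ∈ Subgroup.centralizer ((P : Subgroup G) : Set G) := by
      refine Subgroup.mem_centralizer_iff.2 fun q hq => ?_
      have h3 : z₀⁻¹ * z * q * (z₀⁻¹ * z)⁻¹ = q := by
        calc z₀⁻¹ * z * q * (z₀⁻¹ * z)⁻¹ = z₀⁻¹ * (z * q * z⁻¹) * z₀ := by group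
          _ = z₀⁻¹ * (z₀ * q * z₀⁻¹) * z₀ := by rw [hP q hq, hz₀P q hq]
          _ = q := by group
      exact (mul_inv_eq_iff_eq_mul.1 h3).symm
    obtain ⟨hPc, hab, hCP⟩ := sylow_three hcard P
    have hdP : z₀⁻¹ * z ∈ (P : Subgroup G) := by
      have hle : (P : Subgroup G) ≤ Subgroup.centralizer ((P : Subgroup G) : Set G) := fun a ha =>
        Subgroup.mem_centralizer_iff.2 fun b hb => (hab a ha b hb).symm
      rw [Subgroup.eq_of_le_of_card_ge hle (by rw [hCP, hPc])]
      exact hd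
    set d := z₀⁻¹ * z
    set r := d ^ 5
    have hd9 : d ^ 9 = 1 :=
      orderOf_dvd_iff_pow_eq_one.1 ((Subgroup.orderOf_dvd_natCard _ hdP).trans (dvd_of_eq hPc))
    have hr2 : r * r = d := by
      rw [← pow_add, show 5 + 5 = 9 + 1 by norm_num, pow_add, hd9, pow_one, one_mul]
    have hrP : r ∈ (P : Subgroup G) := pow_mem hdP 5
    have hzc : r⁻¹ * z₀ * r = z := by
      calc r⁻¹ * z₀ * r = (r⁻¹ * (z₀ * r * z₀⁻¹)) * z₀ := by group
        _ = (r * r)⁻¹ * z₀ := by rw [hz₀P r hrP, mul_inv_rev]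
        _ = z := by
          rw [hr2]
          simp only [d]
          rw [mul_inv_rev, inv_inv, mul_assoc,
            show z₀ * z₀ = 1 by rw [← pow_two, ← hz₀]; exact pow_orderOf_eq_one _, mul_one]
          exact inv_eq_of_mul_eq_one_right (by rw [← pow_two, ← hz]; exact pow_orderOf_eq_one _)
    refine Nat.le_antisymm (Nat.le_of_dvd (by norm_num) hSt16) ?_
    have hle : S.map (MulAut.conj r⁻¹).toMonoidHom ≤ St := by
      rintro _ ⟨s, hs, rfl⟩
      refine ⟨?_, ?_⟩
      · have hrn : r ∈ MulAction.stabilizer G P := by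
          rw [Sylow.stabilizer_eq_normalizer]; exact Subgroup.le_normalizer hrP
        exact Subgroup.mul_mem _ (Subgroup.mul_mem _ (Subgroup.inv_mem _ hrn) (hSle hs))
          (by simpa using hrn)
      · refine Subgroup.mem_centralizer_singleton_iff.2 ?_
        change r⁻¹ * s * r⁻¹⁻¹ * z = z * (r⁻¹ * s * r⁻¹⁻¹)
        rw [inv_inv, ← hzc]
        calc r⁻¹ * s * r * (r⁻¹ * z₀ * r) = r⁻¹ * (s * z₀) * r := by group
          _ = r⁻¹ * (z₀ * s) * r := by rw [hS₀c s hs]
          _ = _ := by group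
    have hle' := Subgroup.card_le_of_le hle
    rw [Subgroup.card_map_of_injective (f := (MulAut.conj r⁻¹).toMonoidHom)
      (MulAut.conj r⁻¹).injective, hS] at hle'
    exact hle'
  rw [hStc] at horb
  have horb3 : Nat.card (MulAction.orbit C P) = 3 := by omega
  have horbit : ∀ U : Sylow 3 G, U ∈ MulAction.orbit C P ↔ Inverts z (U : Subgroup G) := by
    intro U
    constructor
    · rintro ⟨c, rfl⟩
      exact hP.smul hcard c.2
    · intro hU
      obtain ⟨c, hc, rfl⟩ := inverted_orbit hcard hz hP hU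
      exact ⟨⟨c, hc⟩, rfl⟩
  obtain ⟨R', hR'P, hR'R, hR', honly⟩ : ∃ R', R' ≠ P ∧ R' ≠ R ∧ Inverts z (R' : Subgroup G) ∧
      ∀ U : Sylow 3 G, Inverts z (U : Subgroup G) → U = P ∨ U = R ∨ U = R' := by
    have := Fintype.ofFinite (Sylow 3 G)
    set O := Finset.univ.filter fun U : Sylow 3 G => Inverts z (U : Subgroup G) with hO
    have hO3 : O.card = 3 := by
      refine Eq.trans ?_ horb3
      rw [hO, Nat.card_eq_fintype_card, ← Fintype.card_subtype]
      exact Fintype.card_congr (Equiv.subtypeEquivRight fun U => (horbit U).symm)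
    have hPO : P ∈ O := Finset.mem_filter.2 ⟨Finset.mem_univ _, hP⟩
    have hRO : R ∈ O.erase P :=
      Finset.mem_erase.2 ⟨hne.symm, Finset.mem_filter.2 ⟨Finset.mem_univ _, hR⟩⟩
    have h1 : ((O.erase P).erase R).card = 1 := by
      rw [Finset.card_erase_of_mem hRO, Finset.card_erase_of_mem hPO, hO3]
    obtain ⟨R', hR'⟩ := Finset.card_eq_one.1 h1
    have hm : R' ∈ (O.erase P).erase R := hR' ▸ Finset.mem_singleton_self R'
    simp only [Finset.mem_erase] at hm
    refine ⟨R', hm.2.1, hm.1, (Finset.mem_filter.1 hm.2.2).2, fun U hU => ?_⟩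
    by_contra! hcon
    have : U ∈ (O.erase P).erase R :=
      Finset.mem_erase.2 ⟨hcon.2.1, Finset.mem_erase.2 ⟨hcon.1,
        Finset.mem_filter.2 ⟨Finset.mem_univ _, hU⟩⟩⟩
    rw [hR', Finset.mem_singleton] at this
    exact hcon.2.2 this
  have hperm : ∀ s ∈ St, s • R = R ∨ s • R = R' := by
    intro s hs
    rcases honly _ (hR.smul hcard hs.2) with h | h | h
    · exfalso
      refine hne (smul_left_cancel s ?_)
      rw [h]
      exact MulAction.mem_stabilizer_iff.1 hs.1
    · exact Or.inl h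
    · exact Or.inr h
  set K := St ⊓ MulAction.stabilizer G R with hK
  have hKfix' : ∀ g ∈ K, g • R' = R' := by
    intro g hg
    rcases honly _ (hR'.smul hcard hg.1.2) with h | h | h
    · exfalso
      refine hR'P (smul_left_cancel g ?_)
      rw [h]
      exact (MulAction.mem_stabilizer_iff.1 hg.1.1).symm
    · exfalso
      refine hR'R (smul_left_cancel g ?_)
      rw [h]
      exact (MulAction.mem_stabilizer_iff.1 hg.2).symm
    · exact h
  -- `C` permutes the three points
  have hKnormal : ∀ c ∈ C, ∀ g ∈ K, c * g * c⁻¹ ∈ K := by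
    intro c hc g hg
    have hgfix : ∀ U : Sylow 3 G, Inverts z (U : Subgroup G) → g • U = U := by
      intro U hU
      rcases honly U hU with rfl | rfl | rfl
      · exact MulAction.mem_stabilizer_iff.1 hg.1.1
      · exact MulAction.mem_stabilizer_iff.1 hg.2
      · exact hKfix' g hg
    have key : ∀ U : Sylow 3 G, Inverts z (U : Subgroup G) → (c * g * c⁻¹) • U = U := fun U hU => by
      rw [mul_smul, mul_smul, hgfix _ (hU.smul hcard (inv_mem hc)), smul_inv_smul]
    exact ⟨⟨MulAction.mem_stabilizer_iff.2 (key P hP),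
      Subgroup.mul_mem _ (Subgroup.mul_mem _ hc hg.1.2) (Subgroup.inv_mem _ hc)⟩, MulAction.mem_stabilizer_iff.2 (key R hR)⟩
  obtain ⟨⟨c, hcC⟩, hc⟩ := exists_prime_orderOf_dvd_card' (G := C) 3 (by rw [hC48]; norm_num)
  rw [Subgroup.orderOf_mk] at hc
  have hcz : c * z = z * c := Subgroup.mem_centralizer_singleton_iff.1 hcC
  have hcN : c ∈ Subgroup.normalizer (K : Set G) := Subgroup.mem_normalizer_iff.2 fun g =>
    ⟨hKnormal c hcC g, fun h => by
      have h' := hKnormal c⁻¹ (inv_mem hcC) _ h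
      rw [show c⁻¹ * (c * g * c⁻¹) * c⁻¹⁻¹ = g by group] at h'
      exact h'⟩
  have hzK : z ∈ K := ⟨hzSt, MulAction.mem_stabilizer_iff.2 (hzfix R hR)⟩
  have hswap : ∃ g ∈ St, g • R = R' := by
    by_contra! hno
    have hKSt : K = St := le_antisymm inf_le_left fun g hg =>
      ⟨hg, MulAction.mem_stabilizer_iff.2 ((hperm g hg).resolve_right (hno g hg))⟩
    have h := (fixed_by_three hcard (by rw [hKSt, hStc]) hc hcN hzK hz1 hcz).1
    rw [hKSt, hStc] at h
    norm_num at h
  obtain ⟨σ, hσ, hσR⟩ := hswap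
  have hKidx : Nat.card K = 8 := by
    have hidx : (K.subgroupOf St).index = 2 := by
      rw [Subgroup.index_eq_two_iff]
      refine ⟨⟨σ, hσ⟩⁻¹, fun g => ?_⟩
      simp only [Subgroup.mem_subgroupOf, K, Subgroup.mem_inf, g.2, true_and,
        MulAction.mem_stabilizer_iff, Subgroup.coe_mul,
        Subgroup.coe_inv, mul_mem g.2 (inv_mem hσ)]
      have hσi : σ⁻¹ • R = R' := by
        rcases hperm σ⁻¹ (inv_mem hσ) with h | h
        · exfalso
          rw [inv_smul_eq_iff, hσR] at h
          exact hR'R h.symm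
        · exact h
      rcases hperm g g.2 with h | h
      · right
        refine ⟨h, ?_⟩
        rw [mul_smul, hσi]
        intro h2
        exact hR'R (smul_left_cancel (g : G) (h2.trans h.symm))
      · left
        refine ⟨?_, fun h2 => hR'R (h.symm.trans h2)⟩
        rw [mul_smul, hσi]
        rcases honly _ (hR'.smul hcard g.2.2) with h3 | h3 | h3
        · exfalso
          refine hR'P (smul_left_cancel (g : G) ?_)
          rw [h3]
          exact (MulAction.mem_stabilizer_iff.1 g.2.1).symm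
        · exact h3
        · exact absurd (smul_left_cancel (g : G) (h3.trans h.symm)) hR'R
    have h := (K.subgroupOf St).card_mul_index
    rw [hidx, Nat.card_congr (Subgroup.subgroupOfEquivOfLe (inf_le_left : K ≤ St)).toEquiv,
      hStc] at h
    show Nat.card ↥(St ⊓ MulAction.stabilizer G R) = 8
    omega
  have hKX : K ≤ pairStab P R := fun g hg => ⟨hg.1.1, hg.2⟩
  have hX := card_pairStab_dvd hcard hne
  have hX8 : Nat.card (pairStab P R) = 8 := by
    have hge := Nat.le_of_dvd Nat.card_pos (Subgroup.card_dvd_of_le hKX)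
    rw [hKidx] at hge
    rw [show (16 : ℕ) = 2 ^ 4 by norm_num, Nat.dvd_prime_pow Nat.prime_two] at hX
    obtain ⟨j, hj, hj'⟩ := hX
    rw [hj'] at hge ⊢
    interval_cases j <;> (try norm_num at hge) <;> (try norm_num)
    -- a common normalizer of order 16 would centralize `z`
    exfalso
    norm_num at hj'
    set X := pairStab P R
    have hXp : IsPGroup 2 X := IsPGroup.of_card (n := 4) (by rw [hj']; norm_num)
    have : Nontrivial X := Finite.one_lt_card_iff_nontrivial.1 (by rw [hj']; norm_num)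
    have := hXp.center_nontrivial
    have hd : 2 ∣ Nat.card (Subgroup.center X) := by
      obtain ⟨k, hk, e⟩ :=
        (hXp.to_subgroup (Subgroup.center X)).nontrivial_iff_card.1 inferInstance
      rw [e]; exact dvd_pow_self 2 hk.ne'
    obtain ⟨z', hz'⟩ := exists_prime_orderOf_dvd_card' 2 hd
    rw [← Subgroup.orderOf_coe, ← Subgroup.orderOf_coe] at hz'
    have hcomm : ∀ τ ∈ X, τ * ((z' : X) : G) = ((z' : X) : G) * τ := fun τ hτ =>
      congrArg Subtype.val (Subgroup.mem_center_iff.1 z'.2 ⟨τ, hτ⟩)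
    have hzz' : z = ((z' : X) : G) := inverts_unique hcard P (dvd_of_eq hj') (hKX hzK) (z' : X).2 hP
      (inverts_of_central hcard P X inf_le_left (by rw [hj']; norm_num) (dvd_of_eq hj')
        (z' : X).2 hz' hcomm)
    have hXle : X ≤ K := fun g hg => ⟨⟨hg.1, Subgroup.mem_centralizer_singleton_iff.2 (by
      rw [hzz']; exact hcomm g hg)⟩, hg.2⟩
    have hle8 := Subgroup.card_le_of_le hXle
    rw [hj', hKidx] at hle8
    omega
  have hKeq : K = pairStab P R := Subgroup.eq_of_le_of_card_ge hKX (by rw [hX8, hKidx])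
  exact ⟨R', ⟨hz, hne, hR'P.symm, hR'R.symm, hKeq ▸ hzK, hKeq ▸ (inf_le_left.trans inf_le_right),
    hX8, fun g hg => hKfix' g (hKeq ▸ hg), hP, hR, hR', honly,
    ⟨σ, MulAction.mem_stabilizer_iff.1 hσ.1, hσR⟩, ⟨c, hc, hcz, hKeq ▸ hcN⟩⟩⟩

/-- Adjacent Sylow 3-subgroups are inverted by a common involution. -/
theorem Adj.exists_triple' {P R : Sylow 3 G} (h : Adj P R) : ∃ R' z, Triple P R R' z := by
  have : Fact (Nat.Prime 2) := ⟨by norm_num⟩
  obtain ⟨hne, h8⟩ := h
  set X := pairStab P R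
  have hXp : IsPGroup 2 X := IsPGroup.of_card (n := 3) (by rw [h8]; norm_num)
  have : Nontrivial X := Finite.one_lt_card_iff_nontrivial.1 (by rw [h8]; norm_num)
  have := hXp.center_nontrivial
  have hd : 2 ∣ Nat.card (Subgroup.center X) := by
    obtain ⟨k, hk, e⟩ := (hXp.to_subgroup (Subgroup.center X)).nontrivial_iff_card.1 inferInstance
    rw [e]; exact dvd_pow_self 2 hk.ne'
  obtain ⟨z, hz⟩ := exists_prime_orderOf_dvd_card' 2 hd
  rw [← Subgroup.orderOf_coe, ← Subgroup.orderOf_coe] at hz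
  have hcomm : ∀ τ ∈ X, τ * ((z : X) : G) = ((z : X) : G) * τ := fun τ hτ =>
    congrArg Subtype.val (Subgroup.mem_center_iff.1 z.2 ⟨τ, hτ⟩)
  have h16 : Nat.card X ∣ 16 := ⟨2, by rw [h8]⟩
  obtain ⟨R', hT⟩ := exists_triple hcard hz hne
    (inverts_of_central hcard P X inf_le_left (by rw [h8]; norm_num) h16 (z : X).2 hz hcomm)
    (inverts_of_central hcard R X inf_le_right (by rw [h8]; norm_num) h16 (z : X).2 hz hcomm)
  exact ⟨R', _, hT⟩

theorem Triple.adj {P R R' : Sylow 3 G} {z : G} (h : Triple P R R' z) :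
    Adj P R ∧ Adj P R' ∧ Adj R R' := by
  obtain ⟨_, h2⟩ := exists_triple hcard h.inv h.ne' h.invP h.invR'
  obtain ⟨_, h3⟩ := exists_triple hcard h.inv h.ne'' h.invR h.invR'
  exact ⟨⟨h.ne, h.card⟩, ⟨h.ne', h2.card⟩, ⟨h.ne'', h3.card⟩⟩

/-- The common normalizer fixes no other Sylow 3-subgroup. -/
theorem Triple.fixed {P R R' : Sylow 3 G} {z : G} (h : Triple P R R' z) {U : Sylow 3 G}
    (hU : ∀ g ∈ pairStab P R, g • U = U) : U = P ∨ U = R ∨ U = R' :=
  h.only U (inverts_of_central hcard U (pairStab P R)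
    (fun g hg => MulAction.mem_stabilizer_iff.2 (hU g hg)) (by rw [h.card]; norm_num)
    ⟨2, by rw [h.card]⟩ h.mem h.inv
    (fun τ hτ => Subgroup.mem_centralizer_singleton_iff.1 (h.central hτ)))

theorem exists_adj (P : Sylow 3 G) : ∃ R, Adj P R := by
  obtain ⟨S, z, -, -, -, hz, -, hzP⟩ := exists_inverting_sylow hcard P
  by_contra! hno
  have hfixall : ∀ c ∈ Subgroup.centralizer ({z} : Set G), c • P = P := by
    intro c hc
    by_contra hne
    obtain ⟨R', hT⟩ := exists_triple hcard hz (Ne.symm hne) hzP (hzP.smul hcard hc)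
    exact hno _ (hT.adj hcard).1
  have : Fact (Nat.Prime 3) := ⟨by norm_num⟩
  obtain ⟨⟨c, hcC⟩, hc⟩ := exists_prime_orderOf_dvd_card' 3
    (show 3 ∣ Nat.card (Subgroup.centralizer ({z} : Set G)) by
      rw [card_centralizer_involution hcard hz]; norm_num)
  rw [Subgroup.orderOf_mk] at hc
  obtain ⟨Q, hQ⟩ := (IsPGroup.of_card (p := 3) (n := 1) (G := Subgroup.zpowers c)
    (by rw [Nat.card_zpowers, hc, pow_one])).exists_le_sylow
  have hcQ : c ∈ (Q : Subgroup G) := hQ (Subgroup.mem_zpowers c)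
  have hc1 : c ≠ 1 := fun h => by simp [h] at hc
  obtain rfl : Q = P := by_contra fun h => hc1 (eq_one_of_smul hcard hcQ h (hfixall c hcC))
  have h := hzP c hcQ
  rw [← (Subgroup.mem_centralizer_singleton_iff.1 hcC), mul_inv_cancel_right] at h
  have h2 : orderOf c ∣ 2 := orderOf_dvd_of_pow_eq_one (by
    rw [pow_two]; nth_rewrite 2 [h]; exact mul_inv_cancel _)
  rw [hc] at h2
  norm_num at h2

/-- The normalizer of `P` is transitive on the neighbours of `P`. -/
theorem exists_smul_adj {P R U : Sylow 3 G} (hR : Adj P R) (hU : Adj P U) :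
    ∃ g : G, g • P = P ∧ g • R = U := by
  obtain ⟨R', z, hT⟩ := hR.exists_triple' hcard
  obtain ⟨U', w, hTU⟩ := hU.exists_triple' hcard
  obtain ⟨hPc, hab, hC⟩ := sylow_three hcard P
  have hwz : w⁻¹ * z ∈ (P : Subgroup G) := by
    have hle : (P : Subgroup G) ≤ Subgroup.centralizer ((P : Subgroup G) : Set G) := fun a ha =>
      Subgroup.mem_centralizer_iff.2 fun b hb => (hab a ha b hb).symm
    rw [Subgroup.eq_of_le_of_card_ge hle (by rw [hC, hPc])]
    refine Subgroup.mem_centralizer_iff.2 fun q hq => ?_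
    have h3 : w⁻¹ * z * q * (w⁻¹ * z)⁻¹ = q := by
      calc w⁻¹ * z * q * (w⁻¹ * z)⁻¹ = w⁻¹ * (z * q * z⁻¹) * w := by group
        _ = w⁻¹ * (w * q * w⁻¹) * w := by rw [hT.invP q hq, hTU.invP q hq]
        _ = q := by group
    exact (mul_inv_eq_iff_eq_mul.1 h3).symm
  set d := w⁻¹ * z
  set r := d ^ 5
  have hd9 : d ^ 9 = 1 :=
    orderOf_dvd_iff_pow_eq_one.1 ((Subgroup.orderOf_dvd_natCard _ hwz).trans (dvd_of_eq hPc))
  have hr2 : r * r = d := by
    rw [← pow_add, show 5 + 5 = 9 + 1 by norm_num, pow_add, hd9, pow_one, one_mul]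
  have hrP : r ∈ (P : Subgroup G) := pow_mem hwz 5
  have hwzc : r⁻¹ * w * r = z := by
    calc r⁻¹ * w * r = (r⁻¹ * (w * r * w⁻¹)) * w := by group
      _ = (r * r)⁻¹ * w := by rw [hTU.invP r hrP, mul_inv_rev]
      _ = z := by
        rw [hr2]
        simp only [d]
        rw [mul_inv_rev, inv_inv, mul_assoc,
          show w * w = 1 by rw [← pow_two, ← hTU.inv]; exact pow_orderOf_eq_one _, mul_one]
        exact inv_eq_of_mul_eq_one_right (by rw [← pow_two, ← hT.inv]; exact pow_orderOf_eq_one _)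
  have hrfix : r • P = P := Sylow.smul_eq_iff_mem_normalizer.2 (Subgroup.le_normalizer hrP)
  have hinv : Inverts z ((r⁻¹ • U : Sylow 3 G) : Subgroup G) := by
    intro q hq
    rw [Sylow.coe_subgroup_smul, Subgroup.mem_pointwise_smul_iff_inv_smul_mem] at hq
    have hq' : r * q * r⁻¹ ∈ (U : Subgroup G) := by simpa [MulAut.smul_def, mul_assoc] using hq
    have h := hTU.invR _ hq'
    calc z * q * z⁻¹ = r⁻¹ * (w * (r * q * r⁻¹) * w⁻¹) * r := by rw [← hwzc]; group
      _ = q⁻¹ := by rw [h]; group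
  rcases hT.only _ hinv with h | h | h
  · exfalso
    refine hU.1 ?_
    rw [inv_smul_eq_iff, hrfix] at h
    exact h.symm
  · exact ⟨r, hrfix, by rw [← h, smul_inv_smul]⟩
  · obtain ⟨g, hgP, hgR⟩ := hT.swap
    exact ⟨r * g, by rw [mul_smul, hgP, hrfix], by rw [mul_smul, hgR, ← h, smul_inv_smul]⟩

end CfsgLib.Recog.OrderM11
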