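import Cfsg.Agent.Lib.KnownB.GL2Sum
import Cfsg.Agent.Lib.KnownB.GL2Irr
import Mathlib.LinearAlgebra.Matrix.GeneralLinearGroup.Basic
import Mathlib.Algebra.CharP.Two

/-! The element orders of `PGL₂(q)`. -/

namespace CfsgLib.Recog

open Matrix CfsgLib.KnownB.GL2
open scoped MatrixGroups

variable {F : Type*} [Field F] [Fintype F]

theorem glTwo_center_iff (g : GL (Fin 2) F) :
    g ∈ Subgroup.center (GL (Fin 2) F) ↔ ∃ a : F, (g : Matrix (Fin 2) (Fin 2) F) = a • 1 := by
  constructor
  · intro h
    rw [Matrix.GeneralLinearGroup.center_eq_range_scalar] at h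
    obtain ⟨u, rfl⟩ := h
    exact ⟨(u : F), by rw [Matrix.GeneralLinearGroup.coe_scalar, Matrix.scalar_apply, ← Matrix.smul_one_eq_diagonal]⟩
  · rintro ⟨a, ha⟩
    exact Subgroup.mem_center_iff.mpr fun y => Units.ext (by simp [ha])

/-- `PGL₂(q)` has exactly the divisors of `p`, `q - 1` and `q + 1` as element orders. -/
theorem pglTwo_range (p : ℕ) [Fact p.Prime] [CharP F p] :
    Set.range (orderOf : GL (Fin 2) F ⧸ Subgroup.center (GL (Fin 2) F) → ℕ) =
      {n | n ∣ p ∨ n ∣ Fintype.card F - 1 ∨ n ∣ Fintype.card F + 1} := by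
  classical
  obtain ⟨E, _, _, _, _⟩ := exists_quad F
  let π := QuotientGroup.mk' (Subgroup.center (GL (Fin 2) F))
  have hπ : ∀ g : GL (Fin 2) F, π g = 1 ↔ ∃ a : F, (g : Matrix (Fin 2) (Fin 2) F) = a • 1 := fun g =>
    (QuotientGroup.eq_one_iff g).trans (glTwo_center_iff g)
  have hq1 : 1 < Fintype.card F := Fintype.one_lt_card
  have hconj : ∀ (g h : GL (Fin 2) F) (n : ℕ), IsConj g h → π (h ^ n) = 1 → π g ^ n = 1 := by
    intro g h n hc hh
    obtain ⟨y, rfl⟩ := isConj_iff.mp hc
    rw [conj_pow, map_mul, map_mul, map_inv, conj_eq_one_iff, map_pow] at hh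
    exact hh
  have hell : ∀ u : Eˣ, ∀ n : ℕ, π (emb F E u ^ n) = 1 ↔ ∃ a : F, algebraMap F E a = ((u ^ n : Eˣ) : E) := by
    intro u n
    rw [← map_pow (emb F E), hπ]
    exact exists_congr fun a => emb_eq_scalar_iff (F := F) (E := E) (u ^ n) a
  ext n
  constructor
  · rintro ⟨x, rfl⟩
    obtain ⟨g, rfl⟩ := QuotientGroup.mk'_surjective _ x
    rcases gl_cases E g with ⟨a, -, ha⟩ | ⟨hns, a, ha0, ht, hd⟩ | ⟨a, b, ha, hb, hab, ht, hd⟩ | ⟨x, hx, ht, hd⟩
    · left
      have : π g = 1 := (hπ g).mpr ⟨a, ha⟩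
      rw [this, orderOf_one]
      exact one_dvd p
    · refine Or.inl (orderOf_dvd_of_pow_eq_one ?_)
      rw [← map_pow]
      refine (hπ _).mpr ⟨a ^ p, ?_⟩
      set M : Matrix (Fin 2) (Fin 2) F := (g : Matrix (Fin 2) (Fin 2) F)
      have hN : (M - a • 1) ^ 2 = 0 := by
        rw [Matrix.trace_fin_two] at ht
        rw [Matrix.det_fin_two] at hd
        rw [sq]
        ext i j
        fin_cases i <;> fin_cases j <;> simp [Matrix.mul_apply, Fin.sum_univ_two]
        · linear_combination M 0 0 * ht - hd
        · linear_combination M 0 1 * ht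
        · linear_combination M 1 0 * ht
        · linear_combination M 1 1 * ht - hd
      have hNp : (M - a • 1) ^ p = 0 := pow_eq_zero_of_le (Fact.out : p.Prime).two_le hN
      have hcomm : Commute (M - a • 1) (a • 1) := (Commute.one_right _).smul_right a
      show ((g ^ p : GL (Fin 2) F) : Matrix (Fin 2) (Fin 2) F) = a ^ p • 1
      rw [Units.val_pow_eq_pow_val]
      change M ^ p = a ^ p • 1
      rw [← sub_add_cancel M (a • 1), add_pow_char_of_commute p hcomm, hNp, zero_add,
        _root_.smul_pow, one_pow]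
    · refine Or.inr (Or.inl (orderOf_dvd_of_pow_eq_one ?_))
      let D : GL (Fin 2) F := Matrix.GeneralLinearGroup.mkOfDetNeZero !![a, 0; 0, b] (by
        rw [det_fin_two_of]; simp [ha, hb])
      have hns : NonScalar (g : Matrix (Fin 2) (Fin 2) F) := by
        intro c hc
        rw [hc] at ht hd
        simp [Matrix.trace_fin_two] at ht hd
        have : (a - b) * (a - b) = 0 := by linear_combination -(a + b + (c + c)) * ht + 4 * hd
        exact hab (sub_eq_zero.mp (mul_self_eq_zero.mp this))
      refine hconj g D _ (isConj_of_trace_det hns ((nonScalar_iff _).mpr (Or.inr (Or.inr (by simpa [D] using hab)))) ?_ ?_) ?_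
      · simp [D, ht, Matrix.trace_fin_two]
      · simp [D, hd, Matrix.det_fin_two]
      · refine (hπ _).mpr ⟨1, ?_⟩
        rw [one_smul, Units.val_pow_eq_pow_val]
        show (!![a, 0; 0, b] : Matrix (Fin 2) (Fin 2) F) ^ _ = 1
        rw [show (!![a, 0; 0, b] : Matrix (Fin 2) (Fin 2) F) = Matrix.diagonal ![a, b] by
          ext i j; fin_cases i <;> fin_cases j <;> simp, Matrix.diagonal_pow]
        ext i j
        fin_cases i <;> fin_cases j <;> simp [FiniteField.pow_card_sub_one_eq_one _ ha, FiniteField.pow_card_sub_one_eq_one _ hb]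
    · refine Or.inr (Or.inr (orderOf_dvd_of_pow_eq_one ?_))
      have hx0 : x ≠ 0 := fun e => hx 0 (by rw [e, map_zero])
      let u : Eˣ := Units.mk0 x hx0
      have hns : NonScalar (g : Matrix (Fin 2) (Fin 2) F) := by
        intro c hc
        rw [hc] at ht hd
        simp [Matrix.trace_fin_two] at ht hd
        apply hx c
        have hT : algebraMap F E (Algebra.trace F E x) = x + x ^ Fintype.card F := algebraMap_T x
        have hN : algebraMap F E (Algebra.norm F x) = x * x ^ Fintype.card F := algebraMap_N x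
        rw [← ht, map_mul, map_ofNat] at hT
        rw [← hd] at hN
        simp only [map_pow, map_mul] at hN
        have : (algebraMap F E c - x) * (algebraMap F E c - x) = 0 := by linear_combination hN - x * hT
        exact sub_eq_zero.mp (mul_self_eq_zero.mp this)
      refine hconj g (emb F E u) _ (isConj_of_trace_det hns ((nonScalar_emb_iff u).mpr hx) ?_ ?_) ?_
      · rw [trace_emb]; exact ht
      · rw [det_emb]; exact hd
      · rw [hell]
        exact ⟨Algebra.norm F x, by rw [algebraMap_N, Units.val_pow_eq_pow_val, Units.val_mk0, pow_succ']⟩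
  · intro hn
    suffices h : ∃ y : GL (Fin 2) F ⧸ Subgroup.center (GL (Fin 2) F), n ∣ orderOf y by
      obtain ⟨y, hy⟩ := h
      exact ⟨y ^ (orderOf y / n), orderOf_pow_orderOf_div (orderOf_pos y).ne' hy⟩
    rcases hn with hn | hn | hn
    · refine ⟨π (Matrix.GeneralLinearGroup.mkOfDetNeZero !![1, 1; 0, 1] (by simp [det_fin_two_of])), hn.trans ?_⟩
      set U := Matrix.GeneralLinearGroup.mkOfDetNeZero (!![1, 1; 0, 1] : Matrix (Fin 2) (Fin 2) F) (by simp [det_fin_two_of])
      have : orderOf (π U) = p := by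
        refine orderOf_eq_prime ?_ fun h1 => ?_
        · rw [← map_pow]
          refine (hπ _).mpr ⟨1, ?_⟩
          rw [one_smul, Units.val_pow_eq_pow_val]
          have e : (U : Matrix (Fin 2) (Fin 2) F) = 1 + !![0, 1; 0, 0] := by
            ext i j; fin_cases i <;> fin_cases j <;> simp [U]
          have hN : (!![0, 1; 0, 0] : Matrix (Fin 2) (Fin 2) F) ^ 2 = 0 := by
            rw [sq]; ext i j; fin_cases i <;> fin_cases j <;> simp [Matrix.mul_apply, Fin.sum_univ_two]
          rw [e, add_pow_char_of_commute p (Commute.one_left _), one_pow,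
            pow_eq_zero_of_le (Fact.out : p.Prime).two_le hN, add_zero]
        · obtain ⟨a, ha⟩ := (hπ U).mp h1
          have := congrFun (congrFun ha 0) 1
          simp [U] at this
      rw [this]
    · obtain ⟨w, hw⟩ := IsCyclic.exists_generator (α := Fˣ)
      have hord : orderOf w = Fintype.card F - 1 := by
        rw [orderOf_eq_card_of_forall_mem_zpowers hw, Nat.card_eq_fintype_card, Fintype.card_units]
      let D : GL (Fin 2) F := Matrix.GeneralLinearGroup.mkOfDetNeZero !![(w : F), 0; 0, 1] (by
        rw [det_fin_two_of]; simp)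
      refine ⟨π D, hn.trans (hord ▸ orderOf_dvd_of_pow_eq_one ?_)⟩
      have h1 : π (D ^ orderOf (π D)) = 1 := by rw [map_pow, pow_orderOf_eq_one]
      obtain ⟨a, ha⟩ := (hπ _).mp h1
      rw [Units.val_pow_eq_pow_val, show (D : Matrix (Fin 2) (Fin 2) F) = Matrix.diagonal ![(w : F), 1] by
          ext i j; fin_cases i <;> fin_cases j <;> simp [D], Matrix.diagonal_pow] at ha
      have e0 := congrFun (congrFun ha 0) 0
      have e1 := congrFun (congrFun ha 1) 1
      simp at e0 e1
      exact Units.ext (by rw [Units.val_pow_eq_pow_val, e0, Units.val_one]; exact e1.symm)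
    · obtain ⟨u, hu⟩ := IsCyclic.exists_generator (α := Eˣ)
      have hord : orderOf u = Fintype.card F ^ 2 - 1 := by
        rw [orderOf_eq_card_of_forall_mem_zpowers hu, Nat.card_eq_fintype_card, Fintype.card_units,
          card_quad (F := F) (E := E)]
      refine ⟨π (emb F E u), hn.trans ?_⟩
      set m := orderOf (π (emb F E u))
      have h1 : π (emb F E u ^ m) = 1 := by rw [map_pow, pow_orderOf_eq_one]
      obtain ⟨a, ha⟩ := (hell u m).mp h1
      have ha0 : a ≠ 0 := fun e => (u ^ m).ne_zero (by rw [← ha, e, map_zero])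
      have hdvd : Fintype.card F ^ 2 - 1 ∣ m * (Fintype.card F - 1) := by
        rw [← hord]
        refine orderOf_dvd_of_pow_eq_one (Units.ext ?_)
        rw [pow_mul, Units.val_pow_eq_pow_val, ← ha, ← map_pow, FiniteField.pow_card_sub_one_eq_one a ha0, map_one,
          Units.val_one]
      rw [show Fintype.card F ^ 2 - 1 = (Fintype.card F + 1) * (Fintype.card F - 1) from
        by simpa using Nat.sq_sub_sq (Fintype.card F) 1] at hdvd
      exact Nat.dvd_of_mul_dvd_mul_right (by omega) hdvd

end CfsgLib.Recog
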