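import Cfsg.Agent.Lib.Recog.PSLOrderOdd
import Cfsg.Agent.Lib.Perm.ZassenhausClassify
import Cfsg.Agent.Lib.Invol.CAInvol
import Cfsg.Agent.S0727

/-!
# The Zassenhaus action on the Sylow `p`-subgroups

`G` has the order of `PSL(2, q)`, its elements of order `p` are isolated and its Sylow
`p`-subgroups meet trivially.
-/

set_option autoImplicit false
set_option linter.unusedSectionVars false

namespace CfsgLib.Recog.PSLOrder

open Subgroup

universe u

local notation "Cen[" x "]" => Subgroup.centralizer ({x} : Set _)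

variable {G : Type u} [Group G] [Finite G]

/-- The data needed for the action. -/
structure Act (G : Type u) [Group G] (p f M d : ℕ) : Prop where
  hyp : Hyp G p f M d
  ti : ∀ P Q : Sylow p G, P ≠ Q → (P : Subgroup G) ⊓ Q = ⊥
  parity : p = 2 ∧ d = 1 ∨ p ≠ 2 ∧ d = 2
  torus : ∃ g : G, d * orderOf g = p ^ f + 1

variable {p f M d : ℕ} (A : Act G p f M d)
include A

theorem Act.fact : Fact p.Prime := ⟨A.hyp.prime⟩

theorem Act.comm (P : Sylow p G) {x y : G} (hx : x ∈ (P : Subgroup G))
    (hy : y ∈ (P : Subgroup G)) : x * y = y * x := by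
  by_cases hx1 : x = 1
  · subst hx1
    rw [one_mul, mul_one]
  · rw [← A.hyp.cen_eq_of_ti A.ti P hx hx1] at hy
    exact (mem_centralizer_singleton_iff.1 hy).symm

theorem Act.mem_unique {P Q : Sylow p G} {x : G} (hP : x ∈ (P : Subgroup G))
    (hQ : x ∈ (Q : Subgroup G)) (hx1 : x ≠ 1) : P = Q :=
  Sylow.ext ((A.hyp.cen_eq_of_ti A.ti P hP hx1).symm.trans (A.hyp.cen_eq_of_ti A.ti Q hQ hx1))

theorem Act.four : 4 ≤ p ^ f := A.hyp.four

/-- The number of points. -/
theorem Act.card_points : Nat.card (Sylow p G) = p ^ f + 1 := by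
  classical
  have := A.fact
  let F : (Σ P : Sylow p G, {x : (P : Subgroup G) // x ≠ 1}) → {x : G // orderOf x = p} :=
    fun z => ⟨(z.2.1 : G),
      A.hyp.orderOf_eq z.1.2 z.2.1.2 fun e => z.2.2 (Subtype.ext e)⟩
  have hF : Function.Bijective F := by
    constructor
    · rintro ⟨P, ⟨x, hx⟩, hx1⟩ ⟨Q, ⟨y, hy⟩, hy1⟩ e
      have e' : x = y := congrArg (fun z : {x : G // orderOf x = p} => (z : G)) e
      subst e'
      obtain rfl := A.mem_unique hx hy fun e => hx1 (Subtype.ext e)
      rfl
    · rintro ⟨x, hx⟩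
      have hp : IsPGroup p (zpowers x) :=
        IsPGroup.of_card (n := 1) (by rw [Nat.card_zpowers, hx, pow_one])
      obtain ⟨P, hP⟩ := hp.exists_le_sylow
      refine ⟨⟨P, ⟨x, hP (mem_zpowers x)⟩, fun e => ?_⟩, Subtype.ext rfl⟩
      rw [show x = 1 from congrArg Subtype.val e, orderOf_one] at hx
      exact A.hyp.prime.one_lt.ne hx
  have hc : ∀ P : Sylow p G, Nat.card {x : (P : Subgroup G) // x ≠ 1} = p ^ f - 1 := by
    intro P
    have := Fintype.ofFinite (P : Subgroup G)
    rw [Nat.card_eq_fintype_card, Fintype.card_subtype_compl, Fintype.card_subtype_eq,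
      ← Nat.card_eq_fintype_card]
    exact congrArg (· - 1) (A.hyp.card_sylow P)
  have h1 := Nat.card_congr (Equiv.ofBijective F hF)
  have := Fintype.ofFinite (Sylow p G)
  rw [Nat.card_sigma, Finset.sum_congr rfl (fun P _ => hc P), Finset.sum_const, smul_eq_mul,
    Finset.card_univ, ← Nat.card_eq_fintype_card, A.hyp.count] at h1
  obtain ⟨k, hk⟩ := Nat.exists_eq_add_of_le' (show 1 ≤ p ^ f by have := A.four; omega)
  have h2 := A.hyp.eq
  rw [hk] at h1 h2 ⊢
  rw [Nat.add_sub_cancel] at h1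
  refine Nat.eq_of_mul_eq_mul_right (show 0 < k by have := A.four; omega) ?_
  rw [h1]
  ring_nf at h2 ⊢
  omega

theorem Act.card_normalizer (P : Sylow p G) :
    d * Nat.card ↥(normalizer ((P : Subgroup G) : Set G)) = p ^ f * (p ^ f - 1) := by
  have := A.fact
  have h1 := (normalizer ((P : Subgroup G) : Set G)).index_mul_card
  have h2 : (normalizer ((P : Subgroup G) : Set G)).index = p ^ f + 1 :=
    (P.card_eq_index_normalizer).symm.trans A.card_points
  obtain ⟨k, hk⟩ := Nat.exists_eq_add_of_le' (show 1 ≤ p ^ f by have := A.four; omega)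
  have h3 := A.hyp.eq
  rw [h2, A.hyp.card, hk] at h1
  rw [hk] at h3 ⊢
  rw [Nat.add_sub_cancel]
  have h5 : d * M = (k + 1 + 1) * k := by
    ring_nf at h3 ⊢
    omega
  refine Nat.eq_of_mul_eq_mul_left (show 0 < k + 1 + 1 by omega) ?_
  calc (k + 1 + 1) * (d * Nat.card ↥(normalizer ((P : Subgroup G) : Set G)))
      = d * ((k + 1 + 1) * Nat.card ↥(normalizer ((P : Subgroup G) : Set G))) := by ring
    _ = (k + 1) * (d * M) := by rw [h1]; ring
    _ = (k + 1 + 1) * ((k + 1) * k) := by rw [h5]; ring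

/-- The Sylow subgroup `P` fixes only `P`. -/
theorem Act.free (P Q : Sylow p G) (hPQ : Q ≠ P) {u : G} (hu : u ∈ (P : Subgroup G))
    (hfix : u • Q = Q) : u = 1 := by
  have := A.fact
  have hn := Sylow.smul_eq_iff_mem_normalizer.1 hfix
  have h1 : u ∈ (P : Subgroup G) ⊓ normalizer ((Q : Subgroup G) : Set G) := ⟨hu, hn⟩
  have h2 : u ∈ (P : Subgroup G) ⊓ (Q : Subgroup G) := (P.isPGroup'.inf_normalizer_sylow Q).le h1
  rw [A.ti P Q hPQ.symm, mem_bot] at h2
  exact h2

theorem Act.smul_self_eq (P : Sylow p G) {u : G} (hu : u ∈ (P : Subgroup G)) : u • P = P :=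
  Sylow.smul_eq_iff_mem_normalizer.2 (le_normalizer hu)

theorem Act.regular (P : Sylow p G) :
    ∀ y z : Sylow p G, y ≠ P → z ≠ P → ∃! u : (P : Subgroup G), (u : G) • y = z := by
  classical
  have := A.fact
  intro y z hy hz
  let F : ↥(P : Subgroup G) → {w : Sylow p G // w ≠ P} := fun u => ⟨(u : G) • y, fun e =>
    hy (smul_left_cancel (u : G) (e.trans (A.smul_self_eq P u.2).symm))⟩
  have hinj : Function.Injective F := fun a b e => by
    have e' : (a : G) • y = (b : G) • y := congrArg Subtype.val e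
    refine Subtype.ext (inv_mul_eq_one.1 (A.free P y hy (mul_mem (inv_mem a.2) b.2) ?_))
    rw [mul_smul, ← e', inv_smul_smul]
  have hbij : Function.Bijective F := by
    refine (Nat.bijective_iff_injective_and_card F).2 ⟨hinj, ?_⟩
    have := Fintype.ofFinite (Sylow p G)
    rw [Nat.card_eq_fintype_card (α := {w : Sylow p G // w ≠ P}), Fintype.card_subtype_compl,
      Fintype.card_subtype_eq, ← Nat.card_eq_fintype_card, A.card_points, Nat.add_sub_cancel]
    exact A.hyp.card_sylow P
  obtain ⟨u, hu⟩ := hbij.2 ⟨z, hz⟩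
  exact ⟨u, congrArg Subtype.val hu, fun v hv =>
    hinj (Subtype.ext (hv.trans (congrArg Subtype.val hu).symm))⟩

theorem Act.two_trans : MulAction.IsMultiplyPretransitive G (Sylow p G) 2 := by
  have := A.fact
  refine MulAction.is_two_pretransitive_iff.2 fun {a b c d} hab hcd => ?_
  obtain ⟨g, hg⟩ := MulAction.exists_smul_eq G a c
  obtain ⟨u, hu, -⟩ := A.regular c (g • b) d
    (fun e => hab (smul_left_cancel g (hg.trans e.symm))) hcd.symm
  exact ⟨(u : G) * g, by rw [mul_smul, hg, A.smul_self_eq c u.2], by rw [mul_smul, hu]⟩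

theorem Act.three_fix {g : G} {a b c : Sylow p G} (hab : a ≠ b) (hbc : b ≠ c) (hac : a ≠ c)
    (ha : g • a = a) (hb : g • b = b) (hc : g • c = c) : g = 1 := by
  have := A.fact
  obtain ⟨u, hu, huu⟩ := A.regular a b c hab.symm hac.symm
  have hga := Sylow.smul_eq_iff_mem_normalizer.1 ha
  have hmem : g * u * g⁻¹ ∈ (a : Subgroup G) := (mem_normalizer_iff.1 hga u).1 u.2
  have hfix : (g * u * g⁻¹) • b = c := by
    rw [mul_smul, mul_smul, inv_smul_eq_iff.2 hb.symm, hu, hc]
  have he : g * u * g⁻¹ = u := congrArg Subtype.val (huu ⟨_, hmem⟩ hfix)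
  have hu1 : (u : G) ≠ 1 := fun e => hbc (by rw [← hu, e, one_smul])
  have hg : g ∈ Cen[(u : G)] := mem_centralizer_singleton_iff.2 (mul_inv_eq_iff_eq_mul.1 he)
  rw [A.hyp.cen_eq_of_ti A.ti a u.2 hu1] at hg
  exact A.free a b hab.symm hg hb

theorem Act.faithful : FaithfulSMul G (Sylow p G) := by
  classical
  refine ⟨fun {g h} hgh => ?_⟩
  have := Fintype.ofFinite (Sylow p G)
  obtain ⟨a, b, c, hab, hac, hbc⟩ := Fintype.two_lt_card_iff.1
    (show 2 < Fintype.card (Sylow p G) by
      rw [← Nat.card_eq_fintype_card, A.card_points]; have := A.four; omega)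
  have hfix : ∀ w : Sylow p G, (g⁻¹ * h) • w = w := fun w => by
    rw [mul_smul, ← hgh, inv_smul_smul]
  exact inv_mul_eq_one.1 (A.three_fix hab hbc hac (hfix a) (hfix b) (hfix c))

theorem Act.card_two_point (P b : Sylow p G) (hb : b ≠ P) :
    d * Nat.card ↥(MulAction.stabilizer G P ⊓ MulAction.stabilizer G b) = p ^ f - 1 := by
  have := A.fact
  obtain ⟨K, hK⟩ : ∃ K, K = MulAction.stabilizer G P ⊓ MulAction.stabilizer G b := ⟨_, rfl⟩
  rw [← hK]
  have hmem : ∀ k : K, (k : G) • P = P ∧ (k : G) • b = b := fun k => hK.le k.2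
  let F : ↥(P : Subgroup G) × ↥K → ↥(normalizer ((P : Subgroup G) : Set G)) := fun z =>
    ⟨(z.1 : G) * z.2, mul_mem (le_normalizer z.1.2)
      (Sylow.smul_eq_iff_mem_normalizer.1 (hmem z.2).1)⟩
  have hF : Function.Bijective F := by
    constructor
    · rintro ⟨u, k⟩ ⟨v, l⟩ e
      have e' : (u : G) * k = (v : G) * l := congrArg Subtype.val e
      have hb' : (u : G) • b = (v : G) • b := by
        have := congrArg (fun x : G => x • b) e'
        simp only [mul_smul, (hmem k).2, (hmem l).2] at this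
        exact this
      obtain rfl : u = v := Subtype.ext (inv_mul_eq_one.1
        (A.free P b hb (mul_mem (inv_mem u.2) v.2) (by rw [mul_smul, ← hb', inv_smul_smul])))
      obtain rfl : k = l := Subtype.ext (mul_left_cancel e')
      rfl
    · rintro ⟨g, hg⟩
      have hgP : g • P = P := Sylow.smul_eq_iff_mem_normalizer.2 hg
      obtain ⟨u, hu, -⟩ := A.regular P b (g • b) hb fun e =>
        hb (smul_left_cancel g (e.trans hgP.symm))
      have hk : (u : G)⁻¹ * g ∈ K := hK.ge ⟨by
        show ((u : G)⁻¹ * g) • P = P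
        rw [mul_smul, hgP, A.smul_self_eq P (inv_mem u.2)], by
        show ((u : G)⁻¹ * g) • b = b
        rw [mul_smul, ← hu, inv_smul_smul]⟩
      exact ⟨⟨u, ⟨_, hk⟩⟩, Subtype.ext (mul_inv_cancel_left (u : G) g)⟩
  have h1 := Nat.card_congr (Equiv.ofBijective F hF)
  have h2 := A.card_normalizer P
  rw [← h1, Nat.card_prod, A.hyp.card_sylow P] at h2
  refine Nat.eq_of_mul_eq_mul_left (pow_pos A.hyp.prime.pos f) ?_
  rw [← h2]
  ring

theorem Act.d_le : d ≤ 2 := by rcases A.parity with ⟨-, h⟩ | ⟨-, h⟩ <;> omega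

/-- No normal subgroup acts regularly. -/
theorem Act.no_regular (N : Subgroup G) (hN : N.Normal)
    (hT : MulAction.IsPretransitive N (Sylow p G)) :
    ∃ a : Sylow p G, MulAction.stabilizer N a ≠ ⊥ := by
  classical
  by_contra hcon
  simp only [not_exists, not_not] at hcon
  have := A.fact
  obtain ⟨P⟩ := (inferInstance : Nonempty (Sylow p G))
  have hfree : ∀ (a : Sylow p G) (n : G), n ∈ N → n • a = a → n = 1 := fun a n hn hna => by
    have h1 : (⟨n, hn⟩ : N) ∈ MulAction.stabilizer N a := hna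
    rw [hcon a, mem_bot] at h1
    exact congrArg Subtype.val h1
  have hcardN : Nat.card N = p ^ f + 1 := by
    rw [← A.card_points]
    refine Nat.card_congr (Equiv.ofBijective (fun n : N => n • P) ⟨fun m n e => ?_, fun a =>
      MulAction.exists_smul_eq N P a⟩)
    have e' : (m : G) • P = (n : G) • P := e
    refine Subtype.ext (inv_mul_eq_one.1 (hfree P _ (mul_mem (inv_mem m.2) n.2) ?_))
    rw [mul_smul, ← e', inv_smul_smul]
  -- `P` acts freely, so transitively, on `N` without the identity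
  have hcomm : ∀ n ∈ N, ∀ u ∈ (P : Subgroup G), u ≠ 1 → u * n = n * u → n = 1 := by
    intro n hn u hu hu1 he
    refine hfree P n hn (A.smul_self_eq P ?_)
    rw [← A.hyp.cen_eq_of_ti A.ti P hu hu1]
    exact mem_centralizer_singleton_iff.2 he.symm
  have hord : ∀ m ∈ N, ∀ n ∈ N, m ≠ 1 → n ≠ 1 → orderOf m = orderOf n := by
    intro m hm n hn hm1 hn1
    let F : ↥(P : Subgroup G) → {w : N // w ≠ 1} := fun u => ⟨⟨(u : G) * m * (u : G)⁻¹,
      hN.conj_mem m hm u⟩, fun e => hm1 (by
        have e' : (u : G) * m * (u : G)⁻¹ = 1 := congrArg Subtype.val e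
        rw [mul_inv_eq_one, mul_eq_left] at e'
        exact e')⟩
    have hbij : Function.Bijective F := by
      refine (Nat.bijective_iff_injective_and_card F).2 ⟨fun u v e => ?_, ?_⟩
      · have e' : (u : G) * m * (u : G)⁻¹ = v * m * (v : G)⁻¹ :=
          congrArg (fun w : {w : N // w ≠ 1} => ((w : N) : G)) e
        by_contra hne
        refine hm1 (hcomm m hm _ (mul_mem (inv_mem v.2) u.2) (fun e0 =>
          hne (Subtype.ext (inv_mul_eq_one.1 e0).symm)) ?_)
        calc (v : G)⁻¹ * u * m = (v : G)⁻¹ * ((u : G) * m * (u : G)⁻¹) * u := by group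
          _ = m * ((v : G)⁻¹ * u) := by rw [e']; group
      · have := Fintype.ofFinite N
        rw [Nat.card_eq_fintype_card (α := {w : N // w ≠ 1}), Fintype.card_subtype_compl,
          Fintype.card_subtype_eq, ← Nat.card_eq_fintype_card, hcardN, Nat.add_sub_cancel]
        exact A.hyp.card_sylow P
    obtain ⟨u, hu⟩ := hbij.2 ⟨⟨n, hn⟩, fun e => hn1 (congrArg Subtype.val e)⟩
    have e : (u : G) * m * (u : G)⁻¹ = n :=
      congrArg (fun w : {w : N // w ≠ 1} => ((w : N) : G)) hu
    rw [← e]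
    exact ((MulAut.conj (u : G)).orderOf_eq m).symm
  have hindex : d * N.index = p ^ f * (p ^ f - 1) := by
    refine Eq.trans ?_ (A.card_normalizer P)
    have hi : (normalizer ((P : Subgroup G) : Set G)).index = p ^ f + 1 :=
      (P.card_eq_index_normalizer).symm.trans A.card_points
    refine congrArg (d * ·) (Nat.eq_of_mul_eq_mul_right (show 0 < p ^ f + 1 by omega) ?_)
    rw [← hcardN, N.index_mul_card, ← Subgroup.index_mul_card (normalizer ((P : Subgroup G) : Set G)),
      hi, hcardN, mul_comm]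
  obtain ⟨g, hg⟩ := A.torus
  have hgN : (orderOf g).Coprime N.index → g ∈ N := fun hc => by
    obtain ⟨w, hw⟩ := exists_pow_eq_self_of_coprime hc.symm
    exact hw ▸ N.pow_mem (N.pow_index_mem g) w
  have hq4 := A.four
  have hg1 : g ≠ 1 := fun e => by
    rw [e, orderOf_one] at hg
    have := A.d_le
    omega
  rcases A.parity with ⟨hp, hd⟩ | ⟨hp, hd⟩
  · -- even case
    rw [hd, one_mul] at hg hindex
    have heven : 2 ∣ p ^ f := hp ▸ dvd_pow_self p A.hyp.pos.ne'
    have hgm : g ∈ N := hgN (by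
      rw [hg, hindex]
      refine Nat.Coprime.mul_right ((Nat.coprime_self_add_left).2 (Nat.coprime_one_left _)) ?_
      refine Nat.coprime_of_dvd' fun r hr h1 h2 => ?_
      have h3 : r ∣ 2 := by
        have := Nat.dvd_sub h1 h2
        rwa [show p ^ f + 1 - (p ^ f - 1) = 2 by omega] at this
      rcases (Nat.dvd_prime Nat.prime_two).1 h3 with e | e
      · exact e ▸ dvd_rfl
      · exfalso
        subst e
        omega)
    have htop : zpowers g = N :=
      eq_of_le_of_card_ge (zpowers_le.2 hgm) (by rw [hcardN, Nat.card_zpowers, hg])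
    have hNcomm : ∀ m ∈ N, ∀ n ∈ N, m * n = n * m := by
      intro m hm n hn
      rw [← htop] at hm hn
      obtain ⟨i, rfl⟩ := mem_zpowers_iff.1 hm
      obtain ⟨j, rfl⟩ := mem_zpowers_iff.1 hn
      exact ((Commute.refl g).zpow_zpow i j).eq
    have hinv : ∀ u ∈ (P : Subgroup G), u ≠ 1 → u * g * u⁻¹ = g⁻¹ := by
      intro u hu hu1
      have huu : u * u = 1 := by
        have := A.hyp.orderOf_eq P.2 hu hu1
        rw [hp] at this
        rw [← sq, ← this, pow_orderOf_eq_one]
      have hui : u⁻¹ = u := inv_eq_of_mul_eq_one_right huu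
      have hmem := hN.conj_mem g hgm u
      refine eq_inv_of_mul_eq_one_left (hcomm _ (mul_mem hmem hgm) u hu hu1 ?_)
      rw [hNcomm _ hmem _ hgm, hui]
      calc u * (g * (u * g * u)) = u * g * u * g * u := by group
        _ = (u * g * u) * g * u := rfl
        _ = g * (u * g * u) * u := by
          rw [hNcomm _ (by simpa [hui] using hmem) _ hgm]
    obtain ⟨u, hu, hu1⟩ : ∃ u ∈ (P : Subgroup G), u ≠ 1 := by
      by_contra hall
      simp only [not_exists, not_and, not_not] at hall
      have h1 : (P : Subgroup G) = ⊥ := (eq_bot_iff_forall _).2 hall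
      have := A.hyp.card_sylow P
      rw [show Nat.card P = Nat.card (P : Subgroup G) from rfl, h1, Subgroup.card_bot] at this
      omega
    obtain ⟨v, hv, hv1, hvu⟩ : ∃ v ∈ (P : Subgroup G), v ≠ 1 ∧ v ≠ u := by
      by_contra hall
      simp only [not_exists, not_and, not_not] at hall
      have hle : Nat.card (P : Subgroup G) ≤ Nat.card (Fin 2) := Nat.card_le_card_of_injective
        (fun x : (P : Subgroup G) => if (x : G) = 1 then (0 : Fin 2) else 1) fun x y e => by
        by_cases hx : (x : G) = 1 <;> by_cases hy : (y : G) = 1 <;> simp [hx, hy] at e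
        · exact Subtype.ext (hx.trans hy.symm)
        · exact Subtype.ext ((hall _ x.2 hx).trans (hall _ y.2 hy).symm)
      have := A.hyp.card_sylow P
      rw [Nat.card_fin] at hle
      change Nat.card (P : Subgroup G) = p ^ f at this
      omega
    refine hg1 (hcomm g hgm (v * u) (mul_mem hv hu) (fun e => hvu ?_) ?_)
    · have huu : u⁻¹ = u := by
        refine inv_eq_of_mul_eq_one_right ?_
        have := A.hyp.orderOf_eq P.2 hu hu1
        rw [hp] at this
        rw [← sq, ← this, pow_orderOf_eq_one]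
      rw [eq_inv_of_mul_eq_one_left e, huu]
    · refine mul_inv_eq_iff_eq_mul.1 ?_
      calc v * u * g * (v * u)⁻¹ = v * (u * g * u⁻¹) * v⁻¹ := by group
        _ = (v * g * v⁻¹)⁻¹ := by rw [hinv u hu hu1]; group
        _ = g := by rw [hinv v hv hv1, inv_inv]
  · -- odd case
    rw [hd] at hg hindex
    have hqodd : p ^ f % 2 = 1 := Nat.odd_iff.1 (A.hyp.prime.odd_of_ne_two hp).pow
    have : Fact (Nat.Prime 2) := ⟨Nat.prime_two⟩
    obtain ⟨t, ht⟩ := exists_prime_orderOf_dvd_card' (G := N) 2 (hcardN ▸ (by omega))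
    rw [← orderOf_coe] at ht
    have ht1 : (t : G) ≠ 1 := fun e => by rw [e, orderOf_one] at ht; omega
    have hall : ∀ n ∈ N, n ≠ 1 → orderOf n = 2 := fun n hn hn1 =>
      (hord n hn t t.2 hn1 ht1).trans ht
    obtain ⟨a, ha⟩ : ∃ a, Nat.card N = 2 ^ a := IsPGroup.iff_card.1 fun n => ⟨1, Subtype.ext (by
      by_cases hn : (n : G) = 1
      · simp [hn]
      · rw [pow_one, SubgroupClass.coe_pow, ← hall n n.2 hn, pow_orderOf_eq_one]; rfl)⟩
    rw [hcardN] at ha
    have ha3 : 3 ≤ a := by
      by_contra hlt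
      have : 2 ^ a ≤ 2 ^ 2 := Nat.pow_le_pow_right (by norm_num) (by omega)
      omega
    obtain ⟨c, rfl⟩ : ∃ c, a = c + 3 := ⟨a - 3, by omega⟩
    rw [pow_add] at ha
    have hgm : g ∈ N := hgN (by
      have hgo : orderOf g = 2 ^ (c + 2) := by rw [pow_add]; omega
      rw [hgo]
      refine Nat.Coprime.pow_left _ (Nat.coprime_two_left.2 ?_)
      obtain ⟨k, hk⟩ : ∃ k, p ^ f - 1 = 2 * k := ⟨(p ^ f - 1) / 2, by omega⟩
      have h1 : N.index = p ^ f * k := by
        refine Nat.eq_of_mul_eq_mul_left (show 0 < 2 by norm_num) ?_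
        rw [hindex, hk]
        ring
      rw [h1, Nat.odd_mul]
      exact ⟨(A.hyp.prime.odd_of_ne_two hp).pow, Nat.odd_iff.2 (by omega)⟩)
    have := hall g hgm hg1
    omega

theorem Act.zassenhaus : Cfsg.IsZassenhausGroup G (Sylow p G) := by
  classical
  refine ⟨A.faithful, A.two_trans, fun g a b c h1 h2 h3 k1 k2 k3 => A.three_fix h1 h2 h3 k1 k2 k3,
    ?_, A.no_regular⟩
  have := A.fact
  have := Fintype.ofFinite (Sylow p G)
  obtain ⟨a, b, hab⟩ := Fintype.exists_pair_of_one_lt_card
    (show 1 < Fintype.card (Sylow p G) by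
      rw [← Nat.card_eq_fintype_card, A.card_points]; have := A.four; omega)
  have hK := A.card_two_point a b hab.symm
  have hne : MulAction.stabilizer G a ⊓ MulAction.stabilizer G b ≠ ⊥ := fun e => by
    rw [e, Subgroup.card_bot] at hK
    have := A.four
    have := A.d_le
    omega
  obtain ⟨⟨g, hga, hgb⟩, hg⟩ := ne_bot_iff_exists_ne_one.1 hne
  exact ⟨g, fun e => hg (Subtype.ext e), a, b, hab, hga, hgb⟩

/-- Recognition. -/
theorem Act.recognise : ∃ (K : Type) (_ : Field K) (_ : Fintype K), Fintype.card K = p ^ f ∧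
    Nonempty (G ≃* Matrix.ProjectiveSpecialLinearGroup (Fin 2) K) := by
  classical
  have := A.fact
  have := Fintype.ofFinite (Sylow p G)
  obtain ⟨P⟩ := (inferInstance : Nonempty (Sylow p G))
  obtain ⟨b, hb⟩ := Fintype.exists_ne_of_one_lt_card
    (show 1 < Fintype.card (Sylow p G) by
      rw [← Nat.card_eq_fintype_card, A.card_points]; have := A.four; omega) P
  have hle : (P : Subgroup G) ≤ MulAction.stabilizer G P := fun u hu => A.smul_self_eq P hu
  have hn : ((P : Subgroup G).subgroupOf (MulAction.stabilizer G P)).Normal := by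
    refine ⟨fun x hx g => ?_⟩
    rw [mem_subgroupOf] at hx ⊢
    exact (mem_normalizer_iff.1 (Sylow.smul_eq_iff_mem_normalizer.1 g.2) x).1 hx
  have hab : IsMulCommutative (P : Subgroup G) :=
    ⟨⟨fun x y => Subtype.ext (A.comm P x.2 y.2)⟩⟩
  have hK := A.card_two_point P b hb
  have hΩ : Fintype.card (Sylow p G) = p ^ f + 1 := by
    rw [← Nat.card_eq_fintype_card, A.card_points]
  have hq4 := A.four
  rcases CfsgLib.Perm.ZassenhausClass.classify A.zassenhaus hb.symm (P : Subgroup G) hle hn hab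
    (A.regular P) with ⟨hc, h3, hsharp⟩ | ⟨-, K, iK, iKf, hchar, hcard, hiso⟩
  · rcases A.parity with ⟨hp, hd⟩ | ⟨-, hd⟩
    · let φ : G →* Equiv.Perm (Sylow p G) := MulAction.toPermHom G _
      have hφ : Function.Injective φ := fun g h e =>
        A.faithful.eq_of_smul_eq_smul fun w => Equiv.Perm.congr_fun e w
      have h3' : MulAction.IsMultiplyPretransitive φ.range (Sylow p G) 3 := ⟨fun x y => by
        obtain ⟨g, hg⟩ := h3.exists_smul_eq x y
        exact ⟨⟨φ g, g, rfl⟩, hg⟩⟩
      have hsharp' : ∀ x : Fin 3 ↪ Sylow p G, MulAction.stabilizer φ.range x = ⊥ := by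
        intro x
        rw [Subgroup.eq_bot_iff_forall]
        rintro ⟨_, g, rfl⟩ hg
        have h1 : g ∈ MulAction.stabilizer G x := hg
        rw [hsharp x, mem_bot] at h1
        exact Subtype.ext (by simp [h1])
      obtain ⟨F, hF, hFF, hcard, ⟨e⟩⟩ := Cfsg.Agent.S0727.result (f := f) A.hyp.pos
        (hΩ.trans (by rw [hp])) φ.range h3' hsharp'
      have h2 : ringChar F = 2 := FiniteField.even_card_iff_char_two.2 (by
        rw [hcard]
        exact Nat.dvd_iff_mod_eq_zero.1 (dvd_pow_self 2 A.hyp.pos.ne'))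
      exact ⟨F, hF, hFF, hcard.trans (by rw [hp]), ⟨((MonoidHom.ofInjective hφ).trans e).trans
        (MulEquiv.ofBijective _ (CfsgLib.Invol.psl_toPGL_bijective_char_two h2)).symm⟩⟩
    · exfalso
      rw [hd, hc, hΩ] at hK
      omega
  · exact ⟨K, iK, iKf, Nat.succ_injective (hcard.symm.trans hΩ), hiso⟩

end CfsgLib.Recog.PSLOrder
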