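import Cfsg.Agent.Lib.StructC.FrobCount
import Cfsg.Agent.Lib.Invol.Basic
import Mathlib.GroupTheory.Sylow

/-!
# Counting elements of order `p` when such elements are isolated

`G` has order `q * M` with `d * M + 1 = q ^ 2`, and `p` divides no element order except `p`.
Then there are exactly `q ^ 2 - 1` elements of order `p` and their centralisers have order `q`.
-/

set_option autoImplicit false
set_option linter.unusedSectionVars false

namespace CfsgLib.Recog.PSLOrder

open Subgroup

universe u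

local notation "Cen[" x "]" => Subgroup.centralizer ({x} : Set _)

variable {G : Type u} [Group G] [Finite G]

/-- The hypotheses. -/
structure Hyp (G : Type u) [Group G] (p f M d : ℕ) : Prop where
  prime : p.Prime
  pos : 0 < f
  four : 4 ≤ p ^ f
  card : Nat.card G = p ^ f * M
  eq : d * M + 1 = p ^ f * p ^ f
  dpos : 0 < d
  dlt : d < p
  isolated : ∀ g : G, p ∣ orderOf g → orderOf g = p

variable {p f M d : ℕ} (h : Hyp G p f M d)
include h

theorem Hyp.not_dvd_M : ¬ p ∣ M := fun hd => by
  have h1 : p ∣ p ^ f * p ^ f := Dvd.dvd.mul_right (dvd_pow_self p h.pos.ne') _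
  rw [← h.eq, ← Nat.dvd_add_iff_right (hd.mul_left d)] at h1
  exact h.prime.one_lt.not_ge (Nat.le_of_dvd one_pos h1)

theorem Hyp.M_pos : 0 < M := Nat.pos_of_ne_zero fun e => h.not_dvd_M (e ▸ dvd_zero p)

theorem Hyp.factorization : (Nat.card G).factorization p = f := by
  rw [h.card, Nat.factorization_mul (pow_ne_zero _ h.prime.ne_zero) h.M_pos.ne', Finsupp.coe_add,
    Pi.add_apply, Nat.Prime.factorization_pow h.prime, Finsupp.single_eq_same,
    Nat.factorization_eq_zero_of_not_dvd h.not_dvd_M, add_zero]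

theorem Hyp.card_sylow (P : Sylow p G) : Nat.card P = p ^ f := by
  have : Fact p.Prime := ⟨h.prime⟩
  rw [P.card_eq_multiplicity, h.factorization]

theorem Hyp.mul_ne {x y : G} (hx : orderOf x = p) (hy : y * x = x * y) {r : ℕ} (hr : r.Prime)
    (hy' : orderOf y = r) : r = p := by
  by_contra hne
  have hc : (orderOf x).Coprime (orderOf y) := by
    rw [hx, hy']
    exact (Nat.coprime_primes h.prime hr).2 (Ne.symm hne)
  have h1 := (show Commute x y from hy.symm).orderOf_mul_eq_mul_orderOf_of_coprime hc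
  rw [hx, hy'] at h1
  have h2 := h.isolated (x * y) (h1 ▸ dvd_mul_right p r)
  rw [h1] at h2
  have := hr.one_lt
  nlinarith [h.prime.one_lt]

/-- Centralisers of elements of order `p` are `p`-groups. -/
theorem Hyp.isPGroup_cen {x : G} (hx : orderOf x = p) : IsPGroup p Cen[x] := by
  have : Fact p.Prime := ⟨h.prime⟩
  rw [IsPGroup.iff_card]
  refine ⟨(Nat.card Cen[x]).primeFactorsList.length,
    Nat.eq_prime_pow_of_unique_prime_dvd Nat.card_pos.ne' fun {r} hr hd => ?_⟩
  have : Fact r.Prime := ⟨hr⟩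
  obtain ⟨y, hy⟩ := exists_prime_orderOf_dvd_card' r hd
  exact h.mul_ne hx (mem_centralizer_singleton_iff.1 y.2) hr ((orderOf_coe y).trans hy)

theorem Hyp.card_cen_le {x : G} (hx : orderOf x = p) : ∃ i ≤ f, Nat.card Cen[x] = p ^ i := by
  have : Fact p.Prime := ⟨h.prime⟩
  obtain ⟨P, hP⟩ := (h.isPGroup_cen hx).exists_le_sylow
  have := card_dvd_of_le hP
  rw [h.card_sylow] at this
  exact (Nat.dvd_prime_pow h.prime).1 this

theorem Hyp.card_class {x : G} (hx : orderOf x = p) : ∃ i ≤ f,
    Nat.card Cen[x] = p ^ i ∧ Nat.card {y : G // IsConj x y} = p ^ (f - i) * M := by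
  obtain ⟨i, hi, e⟩ := h.card_cen_le hx
  refine ⟨i, hi, e, ?_⟩
  have h1 := CfsgLib.Invol.card_class_mul_card_centralizer x
  rw [e, h.card] at h1
  refine Nat.eq_of_mul_eq_mul_right (pow_pos h.prime.pos i) (h1.trans ?_)
  rw [mul_right_comm, ← pow_add, Nat.sub_add_cancel hi]

theorem Hyp.dvd_count : M ∣ Nat.card {x : G // orderOf x = p} := by
  classical
  have := Fintype.ofFinite G
  rw [Nat.card_eq_fintype_card, Fintype.card_subtype,
    Finset.card_eq_sum_card_image ConjClasses.mk]
  refine Finset.dvd_sum fun c hc => ?_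
  obtain ⟨a, ha, rfl⟩ := Finset.mem_image.1 hc
  obtain ⟨i, -, -, hi⟩ := h.card_class (Finset.mem_filter.1 ha).2
  refine Dvd.intro_left (p ^ (f - i)) (hi.symm.trans ?_)
  rw [Nat.card_eq_fintype_card, Fintype.card_subtype]
  congr 1
  ext y
  simp only [Finset.mem_filter, Finset.mem_univ, true_and, ConjClasses.mk_eq_mk_iff_isConj]
  refine ⟨fun hy => ⟨?_, hy.symm⟩, fun hy => hy.2.symm⟩
  obtain ⟨g, rfl⟩ := isConj_iff.1 hy
  exact ((MulAut.conj g).orderOf_eq a).trans (Finset.mem_filter.1 ha).2

/-- The number of elements of order `p`. -/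
theorem Hyp.count : Nat.card {x : G // orderOf x = p} = d * M := by
  classical
  have : Fact p.Prime := ⟨h.prime⟩
  have := Fintype.ofFinite G
  obtain ⟨j, hj⟩ := h.dvd_count
  rw [mul_comm] at hj
  -- at most `|G| - 1` of them
  have hlt : j * M < p ^ f * M := by
    rw [← hj, ← h.card, Nat.card_eq_fintype_card, Nat.card_eq_fintype_card]
    refine Fintype.card_subtype_lt (x := (1 : G)) fun e => ?_
    rw [orderOf_one] at e
    exact h.prime.one_lt.ne e
  have hjlt : j < p ^ f := Nat.lt_of_mul_lt_mul_right hlt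
  have hd' := CfsgLib.StructC.dvd_card_pow_eq_one (G := G) (p ^ f) (Dvd.intro M h.card.symm)
  have hsplit : Nat.card {x : G // x ^ p ^ f = 1} = Nat.card {x : G // orderOf x = p} + 1 := by
    simp only [Nat.card_eq_fintype_card, Fintype.card_subtype]
    rw [show (Finset.univ.filter fun x : G => x ^ p ^ f = 1) =
      insert 1 (Finset.univ.filter fun x : G => orderOf x = p) from ?_, Finset.card_insert_of_notMem]
    · simp only [Finset.mem_filter, Finset.mem_univ, true_and, orderOf_one]
      exact h.prime.one_lt.ne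
    · ext x
      simp only [Finset.mem_filter, Finset.mem_univ, true_and, Finset.mem_insert]
      constructor
      · intro hx
        refine or_iff_not_imp_left.2 fun hx1 => h.isolated x ?_
        obtain ⟨k, -, hk⟩ := (Nat.dvd_prime_pow h.prime).1 (orderOf_dvd_of_pow_eq_one hx)
        rw [hk]
        refine dvd_pow_self p fun hk0 => hx1 ?_
        rw [hk0, pow_zero, orderOf_eq_one_iff] at hk
        exact hk
      · rintro (rfl | hx)
        · exact one_pow _
        · rw [← orderOf_dvd_iff_pow_eq_one, hx]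
          exact dvd_pow_self p h.pos.ne'
  rw [hsplit, hj] at hd'
  -- modulo `q` this says `j = d`
  have hdlt : d < p ^ f := h.dlt.trans_le (Nat.le_self_pow h.pos.ne' p)
  obtain ⟨a, ha⟩ := hd'
  have he : d * (p ^ f * a) + j = j * (p ^ f * p ^ f) + d := by
    rw [← ha, ← h.eq]
    ring
  have hmod : j % p ^ f = d % p ^ f := by
    have := congrArg (· % p ^ f) he
    simpa [Nat.add_mod, Nat.mul_mod] using this
  rw [Nat.mod_eq_of_lt hjlt, Nat.mod_eq_of_lt hdlt] at hmod
  rw [hj, hmod]

/-- Centralisers of elements of order `p` have order `q`. -/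
theorem Hyp.card_cen {x : G} (hx : orderOf x = p) : Nat.card Cen[x] = p ^ f := by
  classical
  obtain ⟨i, hi, e, hc⟩ := h.card_class hx
  rw [e]
  have hle : p ^ (f - i) * M ≤ d * M := by
    rw [← hc, ← h.count]
    exact Nat.card_le_card_of_injective
      (fun y => (⟨y.1, by
        obtain ⟨g, hg⟩ := isConj_iff.1 y.2
        rw [← hg]
        exact ((MulAut.conj g).orderOf_eq x).trans hx⟩ : {y : G // orderOf y = p}))
      fun a b hab => Subtype.ext (congrArg (fun z : {y : G // orderOf y = p} => (z : G)) hab)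
  have h1 : p ^ (f - i) ≤ d := Nat.le_of_mul_le_mul_right hle h.M_pos
  have h2 : f - i = 0 := by
    by_contra hne
    have := Nat.le_self_pow hne p
    have := h.dlt
    omega
  rw [show i = f by omega]

theorem Hyp.orderOf_eq {P : Subgroup G} (hP : IsPGroup p P) {x : G} (hx : x ∈ P) (hx1 : x ≠ 1) :
    orderOf x = p := by
  obtain ⟨k, hk⟩ := hP ⟨x, hx⟩
  have hk' : x ^ p ^ k = 1 := congrArg Subtype.val hk
  obtain ⟨i, -, hi⟩ := (Nat.dvd_prime_pow h.prime).1 (orderOf_dvd_of_pow_eq_one hk')
  refine h.isolated x (hi ▸ dvd_pow_self p fun e => hx1 ?_)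
  rw [e, pow_zero, orderOf_eq_one_iff] at hi
  exact hi

/-- If distinct Sylow subgroups meet trivially, each is the centraliser of its nonidentity elements. -/
theorem Hyp.cen_eq_of_ti (hTI : ∀ P Q : Sylow p G, P ≠ Q → (P : Subgroup G) ⊓ Q = ⊥)
    (P : Sylow p G) {x : G} (hx : x ∈ (P : Subgroup G)) (hx1 : x ≠ 1) : Cen[x] = (P : Subgroup G) := by
  have : Fact p.Prime := ⟨h.prime⟩
  have hxp := h.orderOf_eq P.2 hx hx1
  obtain ⟨Q, hQ⟩ := (h.isPGroup_cen hxp).exists_le_sylow
  have hQe : Cen[x] = (Q : Subgroup G) :=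
    eq_of_le_of_card_ge hQ (by rw [h.card_cen hxp, h.card_sylow])
  by_cases hPQ : P = Q
  · rw [hQe, hPQ]
  · exfalso
    have := hTI P Q hPQ
    exact hx1 (by
      rw [← Subgroup.mem_bot, ← this]
      exact ⟨hx, hQe ▸ mem_centralizer_singleton_iff.2 rfl⟩)

end CfsgLib.Recog.PSLOrder
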