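import Cfsg.Agent.Lib.Recog.PSLOrderCount
import Mathlib.GroupTheory.Transfer
import Mathlib.GroupTheory.SpecificGroups.Cyclic
import Mathlib.Tactic.Group

/-!
# Trivial intersection of the Sylow subgroups in the odd case

`G` has the order and the element orders of `PSL(2, q)`, `q` odd.
-/

set_option autoImplicit false
set_option linter.unusedSectionVars false

namespace CfsgLib.Recog.PSLOrder

open Subgroup

universe u

local notation "Cen[" x "]" => Subgroup.centralizer ({x} : Set _)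

variable {G : Type u} [Group G] [Finite G]

/-- A cyclic torus type: element orders prime to the others divide `a`, and `a` is an order. -/
structure Torus (G : Type u) [Group G] (a b q r : ℕ) : Prop where
  prime : r.Prime
  ne_two : r ≠ 2
  dvd : r ∣ a
  card : Nat.card G = a * (2 * q * b)
  exists_elt : ∃ g : G, orderOf g = a
  absorb : ∀ g : G, r ∣ orderOf g → orderOf g ∣ a
  cop : a.Coprime (q * b)
  two : (2 * q * b) % r = 2

variable {a b q r : ℕ}

theorem Torus.not_dvd (T : Torus G a b q r) : ¬ r ∣ 2 * q * b := fun hd => by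
  have := Nat.dvd_iff_mod_eq_zero.1 hd
  have := T.two
  omega

/-- The normaliser of a Sylow `r`-subgroup induces at most an involution on it. -/
theorem Torus.sq_mem_sylow (T : Torus G a b q r) (R : Sylow r G) {g : G}
    (hg : g ∈ normalizer ((R : Subgroup G) : Set G)) :
    g * g ∈ centralizer ((R : Subgroup G) : Set G) ∧ IsCyclic R := by
  classical
  have : Fact r.Prime := ⟨T.prime⟩
  obtain ⟨e, he⟩ := T.exists_elt
  have ha0 : 0 < a := he ▸ orderOf_pos e
  -- a generator of some conjugate of `R`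
  obtain ⟨v, hv⟩ : ∃ v, Nat.card R = r ^ v := ⟨_, R.card_eq_multiplicity⟩
  have hRdvd : r ^ v ∣ a := by
    have h1 := (R : Subgroup G).card_subgroup_dvd_card
    rw [hv, T.card] at h1
    exact (Nat.Coprime.pow_left v (T.prime.coprime_iff_not_dvd.2 T.not_dvd)).dvd_of_dvd_mul_right h1
  have hS : Nat.card (zpowers (e ^ (a / r ^ v))) = r ^ v := by
    rw [Nat.card_zpowers, orderOf_pow' _ (Nat.div_pos (Nat.le_of_dvd ha0 hRdvd)
      (pow_pos T.prime.pos v)).ne', he, Nat.gcd_eq_right (Nat.div_dvd_of_dvd hRdvd),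
      Nat.div_div_self hRdvd ha0.ne']
  let S : Sylow r G := Sylow.ofCard (zpowers (e ^ (a / r ^ v)))
    (hS.trans (hv.symm.trans R.card_eq_multiplicity))
  obtain ⟨x, hx⟩ := MulAction.exists_smul_eq G S R
  have hconj : orderOf (x * e * x⁻¹) = a := ((MulAut.conj x).orderOf_eq e).trans he
  obtain ⟨c, hcdef⟩ : ∃ c, c = x * e ^ (a / r ^ v) * x⁻¹ := ⟨_, rfl⟩
  have hRgen : (R : Subgroup G) = zpowers c := by
    rw [← hx, Sylow.coe_subgroup_smul, hcdef]
    show (zpowers (e ^ (a / r ^ v))).map (MulAut.conj x).toMonoidHom = _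
    rw [MonoidHom.map_zpowers]
    simp [MulAut.conj_apply]
  have hcyc : IsCyclic R := by rw [hRgen]; infer_instance
  refine ⟨?_, hcyc⟩
  obtain ⟨C, hC⟩ : ∃ C, C = centralizer ((R : Subgroup G) : Set G) := ⟨_, rfl⟩
  have heC : zpowers (x * e * x⁻¹) ≤ C := by
    rw [zpowers_le, hC, hRgen]
    intro y hy
    obtain ⟨k, rfl⟩ := mem_zpowers_iff.1 hy
    rw [hcdef, ← conj_pow]
    exact ((Commute.self_pow _ _).symm.zpow_left k).eq
  have haC : a ∣ Nat.card C := by
    rw [← hconj, ← Nat.card_zpowers]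
    exact card_dvd_of_le heC
  have hv1 : v ≠ 0 := fun e0 => by
    have := R.not_dvd_index
    have h1 := (R : Subgroup G).index_mul_card
    rw [hv, e0, pow_zero, mul_one] at h1
    rw [h1, T.card] at this
    exact this (T.dvd.mul_right _)
  have hcord : orderOf c = r ^ v := by rw [← Nat.card_zpowers, ← hRgen, hv]
  have hC2 : Nat.card C ∣ 2 * a := by
    have hd : Nat.card C ∣ 2 * a * (q * b) := by
      rw [show 2 * a * (q * b) = a * (2 * q * b) by ring, ← T.card]
      exact C.card_subgroup_dvd_card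
    refine Nat.Coprime.dvd_of_dvd_mul_right (Nat.coprime_of_dvd fun s hs hsC hsqb => ?_) hd
    have : Fact s.Prime := ⟨hs⟩
    obtain ⟨y, hy⟩ := exists_prime_orderOf_dvd_card' (G := C) s hsC
    rw [← orderOf_coe] at hy
    have hsr : s ≠ r := fun e0 => T.not_dvd (e0 ▸ hsqb.trans ⟨2, by ring⟩)
    have hcy : Commute c (y : G) := by
      exact hC.le y.2 c (hRgen ▸ mem_zpowers c)
    have hcy' := hcy.orderOf_mul_eq_mul_orderOf_of_coprime (by
      rw [hcord, hy]
      exact Nat.Coprime.pow_left _ ((Nat.coprime_primes T.prime hs).2 hsr.symm))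
    have := T.absorb (c * y) (by
      rw [hcy', hcord]
      exact (dvd_pow_self r hv1).mul_right _)
    rw [hcy', hy] at this
    exact hs.not_dvd_one (T.cop ▸ Nat.dvd_gcd ((dvd_mul_left _ _).trans this) hsqb)
  obtain ⟨δ, hδ⟩ := haC
  have hδ2 : δ ∣ 2 := Nat.dvd_of_mul_dvd_mul_left ha0 (by rw [← hδ, mul_comm a 2]; exact hC2)
  -- the normaliser
  obtain ⟨N, hN⟩ : ∃ N, N = normalizer ((R : Subgroup G) : Set G) := ⟨_, rfl⟩
  have hCN : C ≤ N := by rw [hC, hN]; exact centralizer_le_normalizer _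
  have hnorm : (C.subgroupOf N).Normal := by
    refine ⟨fun y hy n => ?_⟩
    rw [mem_subgroupOf, hC, mem_centralizer_iff] at hy ⊢
    intro w hw
    have hn : (n : G) ∈ normalizer ((R : Subgroup G) : Set G) := hN.le n.2
    have hw' : (n : G)⁻¹ * w * n ∈ (R : Subgroup G) := by
      have := (mem_normalizer_iff.1 ((normalizer ((R : Subgroup G) : Set G)).inv_mem hn) w).1 hw
      simpa using this
    have := hy _ hw'
    simp only [coe_mul, InvMemClass.coe_inv]
    calc w * ((n : G) * y * (n : G)⁻¹) = n * ((n : G)⁻¹ * w * n * y) * (n : G)⁻¹ := by group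
      _ = n * ((y : G) * ((n : G)⁻¹ * w * n)) * (n : G)⁻¹ := by rw [this]
      _ = (n : G) * y * (n : G)⁻¹ * w := by group
  obtain ⟨k, hk⟩ : ∃ k, k = (C.subgroupOf N).index := ⟨_, rfl⟩
  have hkN : k * Nat.card C = Nat.card N := by
    rw [hk, ← Nat.card_congr (subgroupOfEquivOfLe hCN).toEquiv]
    exact (C.subgroupOf N).index_mul_card
  obtain ⟨s, hs⟩ : ∃ s, s = N.index := ⟨_, rfl⟩
  have hsN : s * k * δ = 2 * q * b := by
    refine Nat.eq_of_mul_eq_mul_left ha0 ?_
    rw [← T.card, ← N.index_mul_card, ← hkN, hδ, ← hs]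
    ring
  have hs1 : s % r = 1 := by
    have := card_sylow_modEq_one r G
    rw [Sylow.card_eq_index_normalizer R] at this
    rw [hs, hN]
    exact Eq.trans this (Nat.one_mod_eq_one.2 T.prime.one_lt.ne')
  have hkr : k ∣ r - 1 := by
    have hcop : k.Coprime r := by
      refine (T.prime.coprime_iff_not_dvd.2 fun hd => T.not_dvd ?_).symm
      rw [← hsN]
      exact (hd.mul_left s).mul_right δ
    have h1 : k ∣ Nat.card (MulAut (R : Subgroup G)) := by
      subst hN hC
      rw [hk, ← normalizerMonoidHom_ker, index_ker]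
      exact (R : Subgroup G).normalizerMonoidHom.range.card_subgroup_dvd_card
    rw [IsCyclic.card_mulAut, hv, Nat.totient_prime_pow T.prime (Nat.pos_of_ne_zero hv1)] at h1
    exact (Nat.Coprime.pow_right _ hcop).dvd_of_dvd_mul_left h1
  have hk2 : k ∣ 2 := by
    have hmod : (k * δ) % r = 2 := by
      have h1 := T.two
      rw [← hsN, mul_assoc, Nat.mul_mod, hs1, one_mul, Nat.mod_mod] at h1
      exact h1
    have hkle : k ≤ r - 1 := Nat.le_of_dvd (by have := T.prime.two_le; omega) hkr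
    have hr3 : 3 ≤ r := by have := T.prime.two_le; have := T.ne_two; omega
    rcases (Nat.dvd_prime Nat.prime_two).1 hδ2 with rfl | rfl
    · rw [mul_one, Nat.mod_eq_of_lt (by omega)] at hmod
      exact hmod ▸ dvd_rfl
    · have h2 : k * 2 = 2 ∨ k * 2 = r + 2 := by
        have := Nat.div_add_mod (k * 2) r
        rw [hmod] at this
        have : k * 2 / r < 2 := by rw [Nat.div_lt_iff_lt_mul (by omega)]; omega
        interval_cases h' : k * 2 / r <;> omega
      rcases h2 with h2 | h2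
      · exact (show k = 1 by omega) ▸ one_dvd 2
      · exfalso
        have : r % 2 = 1 := Nat.odd_iff.1 (T.prime.odd_of_ne_two T.ne_two)
        omega
  have hpow := Subgroup.pow_index_mem (C.subgroupOf N) (⟨g, hN ▸ hg⟩ : N)
  rw [← hk, mem_subgroupOf] at hpow
  obtain ⟨l, hl⟩ := hk2
  have := C.pow_mem hpow l
  simp only [SubgroupClass.coe_pow, ← pow_mul, ← hl] at this
  rw [← hC, ← sq]
  exact this

/-- The normaliser of an `r`-subgroup induces at most an involution on it. -/
theorem Torus.sq_mem (T : Torus G a b q r) {R : Subgroup G} (hR : IsPGroup r R) {g : G}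
    (hg : g ∈ normalizer (R : Set G)) : g * g ∈ centralizer (R : Set G) := by
  have : Fact r.Prime := ⟨T.prime⟩
  obtain ⟨S, hS⟩ := hR.exists_le_sylow
  have hSC : (S : Subgroup G) ≤ centralizer (R : Set G) := by
    have := (T.sq_mem_sylow S (one_mem _)).2
    intro y hy w hw
    have := IsCyclic.isMulCommutative (α := (S : Subgroup G))
    exact congrArg Subtype.val (this.is_comm.comm ⟨w, hS hw⟩ ⟨y, hy⟩)
  have hgS : (g • S : Sylow r G) ≤ centralizer (R : Set G) := by
    intro y hy w hw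
    rw [Sylow.coe_subgroup_smul, mem_pointwise_smul_iff_inv_smul_mem] at hy
    have hy' := hSC hy
    have hw' : g⁻¹ * w * g ∈ R := by
      have := (mem_normalizer_iff.1 ((normalizer (R : Set G)).inv_mem hg) w).1 hw
      simpa using this
    have h1 := hy' _ hw'
    simp only [MulAut.smul_def, MulAut.conj_inv_apply] at h1
    calc w * y = g * (g⁻¹ * w * g * (g⁻¹ * y * g)) * g⁻¹ := by group
      _ = g * (g⁻¹ * y * g * (g⁻¹ * w * g)) * g⁻¹ := by rw [h1]
      _ = y * w := by group
  obtain ⟨c, hc⟩ := MulAction.exists_smul_eq (centralizer (R : Set G))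
    ((g • S).subtype hgS) (S.subtype hSC)
  have hmem : (c : G) * g ∈ normalizer ((S : Subgroup G) : Set G) := by
    refine Sylow.smul_eq_iff_mem_normalizer.1 ?_
    rw [mul_smul]
    refine Sylow.subtype_injective (N := centralizer (R : Set G)) (hP := ?_) (hQ := hSC) ?_
    · intro y hy
      rw [Sylow.coe_subgroup_smul, mem_pointwise_smul_iff_inv_smul_mem] at hy
      have h2 := hgS hy
      simp only [MulAut.smul_def, MulAut.conj_inv_apply] at h2
      have h3 := mul_mem (mul_mem c.2 h2) (inv_mem c.2)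
      rwa [show (c : G) * ((c : G)⁻¹ * y * c) * (c : G)⁻¹ = y by group] at h3
    · rw [← hc, Sylow.smul_subtype]; rfl
  have h2 := (T.sq_mem_sylow S hmem).1
  have h2' : (c : G) * g * ((c : G) * g) ∈ centralizer (R : Set G) :=
    centralizer_le (fun w hw => hS hw) h2
  have hgc : g * (c : G) * g⁻¹ ∈ centralizer (R : Set G) := by
    intro w hw
    have hw' : g⁻¹ * w * g ∈ R := by
      have := (mem_normalizer_iff.1 ((normalizer (R : Set G)).inv_mem hg) w).1 hw
      simpa using this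
    calc w * (g * c * g⁻¹) = g * (g⁻¹ * w * g * c) * g⁻¹ := by group
      _ = g * (c * (g⁻¹ * w * g)) * g⁻¹ := by rw [c.2 _ hw']
      _ = g * c * g⁻¹ * w := by group
  have := mul_mem (mul_mem (inv_mem hgc) (inv_mem c.2)) h2'
  rwa [show (g * (c : G) * g⁻¹)⁻¹ * (c : G)⁻¹ * ((c : G) * g * ((c : G) * g)) = g * g by group]
    at this

variable {p f M d : ℕ}

/-- In a subgroup of odd order the elements of order `p` lie in one `p`-subgroup. -/
theorem odd_subgroup (h : Hyp G p f M d)
    (hT : ∀ r : ℕ, r.Prime → r ≠ p → r ≠ 2 → r ∣ Nat.card G → ∃ a b q, Torus G a b q r) :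
    ∀ n (H : Subgroup G), Nat.card H = n → Odd n →
      ∃ Q : Subgroup G, IsPGroup p Q ∧ ∀ x ∈ H, orderOf x = p → x ∈ Q := by
  intro n
  induction n using Nat.strong_induction_on with
  | _ n ih => ?_
  intro H hn hodd
  have : Fact p.Prime := ⟨h.prime⟩
  by_cases hpure : ∀ r : ℕ, r.Prime → r ∣ n → r = p
  · refine ⟨H, IsPGroup.iff_card.2 ⟨n.primeFactorsList.length, ?_⟩, fun x hx _ => hx⟩
    rw [hn]
    exact Nat.eq_prime_pow_of_unique_prime_dvd (hn ▸ Nat.card_pos.ne') fun {r} hr hd => hpure r hr hd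
  · simp only [not_forall] at hpure
    obtain ⟨r, hr, hrn, hrp⟩ := hpure
    have hr2 : r ≠ 2 := fun e => by
      rw [Nat.odd_iff] at hodd
      have := Nat.dvd_iff_mod_eq_zero.1 (e ▸ hrn)
      omega
    have : Fact r.Prime := ⟨hr⟩
    obtain ⟨a, b, q, T⟩ := hT r hr hrp hr2 (hrn.trans (hn ▸ H.card_subgroup_dvd_card))
    obtain ⟨R⟩ := (inferInstance : Nonempty (Sylow r H))
    have hle : normalizer ((R : Subgroup H) : Set H) ≤ centralizer ((R : Subgroup H) : Set H) := by
      intro g hg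
      have hR : IsPGroup r ((R : Subgroup H).map H.subtype) := R.2.map _
      have hg' : (g : G) ∈ normalizer (((R : Subgroup H).map H.subtype : Subgroup G) : Set G) := by
        exact le_normalizer_map H.subtype (mem_map_of_mem _ hg)
      have hsq := T.sq_mem hR hg'
      have hogodd : Odd (orderOf g) := hodd.of_dvd_nat (hn ▸ orderOf_dvd_natCard g)
      obtain ⟨l, hl⟩ := hogodd
      have hgg : (g : G) = ((g : G) * g) ^ (l + 1) := by
        rw [← sq, ← pow_mul, show 2 * (l + 1) = (2 * l + 1) + 1 by ring, pow_succ, ← hl,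
          ← orderOf_coe g, pow_orderOf_eq_one, one_mul]
      intro w hw
      have h1 : (g : G) ∈ centralizer (((R : Subgroup H).map H.subtype : Subgroup G) : Set G) := by
        rw [hgg]; exact pow_mem hsq _
      exact Subtype.ext (h1 (w : G) (mem_map_of_mem _ hw))
    obtain ⟨K, hK⟩ : ∃ K, K = (MonoidHom.transferSylow R hle).ker := ⟨_, rfl⟩
    have hKc := MonoidHom.ker_transferSylow_isComplement' R hle
    rw [← hK] at hKc
    have hcard := hKc.card_mul_card
    have hR1 : 1 < Nat.card R := by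
      rw [R.card_eq_multiplicity]
      exact Nat.one_lt_pow (Nat.pos_iff_ne_zero.1 (hr.factorization_pos_of_dvd Nat.card_pos.ne'
        (hn ▸ hrn))) hr.one_lt
    have hKlt : Nat.card (K.map H.subtype) < n := by
      rw [card_map_of_injective H.subtype_injective, ← hn, ← hcard]
      exact lt_mul_of_one_lt_right Nat.card_pos hR1
    have hKodd : Odd (Nat.card (K.map H.subtype)) := by
      refine hodd.of_dvd_nat ?_
      rw [card_map_of_injective H.subtype_injective, ← hn, ← hcard]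
      exact dvd_mul_right _ _
    obtain ⟨Q, hQ, hQx⟩ := ih _ hKlt (K.map H.subtype) rfl hKodd
    refine ⟨Q, hQ, fun x hx hxp => hQx x ⟨⟨x, hx⟩, ?_, rfl⟩ hxp⟩
    have hnK : K.Normal := hK ▸ inferInstance
    obtain ⟨v, hv⟩ := IsPGroup.iff_card.1 R.2
    have hidx : K.index = r ^ v := hKc.symm.index_eq_card.trans hv
    have hpw : (⟨x, hx⟩ : H) ^ K.index ∈ K := K.pow_index_mem _
    have hcop : (orderOf (⟨x, hx⟩ : H)).Coprime K.index := by
      rw [hidx, ← orderOf_coe]
      show (orderOf x).Coprime _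
      rw [hxp]
      exact Nat.Coprime.pow_right _ ((Nat.coprime_primes h.prime hr).2 (Ne.symm hrp))
    obtain ⟨w, hw⟩ := exists_pow_eq_self_of_coprime hcop.symm
    exact hw ▸ K.pow_mem hpw w

/-- Distinct Sylow `p`-subgroups meet trivially. -/
theorem ti_of_odd (h : Hyp G p f M d) (hp : p ≠ 2)
    (hT : ∀ r : ℕ, r.Prime → r ≠ p → r ≠ 2 → r ∣ Nat.card G → ∃ a b q, Torus G a b q r) :
    ∀ P Q : Sylow p G, P ≠ Q → (P : Subgroup G) ⊓ Q = ⊥ := by
  classical
  by_contra hcon
  simp only [not_forall] at hcon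
  obtain ⟨P₀, Q₀, hne₀, hD₀⟩ := hcon
  have : Fact p.Prime := ⟨h.prime⟩
  have := Fintype.ofFinite (Sylow p G)
  obtain ⟨⟨P, Q⟩, hPQ, hmax⟩ := Finset.exists_max_image
    ((Finset.univ : Finset (Sylow p G × Sylow p G)).filter fun z => z.1 ≠ z.2)
    (fun z => Nat.card ↥((z.1 : Subgroup G) ⊓ (z.2 : Subgroup G)))
    ⟨(P₀, Q₀), Finset.mem_filter.2 ⟨Finset.mem_univ _, hne₀⟩⟩
  simp only [Finset.mem_filter, Finset.mem_univ, true_and] at hPQ hmax
  obtain ⟨D, hD⟩ : ∃ D, D = (P : Subgroup G) ⊓ Q := ⟨_, rfl⟩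
  have hD1 : D ≠ ⊥ := fun e => hD₀ (eq_bot_of_card_le _ (by
    have := hmax (P₀, Q₀) hne₀
    rw [← hD, e, Subgroup.card_bot] at this
    exact this))
  have hDP : D ≤ P := hD ▸ inf_le_left
  have hDQ : D ≤ Q := hD ▸ inf_le_right
  -- a `p`-subgroup over `D` reaching beyond lies only in the one Sylow subgroup
  have hbig : ∀ (A : Subgroup G) (S : Sylow p G), IsPGroup p A → D ≤ A → D ≤ (S : Subgroup G) →
      ∀ u ∈ A, u ∈ (S : Subgroup G) → u ∉ D → A ≤ S := by
    intro A S hA hDA hDS u huA huS huD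
    obtain ⟨S', hS'⟩ := hA.exists_le_sylow
    by_cases he : S' = S
    · exact he ▸ hS'
    · exfalso
      have h1 := hmax (S', S) he
      have h2 : D < (S' : Subgroup G) ⊓ S :=
        lt_of_le_of_ne (le_inf (hDA.trans hS') hDS) fun e => huD (e ▸ ⟨hS' huA, huS⟩)
      exact h2.ne (eq_of_le_of_card_ge h2.le (hD ▸ h1))
  have hgrow : ∀ S : Sylow p G, D ≤ (S : Subgroup G) → D ≠ (S : Subgroup G) →
      ∃ u ∈ (S : Subgroup G), u ∉ D ∧ u ∈ normalizer (D : Set G) := by
    intro S hDS hne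
    have hnil := S.isPGroup'.isNilpotent
    have hlt : D.subgroupOf S < ⊤ := lt_top_iff_ne_top.2 fun e =>
      hne (le_antisymm hDS (subgroupOf_eq_top.1 e))
    obtain ⟨u, hu, hu'⟩ := SetLike.exists_of_lt (Group.normalizerCondition_of_isNilpotent _ hlt)
    refine ⟨u, u.2, fun hd => hu' (mem_subgroupOf.2 hd), mem_normalizer_iff.2 fun w => ?_⟩
    constructor
    · intro hw
      exact (mem_normalizer_iff.1 hu (⟨w, hDS hw⟩ : (S : Subgroup G))).1 hw
    · intro hw
      have hwS : w ∈ (S : Subgroup G) := by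
        have := mul_mem (mul_mem (inv_mem u.2) (hDS hw)) u.2
        rwa [show (u : G)⁻¹ * ((u : G) * w * (u : G)⁻¹) * u = w by group] at this
      exact (mem_normalizer_iff.1 hu (⟨w, hwS⟩ : (S : Subgroup G))).2 hw
  have hDnP : D ≠ (P : Subgroup G) := fun e => hPQ (Sylow.ext (eq_of_le_of_card_ge
    (e ▸ hDQ) (by rw [h.card_sylow, h.card_sylow])))
  have hDnQ : D ≠ (Q : Subgroup G) := fun e => hPQ.symm (Sylow.ext (eq_of_le_of_card_ge
    (e ▸ hDP) (by rw [h.card_sylow, h.card_sylow])))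
  obtain ⟨u, huP, huD, huN⟩ := hgrow P hDP hDnP
  obtain ⟨v, hvQ, hvD, hvN⟩ := hgrow Q hDQ hDnQ
  have hord : ∀ w ∈ (P : Subgroup G), w ≠ 1 → orderOf w = p := fun w hw hw1 =>
    h.orderOf_eq P.2 hw hw1
  -- an involution normalising `D`
  obtain ⟨j, hjN, hj⟩ : ∃ j ∈ normalizer (D : Set G), orderOf j = 2 := by
    have : Fact (Nat.Prime 2) := ⟨Nat.prime_two⟩
    by_cases hev : 2 ∣ Nat.card ↥(normalizer (D : Set G))
    · obtain ⟨j, hj⟩ := exists_prime_orderOf_dvd_card' (G := normalizer (D : Set G)) 2 hev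
      exact ⟨j, j.2, (orderOf_coe j).trans hj⟩
    · exfalso
      obtain ⟨A, hA, hAx⟩ := odd_subgroup h hT _ (normalizer (D : Set G)) rfl
        (Nat.not_even_iff_odd.1 fun he => hev (even_iff_two_dvd.1 he))
      have hDA : D ≤ A := fun w hw => by
        by_cases hw1 : w = 1
        · exact hw1 ▸ one_mem A
        · exact hAx w (le_normalizer hw) (hord w (hDP hw) hw1)
      have huA : u ∈ A := hAx u huN (hord u huP fun e => huD (e ▸ one_mem D))
      have hvA : v ∈ A := hAx v hvN (h.orderOf_eq Q.2 hvQ fun e => hvD (e ▸ one_mem D))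
      have hAP := hbig A P hA hDA hDP u huA huP huD
      exact hvD (hD ▸ ⟨hAP hvA, hvQ⟩)
  have hjj : j * j = 1 := by rw [← sq, ← hj, pow_orderOf_eq_one]
  have hji : j⁻¹ = j := inv_eq_of_mul_eq_one_right hjj
  have hfree : ∀ w : G, orderOf w = p → j * w ≠ w * j := fun w hw e =>
    hp (h.mul_ne hw e Nat.prime_two hj).symm
  have hjmem : ∀ w ∈ D, j * w * j ∈ D := fun w hw => by
    have := (mem_normalizer_iff.1 hjN w).1 hw
    rwa [hji] at this
  have hinv : ∀ w ∈ D, j * w * j = w⁻¹ := by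
    have := Fintype.ofFinite D
    have hinj : Function.Injective fun w : D =>
        (⟨(w : G)⁻¹ * (j * w * j), mul_mem (inv_mem w.2) (hjmem w w.2)⟩ : D) := by
      intro w z e
      have e' : (w : G)⁻¹ * (j * w * j) = (z : G)⁻¹ * (j * z * j) := congrArg Subtype.val e
      by_contra hne
      have hwz : (z : G) * (w : G)⁻¹ ≠ 1 := fun e0 => hne (Subtype.ext (mul_inv_eq_one.1 e0).symm)
      refine hfree _ (hord _ (hDP (mul_mem z.2 (inv_mem w.2))) hwz) ?_
      calc j * ((z : G) * (w : G)⁻¹) = z * ((z : G)⁻¹ * (j * z * j)) * j⁻¹ * (w : G)⁻¹ := by group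
        _ = z * ((w : G)⁻¹ * (j * w * j)) * j⁻¹ * (w : G)⁻¹ := by rw [e']
        _ = (z : G) * (w : G)⁻¹ * j := by group
    intro w hw
    obtain ⟨z, hz⟩ := (Finite.injective_iff_surjective.1 hinj) ⟨w, hw⟩
    have hz' : (z : G)⁻¹ * (j * z * j) = w := congrArg Subtype.val hz
    rw [← hz', mul_inv_rev, inv_inv]
    calc j * ((z : G)⁻¹ * (j * z * j)) * j = j * (z : G)⁻¹ * j * z * (j * j) := by group
      _ = j * (z : G)⁻¹ * j * z := by rw [hjj, mul_one]
      _ = (j * z * j)⁻¹ * z := by rw [mul_inv_rev, mul_inv_rev, hji, ← mul_assoc]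
  have hDab : ∀ w ∈ D, ∀ z ∈ D, w * z = z * w := by
    intro w hw z hz
    have h1 := hinv _ (mul_mem hw hz)
    have h2 : j * (w * z) * j = (j * w * j) * (j * z * j) := by
      calc j * (w * z) * j = j * w * (j * j) * z * j := by rw [hjj]; group
        _ = (j * w * j) * (j * z * j) := by group
    rw [h2, hinv w hw, hinv z hz, ← mul_inv_rev, inv_inj] at h1
    exact h1.symm
  obtain ⟨d₀, hd₀, hd₀1⟩ := (ne_bot_iff_exists_ne_one.1 hD1 : _) |>
    fun ⟨w, hw⟩ => (⟨w, w.2, fun e => hw (Subtype.ext e)⟩ : ∃ w, w ∈ D ∧ w ≠ 1)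
  -- the centraliser of `D` is `D`
  have hCD : centralizer (D : Set G) ≤ D := by
    obtain ⟨C, hC⟩ : ∃ C, C = centralizer (D : Set G) := ⟨_, rfl⟩
    have hCp : IsPGroup p C := (h.isPGroup_cen (hord d₀ (hDP hd₀) hd₀1)).to_le (by
      rw [hC]
      exact centralizer_le (Set.singleton_subset_iff.2 hd₀))
    have hDC : D ≤ C := fun w hw => by
      rw [hC]; exact fun z hz => hDab z hz w hw
    have key : ∀ (S : Sylow p G), D ≤ (S : Subgroup G) → ∀ y ∈ (S : Subgroup G),
        y ∉ D → y ∈ normalizer (D : Set G) → C ≤ S := by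
      intro S hDS y hy hyD hyN
      have hyC : zpowers y ≤ normalizer (C : Set G) := by
        rw [zpowers_le, hC]
        exact mem_normalizer_iff.2 fun w => by
          constructor
          · intro hw z hz
            have hz' := (mem_normalizer_iff.1 ((normalizer (D : Set G)).inv_mem hyN) z).1 hz
            rw [inv_inv] at hz'
            calc z * (y * w * y⁻¹) = y * (y⁻¹ * z * y * w) * y⁻¹ := by group
              _ = y * (w * (y⁻¹ * z * y)) * y⁻¹ := by rw [hw _ hz']
              _ = y * w * y⁻¹ * z := by group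
          · intro hw z hz
            have hz' := (mem_normalizer_iff.1 hyN z).1 hz
            calc z * w = y⁻¹ * (y * z * y⁻¹ * (y * w * y⁻¹)) * y := by group
              _ = y⁻¹ * (y * w * y⁻¹ * (y * z * y⁻¹)) * y := by rw [hw _ hz']
              _ = w * z := by group
      have hA : IsPGroup p ↥(C ⊔ zpowers y) :=
        hCp.to_sup_of_normal_left' (S.2.to_le (zpowers_le.2 hy)) hyC
      exact le_sup_left.trans (hbig _ S hA (hDC.trans le_sup_left) hDS y
        (le_sup_right (a := C) (mem_zpowers y)) hy hyD)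
    rw [← hC]
    exact (le_inf (key P hDP u huP huD huN) (key Q hDQ v hvQ hvD hvN)).trans hD.ge
  -- an element of order `p` commuting with an involution
  have hui : u⁻¹ ∈ normalizer (D : Set G) := inv_mem huN
  have hdd : u * j * u⁻¹ * j ∈ D := by
    refine hCD fun z hz => ?_
    have hz2 : u⁻¹ * z * u ∈ D := by
      have := (mem_normalizer_iff.1 hui z).1 hz
      rwa [inv_inv] at this
    have hz3 : u * j * u⁻¹ * z * (u * j * u⁻¹) = z⁻¹ := by
      calc u * j * u⁻¹ * z * (u * j * u⁻¹) = u * (j * (u⁻¹ * z * u) * j) * u⁻¹ := by group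
        _ = u * (u⁻¹ * z * u)⁻¹ * u⁻¹ := by rw [hinv _ hz2]
        _ = z⁻¹ := by group
    have hjz : j * z = z⁻¹ * j := by
      rw [← hinv z hz, mul_assoc, hjj, mul_one]
    have huju : u * j * u⁻¹ * (u * j * u⁻¹) = 1 := by
      calc u * j * u⁻¹ * (u * j * u⁻¹) = u * (j * j) * u⁻¹ := by group
        _ = 1 := by rw [hjj]; group
    have hujz : u * j * u⁻¹ * z⁻¹ = z * (u * j * u⁻¹) := by
      have h' := congrArg (·⁻¹) hz3
      have hi : (u * j * u⁻¹)⁻¹ = u * j * u⁻¹ := inv_eq_of_mul_eq_one_right huju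
      simp only [mul_inv_rev, inv_inv] at h'
      calc u * j * u⁻¹ * z⁻¹ = (u * j * u⁻¹ * z⁻¹ * (u * j * u⁻¹)⁻¹) * (u * j * u⁻¹) := by group
        _ = (u * j * u⁻¹ * z⁻¹ * (u * j * u⁻¹)) * (u * j * u⁻¹) := by rw [hi]
        _ = z * (u * j * u⁻¹) := by
          rw [show u * j * u⁻¹ * z⁻¹ * (u * j * u⁻¹) = z from by
            have h4 : (u * j * u⁻¹ * z * (u * j * u⁻¹))⁻¹ = z := by rw [hz3, inv_inv]
            calc u * j * u⁻¹ * z⁻¹ * (u * j * u⁻¹)
                = (u * j * u⁻¹)⁻¹ * z⁻¹ * (u * j * u⁻¹)⁻¹ := by rw [hi]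
              _ = (u * j * u⁻¹ * z * (u * j * u⁻¹))⁻¹ := by group
              _ = z := h4]
    show z * (u * j * u⁻¹ * j) = u * j * u⁻¹ * j * z
    rw [mul_assoc (u * j * u⁻¹) j z, hjz, ← mul_assoc, ← mul_assoc (u * j * u⁻¹), hujz]
  obtain ⟨e, hee⟩ : ∃ e, e = (u * j * u⁻¹ * j) ^ ((p + 1) / 2) := ⟨_, rfl⟩
  have heD : e ∈ D := hee ▸ pow_mem hdd _
  have he2 : e * e = u * j * u⁻¹ * j := by
    by_cases h0 : u * j * u⁻¹ * j = 1
    · rw [hee, h0, one_pow, one_mul]
    · have hop := hord _ (hDP hdd) h0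
      have hpodd : p % 2 = 1 := Nat.odd_iff.1 (h.prime.odd_of_ne_two hp)
      rw [hee, ← pow_add, show (p + 1) / 2 + (p + 1) / 2 = p + 1 by omega, pow_succ]
      conv_lhs => arg 1; arg 2; rw [← hop]
      rw [pow_orderOf_eq_one, one_mul]
  have hw1 : e⁻¹ * u ≠ 1 := fun e0 => huD ((inv_mul_eq_one.1 e0) ▸ heD)
  refine hfree _ (hord _ (mul_mem (inv_mem (hDP heD)) huP) hw1) ?_
  have huj : u * j = e * e * j * u := by
    rw [he2]
    calc u * j = u * j * u⁻¹ * (j * j) * u := by rw [hjj]; group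
      _ = u * j * u⁻¹ * j * j * u := by group
  have hje : j * e⁻¹ = e * j := by
    calc j * e⁻¹ = j * (j * e * j) := by rw [hinv e heD]
      _ = e * j := by rw [← mul_assoc, ← mul_assoc, hjj, one_mul]
  calc j * (e⁻¹ * u) = e * j * u := by rw [← mul_assoc, hje]
    _ = e⁻¹ * (u * j) := by rw [huj]; group
    _ = e⁻¹ * u * j := by group

end CfsgLib.Recog.PSLOrder
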