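import Cfsg.Agent.Lib.Recog.Horocycle
import Cfsg.Agent.Lib.Recog.SemidirectSpectrum
import Mathlib.Algebra.BigOperators.Pi
import Mathlib.RingTheory.IntegralDomain

/-!
Groups `V ⋊ PSL₂(p)`, `V` an elementary abelian 2-group, with the element orders of `PGL₂(p)`.
-/

set_option autoImplicit false

namespace CfsgLib.Recog

open Matrix
open scoped MatrixGroups

/-- The functions on `P` with sum zero on every coset of every subgroup of order `p`. -/
def cosetKernelSub (P L : Type*) [Group P] [AddCommGroup L] (p : ℕ) : AddSubgroup (P → L) where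
  carrier := {f | ∀ g y : P, orderOf y = p → ∑ i ∈ Finset.range p, f (g * y ^ i) = 0}
  zero_mem' := fun g y _ => by simp
  add_mem' := fun {a b} ha hb g y hy => by simp [Finset.sum_add_distrib, ha g y hy, hb g y hy]
  neg_mem' := fun {a} ha g y hy => by simp [ha g y hy]

instance cosetKernelSMul {P L : Type*} [Group P] [AddCommGroup L] {p : ℕ} : SMul P (cosetKernelSub P L p) where
  smul h f := ⟨fun g => (f : P → L) (g * h), fun g y hy => by
    have hy' : orderOf (h⁻¹ * y * h) = p := by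
      rw [← hy]
      simpa using orderOf_injective (MulAut.conj h⁻¹).toMonoidHom (MulAut.conj h⁻¹).injective y
    have := f.2 (g * h) (h⁻¹ * y * h) hy'
    refine (Finset.sum_congr rfl fun i _ => ?_).trans this
    congr 1
    have e : (h⁻¹ * y * h) ^ i = h⁻¹ * y ^ i * h := by
      simpa using (map_pow (MulAut.conj h⁻¹).toMonoidHom y i).symm
    rw [e]
    group⟩

theorem cosetKernel_smul_apply {P L : Type*} [Group P] [AddCommGroup L] {p : ℕ} (h : P) (f : cosetKernelSub P L p) (g : P) :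
    ((h • f : cosetKernelSub P L p) : P → L) g = (f : P → L) (g * h) := rfl

instance cosetKernelAction {P L : Type*} [Group P] [AddCommGroup L] {p : ℕ} : DistribMulAction P (cosetKernelSub P L p) where
  one_smul f := Subtype.ext (funext fun g => by rw [cosetKernel_smul_apply, mul_one])
  mul_smul a b f := Subtype.ext (funext fun g => by
    rw [cosetKernel_smul_apply, cosetKernel_smul_apply, cosetKernel_smul_apply, mul_assoc])
  smul_zero a := Subtype.ext (funext fun g => rfl)
  smul_add a f f' := Subtype.ext (funext fun g => rfl)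

theorem cosetKernel_norm {P L : Type*} [Group P] [AddCommGroup L] {p : ℕ} (y : P) (n : ℕ)
    (f : cosetKernelSub P L p) (g : P) :
    ((∑ i ∈ Finset.range n, y ^ i • f : cosetKernelSub P L p) : P → L) g =
      ∑ i ∈ Finset.range n, (f : P → L) (g * y ^ i) := by
  rw [AddSubgroup.val_finsetSum, Finset.sum_apply]
  rfl

/-- A field of characteristic two with an injective additive character of `ZMod p`. -/
theorem exists_char_two_field (p : ℕ) [hp : Fact p.Prime] (h2 : p ≠ 2) :
    ∃ (L : Type) (_ : Field L) (_ : Finite L) (_ : CharP L 2) (ψ : AddChar (ZMod p) L), Function.Injective ψ := by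
  haveI : Fact (Nat.Prime 2) := ⟨Nat.prime_two⟩
  have hp2 : 2 ≤ p := hp.out.two_le
  let L := GaloisField 2 (p - 1)
  haveI : Finite L := Nat.finite_of_card_ne_zero (by rw [GaloisField.card 2 (p - 1) (by omega)]; positivity)
  haveI : Fintype L := Fintype.ofFinite L
  classical
  have hd : p ∣ Nat.card Lˣ := by
    rw [Nat.card_units, GaloisField.card 2 (p - 1) (by omega)]
    have h := Nat.ModEq.pow_totient (x := 2) (n := p) ((Nat.coprime_primes Nat.prime_two hp.out).mpr h2.symm)
    rw [Nat.totient_prime hp.out] at h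
    exact (Nat.modEq_iff_dvd' (Nat.one_le_two_pow)).mp h.symm
  obtain ⟨ζ, hζ⟩ := exists_prime_orderOf_dvd_card' (G := Lˣ) p hd
  have hzp : ζ ^ p = 1 := (congrArg (fun n : ℕ => ζ ^ n) hζ).symm.trans (pow_orderOf_eq_one ζ)
  have h1 : (ζ : L) ^ p = 1 := by rw [← Units.val_pow_eq_pow_val, hzp, Units.val_one]
  refine ⟨L, inferInstance, inferInstance, inferInstance, AddChar.zmodChar p h1, fun a b hab => ?_⟩
  rw [AddChar.zmodChar_apply, AddChar.zmodChar_apply, ← Units.val_pow_eq_pow_val, ← Units.val_pow_eq_pow_val,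
    Units.val_inj] at hab
  exact ZMod.val_injective p (pow_injOn_Iio_orderOf (by simpa [hζ] using a.val_lt) (by simpa [hζ] using b.val_lt) hab)

variable {p : ℕ} [Fact p.Prime]

/-- `kern` on `PSL₂(p)`. -/
noncomputable def kernP {L : Type*} [Field L] (ψ : AddChar (ZMod p) L) (X Y T : ZMod p)
    (g : Matrix.ProjectiveSpecialLinearGroup (Fin 2) (ZMod p)) : L :=
  Horo.kern ψ X Y T (QuotientGroup.mk'_surjective _ g).choose

theorem kernP_mk {L : Type*} [Field L] (ψ : AddChar (ZMod p) L) (X Y T : ZMod p)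
    (s : Matrix.SpecialLinearGroup (Fin 2) (ZMod p)) :
    kernP ψ X Y T (QuotientGroup.mk' _ s) = Horo.kern ψ X Y T s := by
  unfold kernP
  rcases CfsgLib.KnownB.SL2.mk_eq_mk_iff.mp (QuotientGroup.mk'_surjective _ (QuotientGroup.mk' _ s)).choose_spec with e | e
  · rw [e]
  · rw [e, Horo.kern_negSL]

theorem sum_filter_ne (δ : ZMod p) (hδ : ¬ IsSquare δ) :
    Finset.univ.filter (fun z : ZMod p => z ≠ 0 ∧ z * z ≠ δ) = Finset.univ.filter (fun z : ZMod p => z ≠ 0) :=
  Finset.filter_congr fun z _ => ⟨fun h => h.1, fun h => ⟨h, fun e => hδ ⟨z, e.symm⟩⟩⟩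

theorem card_filter_ne : (Finset.univ.filter (fun z : ZMod p => z ≠ 0)).card = p - 1 := by
  rw [Finset.filter_ne', Finset.card_erase_of_mem (Finset.mem_univ _), Finset.card_univ, ZMod.card]

/-- For `p ≥ 5` there are arbitrarily large groups with the element orders of `PGL₂(p)`. -/
theorem pglTwo_prime_unbounded (hp5 : 5 ≤ p) (N : ℕ) :
    ∃ (H : Type) (_ : Group H) (_ : Fintype H), N < Fintype.card H ∧
      Set.range (orderOf : H → ℕ) = {n | n ∣ p ∨ n ∣ p - 1 ∨ n ∣ p + 1} := by
  classical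
  have hpp : p.Prime := Fact.out
  have hodd : Odd p := hpp.odd_of_ne_two (by omega)
  obtain ⟨L, _, _, _, ψ, hψ⟩ := exists_char_two_field p (by omega)
  have hψ1 : ψ ≠ 1 := fun e => by
    have := @hψ 0 1 (by rw [e, AddChar.one_apply, AddChar.one_apply])
    exact zero_ne_one this
  let P := Matrix.ProjectiveSpecialLinearGroup (Fin 2) (ZMod p)
  let π := QuotientGroup.mk' (Subgroup.center (Matrix.SpecialLinearGroup (Fin 2) (ZMod p)))
  let A := cosetKernelSub P L p
  have h2 : ringChar (ZMod p) ≠ 2 := by rw [ZMod.ringChar_zmod_n]; omega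
  have hnz : ∀ k : ℕ, 0 < k → k < p → (k : ZMod p) ≠ 0 := fun k h1 h2 e =>
    Nat.not_lt.mpr (Nat.le_of_dvd h1 ((ZMod.natCast_eq_zero_iff k p).mp e)) h2
  have h22 : (2 : ZMod p) ≠ 0 := by simpa using hnz 2 (by norm_num) (by omega)
  -- members of the module with non-zero norms under the two tori
  have wit : ∀ (δ e : ZMod p), δ ≠ 0 → e ≠ 0 →
      (∑ z ∈ Finset.univ.filter (fun z : ZMod p => z ≠ 0 ∧ z * z ≠ δ), ψ (z + e * e / z) ≠ 0) →
      ∃ (y : P) (f : A), 2 * orderOf y = 2 + (Finset.univ.filter (fun z : ZMod p => z ≠ 0 ∧ z * z ≠ δ)).card ∧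
        ∑ i ∈ Finset.range (orderOf y), y ^ i • f ≠ 0 := by
    intro δ e hδ he hs
    obtain ⟨X, Y, T, y, hX, hY, hne, hord, hsum⟩ := Horo.exists_witness ψ hp5 hψ hδ he hs
    refine ⟨π y, ⟨kernP ψ X Y T, fun g y' hy' => ?_⟩, hord, fun h0 => hsum ?_⟩
    · obtain ⟨g, rfl⟩ := QuotientGroup.mk'_surjective _ g
      obtain ⟨y', rfl⟩ := QuotientGroup.mk'_surjective _ y'
      simp only [← map_pow, ← map_mul, kernP_mk]
      exact Horo.sum_kern_unipotent ψ hodd hψ1 hX hY T hne g y' hy'
    · have h := congrFun (congrArg Subtype.val h0) 1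
      rw [cosetKernel_norm] at h
      simp only [one_mul, AddSubgroup.coe_zero, Pi.zero_apply] at h
      refine Eq.trans ?_ h
      exact Finset.sum_congr rfl fun i _ => by rw [← map_pow]; exact (kernP_mk ψ X Y T _).symm
  obtain ⟨δ, hδ⟩ := FiniteField.exists_nonsquare h2
  have hδ0 : δ ≠ 0 := fun e => hδ (e ▸ IsSquare.zero)
  obtain ⟨y₁, f₁, hy₁, hn₁⟩ := wit δ δ hδ0 hδ0 (by
    rw [sum_filter_ne δ hδ, Horo.sum_kloosterman ψ hodd hδ0]
    intro h0
    have h1 : (2 * δ : ZMod p) = -(2 * δ) := hψ (CharTwo.add_eq_zero.mp h0)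
    have : (2 : ZMod p) * (2 * δ) = 0 := by linear_combination h1
    exact mul_ne_zero h22 (mul_ne_zero h22 hδ0) this)
  rw [sum_filter_ne δ hδ, card_filter_ne] at hy₁
  have h1n : (1 : ZMod p) ≠ -1 := fun h => h22 (by linear_combination h)
  have hsplit : Finset.univ.filter (fun z : ZMod p => z ≠ 0 ∧ z * z ≠ 1) =
      Finset.univ.filter (fun z : ZMod p => z ≠ 0) \ {1, -1} := by
    ext z; simp [mul_self_eq_one_iff]
  have hsub : ({1, -1} : Finset (ZMod p)) ⊆ Finset.univ.filter (fun z : ZMod p => z ≠ 0) := by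
    intro z hz; simp at hz; rcases hz with rfl | rfl <;> simp
  obtain ⟨y₂, f₂, hy₂, hn₂⟩ := wit 1 2 one_ne_zero h22 (by
    rw [hsplit, Finset.sum_sdiff_eq_sub hsub, Finset.sum_pair h1n, Horo.sum_kloosterman ψ hodd h22, CharTwo.sub_eq_add,
      show (1 : ZMod p) + 2 * 2 / 1 = 5 by norm_num, show (-1 : ZMod p) + 2 * 2 / -1 = -5 by rw [div_neg]; norm_num,
      show (2 : ZMod p) * 2 = 4 by norm_num]
    refine Horo.psi_pair_ne ψ hψ (fun h => ?_) (fun h => ?_)
    · have : (1 : ZMod p) = 0 := by linear_combination -h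
      exact one_ne_zero this
    · have h9 : ((9 : ℕ) : ZMod p) = 0 := by push_cast; linear_combination h
      rw [ZMod.natCast_eq_zero_iff] at h9
      have := (Nat.prime_dvd_prime_iff_eq hpp Nat.prime_three).mp (hpp.dvd_of_dvd_pow (show p ∣ 3 ^ 2 by simpa using h9))
      omega)
  rw [hsplit, Finset.card_sdiff_of_subset hsub, card_filter_ne, Finset.card_pair h1n] at hy₂
  have hd1 : 2 * orderOf y₁ = p + 1 := by omega
  have hd2 : 2 * orderOf y₂ = p - 1 := by omega
  haveI : Nontrivial A := nontrivial_of_ne f₁ 0 fun e => hn₁ (by simp [e])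
  have hexp : ∀ a : A, 2 • a = 0 := fun a => Subtype.ext (funext fun g => by
    simp [two_nsmul, CharTwo.add_self_eq_zero])
  obtain ⟨H, _, _, hN, hrange⟩ := exists_large_semidirect P A Nat.prime_two hexp N
  refine ⟨H, inferInstance, inferInstance, hN, ?_⟩
  have hdiv : ∀ m n, m ∈ Set.range (orderOf : H → ℕ) → n ∣ m → n ∈ Set.range (orderOf : H → ℕ) := by
    rintro _ n ⟨x, rfl⟩ hn
    exact ⟨x ^ (orderOf x / n), orderOf_pow_orderOf_div (orderOf_pos x).ne' hn⟩
  have hgcd : Nat.gcd 2 (p - 1) = 2 := by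
    apply Nat.gcd_eq_left
    rw [Nat.odd_iff] at hodd; omega
  ext n
  constructor
  · intro hn
    rw [hrange] at hn
    obtain ⟨g, hg⟩ := hn
    have hcase := CfsgLib.KnownB.SL2.orderOf_psl_cases p g
    rw [ZMod.card, hgcd] at hcase
    have h2m : 2 ∣ p - 1 := by rw [← hgcd]; exact Nat.gcd_dvd_right 2 (p - 1)
    have h2p : 2 ∣ p + 1 := by omega
    rcases hg with rfl | ⟨rfl, a, ha⟩
    · rcases hcase with h | h | h
      · exact Or.inl h
      · exact Or.inr (Or.inl (h.trans (Nat.div_dvd_of_dvd h2m)))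
      · exact Or.inr (Or.inr (h.trans (Nat.div_dvd_of_dvd h2p)))
    · rcases hcase with h | h | h
      · rcases (Nat.dvd_prime hpp).mp h with h1 | h1
        · rw [h1]; exact Or.inr (Or.inl h2m)
        · exfalso
          apply ha
          refine Subtype.ext (funext fun x => ?_)
          rw [cosetKernel_norm, h1]
          exact a.2 x g h1
      · exact Or.inr (Or.inl ((Nat.mul_dvd_mul_left 2 h).trans (dvd_of_eq (Nat.mul_div_cancel' h2m))))
      · exact Or.inr (Or.inr ((Nat.mul_dvd_mul_left 2 h).trans (dvd_of_eq (Nat.mul_div_cancel' h2p))))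
  · rintro (h | h | h)
    · obtain ⟨g, hg⟩ := CfsgLib.KnownB.SL2.exists_orderOf_psl (F := ZMod p) p (Or.inl h)
      rw [hrange]; exact ⟨g, Or.inl hg.symm⟩
    · refine hdiv (p - 1) n ?_ h
      rw [hrange]; exact ⟨y₂, Or.inr ⟨hd2.symm, f₂, hn₂⟩⟩
    · refine hdiv (p + 1) n ?_ h
      rw [hrange]; exact ⟨y₁, Or.inr ⟨hd1.symm, f₁, hn₁⟩⟩

end CfsgLib.Recog
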