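import Mathlib.Data.ZMod.Basic
import Mathlib.Data.Finset.Powerset
import Mathlib.Data.Finset.Sigma
import Mathlib.Data.Fintype.Powerset
import Mathlib.Tactic.FinCases

/-!
# Tables for the projective plane of order three on `ZMod 13`
-/

set_option autoImplicit false
set_option maxRecDepth 100000

namespace CfsgLib.Recog.PlaneThirteen

/-- The difference set. -/
def D0 : Finset (ZMod 13) := {0, 1, 3, 9}

/-- Collinearity. -/
def coll (a b c : ZMod 13) : Bool :=
  ((List.range 13).any fun i => decide (a - (i : ZMod 13) ∈ D0) && decide (b - (i : ZMod 13) ∈ D0) &&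
    decide (c - (i : ZMod 13) ∈ D0))

theorem coll_iff : ∀ a b c : ZMod 13, coll a b c = true ↔
    ∃ i : ZMod 13, a - i ∈ D0 ∧ b - i ∈ D0 ∧ c - i ∈ D0 := by decide +kernel

/-- The quadruples with no three collinear. -/
def frames : List (ZMod 13 × ZMod 13 × ZMod 13 × ZMod 13) :=
  let all : List (ZMod 13) := (List.range 13).map fun i => (i : ZMod 13)
  all.flatMap fun a => (all.filter fun b => decide (b ≠ a)).flatMap fun b =>
    (all.filter fun c => !coll a b c).flatMap fun c =>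
      (all.filter fun d => !coll a b d && !coll a c d && !coll b c d).map fun d => (a, b, c, d)

theorem frames_length : frames.length = 5616 := by decide +kernel

theorem mem_all : ∀ a : ZMod 13, a ∈ (List.range 13).map fun i => (i : ZMod 13) := by decide +kernel

theorem mem_frames {a b c d : ZMod 13} (hb : b ≠ a) (h1 : coll a b c = false)
    (h2 : coll a b d = false) (h3 : coll a c d = false) (h4 : coll b c d = false) :
    (a, b, c, d) ∈ frames := by
  simp only [frames, List.mem_flatMap, List.mem_filter, List.mem_map, decide_eq_true_eq,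
    Bool.and_eq_true, Bool.not_eq_true']
  exact ⟨a, by simpa using mem_all a, b, ⟨by simpa using mem_all b, hb⟩, c,
    ⟨by simpa using mem_all c, h1⟩, d, ⟨by simpa using mem_all d, ⟨h2, h3⟩, h4⟩, rfl⟩

/-- The standard frame. -/
theorem frame0 : coll 0 1 2 = false ∧ coll 0 1 5 = false ∧ coll 0 2 5 = false ∧
    coll 1 2 5 = false := by decide +kernel

/-- Each remaining point is the intersection of two lines through known ones. -/
def steps : List (ZMod 13 × ZMod 13 × ZMod 13 × ZMod 13 × ZMod 13) :=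
  [(0, 1, 2, 5, 3), (0, 2, 1, 5, 8), (0, 5, 1, 2, 4), (0, 1, 8, 4, 9), (0, 2, 5, 9, 12),
   (0, 5, 1, 12, 7), (1, 2, 5, 9, 10), (0, 10, 1, 5, 6), (0, 10, 1, 12, 11)]

theorem steps_ok : ∀ n : Fin 9,
    let s := steps.getD n.val (0, 0, 0, 0, 0)
    coll s.1 s.2.1 s.2.2.2.2 = true ∧ coll s.2.2.1 s.2.2.2.1 s.2.2.2.2 = true ∧
      ∀ p : ZMod 13, coll s.1 s.2.1 p = true → coll s.2.2.1 s.2.2.2.1 p = true →
        p = s.2.2.2.2 := by decide +kernel

/-- A normalised planar difference set of size four is an affine image of `D0`. -/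
theorem planar_affine : ∀ c d : ZMod 13,
    (∀ j : ZMod 13, j ≠ 0 → ∃ a ∈ ([0, 1, c, d] : List (ZMod 13)),
      a + j ∈ ([0, 1, c, d] : List (ZMod 13))) →
    ∃ m n e : ZMod 13, m * n = 1 ∧ ∀ a ∈ ([0, 1, c, d] : List (ZMod 13)), n * (a - e) ∈ D0 := by
  decide +kernel

/-- Vectors labelling the points. -/
def vec : ZMod 13 → ZMod 3 × ZMod 3 × ZMod 3 := fun i =>
  [((1 : ZMod 3), (0 : ZMod 3), (0 : ZMod 3)), (1, 2, 2), (1, 1, 2), (0, 1, 1), (1, 0, 2),
   (1, 0, 1), (1, 1, 0), (0, 0, 1), (0, 1, 2), (1, 1, 1), (0, 1, 0), (1, 2, 0),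
   (1, 2, 1)].getD i.val (0, 0, 0)

/-- The determinant of three vectors. -/
def det3 (u v w : ZMod 3 × ZMod 3 × ZMod 3) : ZMod 3 :=
  u.1 * (v.2.1 * w.2.2 - v.2.2 * w.2.1) - u.2.1 * (v.1 * w.2.2 - v.2.2 * w.1) +
    u.2.2 * (v.1 * w.2.1 - v.2.1 * w.1)

theorem coll_det : ∀ a b c : ZMod 13, coll a b c = true ↔ det3 (vec a) (vec b) (vec c) = 0 := by
  decide +kernel

theorem vec_cover : ∀ v : ZMod 3 × ZMod 3 × ZMod 3, v ≠ (0, 0, 0) →
    ∃ i : ZMod 13, ∃ s : ZMod 3, s ≠ 0 ∧ v = (s * (vec i).1, s * (vec i).2.1, s * (vec i).2.2) := by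
  decide +kernel

theorem vec_inj : ∀ i j : ZMod 13, ∀ s : ZMod 3,
    ((vec i).1, (vec i).2.1, (vec i).2.2) = (s * (vec j).1, s * (vec j).2.1, s * (vec j).2.2) →
      i = j := by
  decide +kernel

theorem vec_ne : ∀ i : ZMod 13, vec i ≠ (0, 0, 0) := by decide +kernel

theorem vec_basis : vec 0 = (1, 0, 0) ∧ vec 10 = (0, 1, 0) ∧ vec 7 = (0, 0, 1) ∧
    vec 9 = (1, 1, 1) := by decide +kernel

end CfsgLib.Recog.PlaneThirteen
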