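import Cfsg.Agent.Lib.Recog.Conjugates
import Cfsg.Agent.Lib.Solvable.MinNormal
import Mathlib.GroupTheory.Sylow
import Mathlib.FieldTheory.Finite.Basic
import Mathlib.GroupTheory.QuotientGroup.Basic
import Mathlib.GroupTheory.Perm.Cycle.Type
import Mathlib.GroupTheory.NoncommCoprod
import Mathlib.GroupTheory.SpecificGroups.Alternating

/-!
Primes of exponent one that are pairwise non-adjacent in the prime graph lie in one simple chief factor.
-/

set_option autoImplicit false

namespace CfsgLib.Recog.PrimeFactor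

open Subgroup

variable {G : Type*} [Group G] [Finite G]

/-- An element of order prime to `p - 1` normalising a subgroup of prime order centralises it. -/
theorem commute_of_normalize {p : ℕ} (hp : p.Prime) {x y : G} (hx : orderOf x = p)
    (hy : y * x * y⁻¹ ∈ zpowers x) (hc : (orderOf y).Coprime (p - 1)) : Commute x y := by
  obtain ⟨k, hk⟩ := Subgroup.mem_zpowers_iff.1 hy
  have hpow : ∀ n : ℕ, y ^ n * x * (y ^ n)⁻¹ = x ^ (k ^ n) := by
    intro n
    induction n with
    | zero => simp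
    | succ n ih =>
      rw [pow_succ', mul_inv_rev, show y * y ^ n * x * ((y ^ n)⁻¹ * y⁻¹) = y * (y ^ n * x * (y ^ n)⁻¹) * y⁻¹ by group,
        ih, ← conj_zpow, ← hk, ← zpow_mul, pow_succ']
  haveI := Fact.mk hp
  have h1 : x ^ (k ^ orderOf y - 1) = 1 := by
    rw [zpow_sub, ← hpow, pow_orderOf_eq_one]; simp
  rw [← orderOf_dvd_iff_zpow_eq_one, hx, ← ZMod.intCast_zmod_eq_zero_iff_dvd, Int.cast_sub,
    sub_eq_zero, Int.cast_pow, Int.cast_one] at h1
  have hk0 : ((k : ℤ) : ZMod p) ≠ 0 := fun h => by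
    rw [h, zero_pow (orderOf_pos y).ne'] at h1; exact zero_ne_one h1
  have hk1 : ((k : ℤ) : ZMod p) = 1 := by
    rw [← orderOf_eq_one_iff]
    exact Nat.eq_one_of_dvd_coprimes hc (orderOf_dvd_of_pow_eq_one h1)
      (orderOf_dvd_of_pow_eq_one (ZMod.pow_card_sub_one_eq_one (p := p) hk0))
  have h2 : x ^ k = x := by
    conv_rhs => rw [← zpow_one x]
    rw [zpow_eq_zpow_iff_modEq, hx, ← ZMod.intCast_eq_intCast_iff, hk1, Int.cast_one]
  rw [h2] at hk
  rw [Commute, SemiconjBy]
  conv_lhs => rw [hk]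
  group

/-- Two commuting elements of distinct prime orders give an element whose order is their product. -/
theorem exists_of_commute {p q : ℕ} (hp : p.Prime) (hq : q.Prime) (hne : p ≠ q) {x y : G}
    (hx : orderOf x = p) (hy : orderOf y = q) (h : Commute x y) : ∃ z : G, orderOf z = p * q :=
  ⟨x * y, by rw [h.orderOf_mul_eq_mul_orderOf_of_coprime (by rw [hx, hy]; exact (Nat.coprime_primes hp hq).2 hne), hx, hy]⟩

theorem exists_of_normalize {p q : ℕ} (hp : p.Prime) (hq : q.Prime) (hne : p ≠ q) (hnd : ¬ q ∣ p - 1)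
    {P : Subgroup G} (hP : Nat.card P = p) (hq' : q ∣ Nat.card (normalizer (P : Set G))) :
    ∃ z : G, orderOf z = p * q := by
  haveI := Fact.mk hp; haveI := Fact.mk hq
  obtain ⟨⟨y, hyn⟩, hy⟩ := exists_prime_orderOf_dvd_card' q hq'
  obtain ⟨⟨x, hxP⟩, hx⟩ := exists_prime_orderOf_dvd_card' (G := P) p hP.symm.dvd
  rw [Subgroup.orderOf_mk] at hx hy
  have hz : zpowers x = P := eq_of_le_of_card_ge (zpowers_le.2 hxP) (by rw [Nat.card_zpowers, hx, hP])
  refine exists_of_commute hp hq hne hx hy (commute_of_normalize hp hx ?_ ?_)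
  · rw [hz]; exact (mem_normalizer_iff.1 hyn x).1 hxP
  · rw [hy]; exact hq.coprime_iff_not_dvd.2 hnd

theorem coprime_iSup {ι : Type*} [Finite ι] {m : ℕ} (A : ι → Subgroup G)
    (hn : ∀ i, (A i).Normal) (hc : ∀ i, (Nat.card (A i)).Coprime m) :
    (Nat.card (⨆ i, A i : Subgroup G)).Coprime m := by
  classical
  haveI := Fintype.ofFinite ι
  have key : ∀ s : Finset ι, (Nat.card (s.sup A : Subgroup G)).Coprime m := by
    intro s
    induction s using Finset.induction_on with
    | empty => rw [Finset.sup_empty, card_bot]; exact Nat.coprime_one_left m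
    | insert i s hi ih =>
      rw [Finset.sup_insert]
      haveI := hn i
      have h1 : Nat.card (A i ⊔ s.sup A : Subgroup G) ∣ Nat.card (A i) * Nat.card (s.sup A : Subgroup G) := by
        rw [← card_mul_index ((A i).subgroupOf (A i ⊔ s.sup A)), Nat.card_congr (subgroupOfEquivOfLe le_sup_left).toEquiv]
        refine mul_dvd_mul_left _ ?_
        show (A i).relIndex (A i ⊔ s.sup A) ∣ _
        rw [relIndex_sup_left]
        exact relIndex_dvd_card _ _
      exact Nat.Coprime.coprime_dvd_left h1 ((hc i).mul_left ih)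
  rw [show (⨆ i, A i) = Finset.univ.sup A by rw [Finset.sup_eq_iSup]; simp]
  exact key _

/-- A minimal normal subgroup whose order a prime divides exactly once is simple or of that prime order. -/
theorem simple_of_dvd_once {p : ℕ} (hp : p.Prime) {M : Subgroup G} (hM : M.Normal) (hne : M ≠ ⊥)
    (hmin : ∀ K : Subgroup G, K.Normal → K ≤ M → K = ⊥ ∨ K = M) (hab : ¬ IsMulCommutative M)
    (hd : p ∣ Nat.card M) (hd2 : ¬ p ^ 2 ∣ Nat.card M) : IsSimpleGroup M := by
  obtain ⟨T, hT⟩ := exists_isFactor hM hne hmin hab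
  haveI := Fact.mk hp
  have hleg : ∀ g, cj g T ≤ M := fun g => (cj_mono g hT.le).trans (cj_eq_self_of_normal g hM).le
  have hnormg : ∀ g, M ≤ normalizer (cj g T : Set G) := fun g => by
    have := le_normalizer_cj (g := g) hT.le_normalizer
    rwa [cj_eq_self_of_normal g hM] at this
  by_cases hall : ∀ g, cj g T = T
  · have : T = M := by
      rw [← hT.iSup_eq]; simp only [hall, iSup_const]
    exact this ▸ hT.simple
  exfalso
  push Not at hall
  obtain ⟨g, hg⟩ := hall
  have hcen := (hT.eq_or_le_centralizer g).resolve_left hg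
  by_cases hpT : p ∣ Nat.card T
  · let f : T × cj g T →* M := MonoidHom.noncommCoprod (inclusion hT.le) (inclusion (hleg g))
      fun a b => Subtype.ext (mem_centralizer_iff.1 (hcen b.2) a a.2)
    have hf : Function.Injective f := by
      rw [injective_iff_map_eq_one]
      rintro ⟨a, b⟩ hab'
      have e : (a : G) * b = 1 := congrArg Subtype.val hab'
      have hbT : (b : G) ∈ T := by
        rw [eq_inv_of_mul_eq_one_right e]; exact inv_mem a.2
      have hb : (b : G) ∈ T ⊓ centralizer (T : Set G) := ⟨hbT, hcen b.2⟩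
      rw [hT.inf_centralizer, mem_bot] at hb
      rw [hb, mul_one] at e
      exact Prod.ext (Subtype.ext e) (Subtype.ext hb)
    have h1 := card_dvd_of_injective f hf
    rw [Nat.card_prod, natCard_cj] at h1
    exact hd2 ((pow_two p).symm ▸ (mul_dvd_mul hpT hpT).trans h1)
  · have h1 := coprime_iSup (G := M) (m := p) (fun g : G => (cj g T).subgroupOf M)
      (fun g => (normal_subgroupOf_iff_le_normalizer (hleg g)).2 (hnormg g))
      (fun g => by rw [Nat.card_congr (subgroupOfEquivOfLe (hleg g)).toEquiv, natCard_cj]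
                   exact (hp.coprime_iff_not_dvd.2 hpT).symm)
    have htop : (⨆ g : G, (cj g T).subgroupOf M) = ⊤ := Subgroup.map_injective M.subtype_injective (by
      rw [Subgroup.map_iSup, ← MonoidHom.range_eq_map, range_subtype]
      simp only [map_subgroupOf_eq_of_le (hleg _)]
      exact hT.iSup_eq)
    rw [htop, card_top] at h1
    exact hp.ne_one ((Nat.Coprime.symm h1).eq_one_of_dvd hd)

/-- Pairwise non-adjacent primes of exponent one lie in a single non-abelian simple chief factor. -/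
theorem exists_simple_factor (S : Set ℕ)
    (hS : ∀ p ∈ S, p.Prime ∧ p ∣ Nat.card G ∧ ¬ p ^ 2 ∣ Nat.card G)
    (hadj : ∀ p ∈ S, ∀ q ∈ S, p ≠ q → ∀ g : G, orderOf g ≠ p * q)
    (hnd : ∀ p ∈ S, ∀ q ∈ S, ¬ q ∣ p - 1) (h2 : ∃ p ∈ S, ∃ q ∈ S, p ≠ q) :
    ∃ (N H : Subgroup G) (_ : N.Normal), H.Normal ∧ N < H ∧
      IsSimpleGroup (↥H ⧸ N.subgroupOf H) ∧ ¬ IsMulCommutative (↥H ⧸ N.subgroupOf H) ∧
      ∀ p ∈ S, p ∣ Nat.card (↥H ⧸ N.subgroupOf H) := by
  classical
  let Good : Subgroup G → Prop := fun N => N.Normal ∧ ∀ p ∈ S, ¬ p ∣ Nat.card N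
  have hbot : Good ⊥ := ⟨inferInstance, fun p hp => by
    rw [card_bot, Nat.dvd_one]; exact (hS p hp).1.ne_one⟩
  obtain ⟨N, ⟨hN, hNS⟩, hmax⟩ := Set.Finite.exists_maximal (Set.toFinite {N | Good N}) ⟨⊥, hbot⟩
  haveI := hN
  let Q := G ⧸ N
  have hcard : Nat.card G = Nat.card Q * Nat.card N := card_eq_card_quotient_mul_card_subgroup N
  have hpQ : ∀ p ∈ S, p ∣ Nat.card Q ∧ ¬ p ^ 2 ∣ Nat.card Q := fun p hp => by
    obtain ⟨h1, h2, h3⟩ := hS p hp
    exact ⟨(h1.dvd_mul.1 (hcard ▸ h2)).resolve_right (hNS p hp), fun h => h3 (hcard ▸ h.mul_right _)⟩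
  have hadjQ : ∀ p ∈ S, ∀ q ∈ S, p ≠ q → ∀ z : Q, orderOf z ≠ p * q := by
    intro p hp q hq hne z hz
    obtain ⟨g, rfl⟩ := QuotientGroup.mk'_surjective N z
    have hd : p * q ∣ orderOf g := hz ▸ orderOf_map_dvd _ g
    obtain ⟨c, hc⟩ := hd
    have hc0 : c ≠ 0 := fun h => (orderOf_pos g).ne' (by rw [hc, h, mul_zero])
    refine hadj p hp q hq hne (g ^ c) ?_
    rw [orderOf_pow_of_dvd hc0 (hc ▸ dvd_mul_left _ _), hc, Nat.mul_div_cancel _ (Nat.pos_of_ne_zero hc0)]
  obtain ⟨p₀, hp₀, q₀, hq₀, hpq₀⟩ := h2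
  haveI : Nontrivial Q := Finite.one_lt_card_iff_nontrivial.1
    (lt_of_lt_of_le (hS p₀ hp₀).1.one_lt (Nat.le_of_dvd Nat.card_pos (hpQ p₀ hp₀).1))
  obtain ⟨M, hM, hMne, hMmin⟩ := CfsgLib.Solvable.exists_minimal_normal (G := Q)
  set H := M.comap (QuotientGroup.mk' N) with hH
  haveI hHn : H.Normal := hM.comap _
  have hNH : N ≤ H := fun x hx => by
    rw [hH, mem_comap, QuotientGroup.mk'_apply, (QuotientGroup.eq_one_iff x).2 hx]; exact one_mem M
  have hlt : N < H := lt_of_le_of_ne hNH fun e => hMne (by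
    rw [← map_comap_eq_self_of_surjective (QuotientGroup.mk'_surjective N) M, ← hH, ← e, QuotientGroup.map_mk'_self])
  have hHQ : Nat.card H = Nat.card M * Nat.card N := by
    have h1 : M.index = H.index := (index_comap_of_surjective M (QuotientGroup.mk'_surjective N)).symm
    have e1 := card_mul_index H
    have e2 := card_mul_index M
    have hpos : 0 < H.index := Nat.pos_of_ne_zero index_ne_zero_of_finite
    apply Nat.eq_of_mul_eq_mul_right hpos
    rw [e1, hcard, mul_right_comm, ← h1, e2]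
  obtain ⟨p, hp, hpM⟩ : ∃ p ∈ S, p ∣ Nat.card M := by
    by_contra hno
    push Not at hno
    refine hlt.not_ge (hmax ⟨hHn, fun p hp h => ?_⟩ hNH)
    rw [hHQ] at h
    exact ((hS p hp).1.dvd_mul.1 h).elim (hno p hp) (hNS p hp)
  have hall : ∀ q ∈ S, q ∣ Nat.card M := by
    intro q hq
    by_contra hqM
    have hne : p ≠ q := fun e => hqM (e ▸ hpM)
    haveI := Fact.mk (hS p hp).1
    obtain ⟨P⟩ := (inferInstance : Nonempty (Sylow p M))
    haveI := hM
    have hf := Sylow.normalizer_sup_eq_top P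
    have hP : Nat.card ((P : Subgroup M).map M.subtype) = p := by
      rw [card_map_of_injective M.subtype_injective, P.card_eq_multiplicity]
      have h1 : (Nat.card M).factorization p = 1 := by
        refine le_antisymm ?_ (((hS p hp).1.dvd_iff_one_le_factorization Nat.card_pos.ne').1 hpM)
        by_contra h
        exact (hpQ p hp).2 ((((hS p hp).1.pow_dvd_iff_le_factorization Nat.card_pos.ne').2 (by omega)).trans
          (card_subgroup_dvd_card M))
      rw [h1, pow_one]
    set R := normalizer (((P : Subgroup M).map M.subtype : Subgroup Q) : Set Q) with hR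
    have hqR : q ∣ Nat.card R := by
      have h1 : Nat.card (R ⊔ M : Subgroup Q) ∣ Nat.card R * Nat.card M := by
        rw [← card_mul_index (M.subgroupOf (R ⊔ M)), Nat.card_congr (subgroupOfEquivOfLe le_sup_right).toEquiv,
          mul_comm (Nat.card R)]
        refine mul_dvd_mul_left _ ?_
        show M.relIndex (R ⊔ M) ∣ _
        rw [relIndex_sup_right]
        exact relIndex_dvd_card _ _
      rw [show R ⊔ M = ⊤ from hf, card_top] at h1
      exact ((hS q hq).1.dvd_mul.1 ((hpQ q hq).1.trans h1)).resolve_right hqM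
    obtain ⟨z, hz⟩ := exists_of_normalize (hS p hp).1 (hS q hq).1 hne (hnd p hp q hq) hP hqR
    exact hadjQ p hp q hq hne z hz
  have hab : ¬ IsMulCommutative M := fun hc => by
    haveI := Fact.mk (hS p₀ hp₀).1; haveI := Fact.mk (hS q₀ hq₀).1
    obtain ⟨x, hx⟩ := exists_prime_orderOf_dvd_card' p₀ (hall p₀ hp₀)
    obtain ⟨y, hy⟩ := exists_prime_orderOf_dvd_card' q₀ (hall q₀ hq₀)
    obtain ⟨z, hz⟩ := exists_of_commute (hS p₀ hp₀).1 (hS q₀ hq₀).1 hpq₀ hx hy (hc.is_comm.comm x y)
    exact hadjQ p₀ hp₀ q₀ hq₀ hpq₀ z (by rw [orderOf_coe, hz])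
  have hsimp : IsSimpleGroup M := simple_of_dvd_once (hS p hp).1 hM hMne hMmin hab hpM
    (fun h => (hpQ p hp).2 (h.trans (card_subgroup_dvd_card M)))
  let f : H →* M := (QuotientGroup.mk' N).subgroupComap M
  have hfs : Function.Surjective f := fun ⟨m, hm⟩ => by
    obtain ⟨g, rfl⟩ := QuotientGroup.mk'_surjective N m
    exact ⟨⟨g, hm⟩, rfl⟩
  have hker : f.ker = N.subgroupOf H := by
    ext x
    rw [MonoidHom.mem_ker, mem_subgroupOf, ← QuotientGroup.eq_one_iff (x : G)]
    exact Subtype.ext_iff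
  let e : (↥H ⧸ N.subgroupOf H) ≃* M :=
    (QuotientGroup.quotientMulEquivOfEq hker.symm).trans (QuotientGroup.quotientKerEquivOfSurjective f hfs)
  refine ⟨N, H, hN, hHn, hlt, e.isSimpleGroup, fun hc => hab ⟨⟨fun a b => ?_⟩⟩, fun q hq => ?_⟩
  · simpa using congrArg e (hc.is_comm.comm (e.symm a) (e.symm b))
  · rw [Nat.card_congr e.toEquiv]; exact hall q hq

/-- A solvable group has no such pair of primes. -/
theorem not_isSolvable (S : Set ℕ)
    (hS : ∀ p ∈ S, p.Prime ∧ p ∣ Nat.card G ∧ ¬ p ^ 2 ∣ Nat.card G)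
    (hadj : ∀ p ∈ S, ∀ q ∈ S, p ≠ q → ∀ g : G, orderOf g ≠ p * q)
    (hnd : ∀ p ∈ S, ∀ q ∈ S, ¬ q ∣ p - 1) (h2 : ∃ p ∈ S, ∃ q ∈ S, p ≠ q) : ¬ Group.IsSolvable G := by
  intro hs
  obtain ⟨N, H, hN, hH, -, hsimp, hab, -⟩ := exists_simple_factor S hS hadj hnd h2
  haveI := hsimp
  exact hab ⟨⟨fun a b => IsSimpleGroup.comm_iff_isSolvable.2 inferInstance a b⟩⟩

/-! Facts on the alternating groups. -/

theorem prime_sq_not_dvd_factorial {p : ℕ} (hp : p.Prime) :
    ∀ n, n < 2 * p → (n < p → ¬ p ∣ n.factorial) ∧ ¬ p ^ 2 ∣ n.factorial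
  | 0, _ => by simp [hp.ne_one]
  | n + 1, h => by
    obtain ⟨h1, h2⟩ := prime_sq_not_dvd_factorial hp n (by omega)
    rw [Nat.factorial_succ]
    refine ⟨fun hn hd => (hp.dvd_mul.1 hd).elim (fun hd => ?_) (h1 (by omega)), fun hd => ?_⟩
    · exact absurd (Nat.le_of_dvd (Nat.succ_pos n) hd) (by omega)
    by_cases hd' : p ∣ n + 1
    · obtain ⟨c, hc⟩ := hd'
      have hc1 : c = 1 := by
        rcases c with _ | _ | c
        · omega
        · rfl
        · exfalso; nlinarith
      rw [hc, hc1, mul_one, pow_two] at hd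
      exact h1 (by rw [hc1, mul_one] at hc; omega) (Nat.dvd_of_mul_dvd_mul_left hp.pos hd)
    · exact h2 (((hp.coprime_iff_not_dvd.2 hd').pow_left 2).dvd_of_dvd_mul_left hd)

theorem perm_orderOf_ne {n p q : ℕ} (hp : p.Prime) (hq : q.Prime) (hne : p ≠ q) (h : n < p + q)
    (σ : Equiv.Perm (Fin n)) : orderOf σ ≠ p * q := by
  intro ho
  have key : ∀ r, r.Prime → r ∣ p * q → ∃ c ∈ σ.cycleType, r ∣ c := by
    intro r hr hd
    rw [← ho, ← Equiv.Perm.lcm_cycleType] at hd
    by_contra hc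
    push Not at hc
    have : ∀ (s : Multiset ℕ), (∀ c ∈ s, ¬ r ∣ c) → ¬ r ∣ s.lcm := by
      intro s
      induction s using Multiset.induction_on with
      | empty => intro _; simpa using hr.ne_one
      | cons a s ih =>
        intro hs hd
        rw [Multiset.lcm_cons] at hd
        exact (hr.dvd_mul.1 (hd.trans (lcm_dvd (dvd_mul_right _ _) (dvd_mul_left _ _)))).elim
          (hs a (Multiset.mem_cons_self _ _)) (ih fun c hc => hs c (Multiset.mem_cons_of_mem hc))
    exact this _ hc hd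
  obtain ⟨c, hc, hpc⟩ := key p hp (dvd_mul_right _ _)
  obtain ⟨c', hc', hqc⟩ := key q hq (dvd_mul_left _ _)
  have hle : σ.cycleType.sum ≤ n := by
    rw [Equiv.Perm.sum_cycleType]; exact (Finset.card_le_univ _).trans (Fintype.card_fin n).le
  have h0 := Equiv.Perm.two_le_of_mem_cycleType hc
  by_cases e : c = c'
  · subst e
    have := Nat.le_of_dvd (by omega) ((Nat.Coprime.mul_dvd_of_dvd_of_dvd ((Nat.coprime_primes hp hq).2 hne) hpc hqc))
    have := Multiset.le_sum_of_mem hc
    have := hp.two_le; have := hq.two_le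
    nlinarith
  · have h1 := Nat.le_of_dvd (by omega) hpc
    have h2 := Nat.le_of_dvd (by have := Equiv.Perm.two_le_of_mem_cycleType hc'; omega) hqc
    obtain ⟨t, ht⟩ := Multiset.exists_cons_of_mem hc
    have : c' ∈ t := (Multiset.mem_cons.1 (ht ▸ hc')).resolve_left (Ne.symm e)
    have := Multiset.le_sum_of_mem this
    rw [ht, Multiset.sum_cons] at hle
    omega

variable (n : ℕ) (hcard : Nat.card G = Nat.card ↥(alternatingGroup (Fin n)))
  (hspec : Set.range (orderOf : G → ℕ) = Set.range (orderOf : ↥(alternatingGroup (Fin n)) → ℕ))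

include hspec in
omit [Finite G] in
theorem orderOf_ne_of_spec {p q : ℕ} (hp : p.Prime) (hq : q.Prime) (hne : p ≠ q) (h : n < p + q) (g : G) :
    orderOf g ≠ p * q := by
  intro hg
  obtain ⟨σ, hσ⟩ : p * q ∈ Set.range (orderOf : ↥(alternatingGroup (Fin n)) → ℕ) := hspec ▸ ⟨g, hg⟩
  exact perm_orderOf_ne hp hq hne h σ.1 (by rw [Subgroup.orderOf_coe]; exact hσ)

include hcard in
theorem exponent_one {p : ℕ} (hp : p.Prime) (hn : 2 ≤ n) (h3 : 3 ≤ p) (hle : p ≤ n) (hlt : n < 2 * p) :
    p ∣ Nat.card G ∧ ¬ p ^ 2 ∣ Nat.card G := by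
  haveI : Nontrivial (Fin n) := Fin.nontrivial_iff_two_le.2 hn
  have h := two_mul_nat_card_alternatingGroup (α := Fin n)
  rw [← hcard, Nat.card_perm, Nat.card_fin] at h
  refine ⟨?_, fun h2 => (prime_sq_not_dvd_factorial hp n hlt).2 (h ▸ h2.mul_left 2)⟩
  have hd : p ∣ 2 * Nat.card G := h ▸ Nat.dvd_factorial hp.pos hle
  exact (hp.dvd_mul.1 hd).resolve_left fun h2 => absurd (Nat.le_of_dvd two_pos h2) (by omega)

end CfsgLib.Recog.PrimeFactor
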