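import Cfsg.Agent.Lib.StructB.OrderCount

/-!
# Determining the numbers of elements of each order from the set of their values

A finite search over the possible element orders, using only Frobenius' congruences
`n ∣ #{x | x ^ n = 1}` for divisors `n` of the group order and `φ(m) ∣ cnt G m`.
-/

set_option autoImplicit false
open Finset

set_option linter.unusedSectionVars false

namespace CfsgLib.Recog.SameOrderType

open CfsgLib.StructB.OrderCount

/-- Sum of the recorded counts over the orders dividing `n`. -/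
def lsum (acc : List (ℕ × ℕ)) (n : ℕ) : ℕ :=
  ((acc.filter fun e => n % e.1 == 0).map Prod.snd).sum

def present (acc : List (ℕ × ℕ)) (d : ℕ) : Bool := acc.any fun e => e.1 == d

/-- Depth first search over `(m, lower, values)`, where `lower` lists maximal divisors of `m`;
an absent order excludes its multiples. The first argument bounds the depth. -/
def search (fin : List (ℕ × ℕ) → Bool) :
    ℕ → List (ℕ × List ℕ × List ℕ) → List (ℕ × ℕ) → Bool
  | _, [], acc => fin acc
  | 0, _ :: _, _ => false
  | k + 1, (m, ds, vs) :: rest, acc =>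
    search fin k (rest.filter fun e => !(e.1 % m == 0)) acc && (!(ds.all (present acc)) ||
      vs.all fun v => !((lsum acc m + v) % m == 0) || search fin k rest ((m, v) :: acc))

/-- The test at the end of a branch: either the wanted distribution, or a violated condition. -/
def leaf (D : List ℕ) (W : List ℕ) (sol : List (ℕ × ℕ)) (acc : List (ℕ × ℕ)) : Bool :=
  let T := (acc.map Prod.snd).sum
  acc == sol || (D.any fun v => !(acc.any fun e => e.2 == v)) || !((210 ^ 20) % T == 0) ||
    ([2, 3, 5, 7].any fun p => T % p == 0 && !present acc p) || (acc.any fun e => !(T % e.1 == 0)) ||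
    (W.any fun n => T % n == 0 && !(lsum acc n % n == 0))

/-- The product formula for Euler's function at `2 ^ a * 3 ^ b * 5 ^ c * 7 ^ d`. -/
def phiSmall (a b c d : ℕ) : ℕ :=
  (if a = 0 then 1 else 2 ^ (a - 1)) * (if b = 0 then 1 else 3 ^ (b - 1) * 2) *
    (if c = 0 then 1 else 5 ^ (c - 1) * 4) * (if d = 0 then 1 else 7 ^ (d - 1) * 6)

/-- The candidate list covers every possible order. -/
def covers (D : List ℕ) (cands : List (ℕ × List ℕ × List ℕ)) : Bool :=
  (List.range 9).all fun a => (List.range 6).all fun b => (List.range 4).all fun c => (List.range 3).all fun d =>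
    D.all fun v => 2 ^ a * 3 ^ b * 5 ^ c * 7 ^ d == 1 || !(v % phiSmall a b c d == 0) ||
      cands.any fun e => e.1 == 2 ^ a * 3 ^ b * 5 ^ c * 7 ^ d && e.2.2.contains v

/-- Side conditions on the candidate list. -/
def wellFormed (cands : List (ℕ × List ℕ × List ℕ)) : Bool :=
  cands.all fun e => e.2.1.all fun d => e.1 % d == 0 && decide (d < e.1)

/-- No prime outside `{2, 3, 5, 7}` is possible. -/
def smallPrimes (D : List ℕ) : Bool :=
  (List.range 146).all fun p => D.all fun v =>
    p < 2 || [2, 3, 5, 7].contains p || !(v % (p - 1) == 0) || !((1 + v) % p == 0) ||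
      ((List.range p).any fun k => 2 ≤ k && p % k == 0)

theorem totient_prime_pow_if {p : ℕ} (hp : p.Prime) (a : ℕ) :
    Nat.totient (p ^ a) = if a = 0 then 1 else p ^ (a - 1) * (p - 1) := by
  rcases Nat.eq_zero_or_pos a with rfl | ha
  · simp
  · rw [if_neg ha.ne', Nat.totient_prime_pow hp ha]

theorem totient_small (a b c d : ℕ) :
    Nat.totient (2 ^ a * 3 ^ b * 5 ^ c * 7 ^ d) = phiSmall a b c d := by
  have cop : ∀ p q i j : ℕ, p.Coprime q → (p ^ i).Coprime (q ^ j) := fun p q i j h => h.pow i j
  rw [Nat.totient_mul (Nat.Coprime.mul_left (Nat.Coprime.mul_left (cop 2 7 a d (by norm_num)) (cop 3 7 b d (by norm_num)))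
      (cop 5 7 c d (by norm_num))),
    Nat.totient_mul (Nat.Coprime.mul_left (cop 2 5 a c (by norm_num)) (cop 3 5 b c (by norm_num))),
    Nat.totient_mul (cop 2 3 a b (by norm_num)), totient_prime_pow_if Nat.prime_two,
    totient_prime_pow_if Nat.prime_three, totient_prime_pow_if (by norm_num : Nat.Prime 5),
    totient_prime_pow_if (by norm_num : Nat.Prime 7)]
  simp [phiSmall]

/-- A number with prime divisors among `2, 3, 5, 7`. -/
theorem exists_exponents {m : ℕ} (hm : m ≠ 0) (h : ∀ p : ℕ, p.Prime → p ∣ m → p ∈ [2, 3, 5, 7]) :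
    m = 2 ^ m.factorization 2 * 3 ^ m.factorization 3 * 5 ^ m.factorization 5 * 7 ^ m.factorization 7 := by
  conv_lhs => rw [← Nat.prod_factorization_pow_eq_self hm]
  have hsub : m.factorization.support ⊆ {2, 3, 5, 7} := fun p hp => by
    rw [Nat.support_factorization, Nat.mem_primeFactors] at hp
    simpa using h p hp.1 hp.2.1
  rw [Finsupp.prod_of_support_subset _ hsub _ (fun p _ => pow_zero p)]
  simp [mul_assoc]

variable {G : Type*} [Group G] [Finite G]

/-- The state of the search agrees with the group. -/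
structure State (cands : List (ℕ × List ℕ × List ℕ)) (acc : List (ℕ × ℕ)) : Prop where
  val : ∀ e ∈ acc, cnt G e.1 = e.2 ∧ e.2 ≠ 0
  nodup : (acc.map Prod.fst).Nodup
  all : ∀ d, cnt G d ≠ 0 → d ∈ acc.map Prod.fst ∨ d ∈ cands.map Prod.fst
  new : ∀ d ∈ cands.map Prod.fst, d ∉ acc.map Prod.fst

theorem lsum_eq {acc : List (ℕ × ℕ)} (hval : ∀ e ∈ acc, cnt G e.1 = e.2 ∧ e.2 ≠ 0)
    (hnd : (acc.map Prod.fst).Nodup) {n : ℕ} (hn : n ≠ 0)
    (hall : ∀ d, d ∣ n → cnt G d ≠ 0 → d ∈ acc.map Prod.fst) :
    lsum acc n = ∑ d ∈ n.divisors, cnt G d := by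
  set L := acc.filter fun e => n % e.1 == 0 with hL
  have hLn : (L.map Prod.fst).Nodup := hnd.sublist ((List.filter_sublist).map _)
  have hmap : L.map Prod.snd = (L.map Prod.fst).map (cnt G) := by
    rw [List.map_map]
    refine List.map_congr_left fun e he => ?_
    exact ((hval e (List.mem_of_mem_filter he)).1).symm
  rw [lsum, ← hL, hmap, ← List.sum_toFinset _ hLn]
  refine Finset.sum_subset (fun d hd => ?_) fun d hd hnot => ?_
  · rw [List.mem_toFinset, List.mem_map] at hd
    obtain ⟨e, he, rfl⟩ := hd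
    rw [hL, List.mem_filter, beq_iff_eq] at he
    exact Nat.mem_divisors.mpr ⟨Nat.dvd_of_mod_eq_zero he.2, hn⟩
  · by_contra h
    have hdn := Nat.dvd_of_mem_divisors hd
    obtain ⟨e, he, rfl⟩ := List.mem_map.mp (hall d hdn h)
    refine hnot (List.mem_toFinset.mpr (List.mem_map.mpr ⟨e, ?_, rfl⟩))
    rw [hL, List.mem_filter, beq_iff_eq]
    exact ⟨he, Nat.mod_eq_zero_of_dvd hdn⟩

theorem search_sound (fin : List (ℕ × ℕ) → Bool) :
    ∀ (k : ℕ) (cands : List (ℕ × List ℕ × List ℕ)) (acc : List (ℕ × ℕ)),
      (cands.map Prod.fst).Pairwise (· < ·) → wellFormed cands = true →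
      (∀ e ∈ cands, cnt G e.1 ≠ 0 → cnt G e.1 ∈ e.2.2) →
      State (G := G) cands acc → search fin k cands acc = true →
      ∃ acc', fin acc' = true ∧ State (G := G) [] acc' := by
  intro k
  induction k with
  | zero =>
    intro cands acc _ _ _ hs h
    cases cands with
    | nil => exact ⟨acc, by simpa [search] using h, hs⟩
    | cons head rest => simp [search] at h
  | succ k ih =>
    intro cands acc hord hwf hvs hs h
    cases cands with
    | nil => exact ⟨acc, by simpa [search] using h, hs⟩
    | cons head rest =>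
    obtain ⟨m, ds, vs⟩ := head
    simp only [List.map_cons, List.pairwise_cons] at hord
    simp only [wellFormed, List.all_cons, Bool.and_eq_true] at hwf
    simp only [search, Bool.and_eq_true, Bool.or_eq_true, Bool.not_eq_true', List.all_eq_true] at h
    have hvs' := fun e he => hvs e (List.mem_cons_of_mem _ he)
    by_cases hm : cnt G m = 0
    · have hsub : ∀ e ∈ rest.filter (fun e => !(e.1 % m == 0)), e ∈ rest := fun e he => List.mem_of_mem_filter he
      refine ih (rest.filter fun e => !(e.1 % m == 0)) acc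
        (hord.2.sublist (List.filter_sublist.map _))
        (List.all_eq_true.mpr fun e he => List.all_eq_true.mp hwf.2 e (hsub e he))
        (fun e he => hvs' e (hsub e he))
        ⟨hs.val, hs.nodup, fun d hd => ?_, fun d hd => hs.new d (List.mem_cons_of_mem _ ?_)⟩ h.1
      · rcases hs.all d hd with h' | h'
        · exact Or.inl h'
        · rcases List.mem_cons.mp h' with rfl | h'
          · exact absurd hm hd
          · obtain ⟨e, he, rfl⟩ := List.mem_map.mp h'
            refine Or.inr (List.mem_map.mpr ⟨e, List.mem_filter.mpr ⟨he, ?_⟩, rfl⟩)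
            by_contra hmod
            exact hd (cnt_zero_of_dvd (Nat.dvd_of_mod_eq_zero (by simpa using hmod)) hm)
      · obtain ⟨e, he, rfl⟩ := List.mem_map.mp hd
        exact List.mem_map.mpr ⟨e, hsub e he, rfl⟩
    · have hm0 : m ≠ 0 := fun e => by
        subst e
        obtain ⟨⟨g, hg⟩⟩ := (Nat.card_ne_zero.1 hm).1
        exact (orderOf_pos g).ne' hg
      have hbelow : ∀ d, cnt G d ≠ 0 → d < m → d ∈ acc.map Prod.fst := fun d hd hlt => by
        rcases hs.all d hd with h' | h'
        · exact h'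
        · rcases List.mem_cons.mp h' with e | h'
          · simp only at e; omega
          · exact absurd (hord.1 d h') (not_lt.mpr hlt.le)
      have hds : (ds.all (present acc)) = true := by
        rw [List.all_eq_true]
        intro d hd
        have hd' := List.all_eq_true.mp hwf.1 d hd
        simp only [Bool.and_eq_true, beq_iff_eq, decide_eq_true_eq] at hd'
        have hdvd : d ∣ m := Nat.dvd_of_mod_eq_zero hd'.1
        have hd0 : cnt G d ≠ 0 := fun e => hm (cnt_zero_of_dvd hdvd e)
        rw [present, List.any_eq_true]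
        obtain ⟨e, he, hed⟩ := List.mem_map.mp (hbelow d hd0 hd'.2)
        exact ⟨e, he, beq_iff_eq.mpr hed⟩
      rcases h.2 with hf | hall
      · rw [hds] at hf; cases hf
      have hv := hvs (m, ds, vs) (List.mem_cons_self ..) hm
      have hnew : m ∉ acc.map Prod.fst := hs.new m (List.mem_cons_self ..)
      have hs' : State (G := G) rest ((m, cnt G m) :: acc) := by
        refine ⟨?_, ?_, fun d hd => ?_, fun d hd => ?_⟩
        · intro e he
          rcases List.mem_cons.mp he with rfl | he
          · exact ⟨rfl, hm⟩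
          · exact hs.val e he
        · simp only [List.map_cons, List.nodup_cons]
          exact ⟨hnew, hs.nodup⟩
        · rcases hs.all d hd with h' | h'
          · exact Or.inl (List.mem_cons_of_mem _ h')
          · rcases List.mem_cons.mp h' with e | h'
            · exact Or.inl (e ▸ List.mem_cons_self ..)
            · exact Or.inr h'
        · simp only [List.map_cons, List.mem_cons, not_or]
          exact ⟨(hord.1 d hd).ne', hs.new d (List.mem_cons_of_mem _ hd)⟩
      have hsum : lsum ((m, cnt G m) :: acc) m = lsum acc m + cnt G m := by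
        simp only [lsum, List.filter_cons, Nat.mod_self, beq_self_eq_true, if_true, List.map_cons, List.sum_cons]
        omega
      have hdiv : m ∣ lsum ((m, cnt G m) :: acc) m := by
        rw [lsum_eq hs'.val hs'.nodup hm0 fun d hdm hd => ?_]
        · exact dvd_sum_cnt (dvd_card_of_cnt hm)
        · rcases eq_or_ne d m with rfl | hne
          · exact List.mem_cons_self ..
          · exact List.mem_cons_of_mem _ (hbelow d hd
              (lt_of_le_of_ne (Nat.le_of_dvd (Nat.pos_of_ne_zero hm0) hdm) hne))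
      rcases hall (cnt G m) hv with hbad | hgo
      · rw [hsum] at hdiv
        exact absurd (beq_iff_eq.mpr (Nat.mod_eq_zero_of_dvd hdiv)) (by rw [hbad]; exact Bool.false_ne_true)
      · exact ih _ _ hord.2 hwf.2 hvs' hs' hgo

/-- The values determine the counts once the search succeeds. -/
theorem counts_eq (D W : List ℕ) (cands : List (ℕ × List ℕ × List ℕ)) (sol : List (ℕ × ℕ))
    (hD : (fun m : ℕ => Nat.card {g : G // orderOf g = m}) '' Set.range (orderOf : G → ℕ) = {v | v ∈ D})
    (hbound : ∀ v ∈ D, 0 < v ∧ v ≤ 144) (hord : (cands.map Prod.fst).Pairwise (· < ·))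
    (h1 : 1 ∉ cands.map Prod.fst) (hlong : cands.length ≤ 1000) (hwf : wellFormed cands = true) (hcov : covers D cands = true)
    (hsmall : smallPrimes D = true) {k : ℕ} (hsearch : search (leaf D W sol) k cands [(1, 1)] = true) :
    (∀ e ∈ sol, cnt G e.1 = e.2) ∧ (∀ d, cnt G d ≠ 0 → d ∈ sol.map Prod.fst) ∧
      Nat.card G = (sol.map Prod.snd).sum := by
  classical
  have hmem : ∀ m, cnt G m ≠ 0 → cnt G m ∈ D := by
    intro m hm
    obtain ⟨⟨g, hg⟩⟩ := (Nat.card_ne_zero.1 hm).1
    have : cnt G m ∈ {v | v ∈ D} := hD ▸ ⟨m, ⟨g, hg⟩, rfl⟩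
    exact this
  have hsurj : ∀ v ∈ D, ∃ m, cnt G m = v := by
    intro v hv
    obtain ⟨m, -, hm⟩ := hD.symm ▸ (show v ∈ {v | v ∈ D} from hv)
    exact ⟨m, hm⟩
  have hprime : ∀ p : ℕ, p.Prime → p ∣ Nat.card G → p ∈ [2, 3, 5, 7] := by
    intro p hp hd
    have hc := cnt_ne_zero_of_prime (G := G) hp hd
    have hv := hmem p hc
    have h1 : p - 1 ∣ cnt G p := Nat.totient_prime hp ▸ totient_dvd_cnt p
    have h2 : p ∣ 1 + cnt G p := by
      have := dvd_sum_cnt hd
      rwa [hp.divisors, Finset.sum_pair (Ne.symm hp.ne_one), cnt_one] at this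
    have hp146 : p < 146 := by
      have := Nat.le_of_dvd (hbound _ hv).1 h1
      have := (hbound _ hv).2
      omega
    simp only [smallPrimes, List.all_eq_true, Bool.or_eq_true, List.any_eq_true, Bool.and_eq_true] at hsmall
    have := hsmall p (List.mem_range.mpr hp146) _ hv
    rcases this with ((((h | h) | h) | h) | ⟨k, hk, h2k, hk0⟩)
    · have := hp.two_le; simp at h; omega
    · simpa using h
    · rw [Nat.mod_eq_zero_of_dvd h1] at h; simp at h
    · rw [Nat.mod_eq_zero_of_dvd h2] at h; simp at h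
    · have := (Nat.dvd_prime hp).mp (Nat.dvd_of_mod_eq_zero (beq_iff_eq.mp hk0))
      have := List.mem_range.mp hk
      simp at h2k
      omega
  have hprimeOf : ∀ m, cnt G m ≠ 0 → ∀ p : ℕ, p.Prime → p ∣ m → p ∈ [2, 3, 5, 7] :=
    fun m hm p hp hpm => hprime p hp (hpm.trans (dvd_card_of_cnt hm))
  have hcand : ∀ m, cnt G m ≠ 0 → m = 1 ∨ ∃ e ∈ cands, e.1 = m ∧ cnt G m ∈ e.2.2 := by
    intro m hm
    have hm0 : m ≠ 0 := fun e => by
      subst e
      obtain ⟨⟨g, hg⟩⟩ := (Nat.card_ne_zero.1 hm).1
      exact (orderOf_pos g).ne' hg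
    have hv := hmem m hm
    have he := exists_exponents hm0 (hprimeOf m hm)
    obtain ⟨a, b, c, d, rfl⟩ : ∃ a b c d, m = 2 ^ a * 3 ^ b * 5 ^ c * 7 ^ d := ⟨_, _, _, _, he⟩
    have hphi : phiSmall a b c d ∣ cnt G (2 ^ a * 3 ^ b * 5 ^ c * 7 ^ d) := totient_small a b c d ▸ totient_dvd_cnt _
    have hle : phiSmall a b c d ≤ 144 := (Nat.le_of_dvd (hbound _ hv).1 hphi).trans (hbound _ hv).2
    have hpart : ∀ {x y : ℕ}, 1 ≤ y → x * y ≤ 144 → x ≤ 144 := fun hy h =>
      (Nat.le_mul_of_pos_right _ hy).trans h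
    have hA : (if a = 0 then 1 else 2 ^ (a - 1)) ≤ 144 ∧ (if b = 0 then 1 else 3 ^ (b - 1) * 2) ≤ 144 ∧
        (if c = 0 then 1 else 5 ^ (c - 1) * 4) ≤ 144 ∧ (if d = 0 then 1 else 7 ^ (d - 1) * 6) ≤ 144 := by
      unfold phiSmall at hle
      have ha1 : 1 ≤ (if a = 0 then 1 else 2 ^ (a - 1)) := by split_ifs <;> simp [Nat.one_le_pow]
      have hb1 : 1 ≤ (if b = 0 then 1 else 3 ^ (b - 1) * 2) := by split_ifs <;> simp [Nat.one_le_iff_ne_zero]
      have hc1 : 1 ≤ (if c = 0 then 1 else 5 ^ (c - 1) * 4) := by split_ifs <;> simp [Nat.one_le_iff_ne_zero]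
      have hd1 : 1 ≤ (if d = 0 then 1 else 7 ^ (d - 1) * 6) := by split_ifs <;> simp [Nat.one_le_iff_ne_zero]
      refine ⟨?_, ?_, ?_, ?_⟩ <;> nlinarith [Nat.mul_le_mul ha1 hb1, Nat.mul_le_mul hc1 hd1,
        hpart hd1 hle, hpart hc1 (hpart hd1 hle), hpart hb1 (hpart hc1 (hpart hd1 hle))]
    obtain ⟨hA, hB, hC, hE⟩ := hA
    have hpw : ∀ (p i j : ℕ), 1 < p → j ≤ i → p ^ j ≤ p ^ i := fun p i j hp h => Nat.pow_le_pow_right (by omega) h
    have ha : a < 9 := by
      by_contra h
      rw [if_neg (by omega)] at hA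
      have := hpw 2 (a - 1) 8 (by norm_num) (by omega); omega
    have hb : b < 6 := by
      by_contra h
      rw [if_neg (by omega)] at hB
      have := hpw 3 (b - 1) 5 (by norm_num) (by omega); omega
    have hc : c < 4 := by
      by_contra h
      rw [if_neg (by omega)] at hC
      have := hpw 5 (c - 1) 3 (by norm_num) (by omega); omega
    have hd : d < 3 := by
      by_contra h
      rw [if_neg (by omega)] at hE
      have := hpw 7 (d - 1) 2 (by norm_num) (by omega); omega
    simp only [covers, List.all_eq_true, Bool.or_eq_true, List.any_eq_true, Bool.and_eq_true] at hcov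
    rcases hcov a (List.mem_range.mpr ha) b (List.mem_range.mpr hb) c (List.mem_range.mpr hc) d
      (List.mem_range.mpr hd) _ hv with (h | h) | ⟨e, he, h1, h2⟩
    · exact Or.inl (beq_iff_eq.mp h)
    · rw [Nat.mod_eq_zero_of_dvd hphi] at h; simp at h
    · exact Or.inr ⟨e, he, beq_iff_eq.mp h1, by simpa using h2⟩
  have hvs : ∀ e ∈ cands, cnt G e.1 ≠ 0 → cnt G e.1 ∈ e.2.2 := by
    intro e he hc
    rcases hcand e.1 hc with h | ⟨e', he', h, hmem'⟩
    · exact absurd (List.mem_map.mpr ⟨e, he, h⟩) h1
    · have : e' = e := List.inj_on_of_nodup_map (hord.imp (fun h => h.ne)) he' he h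
      exact this ▸ hmem'
  have hinit : State (G := G) cands [(1, 1)] := by
    refine ⟨?_, by simp, fun d hd => ?_, fun d hd => ?_⟩
    · simp [cnt_one]
    · rcases hcand d hd with rfl | ⟨e, he, rfl, -⟩
      · exact Or.inl (by simp)
      · exact Or.inr (List.mem_map.mpr ⟨e, he, rfl⟩)
    · simp only [List.map_cons, List.map_nil, List.mem_singleton]
      rintro rfl
      exact h1 hd
  obtain ⟨acc, hfin, hs⟩ := search_sound (leaf D W sol) k cands [(1, 1)] hord hwf hvs hinit hsearch
  have hall : ∀ d, cnt G d ≠ 0 → d ∈ acc.map Prod.fst := fun d hd => (hs.all d hd).resolve_right (by simp)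
  have hT : (acc.map Prod.snd).sum = Nat.card G := by
    have hn := Nat.card_pos (α := G) |>.ne'
    have h := lsum_eq hs.val hs.nodup hn fun d _ hd => hall d hd
    rw [← card_root_eq hn, Nat.card_congr (Equiv.subtypeUnivEquiv fun x : G => pow_card_eq_one')] at h
    rw [← h, lsum, List.filter_eq_self.mpr]
    intro e he
    exact beq_iff_eq.mpr (Nat.mod_eq_zero_of_dvd (dvd_card_of_cnt (by
      rw [(hs.val e he).1]; exact (hs.val e he).2)))
  rw [leaf] at hfin
  simp only [Bool.or_eq_true, List.any_eq_true, Bool.and_eq_true, Bool.not_eq_true', hT] at hfin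
  rcases hfin with ((((h | ⟨v, hv, h⟩) | h) | ⟨p, hp, hpT, h⟩) | ⟨e, he, h⟩) | ⟨n, -, hn, h⟩
  · have := beq_iff_eq.mp h
    subst this
    exact ⟨fun e he => (hs.val e he).1, hall, hT.symm⟩
  · exfalso
    obtain ⟨m, hm⟩ := hsurj v hv
    have hm0 : cnt G m ≠ 0 := hm ▸ (hbound v hv).1.ne'
    obtain ⟨e, he, rfl⟩ := List.mem_map.mp (hall m hm0)
    have : (acc.any fun e => e.2 == v) = true :=
      List.any_eq_true.mpr ⟨e, he, beq_iff_eq.mpr ((hs.val e he).1.symm.trans hm)⟩
    rw [h] at this
    cases this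
  · exfalso
    have hdvd : Nat.card G ∣ 210 ^ 20 := by
      have hn := Nat.card_pos (α := G)
      rw [exists_exponents hn.ne' hprime]
      have hexp : ∀ p : ℕ, p.Prime → p ∈ [2, 3, 5, 7] → (Nat.card G).factorization p ≤ 20 := by
        intro p hp hmemp
        by_contra hgt
        push Not at hgt
        have hpd : p ^ 21 ∣ Nat.card G := (pow_dvd_pow p hgt).trans (Nat.ordProj_dvd _ _)
        have hle' := Nat.le_of_dvd hn hpd
        have h21 : 2 ^ 21 ≤ p ^ 21 := Nat.pow_le_pow_left hp.two_le 21
        have hbd : (acc.map Prod.snd).sum ≤ 144 * acc.length := by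
          have := List.sum_le_card_nsmul (acc.map Prod.snd) 144 (fun x hx => by
            obtain ⟨e, he, rfl⟩ := List.mem_map.mp hx
            exact (hbound _ ((hs.val e he).1 ▸ hmem e.1 (by rw [(hs.val e he).1]; exact (hs.val e he).2))).2)
          simpa [mul_comm] using this
        have hlen : acc.length ≤ cands.length + 1 := by
          have hsub : (acc.map Prod.fst) ⊆ 1 :: cands.map Prod.fst := by
            intro d hd
            obtain ⟨e, he, rfl⟩ := List.mem_map.mp hd
            rcases hcand e.1 (by rw [(hs.val e he).1]; exact (hs.val e he).2) with h | ⟨e', he', h, -⟩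
            · simp [h]
            · exact List.mem_cons_of_mem _ (h ▸ List.mem_map.mpr ⟨e', he', rfl⟩)
          have := (hs.nodup.subperm hsub).length_le
          simpa using this
        have hcl : cands.length ≤ 1000 := hlong
        norm_num at h21
        nlinarith
      refine Nat.dvd_trans (Nat.mul_dvd_mul (Nat.mul_dvd_mul (Nat.mul_dvd_mul (pow_dvd_pow 2 (hexp 2 Nat.prime_two (by simp)))
        (pow_dvd_pow 3 (hexp 3 Nat.prime_three (by simp)))) (pow_dvd_pow 5 (hexp 5 (by norm_num) (by simp))))
        (pow_dvd_pow 7 (hexp 7 (by norm_num) (by simp)))) (by norm_num)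
    rw [Nat.mod_eq_zero_of_dvd hdvd] at h
    simp at h
  · exfalso
    have hpp : p.Prime := by
      simp at hp
      rcases hp with rfl | rfl | rfl | rfl <;> norm_num
    obtain ⟨e, he, hep⟩ := List.mem_map.mp (hall p (cnt_ne_zero_of_prime hpp (Nat.dvd_of_mod_eq_zero (beq_iff_eq.mp hpT))))
    have : present acc p = true := List.any_eq_true.mpr ⟨e, he, beq_iff_eq.mpr hep⟩
    rw [h] at this
    cases this
  · exfalso
    rw [Nat.mod_eq_zero_of_dvd (dvd_card_of_cnt (by rw [(hs.val e he).1]; exact (hs.val e he).2))] at h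
    simp at h
  · exfalso
    have hnd : n ∣ Nat.card G := Nat.dvd_of_mod_eq_zero (beq_iff_eq.mp hn)
    rw [lsum_eq hs.val hs.nodup (ne_zero_of_dvd_ne_zero Nat.card_pos.ne' hnd) fun d _ hd => hall d hd,
      Nat.mod_eq_zero_of_dvd (dvd_sum_cnt hnd)] at h
    simp at h

end CfsgLib.Recog.SameOrderType
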