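import Cfsg.Agent.Lib.Recog.SameOrderType

/-!
Candidate tables for the same-order-type recognition of the small alternating groups.
-/

set_option autoImplicit false

namespace CfsgLib.Recog.SameOrderType

def cands_four : List (ℕ × List ℕ × List ℕ) := [
  (2, [1], [1, 3, 8]),
  (3, [1], [8]),
  (4, [2], [8]),
  (5, [1], [8]),
  (6, [3, 2], [8]),
  (8, [4], [8]),
  (10, [5, 2], [8]),
  (12, [6, 4], [8]),
  (15, [5, 3], [8]),
  (16, [8], [8]),
  (20, [10, 4], [8]),
  (24, [12, 8], [8]),
  (30, [15, 10, 6], [8])]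

theorem search_four : search (leaf [1, 3, 8] [] [(3, 8), (2, 3), (1, 1)]) 60 cands_four [(1, 1)] = true := by
  decide +kernel

def cands_five : List (ℕ × List ℕ × List ℕ) := [
  (2, [1], [1, 15, 20, 24]),
  (3, [1], [20, 24]),
  (4, [2], [20, 24]),
  (5, [1], [20, 24]),
  (6, [3, 2], [20, 24]),
  (7, [1], [24]),
  (8, [4], [20, 24]),
  (9, [3], [24]),
  (10, [5, 2], [20, 24]),
  (12, [6, 4], [20, 24]),
  (14, [7, 2], [24]),
  (15, [5, 3], [24]),
  (16, [8], [24]),
  (18, [9, 6], [24]),
  (20, [10, 4], [24]),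
  (21, [7, 3], [24]),
  (24, [12, 8], [24]),
  (25, [5], [20]),
  (28, [14, 4], [24]),
  (30, [15, 10, 6], [24]),
  (35, [7, 5], [24]),
  (36, [18, 12], [24]),
  (42, [21, 14, 6], [24]),
  (45, [15, 9], [24]),
  (50, [25, 10], [20]),
  (56, [28, 8], [24]),
  (70, [35, 14, 10], [24]),
  (72, [36, 24], [24]),
  (84, [42, 28, 12], [24]),
  (90, [45, 30, 18], [24])]

theorem search_five : search (leaf [1, 15, 20, 24] [27, 16, 30] [(5, 24), (3, 20), (2, 15), (1, 1)]) 60 cands_five [(1, 1)] = true := by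
  decide +kernel

def cands_six : List (ℕ × List ℕ × List ℕ) := [
  (2, [1], [1, 45, 80, 90, 144]),
  (3, [1], [80, 90, 144]),
  (4, [2], [80, 90, 144]),
  (5, [1], [80, 144]),
  (6, [3, 2], [80, 90, 144]),
  (7, [1], [90, 144]),
  (8, [4], [80, 144]),
  (9, [3], [90, 144]),
  (10, [5, 2], [80, 144]),
  (12, [6, 4], [80, 144]),
  (14, [7, 2], [90, 144]),
  (15, [5, 3], [80, 144]),
  (16, [8], [80, 144]),
  (18, [9, 6], [90, 144]),
  (20, [10, 4], [80, 144]),
  (21, [7, 3], [144]),
  (24, [12, 8], [80, 144]),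
  (25, [5], [80]),
  (27, [9], [90, 144]),
  (28, [14, 4], [144]),
  (30, [15, 10, 6], [80, 144]),
  (32, [16], [80, 144]),
  (35, [7, 5], [144]),
  (36, [18, 12], [144]),
  (40, [20, 8], [80, 144]),
  (42, [21, 14, 6], [144]),
  (45, [15, 9], [144]),
  (48, [24, 16], [80, 144]),
  (50, [25, 10], [80]),
  (54, [27, 18], [90, 144]),
  (56, [28, 8], [144]),
  (60, [30, 20, 12], [80, 144]),
  (63, [21, 9], [144]),
  (70, [35, 14, 10], [144]),
  (72, [36, 24], [144]),
  (75, [25, 15], [80]),
  (84, [42, 28, 12], [144]),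
  (90, [45, 30, 18], [144]),
  (100, [50, 20], [80]),
  (105, [35, 21, 15], [144]),
  (108, [54, 36], [144]),
  (112, [56, 16], [144]),
  (126, [63, 42, 18], [144]),
  (135, [45, 27], [144]),
  (140, [70, 28, 20], [144]),
  (144, [72, 48], [144]),
  (150, [75, 50, 30], [80]),
  (168, [84, 56, 24], [144]),
  (180, [90, 60, 36], [144]),
  (200, [100, 40], [80]),
  (210, [105, 70, 42, 30], [144]),
  (216, [108, 72], [144]),
  (252, [126, 84, 36], [144]),
  (270, [135, 90, 54], [144]),
  (300, [150, 100, 60], [80]),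
  (315, [105, 63, 45], [144]),
  (432, [216, 144], [144]),
  (504, [252, 168, 72], [144]),
  (540, [270, 180, 108], [144]),
  (630, [315, 210, 126, 90], [144])]

theorem search_six : search (leaf [1, 45, 80, 90, 144] [24, 27, 42, 150, 4, 108] [(5, 144), (4, 90), (3, 80), (2, 45), (1, 1)]) 60 cands_six [(1, 1)] = true := by
  decide +kernel

theorem tables_ok :
    wellFormed cands_four = true ∧ covers [1, 3, 8] cands_four = true ∧ smallPrimes [1, 3, 8] = true ∧
    wellFormed cands_five = true ∧ covers [1, 15, 20, 24] cands_five = true ∧ smallPrimes [1, 15, 20, 24] = true ∧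
    wellFormed cands_six = true ∧ covers [1, 45, 80, 90, 144] cands_six = true ∧
      smallPrimes [1, 45, 80, 90, 144] = true := by
  decide +kernel

end CfsgLib.Recog.SameOrderType
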