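import Cfsg.Agent.Lib.Recog.ThompsonWielandtIndex
import Mathlib.GroupTheory.PGroup
import Mathlib.GroupTheory.Perm.Fin

/-!
Primitive groups with a suborbit of length 3, after Sims and Wong: arc stabilisers.
-/

set_option autoImplicit false

namespace CfsgLib.Recog.Sims

open Subgroup CfsgLib.Recog.TW

variable {G Ω : Type*} [Group G] [MulAction G Ω]

local notation "St" => MulAction.stabilizer G

variable (G) in
/-- The stabiliser of two points. -/
def H (x y : Ω) : Subgroup G := MulAction.stabilizer G x ⊓ MulAction.stabilizer G y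

variable (G) in
/-- A subgroup of index three of a point stabiliser. -/
def IsT (x : Ω) (P : Subgroup G) : Prop :=
  P ≤ MulAction.stabilizer G x ∧ 3 * Nat.card P = Nat.card (MulAction.stabilizer G x)

theorem mem_H {x y : Ω} {g : G} : g ∈ H G x y ↔ g • x = x ∧ g • y = y := Iff.rfl

theorem H_comm (x y : Ω) : H G x y = H G y x := inf_comm _ _

theorem conj_mem_cj {g a : G} {X : Subgroup G} (h : a ∈ X) : g * a * g⁻¹ ∈ cj g X := by
  rw [mem_cj]; simpa [mul_assoc] using h

theorem H_smul (g : G) (x y : Ω) : H G (g • x) (g • y) = cj g (H G x y) := by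
  ext a
  simp only [mem_cj, mem_H, mul_smul, inv_smul_eq_iff]

theorem St_smul (g : G) (x : Ω) : St (g • x) = cj g (St x) :=
  MulAction.stabilizer_smul_eq_stabilizer_map_conj g x

set_option linter.unusedSectionVars false
set_option linter.unusedVariables false

/-- Three out-neighbours and three in-neighbours. -/
structure Deg (O : Orbital G Ω) : Prop where
  out : ∀ x, Nat.card {y // O.E x y} = 3
  inn : ∀ y, Nat.card {x // O.E x y} = 3

/-- The stabiliser induces the symmetric group on its out-neighbours. -/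
structure Cubic (O : Orbital G Ω) : Prop extends Deg O where
  ne : ∀ x y, O.E x y → ¬ H G x y ≤ O.K x

/-- A neighbour in either direction. -/
def Adj (O : Orbital G Ω) (x y : Ω) : Prop := O.E x y ∨ O.E y x

variable {O : Orbital G Ω}

theorem Adj.symm {x y : Ω} (h : Adj O x y) : Adj O y x := Or.symm h

theorem Adj.smul {x y : Ω} (h : Adj O x y) (g : G) : Adj O (g • x) (g • y) :=
  h.imp (O.inv g x y) (O.inv g y x)

theorem flip_flip : O.flip.flip = O := rfl

namespace Deg

theorem flip (hd : Deg O) : Deg O.flip := ⟨hd.inn, hd.out⟩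

theorem others (hd : Deg O) {x y : Ω} (h : O.E x y) :
    ∃ a b, a ≠ b ∧ a ≠ y ∧ b ≠ y ∧ O.E x a ∧ O.E x b ∧ ∀ u, O.E x u → u = y ∨ u = a ∨ u = b := by
  have h3 : ({u | O.E x u} : Set Ω).ncard = 3 := by rw [← Nat.card_coe_set_eq]; exact hd.out x
  obtain ⟨p, q, r, hpq, hpr, hqr, he⟩ := Set.ncard_eq_three.1 h3
  have hm : ∀ u, O.E x u ↔ u = p ∨ u = q ∨ u = r := fun u => by simpa using Set.ext_iff.1 he u
  rcases (hm y).1 h with rfl | rfl | rfl
  · exact ⟨q, r, hqr, hpq.symm, hpr.symm, (hm q).2 (by simp), (hm r).2 (by simp), fun u hu => (hm u).1 hu⟩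
  · exact ⟨p, r, hpr, hpq, hqr.symm, (hm p).2 (by simp), (hm r).2 (by simp), fun u hu => by
      rcases (hm u).1 hu with h | h | h <;> simp [h]⟩
  · exact ⟨p, q, hpq, hpr, hqr, (hm p).2 (by simp), (hm q).2 (by simp), fun u hu => by
      rcases (hm u).1 hu with h | h | h <;> simp [h]⟩

theorem mem_K_of_fix (hd : Deg O) {x a c : Ω} {g : G} (ha : O.E x a) (hc : O.E x c) (hne : a ≠ c)
    (hx : g • x = x) (ga : g • a = a) (gc : g • c = c) : g ∈ O.K x := by
  obtain ⟨p, q, hpq, hpa, hqa, hp, hq, hall⟩ := hd.others ha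
  refine O.mem_K.2 ⟨hx, fun u hu => ?_⟩
  have him : ∀ v, O.E x v → O.E x (g • v) := fun v hv => by simpa [hx] using O.inv g x v hv
  rcases hall c hc with rfl | rfl | rfl
  · exact absurd rfl hne
  · rcases hall u hu with rfl | rfl | rfl
    · exact ga
    · exact gc
    · rcases hall _ (him u hu) with h | h | h
      · exact absurd (smul_left_cancel g (h.trans ga.symm)) hqa
      · exact absurd (smul_left_cancel g (h.trans gc.symm)) hpq.symm
      · exact h
  · rcases hall u hu with rfl | rfl | rfl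
    · exact ga
    · rcases hall _ (him u hu) with h | h | h
      · exact absurd (smul_left_cancel g (h.trans ga.symm)) hpa
      · exact h
      · exact absurd (smul_left_cancel g (h.trans gc.symm)) hpq
    · exact gc

theorem swap_or_fix (hd : Deg O) {x y a b : Ω} {g : G} (hy : O.E x y) (ha : O.E x a)
    (hay : a ≠ y) (hall : ∀ u, O.E x u → u = y ∨ u = a ∨ u = b) (hg : g ∈ H G x y) :
    g ∈ O.K x ∨ g • a = b := by
  obtain ⟨hx, gy⟩ := mem_H.1 hg
  have : O.E x (g • a) := by simpa [hx] using O.inv g x a ha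
  rcases hall _ this with h | h | h
  · exact absurd (smul_left_cancel g (h.trans gy.symm)) hay
  · exact Or.inl (hd.mem_K_of_fix hy ha hay.symm hx gy h)
  · exact Or.inr h

theorem mul_mem_K (hd : Deg O) {x y : Ω} (h : O.E x y) {g g' : G} (hg : g ∈ H G x y) (hg' : g' ∈ H G x y)
    (n : g ∉ O.K x) (n' : g' ∉ O.K x) : g⁻¹ * g' ∈ O.K x := by
  obtain ⟨a, b, -, hay, -, ha, -, hall⟩ := hd.others h
  have e := (hd.swap_or_fix h ha hay hall hg).resolve_left n
  have e' := (hd.swap_or_fix h ha hay hall hg').resolve_left n'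
  have hm := mul_mem (inv_mem hg) hg'
  exact hd.mem_K_of_fix h ha hay.symm (mem_H.1 hm).1 (mem_H.1 hm).2 (by rw [mul_smul, e', inv_smul_eq_iff, e])

theorem card_St (hd : Deg O) [Finite G] {x y : Ω} (h : O.E x y) :
    Nat.card (St x) = 3 * Nat.card (H G x y) := by
  have horb : MulAction.orbit (St x) y = {u | O.E x u} := by
    ext u
    constructor
    · rintro ⟨g, rfl⟩
      have := O.inv (g : G) x y h
      rwa [MulAction.mem_stabilizer_iff.1 g.2] at this
    · intro hu
      obtain ⟨g, hgx, hgy⟩ := O.trans x y x u h hu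
      exact ⟨⟨g, hgx⟩, hgy⟩
  have e : Nat.card (MulAction.orbit (St x) y) * Nat.card (H G x y) = Nat.card (St x) := by
    rw [Nat.card_coe_set_eq, ← MulAction.index_stabilizer, mul_comm,
      ← Subgroup.card_mul_index (MulAction.stabilizer (St x) y)]
    congr 1
    refine Nat.card_congr ⟨fun s => ⟨⟨s.1, s.2.1⟩, s.2.2⟩, fun s => ⟨s.1.1, s.1.2, s.2⟩, fun _ => rfl, fun _ => rfl⟩
  rw [horb, Set.coe_ofPred, hd.out x] at e
  exact e.symm

theorem St_inj (hd : Deg O) [Finite G] {x y : Ω} (h : St x = St y) : x = y := by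
  obtain ⟨u, hu⟩ := O.out x
  have hne : St x ≠ ⊥ := by
    intro e
    have h1 := hd.card_St hu
    rw [e, card_bot] at h1
    omega
  obtain ⟨g, rfl⟩ := O.vtrans x y
  have hg : g ∈ normalizer (St x : Set G) := by
    rw [mem_normalizer_iff_map_conj_eq]
    exact (St_smul g x).symm.trans h.symm
  exact (O.maxim x (St x) hne le_rfl le_normalizer hg).symm

theorem card_St_eq (_hd : Deg O) (x y : Ω) : Nat.card (St x) = Nat.card (St y) := by
  obtain ⟨g, hg⟩ := O.vtrans x y
  exact Nat.card_congr (MulAction.stabilizerEquivStabilizer hg.symm).toEquiv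

/-- A subgroup of one stabiliser normalised by two stabilisers is trivial. -/
theorem six (hd : Deg O) [Finite G] {x y : Ω} (hxy : x ≠ y) {N : Subgroup G} (hN : N ≤ St x)
    (nx : St x ≤ normalizer (N : Set G)) (ny : St y ≤ normalizer (N : Set G)) : N = ⊥ := by
  by_contra hb
  exact hxy (hd.St_inj (eq_of_le_of_card_ge (ny.trans (O.maxim x N hb hN nx))
    (hd.card_St_eq x y).le).symm)

theorem ne_of_adj {x y : Ω} (h : Adj O x y) : x ≠ y := by
  rintro rfl
  exact O.moved x x (h.elim id id) rfl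

/-- Arc stabilisers are 2-groups. -/
theorem isPGroup (hd : Deg O) [Finite G] {x y : Ω} (h : O.E x y) : IsPGroup 2 (H G x y) := by
  have hpos : Nat.card (H G x y) ≠ 0 := Nat.card_pos.ne'
  refine IsPGroup.of_card (Nat.eq_prime_pow_of_unique_prime_dvd (p := 2) hpos ?_)
  intro r hr hrd
  by_contra hr2
  have := Fact.mk hr
  obtain ⟨⟨g, hg⟩, hgo⟩ := exists_prime_orderOf_dvd_card' r hrd
  rw [Subgroup.orderOf_mk] at hgo
  let L : Ω → Ω → Subgroup G := fun u v => closure {s | s ∈ H G u v ∧ orderOf s = r}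
  have key : ∀ (P : Orbital G Ω), Deg P → ∀ {u v w : Ω}, P.E u v → P.E u w → ∀ s ∈ H G u v,
      orderOf s = r → s ∈ H G u w := by
    intro P hP u v w huv huw s hs hso
    obtain ⟨a, b, hab, hav, -, ha, hb, hall⟩ := hP.others huv
    rcases hP.swap_or_fix huv ha hav hall hs with hk | he
    · exact ⟨(mem_H.1 hs).1, (P.mem_K.1 hk).2 w huw⟩
    · exfalso
      obtain ⟨j, hj⟩ := hr.odd_of_ne_two hr2
      have hpw : (s ^ 2) ^ (j + 1) = s := by
        rw [← pow_mul, show 2 * (j + 1) = r + 1 by omega, pow_succ, ← hso, pow_orderOf_eq_one, one_mul]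
      rcases hP.swap_or_fix huv ha hav hall (pow_mem hs 2) with hk | he2
      · have : s ∈ P.K u := hpw ▸ pow_mem hk _
        exact hab (((P.mem_K.1 this).2 a ha).symm.trans he)
      · rw [pow_two, mul_smul, he] at he2
        exact hab (smul_left_cancel s (he2.trans he.symm)).symm
  have hL1 : ∀ {v}, O.E x v → L x y ≤ L x v := fun {v} hv => (closure_le _).2 fun s hs =>
    subset_closure ⟨key O hd h hv s hs.1 hs.2, hs.2⟩
  have hL1' : ∀ {v}, O.E x v → L x v ≤ L x y := fun {v} hv => (closure_le _).2 fun s hs =>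
    subset_closure ⟨key O hd hv h s hs.1 hs.2, hs.2⟩
  have hL2 : ∀ {u}, O.E u y → L x y ≤ L u y ∧ L u y ≤ L x y := fun {u} hu => by
    constructor <;> refine (closure_le _).2 fun s hs => subset_closure ⟨?_, hs.2⟩
    · have := key O.flip hd.flip (u := y) (v := x) (w := u) h hu s (H_comm (G := G) x y ▸ hs.1) hs.2
      exact H_comm (G := G) u y ▸ this
    · have := key O.flip hd.flip (u := y) (v := u) (w := x) hu h s (H_comm (G := G) u y ▸ hs.1) hs.2
      exact H_comm (G := G) x y ▸ this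
  have hcj : ∀ (k : G) (u v : Ω), cj k (L u v) ≤ L (k • u) (k • v) := fun k u v => by
    rw [cj, MonoidHom.map_closure, closure_le]
    rintro _ ⟨s, hs, rfl⟩
    refine subset_closure ⟨?_, ?_⟩
    · rw [H_smul]; exact conj_mem_cj hs.1
    · rw [MulEquiv.coe_toMonoidHom, MulEquiv.orderOf_eq]; exact hs.2
  have hN : ∀ k : G, L (k • x) (k • y) ≤ L x y → cj k (L x y) ≤ L x y := fun k hk => (hcj k x y).trans hk
  have nrm : ∀ (Z : Subgroup G), (∀ k ∈ Z, L (k • x) (k • y) ≤ L x y) → Z ≤ normalizer (L x y : Set G) := by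
    intro Z hZ k hk
    rw [mem_normalizer_iff_map_conj_eq]
    refine eq_of_le_of_card_ge (hN k (hZ k hk)) (le_of_eq ?_)
    rw [card_map_of_injective (MulAut.conj k).injective]
  have hLle : L x y ≤ H G x y := (closure_le _).2 fun s hs => hs.1
  have hb := O.both h (hLle.trans inf_le_left) (hLle.trans inf_le_right)
    (nrm _ fun k hk => by
      have hkx := MulAction.mem_stabilizer_iff.1 hk
      rw [hkx]
      exact hL1' (by simpa [hkx] using O.inv k x y h))
    (nrm _ fun k hk => by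
      have hky := MulAction.mem_stabilizer_iff.1 hk
      rw [hky]
      exact (hL2 (by simpa [hky] using O.inv k x y h)).2)
  have : g ∈ L x y := subset_closure ⟨hg, hgo⟩
  rw [hb, mem_bot] at this
  rw [this, orderOf_one] at hgo
  exact hr.ne_one hgo.symm

/-- If the action on the out-neighbours is regular, so is the suborbit. -/
theorem card_eq_three (hd : Deg O) [Finite G] {x₀ y₀ : Ω} (h0 : O.E x₀ y₀)
    (hle : H G x₀ y₀ ≤ O.K x₀) (a : Ω) : Nat.card (St a) = 3 := by
  have hall : ∀ x y, O.E x y → H G x y = O.K x := by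
    intro x y h
    obtain ⟨g, rfl, rfl⟩ := O.trans x₀ y₀ x y h0 h
    rw [H_smul, O.K_smul]
    exact congrArg (cj g) (le_antisymm hle (le_inf (O.K_le _) (O.K_le_nbr h0)))
  obtain ⟨x, hx⟩ := O.inn a
  obtain ⟨y, hy⟩ := O.out a
  have e3 : H G x a = H G a y := by
    rw [hall a y hy]
    have hKn : St a ≤ normalizer (O.K a : Set G) := Orbital.norm_of_smul O.K_smul a
    have h2 : IsPGroup 2 (O.K a) := (hd.isPGroup hy).to_le (hall a y hy).ge
    have hp := (hd.isPGroup hx).to_sup_of_normal_right' h2 (inf_le_right.trans hKn)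
    obtain ⟨n, hn⟩ := (IsPGroup.iff_card (p := 2)).1 hp
    have hdvd : Nat.card (H G x a ⊔ O.K a : Subgroup G) ∣ 3 * Nat.card (H G a y) :=
      hd.card_St hy ▸ card_dvd_of_le (sup_le inf_le_right (O.K_le a))
    rw [hn] at hdvd
    have hdvd' : 2 ^ n ∣ Nat.card (H G a y) :=
      (Nat.Coprime.pow_left n (by norm_num : Nat.Coprime 2 3)).dvd_of_dvd_mul_left hdvd
    have hc : Nat.card (H G x a) = Nat.card (O.K a) := by
      have h1 := hd.card_St hx
      have h2 := hd.card_St hy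
      rw [hd.card_St_eq x a, h2, hall a y hy] at h1
      omega
    have hsup : (H G x a ⊔ O.K a : Subgroup G) = O.K a :=
      (eq_of_le_of_card_ge le_sup_right (by
        rw [hn, ← hall a y hy]; exact Nat.le_of_dvd Nat.card_pos hdvd')).symm
    exact eq_of_le_of_card_ge (sup_eq_right.1 hsup) hc.ge
  have hb : O.K a = ⊥ := by
    refine O.both hx ?_ (O.K_le a) ?_ (Orbital.norm_of_smul O.K_smul a)
    · rw [← hall a y hy, ← e3]; exact inf_le_left
    · rw [← hall a y hy, ← e3, hall x a hx]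
      exact Orbital.norm_of_smul O.K_smul x
  rw [hd.card_St hy, hall a y hy, hb, card_bot, mul_one]

end Deg

namespace Cubic

variable [Finite G]

theorem isT_H (hc : Cubic O) {x y : Ω} (h : Adj O x y) : IsT G x (H G x y) := by
  refine ⟨inf_le_left, ?_⟩
  rcases h with h | h
  · exact (hc.card_St h).symm
  · rw [H_comm, ← hc.card_St h, hc.card_St_eq y x]

theorem isPGroup_of_isT (hc : Cubic O) {x : Ω} {P : Subgroup G} (hP : IsT G x P) : IsPGroup 2 P := by
  obtain ⟨y, hy⟩ := O.out x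
  obtain ⟨n, hn⟩ := (IsPGroup.iff_card (p := 2)).1 (hc.isPGroup hy)
  refine IsPGroup.of_card (n := n) ?_
  have h1 := hP.2
  rw [hc.card_St hy, hn] at h1
  omega

theorem exists_out (hc : Cubic O) {x : Ω} {P : Subgroup G} (hP : IsT G x P) :
    ∃ y, O.E x y ∧ H G x y = P := by
  have hfix : ∀ g : P, (g : G) • x = x := fun g => MulAction.mem_stabilizer_iff.1 (hP.1 g.2)
  let act : MulAction P {y // O.E x y} :=
    { smul := fun g y => ⟨(g : G) • y.1, by simpa [hfix g] using O.inv (g : G) x y.1 y.2⟩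
      one_smul := fun y => Subtype.ext (one_smul G y.1)
      mul_smul := fun g k y => Subtype.ext (mul_smul (g : G) (k : G) y.1) }
  have : Finite {y // O.E x y} := Nat.finite_of_card_ne_zero (by rw [hc.out x]; norm_num)
  have hm := (hc.isPGroup_of_isT hP).card_modEq_card_fixedPoints {y // O.E x y}
  rw [hc.out x] at hm
  have : Nonempty (MulAction.fixedPoints P {y // O.E x y}) := by
    by_contra hne
    rw [not_nonempty_iff] at hne
    rw [Nat.card_of_isEmpty] at hm
    exact absurd hm (by decide)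
  obtain ⟨y, hy⟩ := this
  refine ⟨y.1, y.2, (eq_of_le_of_card_ge ?_ ?_).symm⟩
  · intro g hg
    exact mem_H.2 ⟨MulAction.mem_stabilizer_iff.1 (hP.1 hg), congrArg Subtype.val (hy ⟨g, hg⟩)⟩
  · have h1 := hP.2
    rw [hc.card_St y.2] at h1
    omega

theorem K_le (hc : Cubic O) {x : Ω} {P : Subgroup G} (hP : IsT G x P) : O.K x ≤ P := by
  obtain ⟨y, hy, rfl⟩ := hc.exists_out hP
  exact le_inf (O.K_le x) (O.K_le_nbr hy)

theorem exists_not_mem (hc : Cubic O) {x : Ω} {P : Subgroup G} (hP : IsT G x P) : ∃ p ∈ P, p ∉ O.K x := by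
  obtain ⟨y, hy, rfl⟩ := hc.exists_out hP
  exact SetLike.not_le_iff_exists.1 (hc.ne x y hy)

theorem mul_mem_K (hc : Cubic O) {x : Ω} {P : Subgroup G} (hP : IsT G x P) {g g' : G} (hg : g ∈ P)
    (hg' : g' ∈ P) (n : g ∉ O.K x) (n' : g' ∉ O.K x) : g⁻¹ * g' ∈ O.K x := by
  obtain ⟨y, hy, rfl⟩ := hc.exists_out hP
  exact hc.toDeg.mul_mem_K hy hg hg' n n'

theorem sq_mem_K (hc : Cubic O) {x : Ω} {P : Subgroup G} (hP : IsT G x P) {g : G} (hg : g ∈ P) :
    g * g ∈ O.K x := by
  by_cases h : g ∈ O.K x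
  · exact mul_mem h h
  · simpa using hc.mul_mem_K hP (inv_mem hg) hg (fun h' => h (by simpa using inv_mem h')) h

theorem card_T (hc : Cubic O) {x : Ω} {P : Subgroup G} (hP : IsT G x P) :
    Nat.card P = 2 * Nat.card (O.K x) := by
  rw [← relIndex_bot_left P, ← relIndex_mul_relIndex ⊥ (O.K x) P bot_le (hc.K_le hP), relIndex_bot_left]
  obtain ⟨t, htP, htK⟩ := hc.exists_not_mem hP
  have : (O.K x).relIndex P = 2 := by
    refine relIndex_eq_two_iff.2 ⟨t, htP, fun b hb => ?_⟩
    by_cases hbK : b ∈ O.K x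
    · exact Or.inr ⟨hbK, fun h => htK ((mul_mem_cancel_left hbK).1 h)⟩
    · refine Or.inl ⟨?_, hbK⟩
      simpa using hc.mul_mem_K hP (inv_mem hb) htP (fun h => hbK (by simpa using inv_mem h)) htK
  rw [this]; ring

theorem unique_out (hc : Cubic O) {x y y' : Ω} (h : O.E x y) (h' : O.E x y')
    (e : H G x y = H G x y') : y = y' := by
  by_contra hne
  refine hc.ne x y h fun g hg => ?_
  have hg' : g ∈ H G x y' := e ▸ hg
  exact hc.mem_K_of_fix h h' hne (mem_H.1 hg).1 (mem_H.1 hg).2 (mem_H.1 hg').2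

theorem inter (hc : Cubic O) {x : Ω} {P Q : Subgroup G} (hP : IsT G x P) (hQ : IsT G x Q) (hne : P ≠ Q) :
    P ⊓ Q = O.K x := by
  refine le_antisymm (fun g hg => ?_) (le_inf (hc.K_le hP) (hc.K_le hQ))
  obtain ⟨h1, h2⟩ := Subgroup.mem_inf.1 hg
  obtain ⟨y, hy, rfl⟩ := hc.exists_out hP
  obtain ⟨z, hz, rfl⟩ := hc.exists_out hQ
  exact hc.mem_K_of_fix hy hz (fun e => hne (by rw [e])) (mem_H.1 h1).1 (mem_H.1 h1).2 (mem_H.1 h2).2

theorem flip (hc : Cubic O) : Cubic O.flip := by
  refine ⟨hc.toDeg.flip, fun x z hz hle => ?_⟩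
  have hz' : O.E z x := hz
  have heq : H G x z = O.flip.K x := le_antisymm hle (le_inf (O.flip.K_le x) (O.flip.K_le_nbr hz))
  obtain ⟨y, hy, hye⟩ := hc.exists_out (hc.isT_H (x := x) (y := z) (Or.inr hz'))
  obtain ⟨a, b, -, hay, -, ha, -, -⟩ := hc.others hy
  obtain ⟨g, hgx, hga⟩ := O.trans x y x a hy ha
  have hg : g ∈ St x := hgx
  have e : H G x a = H G x y := by
    calc H G x a = H G (g • x) (g • y) := by rw [hgx, hga]
      _ = cj g (O.flip.K x) := by rw [H_smul, hye, heq]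
      _ = H G x y := by rw [← O.flip.K_smul, hgx, hye, heq]
  exact hay (hc.unique_out ha hy e)

theorem exists_in (hc : Cubic O) {x : Ω} {P : Subgroup G} (hP : IsT G x P) :
    ∃ z, O.E z x ∧ H G x z = P := hc.flip.exists_out hP

theorem unique_in (hc : Cubic O) {x y y' : Ω} (h : O.E y x) (h' : O.E y' x)
    (e : H G x y = H G x y') : y = y' := hc.flip.unique_out h h' e

theorem K_flip (hc : Cubic O) (x : Ω) : O.flip.K x = O.K x := by
  obtain ⟨y, hy⟩ := O.out x
  obtain ⟨a, b, -, hay, -, ha, -, -⟩ := hc.others hy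
  have hne : H G x y ≠ H G x a := fun e => hay (hc.unique_out hy ha e).symm
  have hP := hc.isT_H (x := x) (y := y) (Or.inl hy)
  have hQ := hc.isT_H (x := x) (y := a) (Or.inl ha)
  exact (hc.flip.inter hP hQ hne).symm.trans (hc.inter hP hQ hne)

theorem isT_smul {x : Ω} {P : Subgroup G} (hP : IsT G x P) (g : G) : IsT G (g • x) (cj g P) := by
  refine ⟨by rw [St_smul]; exact map_mono hP.1, ?_⟩
  rw [St_smul, cj, cj, card_map_of_injective (MulAut.conj g).injective,
    card_map_of_injective (MulAut.conj g).injective]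
  exact hP.2

theorem conj_T (hc : Cubic O) {x x' : Ω} {P P' : Subgroup G} (hP : IsT G x P) (hP' : IsT G x' P') :
    ∃ g : G, g • x = x' ∧ cj g P = P' := by
  obtain ⟨y, hy, rfl⟩ := hc.exists_out hP
  obtain ⟨y', hy', rfl⟩ := hc.exists_out hP'
  obtain ⟨g, rfl, rfl⟩ := O.trans x y x' y' hy hy'
  exact ⟨g, rfl, (H_smul g x y).symm⟩

theorem K_norm (x : Ω) : St x ≤ normalizer (O.K x : Set G) := Orbital.norm_of_smul O.K_smul x

theorem exists_other (hc : Cubic O) {x : Ω} {P : Subgroup G} (hP : IsT G x P) :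
    ∃ Q, IsT G x Q ∧ Q ≠ P := by
  obtain ⟨y, hy, rfl⟩ := hc.exists_out hP
  obtain ⟨a, b, -, hay, -, ha, -, -⟩ := hc.others hy
  exact ⟨H G x a, hc.isT_H (Or.inl ha), fun e => hay (hc.unique_out ha hy e)⟩

theorem cj_ne (hc : Cubic O) {x : Ω} {P Q : Subgroup G} (hP : IsT G x P) (hQ : IsT G x Q) (hne : Q ≠ P)
    {p : G} (hp : p ∈ P) (np : p ∉ O.K x) : cj p Q ≠ Q ∧ cj p Q ≠ P := by
  obtain ⟨y, hy, rfl⟩ := hc.exists_out hP
  obtain ⟨a, ha, rfl⟩ := hc.exists_out hQ
  obtain ⟨hpx, hpy⟩ := mem_H.1 hp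
  have hpa : O.E x (p • a) := by simpa [hpx] using O.inv p x a ha
  have hay : a ≠ y := fun e => hne (by rw [e])
  have he : cj p (H G x a) = H G x (p • a) := by rw [← H_smul, hpx]
  rw [he]
  exact ⟨fun e => np (hc.mem_K_of_fix hy ha hay.symm hpx hpy (hc.unique_out hpa ha e)),
    fun e => hay (smul_left_cancel p ((hc.unique_out hpa hy e).trans hpy.symm))⟩

theorem third (hc : Cubic O) {x : Ω} {P Q R : Subgroup G} (hP : IsT G x P) (hQ : IsT G x Q)
    (hR : IsT G x R) (hne : Q ≠ P) (hRP : R ≠ P) (hRQ : R ≠ Q)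
    {p : G} (hp : p ∈ P) (np : p ∉ O.K x) : R = cj p Q := by
  obtain ⟨y, hy, rfl⟩ := hc.exists_out hP
  obtain ⟨a, ha, rfl⟩ := hc.exists_out hQ
  obtain ⟨c, hc', rfl⟩ := hc.exists_out hR
  obtain ⟨hpx, hpy⟩ := mem_H.1 hp
  have hay : a ≠ y := fun e => hne (by rw [e])
  have hpa : O.E x (p • a) := by simpa [hpx] using O.inv p x a ha
  rw [← H_smul, hpx]
  congr 1
  obtain ⟨a', b', -, -, -, -, -, hall⟩ := hc.others hy
  have n1 : c ≠ y := fun e => hRP (by rw [e])
  have n2 : c ≠ a := fun e => hRQ (by rw [e])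
  have n3 : p • a ≠ a := fun e => np (hc.mem_K_of_fix hy ha hay.symm hpx hpy e)
  have n4 : p • a ≠ y := fun e => hay (smul_left_cancel p (e.trans hpy.symm))
  rcases hall c hc' with h1 | h1 | h1 <;> rcases hall a ha with h2 | h2 | h2 <;>
    rcases hall _ hpa with h3 | h3 | h3 <;>
    first
      | exact absurd h1 n1 | exact absurd h2 hay | exact absurd h3 n4
      | exact h1.trans h3.symm | exact absurd (h1.trans h2.symm) n2 | exact absurd (h3.trans h2.symm) n3

/-- A stabiliser is generated by a type and any element outside it. -/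
theorem eq_St (hc : Cubic O) {x : Ω} {P J : Subgroup G} (hP : IsT G x P) (hPJ : P ≤ J) (hJ : J ≤ St x)
    (hne : ¬ J ≤ P) : J = St x := by
  refine eq_of_le_of_card_ge hJ ?_
  obtain ⟨m, hm⟩ := card_dvd_of_le hPJ
  obtain ⟨n, hn⟩ := card_dvd_of_le hJ
  rw [← hP.2, hm, mul_assoc] at hn
  have h3 : 3 = m * n := Nat.eq_of_mul_eq_mul_left (n := Nat.card P) Nat.card_pos (by linarith)
  rcases (Nat.dvd_prime Nat.prime_three).1 (Dvd.intro n h3.symm) with rfl | rfl
  · exact absurd (eq_of_le_of_card_ge hPJ (by rw [hm, mul_one]) ▸ le_rfl) hne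
  · rw [← hP.2, hm, mul_comm]

theorem le_normalizer (hc : Cubic O) {x : Ω} {P X : Subgroup G} (hP : IsT G x P)
    (hPn : P ≤ normalizer (X : Set G)) {g : G} (hg : g ∈ St x) (hgP : g ∉ P)
    (hgn : g ∈ normalizer (X : Set G)) : St x ≤ normalizer (X : Set G) := by
  rw [← hc.eq_St hP (J := normalizer (X : Set G) ⊓ St x) (le_inf hPn hP.1) inf_le_right
    fun h => hgP (h ⟨hgn, hg⟩)]
  exact inf_le_left

theorem exists_order_three (hc : Cubic O) {x : Ω} {N : Subgroup G} (hN : N ≤ St x)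
    (hn : St x ≤ normalizer (N : Set G)) (hK : ¬ N ≤ O.K x) : ∃ w ∈ N, orderOf w = 3 := by
  have : Fact (Nat.Prime 3) := ⟨Nat.prime_three⟩
  suffices h : 3 ∣ Nat.card N by
    obtain ⟨w, hw⟩ := exists_prime_orderOf_dvd_card' 3 h
    exact ⟨w, w.2, by rwa [Subgroup.orderOf_coe]⟩
  by_contra h3
  obtain ⟨y, hy⟩ := O.out x
  obtain ⟨k, hk⟩ := (IsPGroup.iff_card (p := 2)).1 (hc.isPGroup hy)
  have hdvd : Nat.card N ∣ 2 ^ k := by
    have h1 := card_dvd_of_le hN
    rw [hc.card_St hy, hk] at h1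
    exact ((Nat.prime_three.coprime_iff_not_dvd.2 h3).symm).dvd_of_dvd_mul_left h1
  obtain ⟨i, -, hi⟩ := (Nat.dvd_prime_pow Nat.prime_two).1 hdvd
  have h2N : IsPGroup 2 N := IsPGroup.of_card hi
  have hall : ∀ P, IsT G x P → N ≤ P := by
    intro P hP
    by_contra hnP
    have hsup := hc.eq_St hP (J := P ⊔ N) le_sup_left (sup_le hP.1 hN) fun h => hnP (le_sup_right.trans h)
    obtain ⟨j, hj⟩ := (IsPGroup.iff_card (p := 2)).1
      ((hc.isPGroup_of_isT hP).to_sup_of_normal_right' h2N (hP.1.trans hn))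
    rw [hsup, ← hP.2] at hj
    have h3' : (3 : ℕ) ∣ 2 ^ j := Dvd.intro _ hj
    exact absurd (Nat.prime_three.dvd_of_dvd_pow h3') (by decide)
  have hP := hc.isT_H (x := x) (y := y) (Or.inl hy)
  obtain ⟨Q, hQ, hne⟩ := hc.exists_other hP
  exact hK (hc.inter hP hQ hne.symm ▸ le_inf (hall _ hP) (hall _ hQ))

theorem not_mem_of_orderOf (hc : Cubic O) {x : Ω} {P : Subgroup G} (hP : IsT G x P) {w : G}
    (hw : orderOf w = 3) : w ∉ P := fun h => by
  obtain ⟨j, hj⟩ := (hc.isPGroup_of_isT hP) ⟨w, h⟩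
  have h1 : orderOf w ∣ 2 ^ j := orderOf_dvd_of_pow_eq_one (congrArg Subtype.val hj)
  rw [hw] at h1
  exact absurd (Nat.prime_three.dvd_of_dvd_pow h1) (by decide)

/-- The action of a stabiliser on the out-neighbours. -/
theorem exists_phi (hc : Cubic O) (x : Ω) : ∃ f : St x →* Equiv.Perm (Fin 3),
    ∀ g : St x, f g = 1 ↔ (g : G) ∈ O.K x := by
  have hS : ∀ g ∈ St x, ∀ y ∈ {y | O.E x y}, g • y ∈ {y | O.E x y} := fun g hg y hy => by
    simpa [MulAction.mem_stabilizer_iff.1 hg] using O.inv g x y hy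
  have : Finite {y // O.E x y} := Nat.finite_of_card_ne_zero (by rw [hc.out x]; norm_num)
  let e : ({y | O.E x y} : Set Ω) ≃ Fin 3 := (Finite.equivFinOfCardEq (hc.out x) :)
  refine ⟨e.permCongrHom.toMonoidHom.comp (restrictHom (St x) _ hS), fun g => ?_⟩
  rw [MonoidHom.comp_apply, MulEquiv.coe_toMonoidHom, map_eq_one_iff _ e.permCongrHom.injective,
    O.mem_K]
  refine ⟨fun h => ⟨g.2, fun y hy => congrArg Subtype.val (Equiv.ext_iff.1 h ⟨y, hy⟩)⟩,
    fun h => Equiv.ext fun y => Subtype.ext (h.2 y.1 y.2)⟩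

end Cubic

end CfsgLib.Recog.Sims
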