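import Cfsg.Agent.Lib.Recog.SimsThreeOne

/-!
Primitive groups with a suborbit of length 3: critical pairs are adjacent.
-/

set_option autoImplicit false
set_option linter.unusedSectionVars false

namespace CfsgLib.Recog.Sims

open Subgroup CfsgLib.Recog.TW

variable {G Ω : Type*} [Group G] [MulAction G Ω] {O : Orbital G Ω}

local notation "St" => MulAction.stabilizer G

theorem adj_flip {x y : Ω} : Adj O.flip x y ↔ Adj O x y := Or.comm

theorem path_flip : ∀ {n : ℕ} {x y : Ω}, Path O.flip n x y ↔ Path O n x y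
  | 0, _, _ => Iff.rfl
  | _ + 1, _, _ => exists_congr fun _ => and_congr adj_flip path_flip

namespace Vec

variable [Finite G]

theorem A_flip (hv : Vec O) (x : Ω) : A O.flip x = A O x := by
  ext a; simp only [mem_A, hv.K_flip]

theorem isZ_flip (hv : Vec O) {x : Ω} {P : Subgroup G} {z : G} : IsZ O.flip x P z ↔ IsZ O x P z := by
  simp only [IsZ, hv.K_flip, hv.A_flip]

theorem inD_flip (hv : Vec O) {x : Ω} {d : G} : InD O.flip x d ↔ InD O x d := by
  simp only [InD, hv.A_flip]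

theorem flip (hv : Vec O) : Vec O.flip := by
  refine ⟨hv.toCubic.flip, fun x g hg h => ?_, fun x P hP => ?_⟩
  · rw [hv.K_flip] at h ⊢
    exact hv.tight x g hg h
  · obtain ⟨z, hz⟩ := hv.tv x P hP
    exact ⟨z, hv.isZ_flip.2 hz⟩

theorem min_flip (hv : Vec O) {b : ℕ} (h : Min O b) : Min O.flip b := fun m hm u v huv => by
  rw [hv.A_flip, hv.K_flip]
  exact h m hm u v (path_flip.1 huv)

/-- A critical pair continues at a neighbour, and the value there lies in the fixed part. -/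
theorem step (hv : Vec O) {m : ℕ} {x x₁ y y₁ y₂ : Ω} (hmin : Min O (m + 2)) (hx : Adj O x x₁)
    (hp : Path O (m + 1) x₁ y) (hy : Adj O y y₁) (hy2 : Adj O y₁ y₂) (hq : Path O m y₂ x)
    (hA : ¬ A O x ≤ O.K y) :
    ∃ v z, Adj O v x ∧ IsZ O v (H G v x) z ∧ InD O x z ∧ z ≠ 1 ∧
      ∀ z', IsZ O y₁ (H G y₁ y₂) z' → z' = z := by
  have hP := hv.isT_H hx
  have hPy := hv.isT_H hy
  have hqx : Path O (m + 1) x y₁ := hq.symm.snoc hy2.symm
  obtain ⟨zP, hzP⟩ := hv.tv x _ hP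
  obtain ⟨zb, hzb⟩ := hv.tv y _ hPy
  obtain ⟨e, -, hQK⟩ := hv.crit hmin hx hp hy hqx hA hzP hzb
  subst e
  obtain ⟨hPA, -⟩ := hv.z_mem hP hzP
  obtain ⟨Q', hQ', hne'⟩ := hv.exists_other hPy
  obtain ⟨t, ht⟩ := hv.tv y Q' hQ'
  obtain ⟨-, -, hQK'⟩ := hv.crit hmin hy hqx.symm hx hp.symm (hv.crit_symm hv.tight hA) hzb hzP
  have htK := hQK' Q' t hQ' hne' ht
  have htA := (hv.z_mem hQ' ht).1
  have htP : t ∈ H G x x₁ := hv.A_le_H hmin (Nat.lt_succ_self _) hx hp htA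
  obtain ⟨v, hxv, hvne, hvA⟩ : ∃ v, Adj O x v ∧ H G x v ≠ H G x x₁ ∧ ¬ A O v ≤ O.K y₁ := by
    by_contra hall
    push Not at hall
    have hnorm : ∀ v, Adj O x v → H G x v ≠ H G x x₁ →
        St x ≤ normalizer ((O.K x ⊓ O.K v : Subgroup G) : Set G) := by
      intro v hxv hne
      have hQ := hv.isT_H hxv
      have hAK := hall v hxv hne
      have hy1H : O.K y₁ ≤ H G y y₁ := H_comm (G := G) y₁ y ▸ hv.K_le (hv.isT_H hy.symm)
      obtain ⟨V, hV⟩ : ∃ V : Subgroup G, V = A O v ⊔ A O x := ⟨_, rfl⟩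
      have hVle : cj t V ≤ V := by
        rw [hV, cj, Subgroup.map_sup]
        refine sup_le ?_ ?_
        · rintro _ ⟨a, ha, rfl⟩
          show t * a * t⁻¹ ∈ A O v ⊔ A O x
          have haH : a ∈ H G y y₁ := hy1H (hAK ha)
          by_cases hay : a ∈ O.K y
          · rw [(htA.2.2 a hay).eq, mul_inv_cancel_right]
            exact mem_sup_left ha
          · rcases hzb.2.1 a haH hay t htA with e | e
            · rw [← (mul_inv_eq_iff_eq_mul.1 e : a * t = t * a), mul_inv_cancel_right]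
              exact mem_sup_left ha
            · have e1 : t * a * t⁻¹ = zP * a := by
                have h0 : a * t = t * zP * a := mul_inv_eq_iff_eq_mul.1 e
                calc t * a * t⁻¹ = t * (a * t) := by rw [A_inv htA, mul_assoc]
                  _ = zP * a := by rw [h0, mul_assoc t zP a, A_cancel htA]
              rw [e1]
              exact mul_mem (mem_sup_right hPA) (mem_sup_left ha)
        · rintro _ ⟨a, ha, rfl⟩
          exact mem_sup_right (A_conj_mem ha (hP.1 htP))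
      have htn : t ∈ normalizer (V : Set G) := by
        rw [mem_normalizer_iff_map_conj_eq]
        exact eq_of_le_of_card_ge hVle (le_of_eq (card_map_of_injective (MulAut.conj t).injective).symm)
      have hQn : H G x v ≤ normalizer (V : Set G) := by
        intro p hp
        rw [mem_normalizer_iff_map_conj_eq]
        refine eq_of_le_of_card_ge ?_ (le_of_eq (card_map_of_injective (MulAut.conj p).injective).symm)
        rw [hV, Subgroup.map_sup]
        refine sup_le ?_ ?_ <;> rintro _ ⟨a, ha, rfl⟩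
        · exact mem_sup_left (A_conj_mem ha hp.2)
        · exact mem_sup_right (A_conj_mem ha hp.1)
      have htQ : t ∉ H G x v := fun h => htK (hv.inter hP hQ hne.symm ▸ ⟨htP, h⟩)
      have hVn := hv.le_normalizer hQ hQn (hP.1 htP) htQ htn
      have heq : O.K x ⊓ O.K v = O.K x ⊓ centralizer (V : Set G) := by
        refine le_antisymm (le_inf inf_le_left ?_) (le_inf inf_le_left ?_)
        · rw [le_centralizer_iff, hV]
          refine sup_le ?_ ?_ <;> intro a ha <;> rw [mem_centralizer_iff] <;> intro k hk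
          · exact (ha.2.2 k hk.2).eq.symm
          · exact (ha.2.2 k hk.1).eq.symm
        · rintro g ⟨hgK, hgc⟩
          exact hv.mem_K_of_cent hv.tight fun a ha =>
            (mem_centralizer_iff.1 hgc a (hV ▸ mem_sup_left ha)).symm
      rw [heq]
      exact inf_le_normalizer (Cubic.K_norm x) (centralizer_le_normalizer' hVn)
    obtain ⟨Q, hQ, hne⟩ := hv.exists_other hP
    obtain ⟨u, hu, rfl⟩ := hv.exists_out hQ
    obtain ⟨u', hu', hue⟩ := hv.exists_in hQ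
    have h1 := hnorm u (Or.inl hu) hne
    have h2 := hnorm u' (Or.inr hu') (hue ▸ hne)
    obtain ⟨g, hg1, hg2⟩ := O.trans u' x x u hu' hu
    have h3 : St u ≤ normalizer ((O.K x ⊓ O.K u : Subgroup G) : Set G) := by
      have hmap : (O.K x ⊓ O.K u : Subgroup G) = cj g (O.K u' ⊓ O.K x) := by
        rw [cj, Subgroup.map_inf _ _ _ (MulAut.conj g).injective, ← cj, ← cj, ← O.K_smul, ← O.K_smul, hg1, hg2]
      intro s hs
      rw [← hg2, St_smul, mem_cj] at hs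
      have h4 := h2 hs
      rw [inf_comm, Subgroup.mem_normalizer_iff] at h4
      rw [hmap, Subgroup.mem_normalizer_iff]
      intro a
      simp only [mem_cj]
      rw [h4 (g⁻¹ * a * g)]
      exact iff_of_eq (by group)
    have hb := hv.six (Deg.ne_of_adj (Or.inl hu)) (inf_le_left.trans (O.K_le x)) h1 h3
    obtain ⟨zQ, hzQ⟩ := hv.tv x _ hQ
    have hQA := (hv.z_mem hQ hzQ).1
    have hno : ∀ a ∈ A O x, a ≠ 1 → a ∉ O.K u := fun a ha ha1 hau => ha1 (by
      have : a ∈ O.K x ⊓ O.K u := ⟨ha.1, hau⟩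
      rwa [hb, mem_bot] at this)
    have hle : O.K x ≤ H G u x := H_comm (G := G) x u ▸ hv.K_le hQ
    have hm := hv.mul_mem_K (hv.isT_H (Or.inr hu)) (hle hPA.1) (hle hQA.1) (hno _ hPA hzP.1) (hno _ hQA hzQ.1)
    rw [A_inv hPA] at hm
    have h5 : zP * zQ = 1 := by
      by_contra hn
      exact hno _ (mul_mem hPA hQA) hn hm
    exact hv.z_ne hP hQ hne hzP hzQ (by rw [eq_inv_of_mul_eq_one_right h5, A_inv hPA])
  obtain ⟨z, hz⟩ := hv.tv v _ (hv.isT_H hxv.symm)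
  obtain ⟨z', hz'⟩ := hv.tv y₁ _ (hv.isT_H hy2)
  obtain ⟨e, -, -⟩ := hv.crit hmin hxv.symm hqx hy2 ⟨x, hxv.symm, hq.symm⟩ hvA hz hz'
  subst e
  refine ⟨v, z, hxv.symm, hz, ?_, hz.1, fun w hw => hv.unique (hv.isT_H hy2) hw hz'⟩
  obtain ⟨hzA, hzfix⟩ := hv.z_mem (hv.isT_H hxv.symm) hz
  have hzy : z ∈ O.K y := hmin 1 (by omega) y₁ y ⟨y, hy.symm, rfl⟩ (hv.z_mem (hv.isT_H hy2) hz').1
  have hQ := hv.isT_H hxv
  have hzc : ∀ p ∈ H G x v, Commute z p := fun p hp =>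
    (mul_inv_eq_iff_eq_mul.1 (hzfix p (H_comm (G := G) x v ▸ hp))).symm
  have hzx : z ∈ St x := (hv.K_le (hv.isT_H hxv.symm) hzA.1).2
  obtain ⟨zQ, hzQ⟩ := hv.tv x _ hQ
  obtain ⟨d, hd, e | e⟩ := hv.fix_decomp hQ hzQ (hv.mem_A_of_central hv.tight hQ hzx hzA.2.1 hzc) hzc
  · exact e ▸ hd
  · exfalso
    have hdy : d ∈ O.K y := hv.mem_K_of_cent hv.tight fun a ha =>
      (hd.2 a (hP.1 (hv.A_le_H hmin (Nat.lt_succ_self _) hx hp ha))).symm
    refine hQK _ zQ hQ hvne hzQ ?_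
    have := mul_mem hzy (inv_mem hdy)
    rwa [e, mul_inv_cancel_right] at this

theorem three_cases (hv : Vec O) {c a b e : Ω} (ha : O.E c a) (hb : O.E c b) (he : O.E c e)
    (hab : a ≠ b) (hae : a ≠ e) (hbe : b ≠ e) {u : Ω} (hu : O.E c u) : u = a ∨ u = b ∨ u = e := by
  obtain ⟨p, q, -, -, -, -, -, hall⟩ := hv.others ha
  rcases hall u hu with h | h | h
  · exact Or.inl h
  all_goals
    rcases hall b hb with h1 | h1 | h1 <;> rcases hall e he with h2 | h2 | h2 <;>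
      first
        | exact absurd h1.symm hab | exact absurd h2.symm hae | exact absurd (h1.trans h2.symm) hbe
        | exact Or.inr (Or.inl (h.trans h1.symm)) | exact Or.inr (Or.inr (h.trans h2.symm))

/-- No critical pair at distance two, when a value lies in the fixed part of the head. -/
theorem no_long_aux (hv : Vec O) (hD : ∀ u v, O.E u v → ∀ z, IsZ O u (H G u v) z → InD O v z)
    {m : ℕ} {x x₁ y y₁ y₂ : Ω} (hmin : Min O (m + 2)) (hx : Adj O x x₁) (hp : Path O (m + 1) x₁ y)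
    (hy : Adj O y y₁) (hy2 : Adj O y₁ y₂) (hq : Path O m y₂ x) (hA : ¬ A O x ≤ O.K y) : False := by
  have back : ∀ (x x₁ y y₁ y₂ : Ω), Adj O x x₁ → Path O (m + 1) x₁ y → Adj O y y₁ → Adj O y₁ y₂ →
      Path O m y₂ x → ¬ A O x ≤ O.K y → O.E y₁ x := by
    intro x x₁ y y₁ y₂ hx hp hy hy2 hq hA
    obtain ⟨v, z, -, -, hzD, hz1, hzu⟩ := hv.step hmin hx hp hy hy2 hq hA
    obtain ⟨w, hw, hwH⟩ := hv.exists_out (hv.isT_H hy2)
    obtain ⟨z', hz'⟩ := hv.tv y₁ _ (hv.isT_H hy2)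
    have := hD y₁ w hw z' (hwH.symm ▸ hz')
    rw [hzu z' hz'] at this
    rwa [hv.D_inj hzD this hz1]
  have h1 := back x x₁ y y₁ y₂ hx hp hy hy2 hq hA
  have hm : m = 0 := by
    by_contra hne
    exact hA (hmin 2 (by omega) x y ⟨y₁, Or.inr h1, y, hy.symm, rfl⟩)
  subst hm
  obtain ⟨c, hc⟩ : ∃ c, c = y₁ := ⟨_, rfl⟩
  subst hc
  have hcy : O.E c y := back y c x c y hy ⟨x, Or.inl h1, rfl⟩ (Or.inr h1) hy.symm rfl
    (hv.crit_symm hv.tight hA)
  have hxy : x ≠ y := fun e => hA (e ▸ A_le_K x)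
  have hTx := hv.isT_H (x := x) (y := c) (Or.inr h1)
  have hTy := hv.isT_H (x := y) (y := c) (Or.inr hcy)
  obtain ⟨zP, hzP⟩ := hv.tv x _ hTx
  obtain ⟨zb, hzb⟩ := hv.tv y _ hTy
  obtain ⟨e, -, hQK⟩ := hv.crit (n := 1) hmin (Or.inr h1) ⟨y, Or.inl hcy, rfl⟩ (Or.inr hcy)
    ⟨c, Or.inr h1, rfl⟩ hA hzP hzb
  subst e
  obtain ⟨-, -, hQK'⟩ := hv.crit (n := 1) hmin (Or.inr hcy) ⟨x, Or.inl h1, rfl⟩ (Or.inr h1)
    ⟨c, Or.inr hcy, rfl⟩ (hv.crit_symm hv.tight hA) hzb hzP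
  by_cases hns : ∀ u v, O.E u v → ¬ O.E v u
  · -- triangles
    have tri : ∀ {u v w}, O.E u v → O.E v w → H G v w = H G u v → O.E w u ∧ H G w u = H G u v := by
      intro u v w huv hvw e
      have hTu := hv.isT_H (x := u) (y := v) (Or.inl huv)
      have hTv : IsT G v (H G u v) := e ▸ hv.isT_H (x := v) (y := w) (Or.inl hvw)
      have hTw : IsT G w (H G u v) := by
        rw [← e, H_comm]; exact hv.isT_H (Or.inr hvw)
      obtain ⟨z1, hz1⟩ := hv.tv u _ hTu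
      obtain ⟨z2, hz2⟩ := hv.tv v _ hTv
      obtain ⟨z3, hz3⟩ := hv.tv w _ hTw
      have hd1 := hD u v huv z1 hz1
      have hd2 := hD v w hvw z2 (e.symm ▸ hz2)
      obtain ⟨u0, hu0⟩ := O.inn u
      obtain ⟨d, hd⟩ := hv.tv u0 _ (hv.isT_H (Or.inl hu0))
      have hdu := hD u0 u hu0 d hd
      obtain ⟨e1, he1, hde⟩ := hv.D_eq_z_mul (Or.inl huv) hdu hd.1 hz2
      have he11 : e1 ≠ 1 := by
        rintro rfl
        rw [mul_one] at hde
        subst hde
        exact hns u v huv (hv.D_inj hdu hd2 hd.1 ▸ hvw)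
      have hez := hv.D_unique he1 hd1 he11 hz1.1
      obtain ⟨x', hx', hx'H⟩ := hv.exists_out hTw
      have hd3 := hD w x' hx' z3 (hx'H.symm ▸ hz3)
      obtain ⟨e2, he2, h12⟩ := hv.D_eq_z_mul (Or.inl hvw) hd1 hz1.1 (e.symm ▸ hz3)
      have he21 : e2 ≠ 1 := by
        rintro rfl
        rw [mul_one] at h12
        subst h12
        exact hns v w hvw (hv.D_inj hd1 hd3 hz1.1 ▸ hx')
      have h22 := hv.D_unique he2 hd2 he21 hz2.1
      rw [hez] at hde
      rw [h22] at h12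
      have hd3' : d = z3 := by
        have hc : Commute z3 z2 := hd2.2 z3 (A_le_St w (hv.z_mem hTw hz3).1)
        rw [hde, h12, hc.eq, A_cancel hd2.1]
      have hu_eq : u = x' := hv.D_inj hdu (hd3' ▸ hd3) hd.1
      subst hu_eq
      exact ⟨hx', hx'H⟩
    obtain ⟨q, hq', hqH⟩ := hv.exists_out hTx
    obtain ⟨q', hq'', hqH'⟩ := hv.exists_out hTy
    have hqq := hv.D_inj (hD x q hq' zP (hqH.symm ▸ hzP)) (hD y q' hq'' zP (hqH'.symm ▸ hzb)) hzP.1
    subst hqq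
    obtain ⟨-, e1⟩ := tri h1 hq' (by rw [hqH, H_comm])
    obtain ⟨-, e2⟩ := tri hcy hq'' (by rw [hqH', H_comm])
    exact hxy (hv.unique_out h1 hcy (e1.symm.trans e2))
  push Not at hns
  obtain ⟨u0, v0, huv0, hvu0⟩ := hns
  have hsym : ∀ {u v}, O.E u v → O.E v u := fun {u v} huv => by
    obtain ⟨g, rfl, rfl⟩ := O.trans u0 v0 u v huv0 huv
    exact O.inv g _ _ hvu0
  have hex : ∀ v, ∃ d, InD O v d ∧ d ≠ 1 := fun v => by
    obtain ⟨u, hu⟩ := O.inn v
    obtain ⟨z, hz⟩ := hv.tv u _ (hv.isT_H (Or.inl hu))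
    exact ⟨z, hD u v hu z hz, hz.1⟩
  choose dd hdd hdd1 using hex
  have hzd : ∀ {u v}, O.E u v → IsZ O u (H G u v) (dd v) := fun {u v} huv => by
    obtain ⟨z, hz⟩ := hv.tv u _ (hv.isT_H (Or.inl huv))
    rwa [hv.D_unique (hdd v) (hD u v huv z hz) (hdd1 v) hz.1]
  have hddg : ∀ (g : G) u, dd (g • u) = g * dd u * g⁻¹ := fun g u =>
    hv.D_unique (hdd _) ((hdd u).conj g) (hdd1 _) fun e => hdd1 u (conj_eq_one_iff.1 e)
  have star0 : ∀ p, O.E x p → p ≠ c → ∀ q, O.E y q → q ≠ c → dd p * dd q * dd p * dd q = dd c := by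
    intro p hp' hpc q hq' hqc
    have hTxp := hv.isT_H (x := x) (y := p) (Or.inl hp')
    have hne : H G x p ≠ H G x c := fun e => hpc (hv.unique_out hp' (hsym h1) e)
    have hne' : H G y q ≠ H G y c := fun e => hqc (hv.unique_out hq' (hsym hcy) e)
    have hqK := hQK' _ _ (hv.isT_H (Or.inl hq')) hne' (hzd hq')
    have hqA := (hv.z_mem (hv.isT_H (Or.inl hq')) (hzd hq')).1
    have hqP : dd q ∈ H G x c := hv.A_le_H hmin (Nat.lt_succ_self 1) (Or.inr h1) ⟨y, Or.inl hcy, rfl⟩ hqA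
    have hpA := (hv.z_mem hTxp (hzd hp')).1
    have hmv := (hv.z_move hTx hTxp hne (hzd (hsym h1)) (hzd hp') hqP hqK).1
    rw [A_inv hqA] at hmv
    rw [mul_assoc (dd p * dd q), mul_assoc (dd p), ← mul_assoc (dd q) (dd p), hmv, A_cancel hpA]
  have star : ∀ {c' x' y'}, O.E c' x' → O.E c' y' → x' ≠ y' → ∀ {p}, O.E x' p → p ≠ c' →
      ∀ {q}, O.E y' q → q ≠ c' → dd p * dd q * dd p * dd q = dd c' := by
    intro c' x' y' hx' hy' hne p hp' hpc q hq' hqc
    obtain ⟨g, hgc, hgx⟩ := O.trans c x c' x' h1 hx'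
    have hgy : O.E c' (g • y) := hgc ▸ O.inv g c y hcy
    have hgyx : g • y ≠ x' := fun e => hxy (smul_left_cancel g (hgx.trans e.symm))
    obtain ⟨k, hkc, hkx, hky⟩ : ∃ k : G, k • c = c' ∧ k • x = x' ∧ k • y = y' := by
      by_cases e : g • y = y'
      · exact ⟨g, hgc, hgx, e⟩
      obtain ⟨s, hs, hsn⟩ := hv.exists_not_mem (hv.isT_H (x := c') (y := x') (Or.inl hx'))
      obtain ⟨hsc, hsx⟩ := mem_H.1 hs
      refine ⟨s * g, by rw [mul_smul, hgc, hsc], by rw [mul_smul, hgx, hsx], ?_⟩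
      rw [mul_smul]
      have hsy : O.E c' (s • g • y) := by simpa [hsc] using O.inv s c' (g • y) hgy
      rcases hv.three_cases hx' hgy hy' hgyx.symm hne e hsy with h | h | h
      · exact absurd (smul_left_cancel s (h.trans hsx.symm)) hgyx
      · exact absurd (hv.mem_K_of_fix hx' hgy hgyx.symm hsc hsx h) hsn
      · exact h
    subst hkc hkx hky
    obtain ⟨p, rfl⟩ : ∃ p₀, k • p₀ = p := ⟨k⁻¹ • p, smul_inv_smul _ _⟩
    obtain ⟨q, rfl⟩ : ∃ q₀, k • q₀ = q := ⟨k⁻¹ • q, smul_inv_smul _ _⟩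
    have hpE : O.E x p := by simpa using O.inv k⁻¹ _ _ hp'
    have hqE : O.E y q := by simpa using O.inv k⁻¹ _ _ hq'
    simp only [hddg]
    rw [← star0 p hpE (fun e => hpc (by rw [e])) q hqE (fun e => hqc (by rw [e]))]
    group
  have hother : ∀ {u v}, O.E u v → ∃ w, O.E u w ∧ w ≠ v := fun {u v} huv => by
    obtain ⟨a, b, -, hav, -, ha, -, -⟩ := hv.others huv
    exact ⟨a, ha, hav⟩
  -- a walk of length five
  obtain ⟨n0, n1, h01⟩ : ∃ n0 n1, O.E n0 n1 := ⟨c, x, h1⟩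
  obtain ⟨m1, h0m, hm1⟩ := hother h01
  obtain ⟨m2, hmm, hm2⟩ := hother (hsym h0m)
  obtain ⟨n2, h12, hn2⟩ := hother (hsym h01)
  obtain ⟨n3, h23, hn3⟩ := hother (hsym h12)
  have move : ∀ {n0 n1 m1 n2 n3 : Ω}, O.E n0 n1 → O.E n0 m1 → m1 ≠ n1 → O.E n1 n2 → n2 ≠ n0 → O.E n2 n3 →
      n3 ≠ n1 → (dd n3) • n0 = n0 ∧ (dd n3) • m1 ≠ m1 := by
    intro n0 n1 m1 n2 n3 h01 h0m hm1 h12 hn2 h23 hn3
    have hA2 := (hv.z_mem (hv.isT_H (Or.inl h23)) (hzd h23)).1
    have hH : dd n3 ∈ H G n0 n1 := by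
      rw [H_comm]
      exact hv.K_le (hv.isT_H (Or.inr h01)) (hmin 1 (by omega) n2 n1 ⟨n1, Or.inr h12, rfl⟩ hA2)
    refine ⟨(mem_H.1 hH).1, fun hfix => ?_⟩
    have hK := hv.mem_K_of_fix h01 h0m hm1.symm (mem_H.1 hH).1 (mem_H.1 hH).2 hfix
    have hA0 := (hv.z_mem (hv.isT_H (Or.inl h0m)) (hzd h0m)).1
    have hs := star (hsym h01) h12 hn2.symm h0m hm1 h23 hn3
    rw [mul_assoc (dd m1) (dd n3) (dd m1), ← (hA0.2.2 _ hK).eq, ← mul_assoc, hA0.2.1, one_mul, hA2.2.1] at hs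
    exact hdd1 n1 hs.symm
  obtain ⟨hb0, hbm⟩ := move h01 h0m hm1 h12 hn2 h23 hn3
  obtain ⟨ha1, han⟩ := move (hsym h01) h12 hn2 h0m hm1 hmm hm2
  have hbinv : (dd n3)⁻¹ = dd n3 := A_inv (hdd n3).1
  have hainv : (dd m2)⁻¹ = dd m2 := A_inv (hdd m2).1
  have r1 := star h0m (by simpa [hb0] using O.inv (dd n3) n0 m1 h0m) hbm.symm hmm hm2
    (O.inv (dd n3) m1 m2 hmm) (fun e => hm2 (smul_left_cancel (dd n3) (e.trans hb0.symm)))
  have r2 := star (by simpa [ha1] using O.inv (dd m2) n1 n2 h12) h12 han (O.inv (dd m2) n2 n3 h23)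
    (fun e => hn3 (smul_left_cancel (dd m2) (e.trans ha1.symm))) h23 hn3
  rw [hddg, hbinv] at r1
  rw [hddg, hainv] at r2
  have r3 : dd n0 = dd n1 := by
    rw [← r1, ← r2]
    simp only [mul_assoc]
  exact Deg.ne_of_adj (Or.inl h01) (hv.D_inj (hdd n0) (r3 ▸ hdd n1) (hdd1 n0))

/-- Critical pairs are adjacent. -/
theorem crit_adjacent (hv : Vec O) {b : ℕ} {x y : Ω} (hp : Path O b x y) (hA : ¬ A O x ≤ O.K y)
    (hmin : Min O b) (hb : 2 ≤ b) : False := by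
  obtain ⟨m, rfl⟩ : ∃ m, b = m + 2 := ⟨b - 2, by omega⟩
  obtain ⟨y₁, hy, y₂, hy2, hq⟩ := hp.symm
  obtain ⟨x₁, hx, hp1⟩ := hp
  obtain ⟨v, z, hvx, hz, hzD, -, -⟩ := hv.step hmin hx hp1 hy hy2 hq hA
  rcases hvx with hvx | hxv
  · refine hv.no_long_aux ?_ hmin hx hp1 hy hy2 hq hA
    intro u w huw z' hz'
    obtain ⟨g, rfl, rfl⟩ := O.trans v x u w hvx huw
    have h1 := hz.conj g
    rw [← H_smul] at h1
    rw [hv.unique (hv.isT_H (Or.inl huw)) hz' h1]
    exact hzD.conj g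
  · have hA' : ¬ A O.flip x ≤ O.flip.K y := by rw [hv.A_flip, hv.K_flip]; exact hA
    refine hv.flip.no_long_aux ?_ (hv.min_flip hmin) (adj_flip.2 hx) (path_flip.2 hp1) (adj_flip.2 hy)
      (adj_flip.2 hy2) (path_flip.2 hq) hA'
    intro u w huw z' hz'
    have huw' : O.E w u := huw
    obtain ⟨g, rfl, rfl⟩ := O.trans x v w u hxv huw'
    have h1 := hz.conj g
    rw [← H_smul] at h1
    rw [hv.inD_flip, hv.unique (hv.isT_H (Or.inr huw')) (hv.isZ_flip.1 hz') h1]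
    exact hzD.conj g

end Vec

end CfsgLib.Recog.Sims
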