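import Cfsg.Agent.Lib.Recog.SimsThreeVec
import Mathlib.GroupTheory.GroupAction.Quotient
import Mathlib.GroupTheory.SpecificGroups.Cyclic

/-!
Primitive groups with a suborbit of length 3: an adjacent critical pair gives the symmetric
group of degree four, possibly times a group of order two.
-/

set_option autoImplicit false
set_option linter.unusedSectionVars false
set_option linter.unusedVariables false

namespace CfsgLib.Recog.Sims

open Subgroup CfsgLib.Recog.TW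

variable {G Ω : Type*} [Group G] [MulAction G Ω] {O : Orbital G Ω}

local notation "St" => MulAction.stabilizer G

theorem perm_three_rot : ∀ σ τ : Equiv.Perm (Fin 3), σ * σ = 1 → τ * τ = 1 → σ ≠ 1 → τ ≠ 1 → σ ≠ τ →
    (σ * τ) ^ 3 = 1 ∧ σ * τ ≠ 1 := by
  set_option synthInstance.maxSize 1024 in decide

theorem perm_three_all : ∀ σ τ : Equiv.Perm (Fin 3), σ ^ 3 = 1 → σ ≠ 1 → τ * τ = 1 → τ ≠ 1 → ∀ π,
    π = 1 ∨ π = σ ∨ π = σ * σ ∨ π = τ ∨ π = τ * σ ∨ π = τ * (σ * σ) := by decide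

namespace Vec

variable [Finite G]

/-- The facts at a critical pair. -/
theorem crit (hv : Vec O) {n : ℕ} {x x₁ y y₁ : Ω} (hmin : Min O (n + 1)) (hx : Adj O x x₁)
    (hp : Path O n x₁ y) (hy : Adj O y y₁) (hq : Path O n x y₁) (hA : ¬ A O x ≤ O.K y) {zP zb : G}
    (hzP : IsZ O x (H G x x₁) zP) (hzb : IsZ O y (H G y y₁) zb) :
    zP = zb ∧ zP ∈ O.K y ∧ ∀ Q zQ, IsT G x Q → Q ≠ H G x x₁ → IsZ O x Q zQ → zQ ∉ O.K y := by
  have hP := hv.isT_H hx
  have hPy := hv.isT_H hy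
  obtain ⟨t, htA, htK⟩ := SetLike.not_le_iff_exists.1 (hv.crit_symm hv.tight hA)
  have htP : t ∈ H G x x₁ := hv.A_le_H hmin (Nat.lt_succ_self n) hx hp htA
  have h3 : ∀ Q zQ, IsT G x Q → Q ≠ H G x x₁ → IsZ O x Q zQ → zQ ∉ O.K y := fun Q zQ hQ hne hzQ hk =>
    hv.move_ne hP hQ hne hzP hzQ htP htK (by rw [(htA.2.2 zQ hk).eq, mul_inv_cancel_right])
  obtain ⟨Q, hQ, hne⟩ := hv.exists_other hP
  obtain ⟨zQ, hzQ⟩ := hv.tv x Q hQ
  obtain ⟨e1, hR⟩ := hv.z_move hP hQ hne hzP hzQ htP htK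
  have hRT : IsT G x (cj t Q) := by
    have := Cubic.isT_smul hQ t
    rwa [MulAction.mem_stabilizer_iff.1 (hP.1 htP)] at this
  have hQA := (hv.z_mem hQ hzQ).1
  have hQn := h3 Q zQ hQ hne hzQ
  have h2 : zP ∈ O.K y := by
    have h := hv.crit_index hmin (Nat.lt_succ_self n) hy hq hQA (hv.z_mem hRT hR).1 hQn
      (h3 _ _ hRT (hv.cj_ne hP hQ hne htP htK).2 hR)
    rwa [A_cancel hQA] at h
  refine ⟨?_, h2, h3⟩
  have hQH : zQ ∈ H G y y₁ := hv.A_le_H hmin (Nat.lt_succ_self n) hy hq.symm hQA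
  obtain ⟨hbA, -⟩ := hv.z_mem hPy hzb
  rcases hzb.2.1 zQ hQH hQn t htA with e | e
  · exfalso
    have hc : Commute zQ t := mul_inv_eq_iff_eq_mul.1 e
    exact hv.move_ne hP hQ hne hzP hzQ htP htK (by rw [hc.symm.eq, mul_inv_cancel_right])
  · calc zP = zQ * (zQ * zP) := (A_cancel hQA).symm
      _ = zQ * t * zQ⁻¹ * t⁻¹ := by rw [← e1, A_inv hQA, A_inv htA]; group
      _ = zb := by rw [e, (A_comm htA hbA).eq, mul_inv_cancel_right]

theorem commute_iff (hv : Vec O) {x y : Ω} (h : Adj O x y) {t k : G} (ht : t ∈ A O y) (htK : t ∉ O.K x)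
    (hk : k ∈ O.K x) : Commute k t ↔ k ∈ O.K y := by
  refine ⟨fun hc => ?_, fun hky => (ht.2.2 k hky).symm⟩
  by_contra hky
  refine htK (hv.mem_K_of_cent hv.tight fun a ha => ?_)
  have hle : O.K x ≤ H G y x := H_comm (G := G) x y ▸ hv.K_le (hv.isT_H h)
  by_cases hay : a ∈ O.K y
  · exact ht.2.2 a hay
  · have h1 : Commute t (k⁻¹ * a) := ht.2.2 _ (hv.mul_mem_K (hv.isT_H h.symm) (hle hk) (hle ha.1) hky hay)
    have h2 := hc.symm.mul_right h1
    rwa [mul_inv_cancel_left] at h2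

/-- The data at one end of an adjacent critical pair. -/
structure Half (O : Orbital G Ω) (x y : Ω) (zP : G) where
  /-- The complement in the kernel. -/
  C : Subgroup G
  /-- An element of order three. -/
  w : G
  /-- An involution inverting it. -/
  t : G
  /-- A value at another type. -/
  zQ : G
  C_le : C ≤ O.K x ⊓ O.K y
  C_norm : MulAction.stabilizer G x ≤ normalizer (C : Set G)
  w_mem : w ∈ MulAction.stabilizer G x
  w_ord : orderOf w = 3
  w_C : ∀ c ∈ C, Commute w c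
  t_mem : t ∈ H G x y
  t_not : t ∉ O.K x
  t_sq : t * t = 1
  t_C : ∀ c ∈ C, Commute t c
  t_w : t * w * t⁻¹ = w⁻¹
  zP_A : zP ∈ A O x
  zQ_A : zQ ∈ A O x
  zP_ne : zP ≠ 1
  w_zP : w * zP * w⁻¹ = zQ
  w_zQ : w * zQ * w⁻¹ = zQ * zP
  t_zP : t * zP * t⁻¹ = zP
  t_zQ : t * zQ * t⁻¹ = zQ * zP
  cent : ∀ g ∈ MulAction.stabilizer G x, Commute g zP → Commute g zQ → g ∈ O.K x
  decomp : ∀ k ∈ O.K x, ∃ c ∈ C, k = c ∨ k = zP * c ∨ k = zQ * c ∨ k = zP * (zQ * c)
  inter : ∀ k ∈ O.K x, k ∈ O.K y → ∃ c ∈ C, k = c ∨ k = zP * c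

theorem exists_half (hv : Vec O) {x y : Ω} (h : Adj O x y) (hA : ¬ A O x ≤ O.K y) (hmin : Min O 1)
    {zP : G} (hzP : IsZ O x (H G x y) zP) : Nonempty (Half O x y zP) := by
  have hP := hv.isT_H h
  obtain ⟨t, htA, htK⟩ := SetLike.not_le_iff_exists.1 (hv.crit_symm hv.tight hA)
  have htP : t ∈ H G x y := hv.A_le_H hmin (n := 0) one_pos h rfl htA
  obtain ⟨zb, hzb⟩ := hv.tv y _ (hv.isT_H h.symm)
  obtain ⟨-, hPy, hQn'⟩ := hv.crit (n := 0) hmin h rfl h.symm rfl hA hzP hzb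
  obtain ⟨Q, hQ, hne⟩ := hv.exists_other hP
  obtain ⟨g, hgx, hgQ⟩ := hv.conj_T hP hQ
  obtain ⟨zQ, hzQ⟩ := hv.tv x Q hQ
  obtain ⟨t', ht'def⟩ : ∃ t', t' = g * t * g⁻¹ := ⟨_, rfl⟩
  have h' : Adj O x (g • y) := by simpa [hgx] using h.smul g
  have hHQ : H G x (g • y) = Q := by rw [← hgQ, ← H_smul, hgx]
  have ht'A : t' ∈ A O (g • y) := ht'def ▸ A_conj htA g
  have ht'K : t' ∉ O.K x := fun hm => htK (by
    rw [← hgx, O.K_smul, mem_cj, ht'def] at hm
    rwa [show g⁻¹ * (g * t * g⁻¹) * g = t by group] at hm)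
  have ht'Q : t' ∈ Q := by rw [← hgQ, ht'def]; exact conj_mem_cj htP
  have htx := hP.1 htP
  have ht'x := hQ.1 ht'Q
  obtain ⟨hPA, hPf⟩ := hv.z_mem hP hzP
  obtain ⟨hQA, hQf⟩ := hv.z_mem hQ hzQ
  have tQ := (hv.z_move hP hQ hne hzP hzQ htP htK).1
  have t'P := (hv.z_move hQ hP hne.symm hzQ hzP ht'Q ht'K).1
  have comm_of : ∀ {a b : G}, a * b * a⁻¹ = b → Commute b a := fun e => (mul_inv_eq_iff_eq_mul.1 e).symm
  have hQy' : zQ ∈ O.K (g • y) := (hv.commute_iff h' ht'A ht'K hQA.1).1 (comm_of (hQf t' ht'Q))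
  have hPy' : zP ∉ O.K (g • y) := fun hm => hv.move_ne hQ hP hne.symm hzQ hzP ht'Q ht'K
    (by rw [(ht'A.2.2 zP hm).eq, mul_inv_cancel_right])
  have hQy : zQ ∉ O.K y := hQn' Q zQ hQ hne hzQ
  have hKH : ∀ v, Adj O x v → O.K x ≤ H G v x := fun v hv' => H_comm (G := G) x v ▸ hv.K_le (hv.isT_H hv')
  have flipQ : ∀ k ∈ O.K x, k ∉ O.K y → zQ * k ∈ O.K y := fun k hk hn => by
    have h1 := hv.mul_mem_K (hv.isT_H h.symm) (hKH y h hQA.1) (hKH y h hk) hQy hn
    rwa [A_inv hQA] at h1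
  have flipP : ∀ k ∈ O.K x, k ∉ O.K (g • y) → zP * k ∈ O.K (g • y) := fun k hk hn => by
    have h1 := hv.mul_mem_K (hv.isT_H h'.symm) (hKH _ h' hPA.1) (hKH _ h' hk) hPy' hn
    rwa [A_inv hPA] at h1
  let C : Subgroup G := O.K x ⊓ O.K y ⊓ O.K (g • y)
  have t_C : ∀ c ∈ C, Commute t c := fun c hc => htA.2.2 c hc.1.2
  have t'_C : ∀ c ∈ C, Commute t' c := fun c hc => ht'A.2.2 c hc.2
  have hdec : ∀ k ∈ O.K x, ∃ c ∈ C, k = c ∨ k = zP * c ∨ k = zQ * c ∨ k = zP * (zQ * c) := by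
    have step : ∀ k ∈ O.K x, k ∈ O.K y → k ∈ C ∨ zP * k ∈ C := fun k hk hky => by
      by_cases h2 : k ∈ O.K (g • y)
      · exact Or.inl ⟨⟨hk, hky⟩, h2⟩
      · exact Or.inr ⟨⟨mul_mem hPA.1 hk, mul_mem hPy hky⟩, flipP k hk h2⟩
    intro k hk
    by_cases hky : k ∈ O.K y
    · rcases step k hk hky with hc | hc
      · exact ⟨_, hc, Or.inl rfl⟩
      · exact ⟨_, hc, Or.inr (Or.inl (A_cancel hPA).symm)⟩
    · rcases step _ (mul_mem hQA.1 hk) (flipQ k hk hky) with hc | hc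
      · exact ⟨_, hc, Or.inr (Or.inr (Or.inl (A_cancel hQA).symm))⟩
      · refine ⟨_, hc, Or.inr (Or.inr (Or.inr ?_))⟩
        rw [← mul_assoc zQ zP, ← (A_comm hPA hQA).eq, mul_assoc zP zQ, A_cancel hQA, A_cancel hPA]
  have hdec' : ∀ k ∈ O.K x, ∃ c ∈ C, ∃ v ∈ A O x, k = v * c := fun k hk => by
    obtain ⟨c, hc, e | e | e | e⟩ := hdec k hk
    · exact ⟨c, hc, 1, one_mem _, by rw [one_mul, e]⟩
    · exact ⟨c, hc, zP, hPA, e⟩
    · exact ⟨c, hc, zQ, hQA, e⟩
    · exact ⟨c, hc, zP * zQ, mul_mem hPA hQA, by rw [e, mul_assoc]⟩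
  have hnK : O.K x ≤ normalizer (C : Set G) := fun k hk => by
    obtain ⟨c, hc, v, hvA, rfl⟩ := hdec' k hk
    exact mul_mem (centralizer_le_normalizer _ (mem_centralizer_iff.2 fun b hb => (hvA.2.2 b hb.1.1).eq.symm))
      (Subgroup.le_normalizer hc)
  have hnt : ∀ s : G, (∀ c ∈ C, Commute s c) → s ∈ normalizer (C : Set G) := fun s hs =>
    centralizer_le_normalizer _ (mem_centralizer_iff.2 fun b hb => (hs b hb).eq.symm)
  have hPn : H G x y ≤ normalizer (C : Set G) := fun p hp => by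
    by_cases hpn : p ∈ O.K x
    · exact hnK hpn
    · have h1 := mul_mem (hnt t t_C) (hnK (hv.mul_mem_K hP htP hp htK hpn))
      rwa [mul_inv_cancel_left] at h1
  have ht'P : t' ∉ H G x y := fun hm => ht'K (hv.inter hP hQ hne.symm ▸ ⟨hm, ht'Q⟩)
  have hnorm := hv.le_normalizer hP hPn ht'x ht'P (hnt t' t'_C)
  -- the element of order three
  obtain ⟨f, hf⟩ := hv.exists_phi x
  have htt : t * t = 1 := htA.2.1
  have ht't' : t' * t' = 1 := ht'A.2.1
  have htinv : t⁻¹ = t := inv_eq_of_mul_eq_one_right htt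
  have ht'inv : t'⁻¹ = t' := inv_eq_of_mul_eq_one_right ht't'
  have hrot := perm_three_rot (f ⟨t, htx⟩) (f ⟨t', ht'x⟩)
    (by rw [← map_mul, show (⟨t, htx⟩ : St x) * ⟨t, htx⟩ = 1 from Subtype.ext htt, map_one])
    (by rw [← map_mul, show (⟨t', ht'x⟩ : St x) * ⟨t', ht'x⟩ = 1 from Subtype.ext ht't', map_one])
    (fun e => htK ((hf _).1 e)) (fun e => ht'K ((hf _).1 e))
    (fun e => ht'K (by
      have h1 : t⁻¹ * t' ∈ O.K x := (hf (⟨t, htx⟩⁻¹ * ⟨t', ht'x⟩)).1 (by rw [map_mul, map_inv, e, inv_mul_cancel])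
      have h2 : t' ∈ H G x y := by
        have := mul_mem htP (hv.K_le hP h1)
        rwa [mul_inv_cancel_left] at this
      exact absurd h2 ht'P))
  obtain ⟨r, hr⟩ : ∃ r, r = t * t' := ⟨_, rfl⟩
  have hrx : r ∈ St x := hr ▸ mul_mem htx ht'x
  have hu : r ^ 3 ∈ O.K x := by
    refine (hf (⟨r, hrx⟩ ^ 3)).1 ?_
    rw [map_pow, show (⟨r, hrx⟩ : St x) = ⟨t, htx⟩ * ⟨t', ht'x⟩ from Subtype.ext hr, map_mul]
    exact hrot.1
  have tf : ∀ a ∈ A O x, r * a * r⁻¹ = t * (t' * a * t'⁻¹) * t⁻¹ := fun a _ => by rw [hr]; group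
  have conjmul : ∀ (s u v : G), s * (u * v) * s⁻¹ = s * u * s⁻¹ * (s * v * s⁻¹) := fun s u v => by group
  have rP : r * zP * r⁻¹ = zQ := by
    rw [tf _ hPA, t'P, conjmul, hPf t htP, tQ, (A_comm hQA hPA).eq, A_cancel hPA]
  have rQ : r * zQ * r⁻¹ = zQ * zP := by rw [tf _ hQA, hQf t' ht'Q, tQ]
  have hrC : ∀ c ∈ C, Commute r c := fun c hc => hr ▸ (t_C c hc).mul_left (t'_C c hc)
  have huC : r ^ 3 ∈ C := by
    obtain ⟨c, hc, e⟩ := hdec _ hu
    have hru : Commute r (r ^ 3) := (Commute.refl r).pow_right 3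
    have key : ∀ v, r ^ 3 = v * c → r * v * r⁻¹ = v := fun v e' => by
      have h1 : Commute r v := by
        have := hru.mul_right (hrC c hc).inv_right
        rwa [e', mul_inv_cancel_right] at this
      rw [h1.eq, mul_inv_cancel_right]
    have hQP : zQ ≠ zP := hv.z_ne hP hQ hne hzP hzQ
    rcases e with e | e | e | e
    · exact e ▸ hc
    · exact absurd (rP.symm.trans (key zP e)) hQP
    · exact absurd (rQ.symm.trans (key zQ e)) fun e' => hzP.1 (mul_eq_left.1 e')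
    · have h1 := key (zP * zQ) (by rw [e, mul_assoc])
      rw [conjmul, rP, rQ, A_cancel hQA] at h1
      exact absurd (left_eq_mul.1 h1) hzQ.1
  have htr : t * r * t⁻¹ = r⁻¹ := by rw [hr, mul_inv_rev, htinv, ht'inv, ← mul_assoc, htt, one_mul]
  have hu2 : r ^ 3 * r ^ 3 = 1 := by
    have h1 : t * r ^ 3 * t⁻¹ = r ^ 3 := by rw [(t_C _ huC).eq, mul_inv_cancel_right]
    rw [← conj_pow, htr, inv_pow] at h1
    nth_rw 1 [← h1]
    exact inv_mul_cancel _
  obtain ⟨w, hw⟩ : ∃ w, w = r ^ 4 := ⟨_, rfl⟩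
  have hw3 : w ^ 3 = 1 := by
    rw [hw, ← pow_mul, show 4 * 3 = 3 * 2 + 3 * 2 by rfl, pow_add, pow_mul, pow_two, hu2, one_mul]
  have hwK : w ∉ O.K x := fun hm => hrot.2 (by
    have h1 : f (⟨r, hrx⟩ ^ 4) = 1 := (hf _).2 (by rw [hw] at hm; exact hm)
    rw [pow_succ, map_mul, show f (⟨r, hrx⟩ ^ 3) = 1 from (hf _).2 hu, one_mul,
      show (⟨r, hrx⟩ : St x) = ⟨t, htx⟩ * ⟨t', ht'x⟩ from Subtype.ext hr, map_mul] at h1
    exact h1)
  have hwact : ∀ a ∈ A O x, w * a * w⁻¹ = r * a * r⁻¹ := fun a ha => by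
    rw [hw, pow_succ', show r * r ^ 3 * a * (r * r ^ 3)⁻¹ = r * (r ^ 3 * a * (r ^ 3)⁻¹) * r⁻¹ by group,
      conj_kernel ha hu]
  refine ⟨⟨C, w, t, zQ, inf_le_left, hnorm, hw ▸ pow_mem hrx 4, ?_, fun c hc => hw ▸ (hrC c hc).pow_left 4,
    htP, htK, htt, t_C, ?_, hPA, hQA, hzP.1, (hwact _ hPA).trans rP, (hwact _ hQA).trans rQ, hPf t htP, tQ,
    fun s hs h1 h2 => hv.mem_K_of_commute_z hP hQ hne hzP hzQ hs h1 h2, hdec, fun k hk hky => ?_⟩⟩
  · have := Fact.mk Nat.prime_three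
    exact orderOf_eq_prime hw3 fun e => hwK (e ▸ one_mem _)
  · rw [hw, ← conj_pow, htr, inv_pow]
  · by_cases h2 : k ∈ O.K (g • y)
    · exact ⟨k, ⟨⟨hk, hky⟩, h2⟩, Or.inl rfl⟩
    · exact ⟨_, ⟨⟨mul_mem hPA.1 hk, mul_mem hPy hky⟩, flipP k hk h2⟩, Or.inr (A_cancel hPA).symm⟩

/-- The complement is central of order at most two. -/
theorem half_small (hv : Vec O) {x y : Ω} (h : Adj O x y) (hA : ¬ A O x ≤ O.K y) (hmin : Min O 1) :
    ∃ zP, ∃ D : Half O x y zP, Nat.card D.C ≤ 2 ∧ ∀ g ∈ St x, ∀ c ∈ D.C, Commute g c := by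
  obtain ⟨zP, hzP⟩ := hv.tv x _ (hv.isT_H h)
  obtain ⟨zb, hzb⟩ := hv.tv y _ (hv.isT_H h.symm)
  obtain ⟨e, -, -⟩ := hv.crit (n := 0) hmin h rfl h.symm rfl hA hzP hzb
  subst e
  obtain ⟨D⟩ := hv.exists_half h hA hmin hzP
  obtain ⟨E⟩ := hv.exists_half h.symm (hv.crit_symm hv.tight hA) hmin hzb
  have hb : ∀ c ∈ D.C, c ∈ E.C → c = 1 := by
    have hinf : (D.C ⊓ E.C : Subgroup G) = ⊥ := by
      have hPx := hv.isT_H h
      have hPy := hv.isT_H h.symm
      have hn : H G x y ≤ normalizer ((D.C ⊓ E.C : Subgroup G) : Set G) :=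
        inf_le_normalizer (hPx.1.trans D.C_norm) ((H_comm (G := G) x y).le.trans (hPy.1.trans E.C_norm))
      refine hv.six (Deg.ne_of_adj h) ((inf_le_left.trans D.C_le).trans (inf_le_left.trans (O.K_le x)))
        (hv.le_normalizer hPx hn D.w_mem (hv.not_mem_of_orderOf hPx D.w_ord)
          (centralizer_le_normalizer _ (mem_centralizer_iff.2 fun b hb => (D.w_C b hb.1).eq.symm))) ?_
      exact hv.le_normalizer hPy (H_comm (G := G) x y ▸ hn) E.w_mem (hv.not_mem_of_orderOf hPy E.w_ord)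
        (centralizer_le_normalizer _ (mem_centralizer_iff.2 fun b hb => (E.w_C b hb.2).eq.symm))
    intro c h1 h2
    have : c ∈ D.C ⊓ E.C := ⟨h1, h2⟩
    rwa [hinf, mem_bot] at this
  have hE : ∀ c ∈ D.C, ∃ e ∈ E.C, c = e ∨ c = zP * e := fun c hc =>
    E.inter c (D.C_le hc).2 (D.C_le hc).1
  have hab : ∀ c ∈ D.C, ∀ c' ∈ D.C, Commute c c' := by
    intro c hc c' hc'
    obtain ⟨e1, he1, h1⟩ := hE c hc
    obtain ⟨e2, he2, h2⟩ := hE c' hc'
    have hze : ∀ e' ∈ E.C, Commute zP e' := fun e' he' => E.zP_A.2.2 e' (E.C_le he').1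
    have he : Commute e1 e2 := by
      have hm : c * c' * c⁻¹ * c'⁻¹ ∈ D.C := mul_mem (mul_mem (mul_mem hc hc') (inv_mem hc)) (inv_mem hc')
      have heq : c * c' * c⁻¹ * c'⁻¹ = e1 * e2 * e1⁻¹ * e2⁻¹ := by
        have a1 := (hze e1 he1).eq
        have a2 := (hze e2 he2).eq
        have hzi := A_inv E.zP_A
        rcases h1 with rfl | rfl <;> rcases h2 with rfl | rfl
        · rfl
        · rw [mul_inv_rev, hzi, ← mul_assoc c zP, ← a1, mul_assoc zP c e2,
            show zP * (c * e2) * c⁻¹ * (e2⁻¹ * zP) = zP * (c * e2 * c⁻¹ * e2⁻¹) * zP by group,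
            ((hze _ (mul_mem (mul_mem (mul_mem he1 he2) (inv_mem he1)) (inv_mem he2)))).eq,
            mul_assoc, E.zP_A.2.1, mul_one]
        · rw [mul_inv_rev, hzi,
            show zP * e1 * c' * (e1⁻¹ * zP) * c'⁻¹ = zP * (e1 * c' * e1⁻¹) * (zP * c'⁻¹) by group,
            (hze _ (inv_mem he2)).eq, ← mul_assoc, mul_assoc zP _ c'⁻¹,
            ((hze _ (mul_mem (mul_mem (mul_mem he1 he2) (inv_mem he1)) (inv_mem he2)))).eq,
            mul_assoc, E.zP_A.2.1, mul_one]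
        · rw [mul_inv_rev, mul_inv_rev, hzi, (hze _ he1).eq, (hze _ he2).eq,
            show e1 * zP * (e2 * zP) * (e1⁻¹ * zP) * (e2⁻¹ * zP) = e1 * (zP * e2) * (zP * e1⁻¹) * (zP * e2⁻¹) * zP by group,
            a2, (hze _ (inv_mem he1)).eq, (hze _ (inv_mem he2)).eq,
            show e1 * (e2 * zP) * (e1⁻¹ * zP) * (e2⁻¹ * zP) * zP = e1 * e2 * (zP * e1⁻¹) * (zP * e2⁻¹) * (zP * zP) by group,
            (hze _ (inv_mem he1)).eq, (hze _ (inv_mem he2)).eq,
            show e1 * e2 * (e1⁻¹ * zP) * (e2⁻¹ * zP) * (zP * zP) = e1 * e2 * e1⁻¹ * (zP * e2⁻¹) * zP * (zP * zP) by group,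
            (hze _ (inv_mem he2)).eq, E.zP_A.2.1, mul_one, ← mul_assoc, mul_assoc _ zP zP, E.zP_A.2.1, mul_one]
      have := hb _ hm (heq ▸ mul_mem (mul_mem (mul_mem he1 he2) (inv_mem he1)) (inv_mem he2))
      rw [heq] at this
      rwa [← commutatorElement_def, commutatorElement_eq_one_iff_commute] at this
    rcases h1 with rfl | rfl <;> rcases h2 with rfl | rfl
    · exact he
    · exact (hze _ he1).symm.mul_right he
    · exact (hze _ he2).mul_left he
    · exact ((Commute.refl zP).mul_right (hze _ he2)).mul_left ((hze _ he1).symm.mul_right he)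
  have huniq : ∀ c ∈ D.C, ∀ c' ∈ D.C, c ≠ 1 → c' ≠ 1 → c * c' = 1 := by
    intro c hc c' hc' n1 n2
    obtain ⟨e1, he1, h1⟩ := hE c hc
    obtain ⟨e2, he2, h2⟩ := hE c' hc'
    rcases h1 with rfl | rfl
    · exact absurd (hb c hc he1) n1
    rcases h2 with rfl | rfl
    · exact absurd (hb c' hc' he2) n2
    have e3 : zP * e1 * (zP * e2) = e1 * e2 := by
      rw [(E.zP_A.2.2 e1 (E.C_le he1).1).eq, mul_assoc, A_cancel E.zP_A]
    exact hb _ (mul_mem hc hc') (e3 ▸ mul_mem he1 he2)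
  refine ⟨zP, D, ?_, ?_⟩
  · by_cases hne : ∃ c ∈ D.C, c ≠ 1
    · obtain ⟨c, hc, hc1⟩ := hne
      classical
      have hinj : Function.Injective (fun s : D.C => decide ((s : G) = 1)) := by
        intro s s' e
        simp only [decide_eq_decide] at e
        by_cases hs : (s : G) = 1
        · exact Subtype.ext (hs.trans (e.1 hs).symm)
        · exact Subtype.ext (mul_right_cancel ((huniq _ s.2 c hc hs hc1).trans
            (huniq _ s'.2 c hc (fun h => hs (e.2 h)) hc1).symm))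
      exact (Nat.card_le_card_of_injective _ hinj).trans (by simp)
    · push Not at hne
      rw [Subgroup.eq_bot_iff_forall _ |>.2 hne, card_bot]; norm_num
  · intro g hg
    have hcK : ∀ k ∈ O.K x, ∀ c ∈ D.C, Commute k c := fun k hk c hc => by
      obtain ⟨c0, hc0, e | e | e | e⟩ := D.decomp k hk <;> rw [e]
      · exact hab _ hc0 _ hc
      · exact (D.zP_A.2.2 c (D.C_le hc).1).mul_left (hab _ hc0 _ hc)
      · exact (D.zQ_A.2.2 c (D.C_le hc).1).mul_left (hab _ hc0 _ hc)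
      · exact (D.zP_A.2.2 c (D.C_le hc).1).mul_left ((D.zQ_A.2.2 c (D.C_le hc).1).mul_left (hab _ hc0 _ hc))
    have hPx := hv.isT_H h
    have hJ : centralizer (D.C : Set G) ⊓ St x = St x := by
      refine hv.eq_St hPx (fun p hp => ⟨mem_centralizer_iff.2 fun c hc => ?_, hp.1⟩) inf_le_right
        fun hle => hv.not_mem_of_orderOf hPx D.w_ord
          (hle ⟨mem_centralizer_iff.2 fun c hc => (D.w_C c hc).eq.symm, D.w_mem⟩)
      by_cases hpn : p ∈ O.K x
      · exact (hcK p hpn c hc).eq.symm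
      · have h1 := (D.t_C c hc).mul_left (hcK _ (hv.mul_mem_K hPx D.t_mem hp D.t_not hpn) c hc)
        rw [mul_inv_cancel_left] at h1
        exact h1.eq.symm
    intro c hc
    exact (mem_centralizer_iff.1 (show g ∈ centralizer (D.C : Set G) ⊓ St x by rw [hJ]; exact hg).1 c hc).symm

theorem card_K (hv : Vec O) {x y : Ω} {zP : G} (D : Half O x y zP)
    (hc : ∀ v ∈ ({zP, D.zQ, zP * D.zQ} : Set G), v ∉ D.C) :
    Nat.card (O.K x) = 4 * Nat.card D.C := by
  let sel : Bool × Bool → G := fun p => (if p.1 then zP else 1) * (if p.2 then D.zQ else 1)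
  have hsel : ∀ p, sel p ∈ O.K x := by
    rintro ⟨i, j⟩
    cases i <;> cases j <;> simp [sel, D.zP_A.1, D.zQ_A.1, mul_mem D.zP_A.1 D.zQ_A.1]
  have hC0 : ∀ p, sel p ∈ D.C → p = (false, false) := by
    rintro ⟨i, j⟩ h
    cases i <;> cases j <;> simp_all [sel]
  have hmul : ∀ p q, sel p * sel q = sel (Bool.xor p.1 q.1, Bool.xor p.2 q.2) := by
    have hswap : ∀ i j : Bool, Commute (if j then D.zQ else (1 : G)) (if i then zP else 1) := by
      intro i j
      cases i <;> cases j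
      · exact Commute.one_left _
      · exact Commute.one_right _
      · exact Commute.one_left _
      · exact A_comm D.zQ_A D.zP_A
    have hadd : ∀ (z : G), z * z = 1 → ∀ i j : Bool,
        (if i then z else 1) * (if j then z else 1) = (if Bool.xor i j then z else 1) := by
      intro z hz i j
      cases i <;> cases j <;> simp [hz]
    rintro ⟨i, j⟩ ⟨k, l⟩
    simp only [sel]
    rw [← hadd zP D.zP_A.2.1, ← hadd D.zQ D.zQ_A.2.1, mul_assoc, ← mul_assoc (if j then D.zQ else 1),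
      (hswap k j).eq, mul_assoc, ← mul_assoc]
  have hbij : Function.Bijective (fun s : (Bool × Bool) × D.C =>
      (⟨sel s.1 * s.2, mul_mem (hsel s.1) (D.C_le s.2.2).1⟩ : O.K x)) := by
    constructor
    · rintro ⟨p, c⟩ ⟨q, d⟩ e
      have e' : sel p * c = sel q * d := congrArg Subtype.val e
      have hqq : sel q * sel q = 1 := by rw [hmul]; simp [sel]
      have h1 : sel q * sel p = d * (c : G)⁻¹ := by
        rw [eq_mul_inv_iff_mul_eq, mul_assoc, e', ← mul_assoc, hqq, one_mul]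
      have h2 := hC0 _ (hmul q p ▸ h1 ▸ mul_mem d.2 (inv_mem c.2))
      have hpq : p = q := by
        have hb2 : ∀ p q : Bool × Bool,
            (Bool.xor q.1 p.1, Bool.xor q.2 p.2) = (false, false) → p = q := by decide
        exact hb2 p q h2
      subst hpq
      exact Prod.ext rfl (Subtype.ext (mul_left_cancel e'))
    · rintro ⟨k, hk⟩
      obtain ⟨c, hc', e | e | e | e⟩ := D.decomp k hk
      · exact ⟨⟨(false, false), c, hc'⟩, Subtype.ext (by simp [sel, e])⟩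
      · exact ⟨⟨(true, false), c, hc'⟩, Subtype.ext (by simp [sel, e])⟩
      · exact ⟨⟨(false, true), c, hc'⟩, Subtype.ext (by simp [sel, e])⟩
      · exact ⟨⟨(true, true), c, hc'⟩, Subtype.ext (by simp [sel, e, mul_assoc])⟩
  rw [← Nat.card_eq_of_bijective _ hbij, Nat.card_prod, Nat.card_prod, Nat.card_eq_fintype_card (α := Bool)]
  rfl

theorem equiv_sym_four (hv : Vec O) {x y : Ω} (h : Adj O x y) (hA : ¬ A O x ≤ O.K y) (hmin : Min O 1) :
    Nonempty (St x ≃* Equiv.Perm (Fin 4)) ∨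
      Nonempty (St x ≃* Equiv.Perm (Fin 4) × Multiplicative (ZMod 2)) := by
  obtain ⟨zP, D, hcard, hcent⟩ := hv.half_small h hA hmin
  obtain ⟨C, w, t, zQ, C_le, C_norm, w_mem, w_ord, w_C, t_mem, t_not, t_sq, t_C, t_w, zP_A, zQ_A, zP_ne,
    w_zP, w_zQ, t_zP, t_zQ, cent, decomp, inter⟩ := id D
  have hCK : D.C ≤ O.K x := D.C_le.trans inf_le_left
  have htx : D.t ∈ St x := D.t_mem.1
  have hw3 : D.w ^ 3 = 1 := D.w_ord ▸ pow_orderOf_eq_one _
  have hwpow : ∀ j : ℤ, D.w ^ j ∈ O.K x → D.w ^ j = 1 := fun j hj => by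
    by_contra hne
    have := Fact.mk Nat.prime_three
    have ho : orderOf (D.w ^ j) = 3 := orderOf_eq_prime (by
      rw [← zpow_natCast, ← zpow_mul, mul_comm, zpow_mul, zpow_natCast, hw3, one_zpow]) hne
    exact hv.not_mem_of_orderOf (hv.isT_H h) ho (hv.K_le (hv.isT_H h) hj)
  have hQ1 : D.zQ ≠ 1 := fun e => D.zP_ne (conj_eq_one_iff.1 (D.w_zP.trans e))
  have hzw : ∀ v ∈ ({zP, D.zQ, zP * D.zQ} : Set G), ¬ Commute D.w v := by
    intro v hv' hc
    have e : D.w * v * D.w⁻¹ = v := by rw [hc.eq, mul_inv_cancel_right]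
    rcases hv' with rfl | rfl | rfl
    · have h1 := D.t_zQ
      rw [← D.w_zP, e, D.t_zP, left_eq_mul] at h1
      exact D.zP_ne h1
    · rw [D.w_zQ, mul_eq_left] at e
      exact D.zP_ne e
    · rw [← conj_mul, D.w_zP, D.w_zQ, A_cancel D.zQ_A, left_eq_mul] at e
      exact hQ1 e
  have hzC : ∀ v ∈ ({zP, D.zQ, zP * D.zQ} : Set G), v ∉ D.C := fun v hv' hvC => hzw v hv' (D.w_C v hvC)
  have hK4 := hv.card_K D hzC
  have hSt : Nat.card (St x) = 24 * Nat.card D.C := by rw [hv.card_St_six, hK4]; ring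
  obtain ⟨f, hf⟩ := hv.exists_phi x
  obtain ⟨M₀, hM₀⟩ : ∃ M₀ : Subgroup G, M₀ = normalizer (zpowers D.w : Set G) := ⟨_, rfl⟩
  have hMK : ∀ k ∈ O.K x, k ∈ M₀ → k ∈ D.C := by
    intro k hk hkM
    rw [hM₀] at hkM
    have h1 : k * D.w * k⁻¹ * D.w⁻¹ ∈ zpowers D.w :=
      mul_mem ((Subgroup.mem_normalizer_iff.1 hkM _).1 (mem_zpowers _)) (inv_mem (mem_zpowers _))
    have h2 : k * D.w * k⁻¹ * D.w⁻¹ ∈ O.K x := by
      rw [mul_assoc k, mul_assoc k]
      exact mul_mem hk ((Subgroup.mem_normalizer_iff.1 (Cubic.K_norm x D.w_mem) _).1 (inv_mem hk))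
    obtain ⟨j, hj⟩ := mem_zpowers_iff.1 h1
    have h3 : k * D.w * k⁻¹ * D.w⁻¹ = 1 := hj ▸ hwpow j (hj.symm ▸ h2)
    have hkw : Commute k D.w := mul_inv_eq_iff_eq_mul.1 (mul_inv_eq_one.1 h3)
    obtain ⟨c, hc, e | e | e | e⟩ := D.decomp k hk
    · exact e ▸ hc
    all_goals
      exfalso
      have h4 := hkw.symm.mul_right (D.w_C c hc).inv_right
      first
        | exact hzw _ (Or.inl rfl) (by rwa [e, mul_inv_cancel_right] at h4)
        | exact hzw _ (Or.inr (Or.inl rfl)) (by rwa [e, mul_inv_cancel_right] at h4)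
        | exact hzw _ (Or.inr (Or.inr rfl)) (by rwa [e, ← mul_assoc, mul_inv_cancel_right] at h4)
  have hCM : ∀ c ∈ D.C, c ∈ M₀ := fun c hc => hM₀ ▸ centralizer_le_normalizer _
    (mem_centralizer_iff.2 fun b hb => by
      obtain ⟨j, rfl⟩ := mem_zpowers_iff.1 hb
      exact ((D.w_C c hc).zpow_left j).eq)
  have htM : D.t ∈ M₀ := by
    rw [hM₀, mem_normalizer_iff_map_conj_eq, MonoidHom.map_zpowers, MonoidHom.coe_coe,
      MulAut.conj_apply, D.t_w, zpowers_inv]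
  obtain ⟨M, hM⟩ : ∃ M : Subgroup (St x), M = M₀.subgroupOf (St x) := ⟨_, rfl⟩
  have hMcard : Nat.card M = 6 * Nat.card D.C := by
    let g := f.comp M.subtype
    have hsurj : Function.Surjective g := by
      intro π
      have hwM : (⟨D.w, D.w_mem⟩ : St x) ∈ M := by
        rw [hM, mem_subgroupOf, hM₀]; exact Subgroup.le_normalizer (mem_zpowers _)
      have htM' : (⟨D.t, htx⟩ : St x) ∈ M := by rw [hM, mem_subgroupOf]; exact htM
      rcases perm_three_all (f ⟨D.w, D.w_mem⟩) (f ⟨D.t, htx⟩)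
        (by rw [← map_pow, show (⟨D.w, D.w_mem⟩ : St x) ^ 3 = 1 from Subtype.ext hw3, map_one])
        (fun e => by
          have hwK := (hf _).1 e
          exact hv.not_mem_of_orderOf (hv.isT_H h) D.w_ord (hv.K_le (hv.isT_H h) hwK))
        (by rw [← map_mul, show (⟨D.t, htx⟩ : St x) * ⟨D.t, htx⟩ = 1 from Subtype.ext D.t_sq, map_one])
        (fun e => D.t_not ((hf _).1 e)) π with e | e | e | e | e | e <;> rw [e]
      · exact ⟨1, map_one g⟩
      · exact ⟨⟨_, hwM⟩, rfl⟩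
      · exact ⟨⟨_, mul_mem hwM hwM⟩, map_mul f _ _⟩
      · exact ⟨⟨_, htM'⟩, rfl⟩
      · exact ⟨⟨_, mul_mem htM' hwM⟩, map_mul f _ _⟩
      · exact ⟨⟨_, mul_mem htM' (mul_mem hwM hwM)⟩, (map_mul f _ _).trans (congrArg _ (map_mul f _ _))⟩
    have hker : Nat.card g.ker = Nat.card D.C := by
      refine Nat.card_congr ⟨fun m => ⟨(m : St x), hMK _ ((hf _).1 m.2) ?_⟩,
        fun c => ⟨⟨⟨c, O.K_le x (hCK c.2)⟩, ?_⟩, (hf _).2 (hCK c.2)⟩, fun _ => rfl, fun _ => rfl⟩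
      · have h1 := m.1.2
        simp only [hM, mem_subgroupOf] at h1
        exact h1
      · rw [hM, mem_subgroupOf]; exact hCM c c.2
    have e1 := g.ker.card_mul_index
    rw [Subgroup.index_ker, MonoidHom.range_eq_top.2 hsurj, hker, card_top, Nat.card_perm, Nat.card_fin] at e1
    rw [← e1, mul_comm]
    rfl
  have hindex : M.index = 4 := by
    have e1 := M.card_mul_index
    rw [hMcard, hSt] at e1
    exact Nat.eq_of_mul_eq_mul_left (n := 6 * Nat.card D.C) (Nat.mul_pos (by norm_num) Nat.card_pos) (by rw [e1]; ring)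
  let ψ := MulAction.toPermHom (St x) ((St x) ⧸ M)
  have hker : ψ.ker = D.C.subgroupOf (St x) := by
    rw [← normalCore_eq_ker]
    have hn : ((D.C.subgroupOf (St x))).Normal := (normal_subgroupOf_iff_le_normalizer
      (hCK.trans (O.K_le x))).2 D.C_norm
    refine le_antisymm ?_ (normal_le_normalCore.2 fun c hc => by rw [hM, mem_subgroupOf]; exact hCM _ hc)
    obtain ⟨N, hNdef⟩ : ∃ N, N = M.normalCore.map (St x).subtype := ⟨_, rfl⟩
    have hNle : N ≤ St x := hNdef ▸ map_subtype_le _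
    have hNn : St x ≤ normalizer (N : Set G) := by
      rw [← normal_subgroupOf_iff_le_normalizer hNle, hNdef, subgroupOf,
        comap_map_eq_self_of_injective (St x).subtype_injective]
      exact normalCore_normal M
    have hNM : N ≤ M₀ := by
      rw [hNdef]
      rintro _ ⟨m, hm, rfl⟩
      have := normalCore_le M hm
      simp only [hM, mem_subgroupOf] at this
      exact this
    suffices hs : N ≤ O.K x by
      intro m hm
      have : (m : G) ∈ N := hNdef ▸ mem_map_of_mem _ hm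
      exact hMK _ (hs this) (hNM this)
    by_contra hNK
    obtain ⟨v, hvN, hvo⟩ := hv.exists_order_three hNle hNn hNK
    have key : ∀ a ∈ A O x, Commute v a := by
      intro a ha
      obtain ⟨b, hb⟩ : ∃ b, b = v * a * v⁻¹ * a⁻¹ := ⟨_, rfl⟩
      have hbA : b ∈ A O x := hb ▸ mul_mem (A_conj_mem ha (hNle hvN)) (inv_mem ha)
      have hbN : b ∈ N := by
        rw [hb, mul_assoc v, mul_assoc v]
        exact mul_mem hvN ((Subgroup.mem_normalizer_iff.1 (hNn (A_le_St x ha)) _).1 (inv_mem hvN))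
      have hbC := hMK b hbA.1 (hNM hbN)
      have e1 : v * a * v⁻¹ = b * a := by rw [hb, inv_mul_cancel_right]
      have hvb : v * b * v⁻¹ = b := by rw [(hcent v (hNle hvN) b hbC).eq, mul_inv_cancel_right]
      have h3 : v ^ 3 = 1 := hvo ▸ pow_orderOf_eq_one v
      have h4 : v * (v * (v * a * v⁻¹) * v⁻¹) * v⁻¹ = a := by
        calc _ = v * v * v * a * (v * v * v)⁻¹ := by group
          _ = a := by rw [show v * v * v = v ^ 3 by rw [pow_succ, pow_two], h3]; group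
      have h5 : v * (v * a * v⁻¹) * v⁻¹ = a := by
        calc v * (v * a * v⁻¹) * v⁻¹ = v * (b * a) * v⁻¹ := by rw [e1]
          _ = v * b * v⁻¹ * (v * a * v⁻¹) := by group
          _ = a := by rw [hvb, e1, A_cancel hbA]
      rw [h5] at h4
      exact mul_inv_eq_iff_eq_mul.1 h4
    exact hv.not_mem_of_orderOf (hv.isT_H h) hvo
      (hv.K_le (hv.isT_H h) (D.cent v (hNle hvN) (key _ D.zP_A) (key _ D.zQ_A)))
  have hQcard : Nat.card ((St x) ⧸ M) = 4 := hindex
  let e4 : ((St x) ⧸ M) ≃ Fin 4 := Finite.equivFinOfCardEq hQcard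
  let φ : St x →* Equiv.Perm (Fin 4) := e4.permCongrHom.toMonoidHom.comp ψ
  have hφker : ∀ g, φ g = 1 ↔ (g : G) ∈ D.C := fun g => by
    show e4.permCongrHom (ψ g) = 1 ↔ _
    rw [map_eq_one_iff _ e4.permCongrHom.injective, ← MonoidHom.mem_ker, hker, mem_subgroupOf]
  have hCsub : Nat.card (D.C.subgroupOf (St x)) = Nat.card D.C :=
    Nat.card_congr (subgroupOfEquivOfLe (hCK.trans (O.K_le x))).toEquiv
  have hkerφ : φ.ker = D.C.subgroupOf (St x) := by ext g; exact hφker g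
  have hsurj : Function.Surjective φ := by
    rw [← MonoidHom.range_eq_top]
    refine eq_top_of_le_card _ ?_
    have e1 := φ.ker.card_mul_index
    rw [Subgroup.index_ker, hkerφ, hCsub, hSt] at e1
    rw [Nat.card_perm, Nat.card_fin]
    exact le_of_eq (Nat.eq_of_mul_eq_mul_left Nat.card_pos (e1.trans (mul_comm _ _))).symm
  rcases Nat.lt_or_ge (Nat.card D.C) 2 with h1 | h2
  · left
    have hbot : D.C = ⊥ := Subgroup.card_eq_one.1 (by have := Nat.card_pos (α := D.C); omega)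
    refine ⟨MulEquiv.ofBijective φ ⟨(injective_iff_map_eq_one φ).2 fun g hg => ?_, hsurj⟩⟩
    have := (hφker g).1 hg
    rw [hbot, mem_bot] at this
    exact Subtype.ext this
  right
  have hC2 : Nat.card D.C = 2 := le_antisymm hcard h2
  -- a complement to the centre
  let W : Set G := {g | ∃ v ∈ A O x, (v = 1 ∨ v = zP ∨ v = D.zQ ∨ v = zP * D.zQ) ∧
    ∃ i j : ℤ, g = v * D.w ^ i * D.t ^ j}
  have hVclosed : ∀ u v : G, (u = zP) → (v = 1 ∨ v = zP ∨ v = D.zQ ∨ v = zP * D.zQ) →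
      (u * v = 1 ∨ u * v = zP ∨ u * v = D.zQ ∨ u * v = zP * D.zQ) := by
    rintro u v rfl (rfl | rfl | rfl | rfl)
    · exact Or.inr (Or.inl (mul_one _))
    · exact Or.inl D.zP_A.2.1
    · exact Or.inr (Or.inr (Or.inr rfl))
    · exact Or.inr (Or.inr (Or.inl (A_cancel D.zP_A)))
  have hWw : ∀ g ∈ W, D.w * g ∈ W := by
    rintro g ⟨v, hvA, hv', i, j, rfl⟩
    refine ⟨D.w * v * D.w⁻¹, A_conj_mem hvA D.w_mem, ?_, 1 + i, j, by rw [zpow_one_add]; group⟩
    rcases hv' with rfl | rfl | rfl | rfl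
    · left; group
    · exact Or.inr (Or.inr (Or.inl D.w_zP))
    · right; right; right; rw [D.w_zQ, (A_comm D.zQ_A D.zP_A).eq]
    · right; left; rw [← conj_mul, D.w_zP, D.w_zQ, A_cancel D.zQ_A]
  have hWt : ∀ g ∈ W, D.t * g ∈ W := by
    rintro g ⟨v, hvA, hv', i, j, rfl⟩
    refine ⟨D.t * v * D.t⁻¹, A_conj_mem hvA htx, ?_, -i, 1 + j, ?_⟩
    · rcases hv' with rfl | rfl | rfl | rfl
      · left; group
      · exact Or.inr (Or.inl D.t_zP)
      · right; right; right; rw [D.t_zQ, (A_comm D.zQ_A D.zP_A).eq]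
      · right; right; left
        rw [← conj_mul, D.t_zP, D.t_zQ, (A_comm D.zQ_A D.zP_A).eq, A_cancel D.zP_A]
    · have h1 : D.t * D.w ^ i * D.t⁻¹ = D.w ^ (-i) := by rw [← conj_zpow, D.t_w, inv_zpow, zpow_neg]
      rw [zpow_one_add, ← h1]; group
  have hWz : ∀ g ∈ W, zP * g ∈ W := by
    rintro g ⟨v, hvA, hv', i, j, rfl⟩
    exact ⟨zP * v, mul_mem D.zP_A hvA, hVclosed zP v rfl hv', i, j, by group⟩
  let L : Subgroup G := closure ({D.w, D.t, zP} : Set G)
  have hLW : ∀ g ∈ L, g ∈ W := by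
    intro g hg
    induction hg using closure_induction_left with
    | one => exact ⟨1, one_mem _, Or.inl rfl, 0, 0, by simp⟩
    | mul_left s hs g _ ih =>
      rcases hs with rfl | rfl | rfl
      · exact hWw g ih
      · exact hWt g ih
      · exact hWz g ih
    | inv_mul_cancel s hs g _ ih =>
      rcases hs with rfl | rfl | rfl
      · rw [show D.w⁻¹ = D.w * D.w from inv_eq_of_mul_eq_one_right (by rw [← hw3, pow_succ, pow_two, mul_assoc]), mul_assoc]
        exact hWw _ (hWw g ih)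
      · rw [inv_eq_of_mul_eq_one_right D.t_sq]; exact hWt g ih
      · rw [A_inv D.zP_A]; exact hWz g ih
  have hLC : ∀ g ∈ L, g ∈ D.C → g = 1 := by
    intro g hg hgC
    obtain ⟨v, hvA, hv', i, j, rfl⟩ := hLW g hg
    have hwt : D.w ^ i * D.t ^ j ∈ O.K x := by
      have := mul_mem (inv_mem hvA.1) (hCK hgC)
      rwa [mul_assoc, inv_mul_cancel_left] at this
    have htj : D.t ^ j = 1 ∨ D.t ^ j = D.t := by
      obtain ⟨m, rfl | rfl⟩ := Int.even_or_odd' j
      · left; rw [zpow_mul, zpow_two, D.t_sq, one_zpow]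
      · right; rw [zpow_add, zpow_mul, zpow_two, D.t_sq, one_zpow, one_mul, zpow_one]
    rcases htj with e | e <;> rw [e] at hwt hgC ⊢
    · rw [mul_one] at hwt
      rw [hwpow i hwt, mul_one] at hgC ⊢
      rcases hv' with rfl | rfl | rfl | rfl
      · exact mul_one 1
      · exact absurd (by simpa using hgC) (hzC _ (Or.inl rfl))
      · exact absurd (by simpa using hgC) (hzC _ (Or.inr (Or.inl rfl)))
      · exact absurd (by simpa using hgC) (hzC _ (Or.inr (Or.inr rfl)))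
    · exfalso
      have h1 : f (⟨D.w, D.w_mem⟩ ^ i * ⟨D.t, htx⟩) = 1 := (hf _).2 (by simpa using hwt)
      rw [map_mul, map_zpow] at h1
      have h2 : f ⟨D.t, htx⟩ = 1 := by
        have hσ : f ⟨D.w, D.w_mem⟩ ^ 3 = 1 := by
          rw [← map_pow, show (⟨D.w, D.w_mem⟩ : St x) ^ 3 = 1 from Subtype.ext hw3, map_one]
        have hτ : f ⟨D.t, htx⟩ * f ⟨D.t, htx⟩ = 1 := by
          rw [← map_mul, show (⟨D.t, htx⟩ : St x) * ⟨D.t, htx⟩ = 1 from Subtype.ext D.t_sq, map_one]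
        have h3 : (f ⟨D.w, D.w_mem⟩ ^ i) ^ 3 = 1 := by
          rw [← zpow_natCast, ← zpow_mul, mul_comm, zpow_mul, zpow_natCast, hσ, one_zpow]
        rw [eq_inv_of_mul_eq_one_left h1, inv_pow, inv_eq_one, pow_succ, pow_two, hτ, one_mul] at h3
        exact h3
      exact D.t_not ((hf _).1 h2)
  have hLle : L ≤ St x := by
    rw [closure_le]
    rintro s (rfl | rfl | rfl)
    · exact D.w_mem
    · exact htx
    · exact A_le_St x D.zP_A
  let μ : L × D.C →* St x :=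
    { toFun := fun p => ⟨p.1 * p.2, mul_mem (hLle p.1.2) (O.K_le x (hCK p.2.2))⟩
      map_one' := Subtype.ext (mul_one _)
      map_mul' := fun p q => Subtype.ext (by
        show (p.1 : G) * q.1 * (p.2 * q.2) = p.1 * p.2 * (q.1 * q.2)
        rw [mul_assoc, mul_assoc (p.1 : G) p.2, ← mul_assoc (q.1 : G) p.2,
          (hcent q.1 (hLle q.1.2) p.2 p.2.2).eq, mul_assoc]) }
  have hμinj : Function.Injective μ := (injective_iff_map_eq_one μ).2 fun p hp => by
    have e : (p.1 : G) * p.2 = 1 := congrArg Subtype.val hp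
    have h1 := hLC _ p.1.2 (by rw [eq_inv_of_mul_eq_one_left e]; exact inv_mem p.2.2)
    rw [h1, one_mul] at e
    exact Prod.ext (Subtype.ext h1) (Subtype.ext e)
  let φL : L →* Equiv.Perm (Fin 4) := φ.comp (inclusion hLle)
  have hgen : ∀ g : St x, ∃ l : L, φL l = φ g := by
    intro g
    let J : Subgroup G := (φL.range.comap φ).map (St x).subtype
    have hJmem : ∀ (s : G) (hs : s ∈ St x), (∃ l : L, φL l = φ ⟨s, hs⟩) → s ∈ J := fun s hs hl =>
      ⟨⟨s, hs⟩, hl, rfl⟩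
    have hz : zP ∈ L := subset_closure (by simp)
    have hq : D.zQ ∈ L := D.w_zP ▸ mul_mem (mul_mem (subset_closure (by simp)) hz)
      (inv_mem (subset_closure (by simp)))
    have hKJ : O.K x ≤ J := by
      intro k hk
      obtain ⟨c, hc, e⟩ := D.decomp k hk
      have fin : ∀ v ∈ L, k = v * c → k ∈ J := by
        rintro v hvL rfl
        refine hJmem _ (O.K_le x hk) ⟨⟨v, hvL⟩, ?_⟩
        show φ (inclusion hLle ⟨v, hvL⟩) = _
        rw [show (⟨v * c, O.K_le x hk⟩ : St x) = inclusion hLle ⟨v, hvL⟩ * ⟨c, O.K_le x (hCK hc)⟩ from rfl,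
          map_mul, (hφker ⟨c, O.K_le x (hCK hc)⟩).2 hc, mul_one]
      rcases e with e | e | e | e
      · exact fin 1 (one_mem _) (by rw [one_mul, e])
      · exact fin _ hz e
      · exact fin _ hq e
      · exact fin _ (mul_mem hz hq) (by rw [e, mul_assoc])
    have htJ : D.t ∈ J := hJmem _ htx ⟨⟨D.t, subset_closure (by simp)⟩, rfl⟩
    have hwJ : D.w ∈ J := hJmem _ D.w_mem ⟨⟨D.w, subset_closure (by simp)⟩, rfl⟩
    have hPx := hv.isT_H h
    have hJe : J = St x := by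
      refine hv.eq_St hPx (fun p hp => ?_) (map_subtype_le _)
        (fun hle => hv.not_mem_of_orderOf hPx D.w_ord (hle hwJ))
      by_cases hpn : p ∈ O.K x
      · exact hKJ hpn
      · have h1 := mul_mem htJ (hKJ (hv.mul_mem_K hPx D.t_mem hp D.t_not hpn))
        rwa [mul_inv_cancel_left] at h1
    have hgJ : (g : G) ∈ J := by rw [hJe]; exact g.2
    obtain ⟨g', ⟨l, hl⟩, hg'⟩ := hgJ
    exact ⟨l, (Subtype.ext hg' : g' = g) ▸ hl⟩
  have hφLinj : Function.Injective φL := (injective_iff_map_eq_one φL).2 fun l hl =>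
    Subtype.ext (hLC _ l.2 ((hφker _).1 hl))
  have hφLsurj : Function.Surjective φL := fun π => by
    obtain ⟨g, rfl⟩ := hsurj π
    exact hgen g
  have hLcard : Nat.card L = 24 := by
    rw [Nat.card_eq_of_bijective φL ⟨hφLinj, hφLsurj⟩, Nat.card_perm, Nat.card_fin]; rfl
  have hμbij : Function.Bijective μ := hμinj.bijective_of_nat_card_le (by
    rw [Nat.card_prod, hLcard, hSt])
  have hCiso : Nat.card (Multiplicative (ZMod 2)) = 2 := by simp
  have := Fact.mk Nat.prime_two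
  exact ⟨(MulEquiv.ofBijective μ hμbij).symm.trans
    ((MulEquiv.ofBijective φL ⟨hφLinj, hφLsurj⟩).prodCongr (mulEquivOfPrimeCardEq hC2 hCiso))⟩

end Vec

end CfsgLib.Recog.Sims
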