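import Cfsg.Agent.Lib.Recog.SimsThree
import Cfsg.Agent.Lib.Invol.Dihedral

/-!
Primitive groups with a suborbit of length 3: a stabiliser kernel with a large centraliser.
-/

set_option autoImplicit false
set_option linter.unusedSectionVars false

namespace CfsgLib.Recog.Sims

open Subgroup CfsgLib.Recog.TW

variable {G Ω : Type*} [Group G] [MulAction G Ω] {O : Orbital G Ω}

local notation "St" => MulAction.stabilizer G

/-- The kernels on the neighbours contain their centralisers. -/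
def Tight (O : Orbital G Ω) : Prop :=
  ∀ x, ∀ g ∈ MulAction.stabilizer G x, (∀ k ∈ O.K x, Commute g k) → g ∈ O.K x

theorem centralizer_le_normalizer' {X : Subgroup G} {Y : Subgroup G} (h : Y ≤ normalizer (X : Set G)) :
    Y ≤ normalizer (centralizer (X : Set G) : Set G) := by
  intro g hg
  rw [Subgroup.mem_normalizer_iff]
  have hX := Subgroup.mem_normalizer_iff.1 (h hg)
  intro c
  simp only [SetLike.mem_coe, mem_centralizer_iff]
  constructor
  · intro hcc k hk
    have hk' : g⁻¹ * k * g ∈ X := (hX _).2 (by simpa [mul_assoc] using hk)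
    calc k * (g * c * g⁻¹) = g * (g⁻¹ * k * g * c) * g⁻¹ := by group
      _ = g * (c * (g⁻¹ * k * g)) * g⁻¹ := by rw [hcc _ hk']
      _ = g * c * g⁻¹ * k := by group
  · intro hcc k hk
    have hk' : g * k * g⁻¹ ∈ X := (hX k).1 hk
    calc k * c = g⁻¹ * (g * k * g⁻¹ * (g * c * g⁻¹)) * g := by group
      _ = g⁻¹ * (g * c * g⁻¹ * (g * k * g⁻¹)) * g := by rw [hcc _ hk']
      _ = c * k := by group

theorem perm_three_eq : ∀ σ τ : Equiv.Perm (Fin 3), σ ^ 3 = 1 → τ * τ = 1 → τ ≠ 1 →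
    τ * σ * τ * σ = 1 := by decide

theorem inf_le_normalizer {X Y Z : Subgroup G} (h1 : Z ≤ normalizer (X : Set G))
    (h2 : Z ≤ normalizer (Y : Set G)) : Z ≤ normalizer ((X ⊓ Y : Subgroup G) : Set G) := by
  intro g hg
  rw [Subgroup.mem_normalizer_iff]
  intro c
  exact and_congr (Subgroup.mem_normalizer_iff.1 (h1 hg) c) (Subgroup.mem_normalizer_iff.1 (h2 hg) c)

namespace Cubic

variable [Finite G]

theorem exists_central_three (hc : Cubic O) (h : ¬ Tight O) (x : Ω) :
    ∃ w ∈ St x, orderOf w = 3 ∧ ∀ k ∈ O.K x, Commute w k := by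
  unfold Tight at h
  push Not at h
  obtain ⟨u, g, hg, hgc, hgK⟩ := h
  obtain ⟨w, hw, hwo⟩ := hc.exists_order_three (x := u) (N := centralizer (O.K u : Set G) ⊓ St u) inf_le_right
    (inf_le_normalizer (centralizer_le_normalizer' (K_norm u)) Subgroup.le_normalizer)
    (fun hle => hgK (hle ⟨mem_centralizer_iff.2 fun k hk => (hgc k hk).eq.symm, hg⟩))
  obtain ⟨a, ha⟩ := O.vtrans u x
  subst ha
  refine ⟨a * w * a⁻¹, ?_, ?_, fun k hk => ?_⟩
  · rw [St_smul]; exact conj_mem_cj hw.2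
  · exact ((MulAut.conj a).orderOf_eq w).trans hwo
  · rw [O.K_smul, mem_cj] at hk
    have h1 := mem_centralizer_iff.1 hw.1 _ hk
    show a * w * a⁻¹ * k = k * (a * w * a⁻¹)
    calc a * w * a⁻¹ * k = a * (w * (a⁻¹ * k * a)) * a⁻¹ := by group
      _ = a * (a⁻¹ * k * a * w) * a⁻¹ := by rw [h1]
      _ = k * (a * w * a⁻¹) := by group

theorem kernels_disjoint (hc : Cubic O) (h : ¬ Tight O) {x y : Ω} (hxy : O.E x y) :
    O.K x ⊓ O.K y = ⊥ := by
  have key : ∀ u v, Adj O u v → St u ≤ normalizer ((O.K u ⊓ O.K v : Subgroup G) : Set G) := by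
    intro u v huv
    obtain ⟨w, hw, hwo, hwc⟩ := hc.exists_central_three h u
    refine hc.le_normalizer (hc.isT_H huv) (inf_le_normalizer (inf_le_left.trans (K_norm u))
      (inf_le_right.trans (K_norm v))) hw (hc.not_mem_of_orderOf (hc.isT_H huv) hwo)
      (centralizer_le_normalizer _ (mem_centralizer_iff.2 fun k hk => (hwc k hk.1).eq.symm))
  refine hc.six (Deg.ne_of_adj (Or.inl hxy)) (inf_le_left.trans (O.K_le x)) (key x y (Or.inl hxy)) ?_
  rw [inf_comm]
  exact key y x (Or.inr hxy)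

theorem card_K_le_two (hc : Cubic O) (h : ¬ Tight O) (x : Ω) : Nat.card (O.K x) ≤ 2 := by
  obtain ⟨y, hy⟩ := O.out x
  have hb := hc.kernels_disjoint h hy
  have hP := hc.isT_H (x := x) (y := y) (Or.inl hy)
  have hKy : O.K y ≤ H G x y := H_comm (G := G) y x ▸ hc.K_le (hc.isT_H (x := y) (y := x) (Or.inr hy))
  have hinj : Function.Injective (fun p : O.K x × O.K y =>
      (⟨(p.1 : G) * p.2, mul_mem (hc.K_le hP p.1.2) (hKy p.2.2)⟩ : H G x y)) := by
    rintro ⟨a, b⟩ ⟨a', b'⟩ e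
    have e' : (a : G) * b = a' * b' := congrArg Subtype.val e
    have h1 : (a' : G)⁻¹ * a = b' * (b : G)⁻¹ := by
      rw [inv_mul_eq_iff_eq_mul, ← mul_assoc, ← e', mul_inv_cancel_right]
    have h2 : (a' : G)⁻¹ * a ∈ O.K x ⊓ O.K y :=
      ⟨(O.K x).mul_mem ((O.K x).inv_mem a'.2) a.2, by rw [h1]; exact (O.K y).mul_mem b'.2 ((O.K y).inv_mem b.2)⟩
    rw [hb, mem_bot, inv_mul_eq_one] at h2
    have ha : a = a' := Subtype.ext h2.symm
    subst ha
    exact Prod.ext rfl (Subtype.ext (mul_left_cancel e'))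
  have hle := Nat.card_le_card_of_injective _ hinj
  have hKK : Nat.card (O.K y) = Nat.card (O.K x) := Orbital.card_of_smul O.K_smul O y x
  rw [Nat.card_prod, hc.card_T hP, hKK] at hle
  exact Nat.le_of_mul_le_mul_right hle Nat.card_pos

theorem card_St_six (hc : Cubic O) (x : Ω) : Nat.card (St x) = 6 * Nat.card (O.K x) := by
  obtain ⟨y, hy⟩ := O.out x
  rw [hc.card_St hy, hc.card_T (hc.isT_H (Or.inl hy))]
  ring

theorem equiv_perm_three (hc : Cubic O) (x : Ω) (h1 : Nat.card (O.K x) = 1) :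
    Nonempty (St x ≃* Equiv.Perm (Fin 3)) := by
  obtain ⟨f, hf⟩ := hc.exists_phi x
  have hinj : Function.Injective f := (injective_iff_map_eq_one f).2 fun g hg => by
    have := (hf g).1 hg
    rw [Subgroup.card_eq_one.1 h1, mem_bot] at this
    exact Subtype.ext this
  refine ⟨MulEquiv.ofBijective f (hinj.bijective_of_nat_card_le ?_)⟩
  rw [hc.card_St_six, h1, Nat.card_perm, Nat.card_fin]
  rfl

theorem equiv_dihedral (hc : Cubic O) (h : ¬ Tight O) (x : Ω) (h2 : Nat.card (O.K x) = 2) :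
    Nonempty (St x ≃* DihedralGroup 6) := by
  obtain ⟨y, hy⟩ := O.out x
  have hb := hc.kernels_disjoint h hy
  have hP := hc.isT_H (x := x) (y := y) (Or.inl hy)
  have hKy : O.K y ≤ H G x y := H_comm (G := G) y x ▸ hc.K_le (hc.isT_H (x := y) (y := x) (Or.inr hy))
  have hKK : Nat.card (O.K y) = 2 := (Orbital.card_of_smul O.K_smul O y x).trans h2
  have hex : ∀ {X : Subgroup G}, Nat.card X = 2 → ∃ k ∈ X, k ≠ 1 ∧ k * k = 1 ∧ ∀ a ∈ X, a = 1 ∨ a = k := by
    intro X hX
    obtain ⟨u, v, huv, huniv⟩ := Nat.card_eq_two_iff.1 hX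
    have hall : ∀ a : X, a = u ∨ a = v := fun a => by
      simpa using (Set.ext_iff.1 huniv a).2 (Set.mem_univ a)
    obtain ⟨k, hk1, hk⟩ : ∃ k : X, k ≠ 1 ∧ ∀ a : X, a = 1 ∨ a = k := by
      rcases hall 1 with e | e
      · exact ⟨v, fun e' => huv (e.symm.trans e'.symm), fun a => e ▸ hall a⟩
      · exact ⟨u, fun e' => huv (e'.trans e), fun a => (e ▸ hall a).symm⟩
    refine ⟨k, k.2, fun e => hk1 (Subtype.ext e), ?_, fun a ha => ?_⟩
    · rcases hk (k * k) with e | e
      · exact congrArg Subtype.val e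
      · exact absurd (mul_eq_left.1 e) hk1
    · rcases hk ⟨a, ha⟩ with e | e
      · exact Or.inl (congrArg Subtype.val e)
      · exact Or.inr (congrArg Subtype.val e)
  obtain ⟨k, hkK, hk1, hkk, hkall⟩ := hex h2
  obtain ⟨t, htK, ht1, htt, -⟩ := hex hKK
  have hkc : ∀ g ∈ St x, Commute g k := fun g hg => by
    rcases hkall _ ((Subgroup.mem_normalizer_iff.1 (K_norm x hg) k).1 hkK) with e | e
    · exact absurd (conj_eq_one_iff.1 e) hk1
    · exact show g * k = k * g from mul_inv_eq_iff_eq_mul.1 e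
  obtain ⟨w, hw, hwo, -⟩ := hc.exists_central_three h x
  have htH := hKy htK
  have htx : t ∈ St x := htH.1
  have htn : t ∉ O.K x := fun e => ht1 (by
    have : t ∈ O.K x ⊓ O.K y := ⟨e, htK⟩
    rwa [hb, mem_bot] at this)
  have hw3 : w ^ 3 = 1 := hwo ▸ pow_orderOf_eq_one w
  obtain ⟨f, hf⟩ := hc.exists_phi x
  have hrel : t * w * t * w ∈ O.K x := by
    refine (hf (⟨t, htx⟩ * ⟨w, hw⟩ * ⟨t, htx⟩ * ⟨w, hw⟩)).1 ?_
    rw [map_mul, map_mul, map_mul]
    refine perm_three_eq _ _ ?_ ?_ fun e => htn ((hf _).1 e)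
    · rw [← map_pow, show (⟨w, hw⟩ : St x) ^ 3 = 1 from Subtype.ext hw3, map_one]
    · rw [← map_mul, show (⟨t, htx⟩ : St x) * ⟨t, htx⟩ = 1 from Subtype.ext htt, map_one]
  have htinv : t⁻¹ = t := inv_eq_of_mul_eq_one_right htt
  have hkinv : k⁻¹ = k := inv_eq_of_mul_eq_one_right hkk
  have hinv : t * w * t = w⁻¹ := by
    rcases hkall _ hrel with e | e
    · exact eq_inv_of_mul_eq_one_left e
    · exfalso
      have e' : t * w * t⁻¹ = k * w⁻¹ := by rw [htinv, ← e, mul_inv_cancel_right]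
      have h3 := congrArg (· ^ 3) e'
      simp only [conj_pow, hw3, mul_one, mul_inv_cancel] at h3
      rw [Commute.mul_pow ((hkc w hw).symm.inv_right), inv_pow, hw3, inv_one, mul_one, pow_succ,
        pow_two, hkk, one_mul] at h3
      exact hk1 h3.symm
  have hko : orderOf k = 2 := orderOf_eq_prime (by rw [pow_two, hkk]) hk1
  have hto : orderOf t = 2 := orderOf_eq_prime (by rw [pow_two, htt]) ht1
  have hkw : Commute k w := (hkc w hw).symm
  have hro : orderOf (k * w) = 6 := by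
    rw [hkw.orderOf_mul_eq_mul_orderOf_of_coprime (by rw [hko, hwo]; decide), hko, hwo]
  have hsr : t * (k * w) * t⁻¹ = (k * w)⁻¹ := by
    rw [htinv, mul_inv_rev, hkinv, ← hinv, ← mul_assoc, (hkc t htx).eq,
      mul_assoc k t w, mul_assoc k (t * w) t]
    exact ((hkc (t * w * t) (mul_mem (mul_mem htx hw) htx)).eq).symm
  have hnot : t ∉ zpowers (k * w) := fun hmem => by
    obtain ⟨n, hn⟩ := mem_zpowers_iff.1 hmem
    have hcomm : Commute t (k * w) := hn ▸ (Commute.refl (k * w)).zpow_left n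
    have h1 : (k * w) = (k * w)⁻¹ := by rw [← hsr, hcomm.eq, mul_inv_cancel_right]
    have h2 : (k * w) ^ 2 = 1 := by rw [pow_two]; nth_rw 1 [h1]; exact inv_mul_cancel _
    have h3 := orderOf_dvd_of_pow_eq_one h2
    rw [hro] at h3
    exact absurd h3 (by decide)
  obtain ⟨e⟩ := CfsgLib.Invol.exists_mulEquiv_dihedral hro hto hsr hnot
  have hsub : closure ({k * w, t} : Set G) ≤ St x := by
    rw [closure_le]
    rintro z (rfl | rfl)
    · exact mul_mem (O.K_le x hkK) hw
    · exact htx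
  have heq : closure ({k * w, t} : Set G) = St x := by
    refine eq_of_le_of_card_ge hsub ?_
    rw [hc.card_St_six, h2, Nat.card_congr e.toEquiv, DihedralGroup.nat_card]
  exact ⟨(MulEquiv.subgroupCongr heq.symm).trans e⟩

end Cubic

end CfsgLib.Recog.Sims
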