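import Cfsg.Agent.Lib.Recog.SimsThreeSmall

/-!
Primitive groups with a suborbit of length 3: the transvections on the involutions in the
centre of a kernel, and critical paths.
-/

set_option autoImplicit false
set_option linter.unusedSectionVars false
set_option linter.unusedVariables false

namespace CfsgLib.Recog.Sims

open Subgroup CfsgLib.Recog.TW

variable {G Ω : Type*} [Group G] [MulAction G Ω] {O : Orbital G Ω}

local notation "St" => MulAction.stabilizer G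

variable (O) in
/-- The elements of order at most two in the centre of a kernel. -/
def A (x : Ω) : Subgroup G where
  carrier := {a | a ∈ O.K x ∧ a * a = 1 ∧ ∀ k ∈ O.K x, Commute a k}
  one_mem' := ⟨one_mem _, one_mul 1, fun k _ => Commute.one_left k⟩
  mul_mem' := by
    rintro a b ⟨ha, ha2, hac⟩ ⟨hb, hb2, hbc⟩
    refine ⟨mul_mem ha hb, ?_, fun k hk => (hac k hk).mul_left (hbc k hk)⟩
    rw [mul_assoc, ← mul_assoc b, ← (hac b hb).eq, mul_assoc a b b, hb2, mul_one, ha2]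
  inv_mem' := by
    rintro a ⟨ha, ha2, hac⟩
    rw [inv_eq_of_mul_eq_one_right ha2]
    exact ⟨ha, ha2, hac⟩

theorem mem_A {x : Ω} {a : G} :
    a ∈ A O x ↔ a ∈ O.K x ∧ a * a = 1 ∧ ∀ k ∈ O.K x, Commute a k := Iff.rfl

theorem A_le_K (x : Ω) : A O x ≤ O.K x := fun _ h => h.1

theorem A_le_St (x : Ω) : A O x ≤ St x := (A_le_K x).trans (O.K_le x)

theorem A_comm {x : Ω} {a b : G} (ha : a ∈ A O x) (hb : b ∈ A O x) : Commute a b := ha.2.2 b hb.1

theorem A_inv {x : Ω} {a : G} (ha : a ∈ A O x) : a⁻¹ = a := inv_eq_of_mul_eq_one_right ha.2.1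

theorem A_cancel {x : Ω} {a b : G} (ha : a ∈ A O x) : a * (a * b) = b := by
  rw [← mul_assoc, ha.2.1, one_mul]

theorem conj_commute {g a b : G} (h : Commute a b) : Commute (g * a * g⁻¹) (g * b * g⁻¹) :=
  h.map (MulAut.conj g).toMonoidHom

theorem A_conj {x : Ω} {a : G} (ha : a ∈ A O x) (g : G) : g * a * g⁻¹ ∈ A O (g • x) := by
  refine ⟨by rw [O.K_smul]; exact conj_mem_cj ha.1, ?_, fun k hk => ?_⟩
  · rw [show g * a * g⁻¹ * (g * a * g⁻¹) = g * (a * a) * g⁻¹ by group, ha.2.1]; group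
  · rw [O.K_smul, mem_cj] at hk
    have h := conj_commute (g := g) (ha.2.2 _ hk)
    rwa [show g * (g⁻¹ * k * g) * g⁻¹ = k by group] at h

theorem A_conj_mem {x : Ω} {a g : G} (ha : a ∈ A O x) (hg : g ∈ St x) : g * a * g⁻¹ ∈ A O x := by
  have := A_conj ha g
  rwa [MulAction.mem_stabilizer_iff.1 hg] at this

variable (O) in
/-- An element of a centre fixed by the point stabiliser. -/
def InD (x : Ω) (d : G) : Prop := d ∈ A O x ∧ ∀ g ∈ MulAction.stabilizer G x, Commute g d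

theorem InD.mul {x : Ω} {d e : G} (hd : InD O x d) (he : InD O x e) : InD O x (d * e) :=
  ⟨mul_mem hd.1 he.1, fun g hg => (hd.2 g hg).mul_right (he.2 g hg)⟩

theorem InD.one (x : Ω) : InD O x (1 : G) := ⟨one_mem _, fun g _ => Commute.one_right g⟩

theorem InD.conj {x : Ω} {d : G} (hd : InD O x d) (g : G) : InD O (g • x) (g * d * g⁻¹) := by
  refine ⟨A_conj hd.1 g, fun s hs => ?_⟩
  rw [St_smul, mem_cj] at hs
  have h := conj_commute (g := g) (hd.2 _ hs)
  rwa [show g * (g⁻¹ * s * g) * g⁻¹ = s by group] at h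

variable (O) in
/-- The value of the transvection that a type induces on a centre. -/
def IsZ (x : Ω) (P : Subgroup G) (z : G) : Prop :=
  z ≠ 1 ∧ (∀ p ∈ P, p ∉ O.K x → ∀ a ∈ A O x, p * a * p⁻¹ = a ∨ p * a * p⁻¹ = a * z) ∧
    ∀ p ∈ P, p ∉ O.K x → ∃ a ∈ A O x, p * a * p⁻¹ = a * z

theorem IsZ.conj {x : Ω} {P : Subgroup G} {z : G} (hz : IsZ O x P z) (g : G) :
    IsZ O (g • x) (cj g P) (g * z * g⁻¹) := by
  obtain ⟨h1, h2, h3⟩ := hz
  refine ⟨fun e => h1 (conj_eq_one_iff.1 e), fun p hp hpn a ha => ?_, fun p hp hpn => ?_⟩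
  · rw [mem_cj] at hp
    rw [O.K_smul, mem_cj] at hpn
    have ha' : g⁻¹ * a * g ∈ A O x := by simpa [← mul_smul] using A_conj ha g⁻¹
    rcases h2 _ hp hpn _ ha' with e | e
    · left
      calc p * a * p⁻¹ = g * ((g⁻¹ * p * g) * (g⁻¹ * a * g) * (g⁻¹ * p * g)⁻¹) * g⁻¹ := by group
        _ = a := by rw [e]; group
    · right
      calc p * a * p⁻¹ = g * ((g⁻¹ * p * g) * (g⁻¹ * a * g) * (g⁻¹ * p * g)⁻¹) * g⁻¹ := by group
        _ = a * (g * z * g⁻¹) := by rw [e]; group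
  · rw [mem_cj] at hp
    rw [O.K_smul, mem_cj] at hpn
    obtain ⟨a, ha, e⟩ := h3 _ hp hpn
    refine ⟨g * a * g⁻¹, A_conj ha g, ?_⟩
    calc p * (g * a * g⁻¹) * p⁻¹ = g * ((g⁻¹ * p * g) * a * (g⁻¹ * p * g)⁻¹) * g⁻¹ := by group
      _ = g * a * g⁻¹ * (g * z * g⁻¹) := by rw [e]; group

/-- The hypotheses of the main case. -/
structure Vec (O : Orbital G Ω) : Prop extends Cubic O where
  tight : Tight O
  tv : ∀ x P, IsT G x P → ∃ z, IsZ O x P z

/-- Walks in the undirected graph. -/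
def Path (O : Orbital G Ω) : ℕ → Ω → Ω → Prop
  | 0, x, z => x = z
  | n + 1, x, z => ∃ y, Adj O x y ∧ Path O n y z

theorem Path.smul (g : G) : ∀ {n : ℕ} {x z : Ω}, Path O n x z → Path O n (g • x) (g • z)
  | 0, _, _, h => congrArg (g • ·) h
  | _ + 1, _, _, ⟨y, hy, hp⟩ => ⟨g • y, hy.smul g, Path.smul g hp⟩

theorem Path.snoc : ∀ {n : ℕ} {x y z : Ω}, Path O n x y → Adj O y z → Path O (n + 1) x z
  | 0, x, y, z, h, hz => ⟨z, by rw [show x = y from h]; exact hz, rfl⟩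
  | _ + 1, _, _, _, ⟨u, hu, hp⟩, hz => ⟨u, hu, hp.snoc hz⟩

theorem Path.symm : ∀ {n : ℕ} {x z : Ω}, Path O n x z → Path O n z x
  | 0, _, _, h => Eq.symm h
  | _ + 1, _, _, ⟨_, hy, hp⟩ => hp.symm.snoc hy.symm

variable (O) in
/-- Centres act trivially on shorter distances. -/
def Min (b : ℕ) : Prop := ∀ m < b, ∀ u v, Path O m u v → A O u ≤ O.K v

namespace Cubic

variable [Finite G]

theorem exists_central_inv {P : Subgroup G} (hP : IsPGroup 2 P) (hne : P ≠ ⊥) :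
    ∃ z ∈ P, z ≠ 1 ∧ z * z = 1 ∧ ∀ p ∈ P, Commute z p := by
  have : Fact (Nat.Prime 2) := ⟨Nat.prime_two⟩
  have : Nontrivial P := (Subgroup.nontrivial_iff_ne_bot P).2 hne
  have hnt := hP.center_nontrivial
  obtain ⟨n, hn⟩ := (IsPGroup.iff_card (p := 2)).1 (hP.to_subgroup (center P))
  have hn0 : n ≠ 0 := by
    rintro rfl
    rw [pow_zero] at hn
    exact absurd ((Finite.one_lt_card_iff_nontrivial).2 hnt) (by omega)
  obtain ⟨⟨⟨z, hzP⟩, hzc⟩, hz⟩ := exists_prime_orderOf_dvd_card' (G := center P) 2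
    (by rw [hn]; exact dvd_pow_self 2 hn0)
  rw [Subgroup.orderOf_mk, Subgroup.orderOf_mk] at hz
  refine ⟨z, hzP, fun e => ?_, ?_, fun p hp => ?_⟩
  · rw [e, orderOf_one] at hz; exact absurd hz (by decide)
  · rw [← pow_two, ← hz, pow_orderOf_eq_one]
  · exact (congrArg Subtype.val (mem_center_iff.1 hzc ⟨p, hp⟩)).symm

theorem mem_A_of_central (hc : Cubic O) (ht : Tight O) {x : Ω} {P : Subgroup G} (hP : IsT G x P) {z : G}
    (hz : z ∈ St x) (hz2 : z * z = 1) (hzc : ∀ p ∈ P, Commute z p) : z ∈ A O x :=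
  ⟨ht x z hz fun k hk => hzc k (hc.K_le hP hk), hz2, fun k hk => hzc k (hc.K_le hP hk)⟩

theorem A_ne_bot (hc : Cubic O) (ht : Tight O) (x : Ω) : A O x ≠ ⊥ := by
  obtain ⟨y, hy⟩ := O.out x
  have hP := hc.isT_H (x := x) (y := y) (Or.inl hy)
  obtain ⟨z, hz, hz1, hz2, hzc⟩ := exists_central_inv (hc.isPGroup_of_isT hP) (fun e => hc.ne x y hy (by rw [e]; exact bot_le))
  intro e
  have := hc.mem_A_of_central ht hP (hP.1 hz) hz2 hzc
  rw [e, mem_bot] at this
  exact hz1 this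

/-- Only the kernel centralises its centre. -/
theorem mem_K_of_cent (hc : Cubic O) (ht : Tight O) {x : Ω} {g : G}
    (hg : ∀ a ∈ A O x, Commute g a) : g ∈ O.K x := by
  have hn : ∀ u, St u ≤ normalizer (A O u : Set G) := fun u s hs => by
    rw [Subgroup.mem_normalizer_iff]
    refine fun a => ⟨fun ha => A_conj_mem ha hs, fun ha => ?_⟩
    have := A_conj_mem ha (inv_mem hs)
    rwa [show s⁻¹ * (s * a * s⁻¹) * s⁻¹⁻¹ = a by group] at this
  have hgx : g ∈ St x := O.maxim x _ (hc.A_ne_bot ht x) (A_le_St x) (hn x)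
    (centralizer_le_normalizer _ (mem_centralizer_iff.2 fun a ha => (hg a ha).eq.symm))
  by_contra hgK
  obtain ⟨w, hw, hwo⟩ := hc.exists_order_three (x := x) (N := centralizer (A O x : Set G) ⊓ St x) inf_le_right
    (inf_le_normalizer (centralizer_le_normalizer' (hn x)) Subgroup.le_normalizer)
    (fun hle => hgK (hle ⟨mem_centralizer_iff.2 fun a ha => (hg a ha).eq.symm, hgx⟩))
  obtain ⟨y, hy⟩ := O.out x
  have hP := hc.isT_H (x := x) (y := y) (Or.inl hy)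
  obtain ⟨z, hz, hz1, hz2, hzc⟩ := exists_central_inv (hc.isPGroup_of_isT hP) (fun e => hc.ne x y hy (by rw [e]; exact bot_le))
  have key : ∀ u v, Adj O u v → H G u v = H G x y → St u ≤ normalizer (zpowers z : Set G) := by
    intro u v huv e
    have hPu : IsT G u (H G x y) := e ▸ hc.isT_H huv
    obtain ⟨a, ha⟩ := O.vtrans x u
    have hwu : a * w * a⁻¹ ∈ St u := by rw [← ha, St_smul]; exact conj_mem_cj hw.2
    have hwo' : orderOf (a * w * a⁻¹) = 3 := ((MulAut.conj a).orderOf_eq w).trans hwo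
    have hwc : Commute (a * w * a⁻¹) z := by
      have hzu := hc.mem_A_of_central ht hPu (hPu.1 hz) hz2 hzc
      rw [← ha] at hzu
      have hz' : a⁻¹ * z * a ∈ A O x := by simpa [← mul_smul] using A_conj hzu a⁻¹
      have h1 : Commute w (a⁻¹ * z * a) := (mem_centralizer_iff.1 hw.1 _ hz').symm
      have h2 := conj_commute (g := a) h1
      rwa [show a * (a⁻¹ * z * a) * a⁻¹ = z by group] at h2
    have hcz : ∀ s : G, Commute s z → s ∈ normalizer (zpowers z : Set G) := fun s hs =>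
      centralizer_le_normalizer _ (mem_centralizer_iff.2 fun b hb => by
        obtain ⟨j, rfl⟩ := mem_zpowers_iff.1 hb
        exact (hs.zpow_right j).eq.symm)
    exact hc.le_normalizer hPu (fun p hp => hcz p (hzc p hp).symm) hwu
      (hc.not_mem_of_orderOf hPu hwo') (hcz _ hwc)
  have hb := hc.six (Deg.ne_of_adj (Or.inl hy)) (zpowers_le.2 (hP.1 hz)) (key x y (Or.inl hy) rfl)
    (key y x (Or.inr hy) (H_comm y x))
  exact hz1 (zpowers_eq_bot.1 hb)

theorem exists_crit (hc : Cubic O) (ht : Tight O) (x₀ : Ω) :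
    ∃ b x y, 0 < b ∧ Path O b x y ∧ ¬ A O x ≤ O.K y ∧ Min O b := by
  classical
  have hex : ∃ n, ∃ x y, Path O n x y ∧ ¬ A O x ≤ O.K y := by
    by_contra hall
    push Not at hall
    let N : Ω → Subgroup G := fun x => ⨅ (z : Ω) (_ : ∃ n, Path O n x z), St z
    have hN : ∀ (x : Ω) (g : G), g ∈ N x ↔ ∀ z, (∃ n, Path O n x z) → g • z = z := fun x g => by
      simp [N, Subgroup.mem_iInf]
    have hsym : ∀ u v, Adj O u v → N u ≤ N v := fun u v huv g hg => (hN v g).2 fun z hz => by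
      obtain ⟨n, hn⟩ := hz
      exact (hN u g).1 hg z ⟨n + 1, v, huv, hn⟩
    have hfix : ∀ (u : Ω), ∀ s ∈ St u, ∀ g ∈ N u, s * g * s⁻¹ ∈ N u := fun u s hs g hg => (hN u _).2 fun z hz => by
      obtain ⟨n, hn⟩ := hz
      have hp := hn.smul s⁻¹
      rw [MulAction.mem_stabilizer_iff.1 (inv_mem hs)] at hp
      rw [mul_smul, mul_smul, (hN u g).1 hg _ ⟨n, hp⟩, smul_inv_smul]
    have hnorm : ∀ u, St u ≤ normalizer (N u : Set G) := fun u s hs => by
      rw [Subgroup.mem_normalizer_iff]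
      refine fun g => ⟨hfix u s hs g, fun hg => ?_⟩
      have := hfix u s⁻¹ (inv_mem hs) _ hg
      rwa [show s⁻¹ * (s * g * s⁻¹) * s⁻¹⁻¹ = g by group] at this
    obtain ⟨y, hy⟩ := O.out x₀
    have e : N y = N x₀ := le_antisymm (hsym y x₀ (Or.inr hy)) (hsym x₀ y (Or.inl hy))
    have hle : N x₀ ≤ St x₀ := fun g hg => (hN x₀ g).1 hg x₀ ⟨0, rfl⟩
    have hb := hc.six (Deg.ne_of_adj (Or.inl hy)) hle (hnorm x₀) (e ▸ hnorm y)
    refine hc.A_ne_bot ht x₀ (eq_bot_iff.2 (hb ▸ fun a ha => (hN x₀ a).2 fun z hz => ?_))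
    obtain ⟨n, hn⟩ := hz
    exact MulAction.mem_stabilizer_iff.1 (O.K_le z (hall n x₀ z hn ha))
  obtain ⟨x, y, hp, hA⟩ := Nat.find_spec hex
  refine ⟨Nat.find hex, x, y, Nat.pos_of_ne_zero fun h0 => ?_, hp, hA, fun m hm u v huv => ?_⟩
  · rw [h0] at hp
    exact hA ((show x = y from hp) ▸ A_le_K x)
  · by_contra hne
    exact Nat.find_min hex hm ⟨u, v, huv, hne⟩

theorem A_le_H (hc : Cubic O) {b n : ℕ} (hmin : Min O b) (hn : n < b) {x x₁ y : Ω}
    (h : Adj O x x₁) (hp : Path O n x₁ y) : A O y ≤ H G x x₁ :=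
  (hmin n hn y x₁ hp.symm).trans (H_comm (G := G) x₁ x ▸ hc.K_le (hc.isT_H h.symm))

theorem crit_symm (hc : Cubic O) (ht : Tight O) {x y : Ω} (hA : ¬ A O x ≤ O.K y) :
    ¬ A O y ≤ O.K x := fun h => hA fun a ha => hc.mem_K_of_cent ht fun c hcy =>
  ha.2.2 c (h hcy)

theorem crit_index (hc : Cubic O) {b n : ℕ} (hmin : Min O b) (hn : n < b) {x y y₁ : Ω}
    (h : Adj O y y₁) (hp : Path O n x y₁) {a a' : G} (ha : a ∈ A O x) (ha' : a' ∈ A O x)
    (na : a ∉ O.K y) (na' : a' ∉ O.K y) : a * a' ∈ O.K y := by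
  have := hc.mul_mem_K (hc.isT_H h) (hc.A_le_H hmin hn h hp.symm ha) (hc.A_le_H hmin hn h hp.symm ha') na na'
  rwa [A_inv ha] at this

theorem vec_of_crit (hc : Cubic O) (ht : Tight O) {b : ℕ} {x y : Ω} (hb : 0 < b) (hp : Path O b x y)
    (hA : ¬ A O x ≤ O.K y) (hmin : Min O b) : Vec O := by
  obtain ⟨n, rfl⟩ : ∃ n, b = n + 1 := ⟨b - 1, by omega⟩
  obtain ⟨x₁, hx1, hp1⟩ := hp
  obtain ⟨y₁, hy1, hq1⟩ := Path.symm (show Path O (n + 1) x y from ⟨x₁, hx1, hp1⟩)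
  obtain ⟨t, htA, htK⟩ := SetLike.not_le_iff_exists.1 (hc.crit_symm ht hA)
  have htP : t ∈ H G x x₁ := hc.A_le_H hmin (Nat.lt_succ_self n) hx1 hp1 htA
  have hP := hc.isT_H hx1
  obtain ⟨a₀, ha₀, hne⟩ : ∃ a ∈ A O x, t * a * t⁻¹ ≠ a := by
    by_contra h
    push Not at h
    exact htK (hc.mem_K_of_cent ht fun a ha => mul_inv_eq_iff_eq_mul.1 (h a ha))
  have hz : IsZ O x (H G x x₁) (a₀ * (t * a₀ * t⁻¹)) := by
    have hfix : ∀ a ∈ A O x, a ∈ O.K y → t * a * t⁻¹ = a := fun _ _ hay => by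
      rw [(htA.2.2 _ hay).eq, mul_inv_cancel_right]
    have hta₀ := A_conj_mem ha₀ (hP.1 htP)
    have hsame : ∀ p ∈ H G x x₁, p ∉ O.K x → ∀ a ∈ A O x, p * a * p⁻¹ = t * a * t⁻¹ := by
      intro p hp hpn a ha
      have hk := hc.mul_mem_K hP htP hp htK hpn
      calc p * a * p⁻¹ = t * (t⁻¹ * p * a * (t⁻¹ * p)⁻¹) * t⁻¹ := by group
        _ = t * a * t⁻¹ := by rw [(ha.2.2 _ hk).symm.eq, mul_inv_cancel_right]
    refine ⟨fun e => hne ?_, fun p hp hpn a ha => ?_, fun p hp hpn => ⟨a₀, ha₀, ?_⟩⟩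
    · rw [eq_inv_of_mul_eq_one_right e, A_inv ha₀]
    · rw [hsame p hp hpn a ha]
      by_cases hay : a ∈ O.K y
      · exact Or.inl (hfix a ha hay)
      · refine Or.inr ?_
        have h0y : a₀ ∉ O.K y := fun h => hne (hfix a₀ ha₀ h)
        have hprod := hfix _ (mul_mem ha₀ ha) (hc.crit_index hmin (Nat.lt_succ_self n) hy1 hq1.symm ha₀ ha h0y hay)
        calc t * a * t⁻¹ = (t * a₀ * t⁻¹) * (t * (a₀ * a) * t⁻¹) := by
              rw [conj_mul, A_cancel ha₀]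
          _ = (t * a₀ * t⁻¹) * (a₀ * a) := by rw [hprod]
          _ = a * (a₀ * (t * a₀ * t⁻¹)) := by
              rw [(A_comm hta₀ (mul_mem ha₀ ha)).eq, (A_comm ha₀ ha).eq, mul_assoc]
    · rw [hsame p hp hpn a₀ ha₀, A_cancel ha₀]
  refine ⟨hc, ht, fun u P hPu => ?_⟩
  obtain ⟨g, rfl, rfl⟩ := hc.conj_T hP hPu
  exact ⟨_, hz.conj g⟩

end Cubic

namespace Vec

variable [Finite G]

theorem unique (hv : Vec O) {x : Ω} {P : Subgroup G} {z z' : G} (hP : IsT G x P) (hz : IsZ O x P z)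
    (hz' : IsZ O x P z') : z = z' := by
  obtain ⟨p, hp, hpn⟩ := hv.exists_not_mem hP
  obtain ⟨a, ha, e⟩ := hz.2.2 p hp hpn
  rcases hz'.2.1 p hp hpn a ha with e' | e'
  · exact absurd (mul_eq_left.1 (e.symm.trans e')) hz.1
  · exact mul_left_cancel (e.symm.trans e')

theorem conj_kernel {x : Ω} {a k : G} (ha : a ∈ A O x) (hk : k ∈ O.K x) : k * a * k⁻¹ = a := by
  rw [← (ha.2.2 k hk).eq, mul_inv_cancel_right]

theorem z_mem (hv : Vec O) {x : Ω} {P : Subgroup G} {z : G} (hP : IsT G x P) (hz : IsZ O x P z) :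
    z ∈ A O x ∧ ∀ p ∈ P, p * z * p⁻¹ = z := by
  obtain ⟨p, hp, hpn⟩ := hv.exists_not_mem hP
  obtain ⟨a, ha, e⟩ := hz.2.2 p hp hpn
  have hm : p * a * p⁻¹ ∈ A O x := A_conj_mem ha (hP.1 hp)
  have hzA : z ∈ A O x := by
    have h := mul_mem ha hm
    rwa [e, A_cancel ha] at h
  refine ⟨hzA, fun q hq => ?_⟩
  by_cases hqn : q ∈ O.K x
  · exact conj_kernel hzA hqn
  · obtain ⟨c, hcA, ec⟩ := hz.2.2 q hq hqn
    have h1 : q * (q * c * q⁻¹) * q⁻¹ = q * (c * z) * q⁻¹ := congrArg (fun g => q * g * q⁻¹) ec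
    rw [show q * (q * c * q⁻¹) * q⁻¹ = q * q * c * (q * q)⁻¹ by group,
      conj_kernel hcA (hv.sq_mem_K hP hq)] at h1
    have h2 : c = c * z * (q * z * q⁻¹) := by
      calc c = q * (c * z) * q⁻¹ := h1
        _ = (q * c * q⁻¹) * (q * z * q⁻¹) := by group
        _ = c * z * (q * z * q⁻¹) := by rw [ec]
    rw [mul_assoc, left_eq_mul] at h2
    rw [eq_inv_of_mul_eq_one_right h2, A_inv hzA]

theorem not_inD (hv : Vec O) {x : Ω} {P : Subgroup G} {z : G} (hP : IsT G x P) (hz : IsZ O x P z) :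
    ¬ InD O x z := by
  intro hD
  have hall : ∀ Q, IsT G x Q → IsZ O x Q z := by
    intro Q hQ
    obtain ⟨g, hgx, hgQ⟩ := hv.conj_T hP hQ
    have := hz.conj g
    rwa [hgQ, hgx, (hD.2 g (show g ∈ St x from hgx)).eq, mul_inv_cancel_right] at this
  obtain ⟨Q, hQ, hne⟩ := hv.exists_other hP
  let J : Subgroup G :=
    { carrier := {g | g ∈ St x ∧ ∀ a ∈ A O x, g * a * g⁻¹ = a ∨ g * a * g⁻¹ = a * z}
      one_mem' := ⟨one_mem _, fun a _ => Or.inl (by group)⟩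
      mul_mem' := by
        rintro g h ⟨hg, hg'⟩ ⟨hh, hh'⟩
        refine ⟨mul_mem hg hh, fun a ha => ?_⟩
        rw [show g * h * a * (g * h)⁻¹ = g * (h * a * h⁻¹) * g⁻¹ by group]
        rcases hh' a ha with e | e <;> rw [e]
        · exact hg' a ha
        · rw [show g * (a * z) * g⁻¹ = g * a * g⁻¹ * (g * z * g⁻¹) by group,
            (hD.2 g hg).eq, mul_inv_cancel_right]
          rcases hg' a ha with e' | e' <;> rw [e']
          · exact Or.inr rfl
          · exact Or.inl (by rw [mul_assoc, hD.1.2.1, mul_one])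
      inv_mem' := by
        rintro g ⟨hg, hg'⟩
        refine ⟨inv_mem hg, fun a ha => ?_⟩
        have hb := A_conj_mem ha (inv_mem hg)
        rcases hg' _ hb with e | e
        · exact Or.inl (e.symm.trans (by group))
        · refine Or.inr ?_
          have e1 : a = g⁻¹ * a * g⁻¹⁻¹ * z := by rw [← e]; group
          calc g⁻¹ * a * g⁻¹⁻¹ = g⁻¹ * a * g⁻¹⁻¹ * z * z := by rw [mul_assoc _ z z, hD.1.2.1, mul_one]
            _ = a * z := by rw [← e1] }
  have hle : ∀ R, IsT G x R → R ≤ J := fun R hR g hg => ⟨hR.1 hg, fun a ha => by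
    by_cases hgn : g ∈ O.K x
    · exact Or.inl (conj_kernel ha hgn)
    · exact (hall R hR).2.1 g hg hgn a ha⟩
  have hJ : J = St x := hv.eq_St hP (hle P hP) (fun g hg => hg.1) fun h => hne
    (eq_of_le_of_card_ge ((hle Q hQ).trans h) (by
      have h1 := hP.2
      have h2 := hQ.2
      omega))
  obtain ⟨w, hw, hwo⟩ := hv.exists_order_three (x := x) (N := St x) le_rfl Subgroup.le_normalizer
    (fun h => by
      obtain ⟨p, hp, hpn⟩ := hv.exists_not_mem hP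
      exact hpn (h (hP.1 hp)))
  have hwJ : w ∈ J := hJ ▸ hw
  have hwK : w ∈ O.K x := hv.mem_K_of_cent hv.tight fun a ha => by
    rcases hwJ.2 a ha with e | e
    · exact mul_inv_eq_iff_eq_mul.1 e
    · exfalso
      have h3 : w ^ 3 = 1 := hwo ▸ pow_orderOf_eq_one w
      have hzw : w * z * w⁻¹ = z := by rw [(hD.2 w hw).eq, mul_inv_cancel_right]
      have h2 : w * (w * a * w⁻¹) * w⁻¹ = a := by
        rw [e, show w * (a * z) * w⁻¹ = w * a * w⁻¹ * (w * z * w⁻¹) by group, hzw, e, mul_assoc,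
          hD.1.2.1, mul_one]
      have h4 : w * (w * (w * a * w⁻¹) * w⁻¹) * w⁻¹ = a := by
        calc _ = w * w * w * a * (w * w * w)⁻¹ := by group
          _ = a := by rw [show w * w * w = w ^ 3 by rw [pow_succ, pow_two], h3]; group
      rw [h2, e] at h4
      exact hz.1 (mul_eq_left.1 h4)
  exact hv.not_mem_of_orderOf hP hwo (hv.K_le hP hwK)

theorem z_move (hv : Vec O) {x : Ω} {P Q : Subgroup G} {zP zQ : G} (hP : IsT G x P) (hQ : IsT G x Q)
    (hne : Q ≠ P) (hzP : IsZ O x P zP) (hzQ : IsZ O x Q zQ) {p : G} (hp : p ∈ P) (hpn : p ∉ O.K x) :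
    p * zQ * p⁻¹ = zQ * zP ∧ IsZ O x (cj p Q) (zQ * zP) := by
  obtain ⟨hQA, hQfix⟩ := hv.z_mem hQ hzQ
  have hR : IsZ O x (cj p Q) (p * zQ * p⁻¹) := by
    have := hzQ.conj p
    rwa [MulAction.mem_stabilizer_iff.1 (hP.1 hp)] at this
  rcases hzP.2.1 p hp hpn zQ hQA with e | e
  · exfalso
    -- a value shared by two types would be fixed by the whole stabiliser
    have hRT : IsT G x (cj p Q) := by
      have := Cubic.isT_smul hQ p
      rwa [MulAction.mem_stabilizer_iff.1 (hP.1 hp)] at this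
    let J : Subgroup G := centralizer {zQ} ⊓ St x
    have hle : ∀ R, IsT G x R → (∀ r ∈ R, r * zQ * r⁻¹ = zQ) → R ≤ J := fun R hR' h r hr =>
      ⟨mem_centralizer_iff.2 (by rintro _ rfl; exact (mul_inv_eq_iff_eq_mul.1 (h r hr)).symm), hR'.1 hr⟩
    rw [e] at hR
    have hJ : J = St x := hv.eq_St hQ (hle Q hQ hQfix) inf_le_right fun h =>
      (hv.cj_ne hP hQ hne hp hpn).1 (eq_of_le_of_card_ge ((hle _ hRT (hv.z_mem hRT hR).2).trans h) (by
        have h1 := hRT.2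
        have h2 := hQ.2
        omega))
    exact hv.not_inD hQ hzQ ⟨hQA, fun g hg => by
      have : g ∈ J := hJ ▸ hg
      exact (mem_centralizer_iff.1 this.1 zQ rfl).symm⟩
  · exact ⟨e, e ▸ hR⟩

theorem z_ne (hv : Vec O) {x : Ω} {P Q : Subgroup G} {zP zQ : G} (hP : IsT G x P) (hQ : IsT G x Q)
    (hne : Q ≠ P) (hzP : IsZ O x P zP) (hzQ : IsZ O x Q zQ) : zQ ≠ zP := fun e => by
  obtain ⟨p, hp, hpn⟩ := hv.exists_not_mem hP
  have h := (hv.z_move hP hQ hne hzP hzQ hp hpn).1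
  subst e
  rw [(hv.z_mem hP hzP).2 p hp, left_eq_mul] at h
  exact hzP.1 h

theorem move_ne (hv : Vec O) {x : Ω} {P Q : Subgroup G} {zP zQ : G} (hP : IsT G x P) (hQ : IsT G x Q)
    (hne : Q ≠ P) (hzP : IsZ O x P zP) (hzQ : IsZ O x Q zQ) {p : G} (hp : p ∈ P) (hpn : p ∉ O.K x) :
    p * zQ * p⁻¹ ≠ zQ := by
  rw [(hv.z_move hP hQ hne hzP hzQ hp hpn).1]
  exact fun e => hzP.1 (mul_eq_left.1 e)

theorem decomp (hv : Vec O) {x : Ω} {P Q : Subgroup G} {zP zQ : G} (hP : IsT G x P) (hQ : IsT G x Q)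
    (hne : Q ≠ P) (hzP : IsZ O x P zP) (hzQ : IsZ O x Q zQ) {a : G} (ha : a ∈ A O x) :
    ∃ d, InD O x d ∧ (a = d ∨ a = zP * d ∨ a = zQ * d ∨ a = zP * (zQ * d)) := by
  obtain ⟨p, hp, hpn⟩ := hv.exists_not_mem hP
  obtain ⟨q, hq, hqn⟩ := hv.exists_not_mem hQ
  obtain ⟨hPA, hPf⟩ := hv.z_mem hP hzP
  obtain ⟨hQA, hQf⟩ := hv.z_mem hQ hzQ
  have hpQ := (hv.z_move hP hQ hne hzP hzQ hp hpn).1
  have hqP := (hv.z_move hQ hP hne.symm hzQ hzP hq hqn).1
  have fin : ∀ b ∈ A O x, p * b * p⁻¹ = b → q * b * q⁻¹ = b → InD O x b := by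
    intro b hb e1 e2
    refine ⟨hb, fun g hg => ?_⟩
    let J : Subgroup G := centralizer {b} ⊓ St x
    have hgen : ∀ (R : Subgroup G) (r : G), IsT G x R → r ∈ R → r ∉ O.K x → r * b * r⁻¹ = b → R ≤ J := by
      intro R r hR hr hrn e s hs
      refine ⟨mem_centralizer_iff.2 ?_, hR.1 hs⟩
      intro b' hb'
      rw [Set.mem_singleton_iff] at hb'
      rw [hb']
      by_cases hsn : s ∈ O.K x
      · exact (hb.2.2 s hsn).eq
      · have hk := hv.mul_mem_K hR hr hs hrn hsn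
        have c1 : Commute r b := mul_inv_eq_iff_eq_mul.1 e
        have c2 : Commute (r⁻¹ * s) b := (hb.2.2 _ hk).symm
        have c3 := c1.mul_left c2
        rw [mul_inv_cancel_left] at c3
        exact c3.symm.eq
    have hJ : J = St x := hv.eq_St hP (hgen P p hP hp hpn e1) inf_le_right fun h =>
      hne (eq_of_le_of_card_ge ((hgen Q q hQ hq hqn e2).trans h) (by
        have h1 := hQ.2
        have h2 := hP.2
        omega))
    have : g ∈ J := hJ ▸ hg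
    exact (mem_centralizer_iff.1 this.1 b rfl).symm
  have conjmul : ∀ (g u v : G), g * (u * v) * g⁻¹ = g * u * g⁻¹ * (g * v * g⁻¹) := fun g u v => by group
  have step : ∀ b ∈ A O x, p * b * p⁻¹ = b →
      (InD O x b ∨ InD O x (zP * b)) := by
    intro b hb e1
    rcases hzQ.2.1 q hq hqn b hb with e2 | e2
    · exact Or.inl (fin b hb e1 e2)
    · refine Or.inr (fin _ (mul_mem hPA hb) ?_ ?_)
      · rw [conjmul, hPf p hp, e1]
      · rw [conjmul, hqP, e2, (A_comm hb hQA).eq, mul_assoc, ← mul_assoc zQ zQ, hQA.2.1, one_mul]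
  rcases hzP.2.1 p hp hpn a ha with e1 | e1
  · rcases step a ha e1 with h | h
    · exact ⟨_, h, Or.inl rfl⟩
    · exact ⟨_, h, Or.inr (Or.inl (A_cancel hPA).symm)⟩
  · have e1' : p * (zQ * a) * p⁻¹ = zQ * a := by
      rw [conjmul, hpQ, e1, (A_comm ha hPA).eq, mul_assoc, ← mul_assoc zP zP, hPA.2.1, one_mul]
    rcases step _ (mul_mem hQA ha) e1' with h | h
    · exact ⟨_, h, Or.inr (Or.inr (Or.inl (A_cancel hQA).symm))⟩
    · refine ⟨_, h, Or.inr (Or.inr (Or.inr ?_))⟩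
      rw [← mul_assoc zQ zP, ← (A_comm hPA hQA).eq, mul_assoc zP zQ, A_cancel hQA, A_cancel hPA]

theorem fix_decomp (hv : Vec O) {x : Ω} {P : Subgroup G} {zP : G} (hP : IsT G x P) (hzP : IsZ O x P zP)
    {a : G} (ha : a ∈ A O x) (hfix : ∀ p ∈ P, Commute a p) :
    ∃ d, InD O x d ∧ (a = d ∨ a = zP * d) := by
  obtain ⟨Q, hQ, hne⟩ := hv.exists_other hP
  obtain ⟨zQ, hzQ⟩ := hv.tv x Q hQ
  obtain ⟨d, hd, h⟩ := hv.decomp hP hQ hne hzP hzQ ha
  obtain ⟨p, hp, hpn⟩ := hv.exists_not_mem hP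
  have hpd : Commute p d := hd.2 p (hP.1 hp)
  have hpP : Commute p zP := mul_inv_eq_iff_eq_mul.1 ((hv.z_mem hP hzP).2 p hp)
  have hmv : ¬ Commute p zQ := fun h =>
    hv.move_ne hP hQ hne hzP hzQ hp hpn (by rw [h.eq, mul_inv_cancel_right])
  have hz : ∀ u v : G, Commute p v → Commute p (u * v) → Commute p u := fun u v h1 h2 => by
    simpa using h2.mul_right h1.inv_right
  rcases h with h | h | h | h
  · exact ⟨d, hd, Or.inl h⟩
  · exact ⟨d, hd, Or.inr h⟩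
  · exact absurd (hz _ d hpd (h ▸ (hfix p hp).symm)) hmv
  · refine absurd (hz _ d hpd ?_) hmv
    have h2 := hpP.mul_right (show Commute p (zP * (zQ * d)) from h ▸ (hfix p hp).symm)
    rwa [A_cancel (hv.z_mem hP hzP).1] at h2

theorem mem_K_of_commute_z (hv : Vec O) {x : Ω} {P Q : Subgroup G} {zP zQ : G} (hP : IsT G x P)
    (hQ : IsT G x Q) (hne : Q ≠ P) (hzP : IsZ O x P zP) (hzQ : IsZ O x Q zQ) {g : G} (hg : g ∈ St x)
    (h1 : Commute g zP) (h2 : Commute g zQ) : g ∈ O.K x :=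
  hv.mem_K_of_cent hv.tight fun a ha => by
    obtain ⟨d, hd, h | h | h | h⟩ := hv.decomp hP hQ hne hzP hzQ ha <;> rw [h]
    · exact hd.2 g hg
    · exact h1.mul_right (hd.2 g hg)
    · exact h2.mul_right (hd.2 g hg)
    · exact h1.mul_right (h2.mul_right (hd.2 g hg))

theorem D_stab (hv : Vec O) {x : Ω} {d : G} (hd : InD O x d) (hd1 : d ≠ 1) {g : G} (hg : Commute g d) :
    g ∈ St x := by
  have hc : ∀ s : G, Commute s d → s ∈ normalizer (zpowers d : Set G) := fun s hs =>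
    centralizer_le_normalizer _ (mem_centralizer_iff.2 fun b hb => by
      obtain ⟨j, rfl⟩ := mem_zpowers_iff.1 hb
      exact (hs.zpow_right j).eq.symm)
  exact O.maxim x (zpowers d) (fun e => hd1 (zpowers_eq_bot.1 e)) (zpowers_le.2 (A_le_St x hd.1))
    (fun s hs => hc s (hd.2 s hs)) (hc g hg)

theorem D_inj (hv : Vec O) {x y : Ω} {d : G} (hx : InD O x d) (hy : InD O y d) (hd1 : d ≠ 1) : x = y :=
  hv.St_inj (eq_of_le_of_card_ge (fun g hg => hv.D_stab hy hd1 (hx.2 g hg)) (hv.card_St_eq y x).le)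

theorem mem_A_of_D (hv : Vec O) {x y : Ω} (h : Adj O x y) {d : G} (hd : InD O x d) :
    d ∈ A O y ∧ ∀ p ∈ H G x y, Commute d p := by
  have hc : ∀ p ∈ H G x y, Commute d p := fun p hp => (hd.2 p hp.1).symm
  refine ⟨hv.mem_A_of_central hv.tight (hv.isT_H h.symm) ?_ hd.1.2.1
    fun p hp => hc p (H_comm (G := G) y x ▸ hp), hc⟩
  exact (hv.K_le (hv.isT_H h) (A_le_K x hd.1)).2

theorem D_eq_z_mul (hv : Vec O) {x y : Ω} (h : Adj O x y) {d : G} (hd : InD O x d) (hd1 : d ≠ 1) {z : G}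
    (hz : IsZ O y (H G x y) z) : ∃ e, InD O y e ∧ d = z * e := by
  obtain ⟨hdA, hdc⟩ := hv.mem_A_of_D h hd
  obtain ⟨e, he, h1 | h1⟩ := hv.fix_decomp (H_comm (G := G) y x ▸ hv.isT_H h.symm) hz hdA hdc
  · exact absurd (hv.D_inj hd (h1 ▸ he) hd1) (Deg.ne_of_adj h)
  · exact ⟨e, he, h1⟩

theorem D_unique (hv : Vec O) {x : Ω} {d d' : G} (hd : InD O x d) (hd' : InD O x d') (h1 : d ≠ 1)
    (h1' : d' ≠ 1) : d = d' := by
  obtain ⟨y, hy⟩ := O.out x
  have hP : IsT G y (H G x y) := H_comm (G := G) y x ▸ hv.isT_H (Or.inr hy)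
  obtain ⟨z, hz⟩ := hv.tv y _ hP
  obtain ⟨e, he, rfl⟩ := hv.D_eq_z_mul (Or.inl hy) hd h1 hz
  obtain ⟨e', he', rfl⟩ := hv.D_eq_z_mul (Or.inl hy) hd' h1' hz
  have hzA := (hv.z_mem hP hz).1
  have hee : z * e * (z * e') = e * e' := by
    rw [(A_comm hzA he.1).eq, mul_assoc, A_cancel hzA]
  by_contra hne
  refine hne ?_
  have h2 : e * e' = 1 := by
    by_contra hn
    exact Deg.ne_of_adj (Or.inl hy) (hv.D_inj (hee ▸ hd.mul hd') (he.mul he') hn)
  rw [eq_inv_of_mul_eq_one_right h2, A_inv he.1]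

end Vec

end CfsgLib.Recog.Sims
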