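import Mathlib
import Cfsg.Prelude.Def_Classical
import Cfsg.Agent.Lib.Geom.PSpInvol

/-!
The centralizer of a transvection in `Sp_4`: the group `H(v, k) D(A)` with `A` in `SL_2` and `H` a Heisenberg
group.
-/

set_option autoImplicit false

namespace CfsgLib.Recog.SpFourTrans

open Matrix

section Ring

variable {R : Type*} [CommRing R]

/-- The Heisenberg element. -/
def hMat (v : Fin 2 → R) (k : R) : Matrix (Fin 2 ⊕ Fin 2) (Fin 2 ⊕ Fin 2) R :=
  Matrix.fromBlocks !![1, -v 1; 0, 1] !![-k, v 0; v 0, 0] 0 !![1, 0; v 1, 1]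

/-- The Levi element. -/
def dMat (A : Matrix (Fin 2) (Fin 2) R) : Matrix (Fin 2 ⊕ Fin 2) (Fin 2 ⊕ Fin 2) R :=
  Matrix.fromBlocks !![1, 0; 0, A 0 0] !![0, 0; 0, A 0 1] !![0, 0; 0, A 1 0] !![1, 0; 0, A 1 1]

theorem hMat_mul (v w : Fin 2 → R) (k l : R) :
    hMat v k * hMat w l = hMat (v + w) (k + l - (v 0 * w 1 - v 1 * w 0)) := by
  ext i j
  rcases i with i | i <;> rcases j with j | j <;> fin_cases i <;> fin_cases j <;>
    simp [hMat, Matrix.fromBlocks_multiply, Matrix.mul_apply, Fin.sum_univ_two] <;> ring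

theorem dMat_mul (A B : Matrix (Fin 2) (Fin 2) R) : dMat A * dMat B = dMat (A * B) := by
  ext i j
  rcases i with i | i <;> rcases j with j | j <;> fin_cases i <;> fin_cases j <;>
    simp [dMat, Matrix.fromBlocks_multiply, Matrix.mul_apply, Fin.sum_univ_two] <;> ring

theorem dMat_mul_hMat (A : Matrix (Fin 2) (Fin 2) R) (hA : A.det = 1) (v : Fin 2 → R) (k : R) :
    dMat A * hMat v k = hMat (A *ᵥ v) k * dMat A := by
  rw [Matrix.det_fin_two] at hA
  ext i j
  rcases i with i | i <;> rcases j with j | j <;> fin_cases i <;> fin_cases j <;>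
    simp [dMat, hMat, Matrix.fromBlocks_multiply, Matrix.mul_apply, Matrix.mulVec, dotProduct,
      Fin.sum_univ_two] <;>
    first | ring1 | linear_combination (v 1) * hA | linear_combination (-(v 1)) * hA |
      linear_combination (v 0) * hA | linear_combination (-(v 0)) * hA

theorem hMat_mem (v : Fin 2 → R) (k : R) : hMat v k ∈ Matrix.symplecticGroup (Fin 2) R := by
  rw [SymplecticGroup.mem_iff]
  ext i j
  rcases i with i | i <;> rcases j with j | j <;> fin_cases i <;> fin_cases j <;>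
    simp [hMat, Matrix.J, Matrix.fromBlocks_multiply, Matrix.fromBlocks_transpose, Matrix.mul_apply,
      Fin.sum_univ_two] <;> ring

theorem dMat_mem (A : Matrix (Fin 2) (Fin 2) R) (hA : A.det = 1) :
    dMat A ∈ Matrix.symplecticGroup (Fin 2) R := by
  rw [Matrix.det_fin_two] at hA
  rw [SymplecticGroup.mem_iff]
  ext i j
  rcases i with i | i <;> rcases j with j | j <;> fin_cases i <;> fin_cases j <;>
    simp [dMat, Matrix.J, Matrix.fromBlocks_multiply, Matrix.fromBlocks_transpose, Matrix.mul_apply,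
      Fin.sum_univ_two] <;>
    first | ring1 | linear_combination hA | linear_combination -hA

/-- The element `H(v, k) D(A)`. -/
def stab (v : Fin 2 → R) (k : R) (A : Matrix (Fin 2) (Fin 2) R) (hA : A.det = 1) :
    Matrix.symplecticGroup (Fin 2) R :=
  ⟨hMat v k * dMat A, mul_mem (hMat_mem v k) (dMat_mem A hA)⟩

theorem stab_inj {v w : Fin 2 → R} {k l : R} {A B : Matrix (Fin 2) (Fin 2) R} {hA : A.det = 1}
    {hB : B.det = 1} (h : stab v k A hA = stab w l B hB) : v = w ∧ k = l ∧ A = B := by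
  have e : ∀ i j, (hMat v k * dMat A) i j = (hMat w l * dMat B) i j := fun i j =>
    congrFun (congrFun (congrArg Subtype.val h) i) j
  have h1 := e (.inl 1) (.inr 0)
  have h2 := e (.inr 1) (.inr 0)
  have h3 := e (.inl 0) (.inr 0)
  have h4 := e (.inl 1) (.inl 1)
  have h5 := e (.inl 1) (.inr 1)
  have h6 := e (.inr 1) (.inl 1)
  have h7 := e (.inr 1) (.inr 1)
  simp [dMat, hMat, Matrix.fromBlocks_multiply, Matrix.mul_apply, Fin.sum_univ_two]
    at h1 h2 h3 h4 h5 h6 h7
  refine ⟨funext fun i => ?_, h3, ?_⟩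
  · fin_cases i <;> assumption
  · ext i j
    fin_cases i <;> fin_cases j <;> assumption

end Ring

variable {F : Type*} [Field F]

/-- The transvection. -/
def trv : Matrix.symplecticGroup (Fin 2) F :=
  stab (0 : Fin 2 → F) 1 1 Matrix.det_one

theorem trv_val : ((trv : Matrix.symplecticGroup (Fin 2) F) :
    Matrix (Fin 2 ⊕ Fin 2) (Fin 2 ⊕ Fin 2) F) = hMat 0 1 := by
  show hMat 0 1 * dMat (1 : Matrix (Fin 2) (Fin 2) F) = _
  have : dMat (1 : Matrix (Fin 2) (Fin 2) F) = 1 := by
    ext i j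
    rcases i with i | i <;> rcases j with j | j <;> fin_cases i <;> fin_cases j <;> simp [dMat]
  rw [this, mul_one]

/-- An element commuting with the transvection is a sign times an element `H(v, k) D(A)`. -/
theorem exists_stab_of_commute {g : Matrix.symplecticGroup (Fin 2) F} (hg : g * trv = trv * g) :
    ∃ (v : Fin 2 → F) (k : F) (A : Matrix (Fin 2) (Fin 2) F) (hA : A.det = 1),
      g = stab v k A hA ∨ g = CfsgLib.Geom.spNeg 2 F * stab v k A hA := by
  have e : ∀ i j, ((g : Matrix (Fin 2 ⊕ Fin 2) (Fin 2 ⊕ Fin 2) F) * hMat (0 : Fin 2 → F) 1) i j =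
      (hMat (0 : Fin 2 → F) 1 * (g : Matrix (Fin 2 ⊕ Fin 2) (Fin 2 ⊕ Fin 2) F)) i j := by
    intro i j
    have := congrFun (congrFun (congrArg Subtype.val hg) i) j
    rwa [Submonoid.coe_mul, Submonoid.coe_mul, trv_val] at this
  set M : Matrix (Fin 2 ⊕ Fin 2) (Fin 2 ⊕ Fin 2) F := (g : Matrix (Fin 2 ⊕ Fin 2) (Fin 2 ⊕ Fin 2) F) with hM
  have a1 := e (.inl 1) (.inr 0)
  have a2 := e (.inr 0) (.inr 0)
  have a3 := e (.inr 1) (.inr 0)
  have a4 := e (.inl 0) (.inl 1)
  have a5 := e (.inl 0) (.inr 1)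
  have a6 := e (.inl 0) (.inr 0)
  simp [hMat, Matrix.mul_apply, Fin.sum_univ_two, Fintype.sum_sum_type] at a1 a2 a3 a4 a5 a6
  have hs : ∀ i j, (M * Matrix.J (Fin 2) F * Mᵀ) i j = Matrix.J (Fin 2) F i j := fun i j => by
    rw [SymplecticGroup.mem_iff.1 g.2]
  have a7 : M (.inr 0) (.inr 0) = M (.inl 0) (.inl 0) := by linear_combination a6
  have b1 := hs (.inl 0) (.inr 0)
  have b2 := hs (.inl 1) (.inr 1)
  have b3 := hs (.inl 0) (.inl 1)
  have b4 := hs (.inl 0) (.inr 1)
  simp [Matrix.J, Matrix.mul_apply, Fin.sum_univ_two, Fintype.sum_sum_type, a1, a2, a3, a4, a5, a7]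
    at b1 b2 b3 b4
  obtain ⟨l, hl, hl2⟩ : ∃ l : F, (l = 1 ∨ l = -1) ∧ M (.inl 0) (.inl 0) = l :=
    ⟨_, mul_self_eq_one_iff.1 b1, rfl⟩
  have hll : l * l = 1 := by rcases hl with rfl | rfl <;> ring
  rw [hl2] at b3 b4 a7
  set x := M (.inl 1) (.inr 0) with hx
  set y := M (.inr 1) (.inr 0) with hy
  set α := M (.inl 0) (.inl 1) with hα0
  set β := M (.inl 0) (.inr 1) with hβ0
  set p := M (.inl 1) (.inl 1) with hp0
  set q := M (.inl 1) (.inr 1) with hq0
  set r := M (.inr 1) (.inl 1) with hr0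
  set t := M (.inr 1) (.inr 1) with ht0
  have hdet0 : p * t - q * r = 1 := by linear_combination -b2
  have hα : α = l * (x * r - y * p) := by linear_combination r * b3 - p * b4 - α * hdet0
  have hβ : β = l * (x * t - y * q) := by linear_combination t * b3 - q * b4 - β * hdet0
  have hdet : (!![l * p, l * q; l * r, l * t] : Matrix (Fin 2) (Fin 2) F).det = 1 := by
    rw [Matrix.det_fin_two_of]
    linear_combination (l * l) * hdet0 + hll
  refine ⟨![l * x, l * y], -(l * M (.inl 0) (.inr 0)), _, hdet, ?_⟩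
  have key : M = l • (hMat ![l * x, l * y] (-(l * M (.inl 0) (.inr 0))) *
      dMat !![l * p, l * q; l * r, l * t]) := by
    ext i j
    rcases i with i | i <;> rcases j with j | j <;> fin_cases i <;> fin_cases j <;>
      simp [hMat, dMat, Matrix.fromBlocks_multiply, hl2, a1, a2, a3, a4, a5, a7, ← hx, ← hy,
        ← hα0, ← hβ0, ← hp0, ← hq0, ← hr0, ← ht0] <;>
      rcases hl with rfl | rfl <;> first | ring1 | linear_combination hα | linear_combination hβ
  rcases hl with rfl | rfl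
  · left
    apply Subtype.ext
    rw [one_smul] at key
    exact key
  · right
    apply Subtype.ext
    rw [neg_one_smul] at key
    refine key.trans ?_
    rw [Submonoid.coe_mul]
    simp [CfsgLib.Geom.spNeg, stab]

end CfsgLib.Recog.SpFourTrans
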