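import Cfsg.Agent.Lib.Recog.SpSlimBase

/-!
`Sp_{2n}` as the universal completion of the amalgam of the subgroups `SS j`, `MM i`: the group generated by the
lifts in `Sp × H` maps isomorphically, proved through the graph of non-orthogonal vectors.
-/

set_option autoImplicit false
set_option linter.unusedSectionVars false

namespace CfsgLib.SpSlim

open Matrix

universe u v

variable {F : Type u} [Field F] {H : Type v} [Group H]

/-- The first projection is injective. -/
def Rigid {n : ℕ} (A : Subgroup (G F n × H)) : Prop := ∀ x ∈ A, x.1 = 1 → x = 1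

lemma Rigid.eq {n : ℕ} {A : Subgroup (G F n × H)} (hA : Rigid A) {x y : G F n × H} (hx : x ∈ A) (hy : y ∈ A)
    (h : x.1 = y.1) : x = y :=
  inv_mul_eq_one.1 (hA _ (mul_mem (inv_mem hx) hy) (by simp [h]))

lemma Rigid.comm {n : ℕ} {A : Subgroup (G F n × H)} (hA : Rigid A) {x y : G F n × H} (hx : x ∈ A) (hy : y ∈ A)
    (h : Commute x.1 y.1) : Commute x y :=
  hA.eq (mul_mem hx hy) (mul_mem hy hx) h

/-- Lifts of the amalgam. -/
structure Sys {n : ℕ} (LS LM : Fin n → Subgroup (G F n × H)) : Prop where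
  mapS : ∀ j, (LS j).map (MonoidHom.fst _ _) = SS j
  mapM : ∀ i : Fin n, (i : ℕ) + 1 < n → (LM i).map (MonoidHom.fst _ _) = MM i
  rigS : ∀ j, Rigid (LS j)
  rSS : ∀ j l, j ≠ l → Rigid (LS j ⊔ LS l)
  rMM : ∀ i i' : Fin n, i ≠ i' → (i : ℕ) + 1 < n → (i' : ℕ) + 1 < n → Rigid (LM i ⊔ LM i')
  rMS : ∀ (i j : Fin n), (i : ℕ) + 1 < n → Rigid (LM i ⊔ LS j)

/-- The generated group. -/
def gam {n : ℕ} (LS LM : Fin n → Subgroup (G F n × H)) : Subgroup (G F n × H) :=
  (⨆ j, LS j) ⊔ ⨆ (i : Fin n) (_ : (i : ℕ) + 1 < n), LM i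

lemma LS_le_gam {n : ℕ} (LS LM : Fin n → Subgroup (G F n × H)) (j : Fin n) : LS j ≤ gam LS LM :=
  (le_iSup LS j).trans le_sup_left

lemma LM_le_gam {n : ℕ} (LS LM : Fin n → Subgroup (G F n × H)) {i : Fin n} (hi : (i : ℕ) + 1 < n) :
    LM i ≤ gam LS LM :=
  (le_iSup₂ (f := fun (i : Fin n) (_ : (i : ℕ) + 1 < n) => LM i) i hi).trans le_sup_right

lemma gam_le {n : ℕ} {LS LM : Fin n → Subgroup (G F n × H)} {A : Subgroup (G F n × H)}
    (h1 : ∀ j, LS j ≤ A) (h2 : ∀ i : Fin n, (i : ℕ) + 1 < n → LM i ≤ A) : gam LS LM ≤ A :=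
  sup_le (iSup_le h1) (iSup₂_le h2)

/-- What is to be proved. -/
def Goal {n : ℕ} (LS LM : Fin n → Subgroup (G F n × H)) : Prop :=
  Rigid (gam LS LM) ∧ ∀ g : G F n, ∃ x ∈ gam LS LM, x.1 = g

section Step

variable {m : ℕ}

lemma iota_SS {h : G F m} {j : Fin m} : iota h ∈ SS j.succ ↔ h ∈ SS j := by
  constructor
  · intro hh k hk
    have := hh k.succ fun e => hk (Fin.succ_injective _ e)
    rw [e_succ, f_succ, act_iota, act_iota] at this
    exact ⟨(mkV_inj this.1).2.2, (mkV_inj this.2).2.2⟩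
  · intro hh k hk
    rcases Fin.eq_zero_or_eq_succ k with rfl | ⟨k, rfl⟩
    · rw [e_zero, f_zero, act_iota, act_iota, act_zero]; exact ⟨rfl, rfl⟩
    · rw [e_succ, f_succ, act_iota, act_iota, (hh k fun e => hk (e ▸ rfl)).1, (hh k fun e => hk (e ▸ rfl)).2]
      exact ⟨rfl, rfl⟩

lemma iota_MM {h : G F m} {i : Fin m} : iota h ∈ MM i.succ ↔ h ∈ MM i := by
  constructor
  · intro hh
    refine ⟨fun k => ?_, fun k a b => ?_⟩
    · have := hh.1 k.succ
      rw [e_succ, act_iota] at this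
      exact (mkV_inj this).2.2
    · have := hh.2 k.succ (by simpa using a) (by simp; omega)
      rw [f_succ, act_iota] at this
      exact (mkV_inj this).2.2
  · intro hh
    refine ⟨fun k => ?_, fun k a b => ?_⟩
    · rcases Fin.eq_zero_or_eq_succ k with rfl | ⟨k, rfl⟩
      · rw [e_zero, act_iota, act_zero]
      · rw [e_succ, act_iota, hh.1]
    · rcases Fin.eq_zero_or_eq_succ k with rfl | ⟨k, rfl⟩
      · rw [f_zero, act_iota, act_zero]
      · rw [f_succ, act_iota, hh.2 k (by simpa using a) (by simp at b; omega)]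

lemma SS_succ_range {g : G F (m + 1)} {j : Fin m} (hg : g ∈ SS j.succ) : ∃ h : G F m, iota h = g :=
  exists_iota (hg 0 (Fin.succ_ne_zero j).symm).1 (hg 0 (Fin.succ_ne_zero j).symm).2

lemma MM_succ_range {g : G F (m + 1)} {i : Fin m} (hg : g ∈ MM i.succ) : ∃ h : G F m, iota h = g :=
  exists_iota (hg.1 0) (hg.2 0 (by simp) (by simp))

/-- The embedding of pairs. -/
def Xi : G F m × H →* G F (m + 1) × H := (iota (F := F) (m := m)).prodMap (MonoidHom.id H)

lemma Xi_injective : Function.Injective (Xi (F := F) (H := H) (m := m)) := fun _ _ h =>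
  Prod.ext (iota_injective (congrArg Prod.fst h)) (congrArg Prod.snd h :)

variable (LS LM : Fin (m + 1) → Subgroup (G F (m + 1) × H))

/-- The restricted lifts. -/
def LS' (j : Fin m) : Subgroup (G F m × H) := (LS j.succ).comap Xi

/-- See `LS'`. -/
def LM' (i : Fin m) : Subgroup (G F m × H) := (LM i.succ).comap Xi

variable {LS LM}

lemma sys_pull (hs : Sys LS LM) : Sys (LS' LS) (LM' LM) := by
  have up : ∀ {A B : Subgroup (G F (m + 1) × H)}, Rigid (A ⊔ B) → Rigid (A.comap Xi ⊔ B.comap Xi) := by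
    intro A B hr x hx h1
    have hle : A.comap Xi ⊔ B.comap Xi ≤ (A ⊔ B).comap (Xi (F := F) (H := H) (m := m)) :=
      sup_le (Subgroup.comap_mono le_sup_left) (Subgroup.comap_mono le_sup_right)
    exact Xi_injective ((hr _ (hle hx) (by simp [Xi, h1])).trans (map_one _).symm)
  constructor
  · intro j
    ext h
    constructor
    · rintro ⟨x, hx, rfl⟩
      refine iota_SS.1 ?_
      rw [← hs.mapS]
      exact ⟨_, hx, rfl⟩
    · intro hh
      have := iota_SS.2 hh
      rw [← hs.mapS] at this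
      obtain ⟨x, hx, e⟩ := this
      exact ⟨(h, x.2), (show (iota h, x.2) ∈ LS j.succ by rwa [← show x.1 = iota h from e]), rfl⟩
  · intro i hi
    have hi' : ((i.succ : Fin (m + 1)) : ℕ) + 1 < m + 1 := by simp; omega
    ext h
    constructor
    · rintro ⟨x, hx, rfl⟩
      refine iota_MM.1 ?_
      rw [← hs.mapM _ hi']
      exact ⟨_, hx, rfl⟩
    · intro hh
      have := iota_MM.2 hh
      rw [← hs.mapM _ hi'] at this
      obtain ⟨x, hx, e⟩ := this
      exact ⟨(h, x.2), (show (iota h, x.2) ∈ LM i.succ by rwa [← show x.1 = iota h from e]), rfl⟩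
  · intro j x hx h1
    exact Xi_injective ((hs.rigS j.succ _ hx (by simp [Xi, h1])).trans (map_one _).symm)
  · exact fun j l h => up (hs.rSS _ _ fun e => h (Fin.succ_injective _ e))
  · exact fun i i' h a b => up (hs.rMM _ _ (fun e => h (Fin.succ_injective _ e)) (by simp; omega) (by simp; omega))
  · exact fun i j a => up (hs.rMS _ _ (by simp; omega))

end Step

section Main

variable {k : ℕ} {LS LM : Fin (k + 2) → Subgroup (G F (k + 2) × H)}

/-- The data of the inductive step. -/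
structure Dat (LS LM : Fin (k + 2) → Subgroup (G F (k + 2) × H)) : Prop where
  hF : ∃ a : F, a ≠ 0 ∧ a ≠ 1
  sys : Sys LS LM
  ih : Goal (LS' LS) (LM' LM)
  gen : ∀ K : Subgroup (G F k), (∀ j, SS j ≤ K) → (∀ i : Fin k, (i : ℕ) + 1 < k → MM i ≤ K) → K = ⊤

lemma h01 : ((0 : Fin (k + 2)) : ℕ) + 1 < k + 2 := by simp

variable (D : Dat LS LM)
include D

lemma exists_lf (h : G F (k + 1)) : ∃ x ∈ (gam (LS' LS) (LM' LM)).map Xi, x.1 = iota h := by
  obtain ⟨x, hx, rfl⟩ := D.ih.2 h
  exact ⟨Xi x, ⟨x, hx, rfl⟩, rfl⟩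

/-- The lift of the subgroup fixing the first plane. -/
noncomputable def lf (h : G F (k + 1)) : G F (k + 2) × H := (exists_lf D h).choose

lemma lf_mem (h : G F (k + 1)) : lf D h ∈ (gam (LS' LS) (LM' LM)).map Xi := (exists_lf D h).choose_spec.1

lemma lf_fst (h : G F (k + 1)) : (lf D h).1 = iota h := (exists_lf D h).choose_spec.2

lemma rigid_lam : Rigid ((gam (LS' LS) (LM' LM)).map Xi) := by
  rintro _ ⟨x, hx, rfl⟩ h1
  rw [D.ih.1 x hx (iota_injective (h1.trans (map_one _).symm)), map_one]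

lemma lf_mul (g h : G F (k + 1)) : lf D (g * h) = lf D g * lf D h :=
  (rigid_lam D).eq (lf_mem D _) (mul_mem (lf_mem D _) (lf_mem D _))
    (by rw [Prod.fst_mul, lf_fst, lf_fst, lf_fst, map_mul])

lemma lf_one : lf D 1 = 1 := (rigid_lam D).eq (lf_mem D _) (one_mem _) (by rw [lf_fst, map_one]; rfl)

lemma lf_inv (g : G F (k + 1)) : lf D g⁻¹ = (lf D g)⁻¹ :=
  eq_inv_of_mul_eq_one_left (by rw [← lf_mul, inv_mul_cancel, lf_one])

lemma lf_eq_S {x : G F (k + 2) × H} {j : Fin (k + 1)} (hx : x ∈ LS j.succ) {h : G F (k + 1)}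
    (e : x.1 = iota h) : x = lf D h := by
  refine (rigid_lam D).eq ⟨(h, x.2), LS_le_gam _ _ j ?_, Prod.ext e.symm rfl⟩ (lf_mem D _) (by rw [lf_fst, e])
  show (iota h, x.2) ∈ LS j.succ
  rwa [← e]

lemma lf_eq_M {x : G F (k + 2) × H} {i : Fin (k + 1)} (hi : (i : ℕ) + 1 < k + 1) (hx : x ∈ LM i.succ)
    {h : G F (k + 1)} (e : x.1 = iota h) : x = lf D h := by
  refine (rigid_lam D).eq ⟨(h, x.2), LM_le_gam _ _ hi ?_, Prod.ext e.symm rfl⟩ (lf_mem D _) (by rw [lf_fst, e])
  show (iota h, x.2) ∈ LM i.succ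
  rwa [← e]

lemma lam_le : (gam (LS' LS) (LM' LM)).map Xi ≤ gam LS LM := by
  rw [Subgroup.map_le_iff_le_comap]
  exact gam_le (fun j => Subgroup.comap_mono (LS_le_gam _ _ _))
    fun i hi => Subgroup.comap_mono (LM_le_gam _ _ (by simp; omega))

lemma exists_sl {j : Fin (k + 2)} {g : G F (k + 2)} (hg : g ∈ SS j) : ∃ x ∈ LS j, x.1 = g := by
  rw [← D.sys.mapS] at hg; exact hg

lemma exists_ml {i : Fin (k + 2)} (hi : (i : ℕ) + 1 < k + 2) {g : G F (k + 2)} (hg : g ∈ MM i) :
    ∃ x ∈ LM i, x.1 = g := by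
  rw [← D.sys.mapM i hi] at hg; exact hg

omit D in
lemma sie0_mem_SS (z : F) : (sie (0 : V F (k + 1)) z) ∈ SS (0 : Fin (k + 2)) := by
  intro j hj
  obtain ⟨j, rfl⟩ := Fin.exists_succ_eq.2 hj
  constructor <;> simp [e_succ, f_succ]

omit D in
lemma sie_mem_MM (t z : F) : sie (t • (e 0 : V F (k + 1))) z ∈ MM (0 : Fin (k + 2)) := by
  refine ⟨fun j => ?_, fun j a b => ?_⟩
  · rcases Fin.eq_zero_or_eq_succ j with rfl | ⟨j, rfl⟩
    · exact sie_fix _ _
    · rw [e_succ, act_sie, om_smul_left, om_e]; simp [e]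
  · rcases Fin.eq_zero_or_eq_succ j with rfl | ⟨j, rfl⟩
    · simp at a
    · rw [f_succ, act_sie, om_smul_left, om_e]
      have : j ≠ 0 := fun h => b (by simp [h])
      simp [f, this.symm]

/-- Lifts of the long root elements. -/
noncomputable def Z (z : F) : G F (k + 2) × H := (exists_sl D (sie0_mem_SS z)).choose

lemma Z_mem (z : F) : Z D z ∈ LS 0 := (exists_sl D (sie0_mem_SS z)).choose_spec.1

lemma Z_fst (z : F) : (Z D z).1 = sie 0 z := (exists_sl D (sie0_mem_SS z)).choose_spec.2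

/-- Lifts of a short root group. -/
noncomputable def tau (t : F) : G F (k + 2) × H := (exists_ml D h01 (sie_mem_MM t 0)).choose

lemma tau_mem (t : F) : tau D t ∈ LM 0 := (exists_ml D h01 (sie_mem_MM t 0)).choose_spec.1

lemma tau_fst (t : F) : (tau D t).1 = sie (t • e 0) 0 := (exists_ml D h01 (sie_mem_MM t 0)).choose_spec.2

lemma rA (j : Fin (k + 2)) : Rigid (LM 0 ⊔ LS j) := D.sys.rMS 0 j h01

lemma Z_mem_M (z : F) : Z D z ∈ LM 0 := by
  obtain ⟨x, hx, e⟩ := exists_ml D h01 (sie_mem_MM 0 z)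
  rw [zero_smul] at e
  rwa [(rA D 0).eq (Subgroup.mem_sup_right (Z_mem D z)) (Subgroup.mem_sup_left hx) (by rw [Z_fst, e])]

lemma Z_zero : Z D 0 = 1 := D.sys.rigS 0 _ (Z_mem D 0) (by rw [Z_fst, sie_zero])

lemma Z_add (a b : F) : Z D a * Z D b = Z D (a + b) :=
  (D.sys.rigS 0).eq (mul_mem (Z_mem D a) (Z_mem D b)) (Z_mem D _)
    (by rw [Prod.fst_mul, Z_fst, Z_fst, Z_fst, sie_mul, om_zero_left, add_zero, add_zero])

lemma lf_comm_S {s : G F (k + 2) × H} (hs : s ∈ LS 0) (h : G F (k + 1)) : Commute (lf D h) s := by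
  have hfs : s.1 ∈ SS (0 : Fin (k + 2)) := by rw [← D.sys.mapS]; exact ⟨s, hs, rfl⟩
  have hcom : ∀ g : G F (k + 1), Commute (iota g) s.1 := fun g => act_ext fun v => by
    rw [act_mul, act_mul]
    have e1 : ∀ a b x, act s.1 (mkV a b x) = act s.1 (mkV a b 0) + mkV 0 0 x := fun a b x => by
      conv_lhs => rw [show mkV a b x = mkV a b 0 + mkV 0 0 x from vext (by simp) (by simp) (by simp),
        act_add, SS_zero_fix hfs]
    have e2 : act (iota g) (act s.1 (mkV (v (Sum.inl 0)) (v (Sum.inr 0)) (0 : V F (k + 1)))) =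
        act s.1 (mkV (v (Sum.inl 0)) (v (Sum.inr 0)) 0) := by
      rw [← mkV_eta (act s.1 (mkV (v (Sum.inl 0)) (v (Sum.inr 0)) (0 : V F (k + 1)))), SS_zero_plane hfs,
        act_iota, act_zero]
    rw [← mkV_eta v, act_iota, e1, e1 _ _ (act g _), act_add, act_iota, e2]
  obtain ⟨x, hx, e⟩ := lf_mem D h
  have key : gam (LS' LS) (LM' LM) ≤ (Subgroup.centralizer {s}).comap Xi := by
    refine gam_le (fun j y hy => ?_) fun i hi y hy => ?_
    · rw [Subgroup.mem_comap, Subgroup.mem_centralizer_singleton_iff]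
      exact ((D.sys.rSS j.succ 0 (Fin.succ_ne_zero j)).comm (Subgroup.mem_sup_left hy)
        (Subgroup.mem_sup_right hs) (hcom y.1)).eq
    · rw [Subgroup.mem_comap, Subgroup.mem_centralizer_singleton_iff]
      exact ((D.sys.rMS i.succ 0 (by simp; omega)).comm (Subgroup.mem_sup_left hy)
        (Subgroup.mem_sup_right hs) (hcom y.1)).eq
  rw [← e]
  exact Subgroup.mem_centralizer_singleton_iff.1 (key hx)

lemma stab_commute {h : G F (k + 1)} (hh : act h (e 0) = e 0) (t : F) : Commute (lf D h) (tau D t) := by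
  let C : Subgroup (G F (k + 1)) :=
    (Subgroup.centralizer {tau D t}).comap
      ({ toFun := lf D, map_one' := lf_one D, map_mul' := lf_mul D } : G F (k + 1) →* G F (k + 2) × H)
  have memC : ∀ {g : G F (k + 1)}, g ∈ C ↔ Commute (lf D g) (tau D t) := fun {g} => by
    show lf D g ∈ Subgroup.centralizer {tau D t} ↔ _
    rw [Subgroup.mem_centralizer_singleton_iff]
    rfl
  have hcom : ∀ g : G F (k + 1), act g (e 0) = e 0 → Commute (iota g) (tau D t).1 := fun g hg => by
    show iota g * (tau D t).1 = (tau D t).1 * iota g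
    rw [tau_fst, iota_sie, act_smul, hg]
  have hS : ∀ (j : Fin (k + 1)) (g : G F (k + 1)), g ∈ SS j → act g (e 0) = e 0 → g ∈ C := by
    intro j g hg hfix
    obtain ⟨x, hx, e⟩ := exists_sl D (iota_SS.2 hg)
    rw [memC, ← lf_eq_S D hx e]
    exact (rA D j.succ).comm (Subgroup.mem_sup_right hx) (Subgroup.mem_sup_left (tau_mem D t))
      (by rw [e]; exact hcom g hfix)
  have hM : ∀ (i : Fin (k + 1)) (g : G F (k + 1)), (i : ℕ) + 1 < k + 1 → g ∈ MM i → g ∈ C := by
    intro i g hi hg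
    obtain ⟨x, hx, e⟩ := exists_ml D (i := i.succ) (by simp; omega) (iota_MM.2 hg)
    rw [memC, ← lf_eq_M D hi hx e]
    exact (D.sys.rMM i.succ 0 (Fin.succ_ne_zero i) (by simp; omega) h01).comm (Subgroup.mem_sup_left hx)
      (Subgroup.mem_sup_right (tau_mem D t)) (by rw [e]; exact hcom g (hg.1 0))
  have hi : ∀ g : G F k, iota g ∈ C := by
    intro g
    have h := D.gen (C.comap iota) (fun j g hg => hS j.succ _ (iota_SS.2 hg) (by rw [e_zero, act_iota, act_zero]))
      (fun i hi g hg => hM i.succ _ (by simp; omega) (iota_MM.2 hg))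
    exact (h ▸ Subgroup.mem_top g : g ∈ C.comap iota)
  obtain ⟨u, z, g, rfl⟩ := exists_stab hh
  refine memC.1 (mul_mem ?_ (hi g))
  have h0 : ∀ z : F, sie (0 : V F k) z ∈ C := fun z => by
    refine hS 0 _ ?_ (sie_fix _ _)
    intro j hj
    obtain ⟨j, rfl⟩ := Fin.exists_succ_eq.2 hj
    constructor <;> simp [e_succ, f_succ]
  have hu : sie u 0 ∈ C := by
    by_cases hu : u = 0
    · rw [hu]; exact h0 0
    rcases k with _ | k
    · exact absurd (funext fun i => i.elim (fun j => j.elim0) (fun j => j.elim0)) hu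
    obtain ⟨g, hg⟩ := exists_move hu
    have hm : sie (e 0 : V F (k + 1)) 0 ∈ C := by
      refine hM 0 _ (by simp) ?_
      have := sie_mem_MM (k := k) (1 : F) 0
      rwa [one_smul] at this
    have := mul_mem (mul_mem (hi g) hm) (inv_mem (hi g))
    rwa [iota_sie, hg, mul_inv_cancel_right] at this
  have := mul_mem hu (h0 z)
  rwa [sie_mul, add_zero, om_zero_right, add_zero, zero_add] at this

/-- Lifts of Siegel transvections. -/
noncomputable def T (u : V F (k + 1)) : G F (k + 2) × H :=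
  open Classical in
  if hu : u = 0 then 1
  else lf D (exists_move hu).choose * tau D 1 * (lf D (exists_move hu).choose)⁻¹

lemma T_spec (h : G F (k + 1)) : T D (act h (e 0)) = lf D h * tau D 1 * (lf D h)⁻¹ := by
  have hu : act h (e 0 : V F (k + 1)) ≠ 0 := act_ne_zero h (e_ne_zero 0)
  rw [T, dif_neg hu]
  set g := (exists_move hu).choose with hg
  have hgs : act g (e 0) = act h (e 0) := (exists_move hu).choose_spec
  have h1 := stab_commute D (h := h⁻¹ * g) (by rw [act_mul, hgs, act_inv_act]) 1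
  rw [lf_mul, lf_inv] at h1
  calc lf D g * tau D 1 * (lf D g)⁻¹
      = lf D h * ((lf D h)⁻¹ * lf D g * tau D 1) * (lf D g)⁻¹ := by group
    _ = lf D h * (tau D 1 * ((lf D h)⁻¹ * lf D g)) * (lf D g)⁻¹ := by rw [h1.eq]
    _ = _ := by group

lemma T_zero : T D 0 = 1 := by rw [T, dif_pos rfl]

lemma T_fst (u : V F (k + 1)) : (T D u).1 = sie u 0 := by
  by_cases hu : u = 0
  · rw [hu, T_zero, sie_zero]; rfl
  obtain ⟨h, rfl⟩ := exists_move hu
  rw [T_spec, Prod.fst_mul, Prod.fst_mul, Prod.fst_inv, lf_fst, tau_fst, one_smul, iota_sie,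
    mul_inv_cancel_right]

lemma T_conj (h : G F (k + 1)) (u : V F (k + 1)) : lf D h * T D u * (lf D h)⁻¹ = T D (act h u) := by
  by_cases hu : u = 0
  · rw [hu, act_zero, T_zero, mul_one, mul_inv_cancel]
  obtain ⟨g, rfl⟩ := exists_move hu
  rw [T_spec, ← act_mul, T_spec, lf_mul]
  group

lemma lf_mem_S1 {h : G F (k + 1)} (hh : h ∈ SS (0 : Fin (k + 1))) : lf D h ∈ LS (0 : Fin (k + 1)).succ := by
  obtain ⟨x, hx, e⟩ := exists_sl D (iota_SS.2 hh)
  rwa [← lf_eq_S D hx e]

lemma T_plane (u : V F (k + 1)) (hu : res u = 0) : T D u ∈ LM 0 ⊔ LS (0 : Fin (k + 1)).succ := by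
  by_cases h0 : u = 0
  · rw [h0, T_zero]; exact one_mem _
  obtain ⟨M, hM⟩ : ∃ M, act (pl (m := k) M) (e 0) = u := by
    rcases eq_or_ne (u (Sum.inr 0)) 0 with hb | hb
    · have ha : u (Sum.inl 0) ≠ 0 := fun h => h0 (vext h hb hu)
      refine ⟨⟨!![u (Sum.inl 0), 0; 0, (u (Sum.inl 0))⁻¹], by simp [Matrix.det_fin_two_of, ha]⟩, ?_⟩
      rw [e_zero]
      refine (act_pl _ 1 0 0).trans ?_
      exact vext (by simp) (by simp [hb]) (by simp [hu])
    · refine ⟨colMat (u (Sum.inl 0)) _ hb, ?_⟩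
      rw [act_pl_col]
      exact vext (by simp) (by simp) (by simp [hu])
  rw [← hM, T_spec]
  exact mul_mem (mul_mem (Subgroup.mem_sup_right (lf_mem_S1 D (pl_mem M)))
    (Subgroup.mem_sup_left (tau_mem D 1))) (inv_mem (Subgroup.mem_sup_right (lf_mem_S1 D (pl_mem M))))

lemma T_line (t : F) : T D (t • e 0) = tau D t :=
  (rA D _).eq (T_plane D _ (by simp [e_zero])) (Subgroup.mem_sup_left (tau_mem D t)) (by rw [T_fst, tau_fst])

lemma T_add_plane {u w : V F (k + 1)} (hu : res u = 0) (hw : res w = 0) :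
    T D u * T D w = T D (u + w) * Z D (om u w) :=
  (rA D _).eq (mul_mem (T_plane D u hu) (T_plane D w hw))
    (mul_mem (T_plane D _ (by simp [hu, hw])) (Subgroup.mem_sup_left (Z_mem_M D _)))
    (by rw [Prod.fst_mul, Prod.fst_mul, T_fst, T_fst, T_fst, Z_fst, sie_mul, sie_mul, om_zero_right]; simp)

lemma T_add_transport (g : G F (k + 1)) {u w : V F (k + 1)} (hu : res u = 0) (hw : res w = 0) :
    T D (act g u) * T D (act g w) = T D (act g u + act g w) * Z D (om (act g u) (act g w)) := by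
  rw [← T_conj, ← T_conj, ← act_add, ← T_conj, om_act]
  have h := T_add_plane D hu hw
  calc lf D g * T D u * (lf D g)⁻¹ * (lf D g * T D w * (lf D g)⁻¹)
      = lf D g * (T D u * T D w) * (lf D g)⁻¹ := by group
    _ = lf D g * T D (u + w) * (Z D (om u w) * (lf D g)⁻¹) := by rw [h]; group
    _ = _ := by rw [← ((lf_comm_S D (Z_mem D _) g).inv_left).eq]; group

lemma T_add_ne {u w : V F (k + 1)} (h : om u w ≠ 0) : T D u * T D w = T D (u + w) * Z D (om u w) := by
  obtain ⟨g, h1, h2⟩ := exists_move_pair h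
  have := T_add_transport D g (u := e 0) (w := mkV 0 (om u w) 0) (by simp [e_zero]) (by simp)
  rwa [h1, h2] at this

lemma Z_comm_T (z : F) (u : V F (k + 1)) : Commute (T D u) (Z D z) := by
  by_cases hu : u = 0
  · rw [hu, T_zero]; exact Commute.one_left _
  obtain ⟨g, rfl⟩ := exists_move hu
  rw [T_spec]
  have h1 : Commute (tau D 1) (Z D z) := by
    refine (rA D 0).comm (Subgroup.mem_sup_left (tau_mem D 1)) (Subgroup.mem_sup_right (Z_mem D z)) ?_
    show _ * _ = _ * _
    rw [tau_fst, Z_fst, sie_mul, sie_mul, om_zero_left, om_zero_right, add_comm (1 • (e 0 : V F (k + 1)))]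
    simp
  exact ((lf_comm_S D (Z_mem D z) g).mul_left h1).mul_left (lf_comm_S D (Z_mem D z) g).inv_left

lemma T_add (u w : V F (k + 1)) : T D u * T D w = T D (u + w) * Z D (om u w) := by
  by_cases h : om u w = 0
  swap; · exact T_add_ne D h
  by_cases hu : u = 0
  · rw [hu, T_zero, one_mul, zero_add, om_zero_left, Z_zero, mul_one]
  by_cases hw : w = 0
  · rw [hw, T_zero, mul_one, add_zero, om_zero_right, Z_zero, mul_one]
  by_cases hs : u + w = 0
  · obtain ⟨g, rfl⟩ := exists_move hu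
    rw [show w = act g ((-1 : F) • e 0) by rw [act_smul]; simpa using eq_neg_of_add_eq_zero_right hs]
    exact T_add_transport D g (by simp [e_zero]) (by rw [res_smul, e_zero, res_mkV, smul_zero])
  obtain ⟨x, hxu, hxw, hxs⟩ := exists_three D.hF hu hw hs
  have e1 := T_add_ne D (u := w - x) (w := x) (by rw [om_sub_left, om_self, sub_zero]; exact hxw)
  rw [sub_add_cancel, om_sub_left, om_self, sub_zero] at e1
  have e2 := T_add_ne D (u := u) (w := w - x) (by rw [om_sub_right, h, zero_sub]; exact neg_ne_zero.2 hxu)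
  rw [om_sub_right, h, zero_sub, ← add_sub_assoc] at e2
  have e3 := T_add_ne D (u := u + w - x) (w := x) (by rw [om_sub_left, om_self, sub_zero]; exact hxs)
  rw [sub_add_cancel, om_sub_left, om_self, sub_zero] at e3
  calc T D u * T D w = T D u * T D (w - x) * T D x * (Z D (om w x))⁻¹ := by
        rw [mul_assoc (T D u), e1]; group
    _ = T D (u + w - x) * (Z D (-om u x) * T D x) * (Z D (om w x))⁻¹ := by rw [e2]; group
    _ = T D (u + w - x) * T D x * Z D (-om u x) * (Z D (om w x))⁻¹ := by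
        rw [← (Z_comm_T D _ x).eq]; group
    _ = T D (u + w) * (Z D (om (u + w) x) * Z D (-om u x)) * (Z D (om w x))⁻¹ := by rw [e3]; group
    _ = _ := by
        rw [Z_add, h, Z_zero, show om (u + w) x + -om u x = om w x by rw [om_add_left]; ring,
          mul_inv_cancel_right, mul_one]

/-- The lift of the stabiliser of the first vector. -/
noncomputable def PP : Subgroup (G F (k + 2) × H) where
  carrier := {x | ∃ u z h, x = T D u * Z D z * lf D h}
  one_mem' := ⟨0, 0, 1, by rw [T_zero, Z_zero, lf_one, one_mul, one_mul]⟩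
  mul_mem' := by
    rintro _ _ ⟨u, z, h, rfl⟩ ⟨u', z', h', rfl⟩
    refine ⟨u + act h u', z + z' + om u (act h u'), h * h', ?_⟩
    calc T D u * Z D z * lf D h * (T D u' * Z D z' * lf D h')
        = T D u * Z D z * (lf D h * T D u' * (lf D h)⁻¹) * (lf D h * Z D z') * lf D h' := by group
      _ = T D u * (Z D z * T D (act h u')) * (lf D h * Z D z') * lf D h' := by rw [T_conj]; group
      _ = (T D u * T D (act h u')) * (Z D z * Z D z') * (lf D h * lf D h') := by
          rw [← (Z_comm_T D z _).eq, (lf_comm_S D (Z_mem D z') h).eq]; group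
      _ = _ := by
          rw [T_add, Z_add, lf_mul, mul_assoc (T D _) (Z D _) (Z D _), Z_add,
            add_comm (om u (act h u')) (z + z')]
  inv_mem' := by
    rintro _ ⟨u, z, h, rfl⟩
    refine ⟨-act h⁻¹ u, -z, h⁻¹, ?_⟩
    have hT : (T D u)⁻¹ = T D (-u) := inv_eq_of_mul_eq_one_right (by
      rw [T_add, add_neg_cancel, T_zero, one_mul, show -u = (-1 : F) • u by simp, om_smul_right, om_self,
        mul_zero, Z_zero])
    have hZ : (Z D z)⁻¹ = Z D (-z) := inv_eq_of_mul_eq_one_right (by rw [Z_add, add_neg_cancel, Z_zero])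
    calc (T D u * Z D z * lf D h)⁻¹ = (lf D h)⁻¹ * (Z D z)⁻¹ * (T D u)⁻¹ := by group
      _ = lf D h⁻¹ * (T D (-u) * Z D (-z)) := by rw [hT, hZ, (Z_comm_T D _ _).eq, lf_inv]; group
      _ = (lf D h⁻¹ * T D (-u) * (lf D h⁻¹)⁻¹) * (lf D h⁻¹ * Z D (-z)) := by group
      _ = _ := by
          rw [T_conj, (lf_comm_S D (Z_mem D _) _).eq, ← mul_assoc, show -act h⁻¹ u = act h⁻¹ (-u) from
            by rw [show -u = (-1 : F) • u by simp, act_smul]; simp]

lemma PP_fix {x : G F (k + 2) × H} (hx : x ∈ PP D) : act x.1 (e 0) = e 0 := by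
  obtain ⟨u, z, h, rfl⟩ := hx
  rw [Prod.fst_mul, Prod.fst_mul, T_fst, Z_fst, lf_fst, act_mul, act_mul, e_zero, act_iota, act_zero, ← e_zero,
    sie_fix, sie_fix]

lemma Z_mem_PP (z : F) : Z D z ∈ PP D := ⟨0, z, 1, by rw [T_zero, lf_one, one_mul, mul_one]⟩

lemma T_mem_PP (u : V F (k + 1)) : T D u ∈ PP D := ⟨u, 0, 1, by rw [Z_zero, lf_one, mul_one, mul_one]⟩

lemma lf_mem_PP (h : G F (k + 1)) : lf D h ∈ PP D := ⟨0, 0, h, by rw [T_zero, Z_zero, one_mul, one_mul]⟩

lemma PP_rigid : Rigid (PP D) := by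
  rintro _ ⟨u, z, h, rfl⟩ h1
  rw [Prod.fst_mul, Prod.fst_mul, T_fst, Z_fst, lf_fst, sie_mul, om_zero_right, add_zero, add_zero,
    zero_add] at h1
  have h2 := congrArg (fun g => act g (f 0)) h1
  simp only [act_one, act_mul] at h2
  rw [f_zero, act_iota, act_zero, act_sie] at h2
  obtain ⟨ha, -, hc⟩ := mkV_inj h2
  simp only [zero_add, one_smul] at hc
  simp only [zero_add, mul_one, om_zero_right, add_zero] at ha
  rw [hc, ha, sie_zero, one_mul] at h1
  rw [hc, ha, T_zero, Z_zero, one_mul, one_mul, iota_injective (h1.trans (map_one _).symm), lf_one]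

lemma gam_PP_le : PP D ≤ gam LS LM := by
  rintro _ ⟨u, z, h, rfl⟩
  refine mul_mem (mul_mem ?_ (LS_le_gam _ _ 0 (Z_mem D z))) (lam_le D (lf_mem D h))
  by_cases hu : u = 0
  · rw [hu, T_zero]; exact one_mem _
  obtain ⟨g, rfl⟩ := exists_move hu
  rw [T_spec]
  exact mul_mem (mul_mem (lam_le D (lf_mem D g)) (LM_le_gam _ _ h01 (tau_mem D 1))) (inv_mem (lam_le D (lf_mem D g)))

end Main

end CfsgLib.SpSlim
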