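import Cfsg.Agent.Lib.Recog.SpSlimCore

/-!
The covering of the graph of non-orthogonal vectors by cosets, and the induction.
-/

set_option autoImplicit false
set_option linter.unusedSectionVars false

namespace CfsgLib.SpSlim

open Matrix

set_option synthInstance.maxHeartbeats 400000

universe u v

variable {F : Type u} [Field F] {H : Type v} [Group H]

section Cover

variable {k : ℕ} {LS LM : Fin (k + 2) → Subgroup (G F (k + 2) × H)} (D : Dat LS LM)
include D

/-- The element of the standard form taking the first vector to a given neighbour. -/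
noncomputable def ellE (y : V F (k + 2)) : G F (k + 2) × H :=
  open Classical in
  if hb : y (Sum.inr 0) = 0 then 1
  else T D ((y (Sum.inr 0))⁻¹ • res y) *
    (exists_sl D (pl_mem (colMat (y (Sum.inl 0)) (y (Sum.inr 0)) hb))).choose

lemma ellE_spec {y : V F (k + 2)} (hb : y (Sum.inr 0) ≠ 0) :
    ∃ s ∈ LS 0, ellE D y = T D ((y (Sum.inr 0))⁻¹ • res y) * s ∧
      s.1 = pl (colMat (y (Sum.inl 0)) (y (Sum.inr 0)) hb) := by
  rw [ellE, dif_neg hb]
  exact ⟨_, (exists_sl D (pl_mem (colMat (y (Sum.inl 0)) (y (Sum.inr 0)) hb))).choose_spec.1, rfl,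
    (exists_sl D (pl_mem (colMat (y (Sum.inl 0)) (y (Sum.inr 0)) hb))).choose_spec.2⟩

lemma SS_fst {s : G F (k + 2) × H} (hs : s ∈ LS 0) : s.1 ∈ SS (0 : Fin (k + 2)) := by
  rw [← D.sys.mapS]; exact ⟨s, hs, rfl⟩

lemma ellE_act {y : V F (k + 2)} (hb : y (Sum.inr 0) ≠ 0) : act (ellE D y).1 (e 0) = y := by
  obtain ⟨s, -, e1, e2⟩ := ellE_spec D hb
  rw [e1, Prod.fst_mul, act_mul, e2, act_pl_col, T_fst, act_sie]
  exact vext (by simp) (by simp) (by simp [smul_smul, hb])

/-- The cosets. -/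
abbrev Cos := (G F (k + 2) × H) ⧸ PP D

/-- The coset over a neighbour of the first vector. -/
noncomputable def ell (y : V F (k + 2)) : Cos D := ((ellE D y : G F (k + 2) × H) : Cos D)

lemma ell_eq {v : V F (k + 1)} {s : G F (k + 2) × H} (hs : s ∈ LS 0) {y : V F (k + 2)}
    (hy : act (T D v * s).1 (e 0) = y) (hb : y (Sum.inr 0) ≠ 0) :
    ((T D v * s : G F (k + 2) × H) : Cos D) = ell D y := by
  have hy' := hy
  rw [Prod.fst_mul, act_mul, T_fst, ← mkV_eta (act s.1 (e 0)), e_zero, SS_zero_plane (SS_fst D hs), act_sie,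
    zero_add, zero_mul, om_zero_right, add_zero, add_zero] at hy
  obtain ⟨s', hs', e1, e2⟩ := ellE_spec D hb
  have hb' : act s.1 (mkV 1 0 0) (Sum.inr 0) = y (Sum.inr 0) := by rw [← hy, mkV_r]
  have hr : res y = y (Sum.inr 0) • v := by rw [← hy, res_mkV, mkV_r]
  have hv : (y (Sum.inr 0))⁻¹ • res y = v := by rw [hr, smul_smul, inv_mul_cancel₀ hb, one_smul]
  rw [ell, e1, hv, QuotientGroup.eq, show (T D v * s)⁻¹ * (T D v * s') = s⁻¹ * s' by group]
  have hfix : act (s⁻¹ * s').1 (e 0) = e 0 := by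
    rw [Prod.fst_mul, Prod.fst_inv, act_mul, e2, act_pl_col]
    have : mkV (y (Sum.inl 0)) (y (Sum.inr 0)) 0 = act s.1 (e 0) := by
      rw [e_zero, ← mkV_eta (act s.1 (mkV 1 0 0)), SS_zero_plane (SS_fst D hs), ← hy, mkV_l, mkV_r]
    rw [this, act_inv_act]
  obtain ⟨z, hz⟩ := eq_sie_of_fix (SS_fst D (mul_mem (inv_mem hs) hs')) hfix
  rw [(D.sys.rigS 0).eq (mul_mem (inv_mem hs) hs') (Z_mem D z) (by rw [Z_fst]; exact hz)]
  exact Z_mem_PP D z

lemma b_act {g : G F (k + 2)} (hg : act g (e 0) = e 0) (y : V F (k + 2)) :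
    act g y (Sum.inr 0) = y (Sum.inr 0) := by
  rw [← om_e0 (act g y), ← om_e0 y]
  conv_lhs => rw [← hg, om_act]

lemma ell_equivariant {p : G F (k + 2) × H} (hp : p ∈ PP D) {y : V F (k + 2)} (hb : y (Sum.inr 0) ≠ 0) :
    p • ell D y = ell D (act p.1 y) := by
  have hfix := PP_fix D hp
  obtain ⟨s, hs, e1, -⟩ := ellE_spec D hb
  set v := (y (Sum.inr 0))⁻¹ • res y
  obtain ⟨u, z, h, rfl⟩ := hp
  have hact : act (T D u * Z D z * lf D h * (T D v * s)).1 (e 0) = act (T D u * Z D z * lf D h).1 y := by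
    rw [← e1, Prod.fst_mul (T D u * Z D z * lf D h), act_mul, ellE_act D hb]
  have hrw : T D u * Z D z * lf D h * (T D v * s) =
      T D (u + act h v) * (Z D (z + om u (act h v)) * s) * lf D h := by
    calc T D u * Z D z * lf D h * (T D v * s)
        = T D u * Z D z * (lf D h * T D v * (lf D h)⁻¹) * (lf D h * s) := by group
      _ = T D u * (Z D z * T D (act h v)) * (s * lf D h) := by rw [T_conj, (lf_comm_S D hs h).eq]; group
      _ = T D u * T D (act h v) * Z D z * (s * lf D h) := by rw [← (Z_comm_T D z _).eq]; group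
      _ = _ := by rw [T_add, mul_assoc (T D _) (Z D _) (Z D _), Z_add, add_comm z]; group
  rw [ell, MulAction.Quotient.smul_coe, smul_eq_mul, e1]
  have hc : ((T D u * Z D z * lf D h * (T D v * s) : G F (k + 2) × H) : Cos D) =
      ((T D (u + act h v) * (Z D (z + om u (act h v)) * s) : G F (k + 2) × H) : Cos D) := by
    rw [hrw]
    exact QuotientGroup.mk_mul_of_mem _ (lf_mem_PP D h)
  rw [hc]
  refine ell_eq D (mul_mem (Z_mem D _) hs) ?_ (by rw [b_act D hfix]; exact hb)
  rw [hrw, Prod.fst_mul _ (lf D h), act_mul, lf_fst] at hact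
  rwa [show act (iota h) (e 0 : V F (k + 2)) = e 0 by rw [e_zero, act_iota, act_zero]] at hact

/-- The vector under a coset. -/
noncomputable def pt (C : Cos D) : V F (k + 2) := act C.out.1 (e 0)

lemma out_mem (g : G F (k + 2) × H) : g⁻¹ * ((g : Cos D).out) ∈ PP D :=
  QuotientGroup.eq.1 (Quotient.out_eq (g : Cos D)).symm

lemma pt_mk (g : G F (k + 2) × H) : pt D (g : Cos D) = act g.1 (e 0) := by
  have h := PP_fix D (out_mem D g)
  rw [Prod.fst_mul, Prod.fst_inv, act_mul] at h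
  conv_rhs => rw [← h, act_act_inv]
  rfl

/-- The neighbouring coset over a given vector. -/
noncomputable def nb (C : Cos D) (y : V F (k + 2)) : Cos D := C.out • ell D (act C.out.1⁻¹ y)

lemma nb_mk (g : G F (k + 2) × H) {y : V F (k + 2)} (h : om (act g.1 (e 0)) y ≠ 0) :
    nb D (g : Cos D) y = g • ell D (act g.1⁻¹ y) := by
  have hp := out_mem D g
  set p := g⁻¹ * ((g : Cos D).out) with hpd
  have ho : (g : Cos D).out = g * p := by rw [hpd, mul_inv_cancel_left]
  have hb : act g.1⁻¹ y (Sum.inr 0) ≠ 0 := by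
    rw [← om_e0 (act g.1⁻¹ y), ← om_act g.1, act_act_inv]; exact h
  have hb' : act p.1⁻¹ (act g.1⁻¹ y) (Sum.inr 0) ≠ 0 := by
    rw [b_act D ((fixV (e 0)).inv_mem (PP_fix D hp))]; exact hb
  rw [nb, ho, mul_smul, Prod.fst_mul, _root_.mul_inv_rev, act_mul, ell_equivariant D hp hb', act_act_inv]

lemma pt_smul (γ : G F (k + 2) × H) (C : Cos D) : pt D (γ • C) = act γ.1 (pt D C) := by
  induction C using QuotientGroup.induction_on with
  | H g => rw [MulAction.Quotient.smul_coe, smul_eq_mul, pt_mk, pt_mk, Prod.fst_mul, act_mul]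

lemma smul_nb (γ : G F (k + 2) × H) (C : Cos D) {y : V F (k + 2)} (h : om (pt D C) y ≠ 0) :
    γ • nb D C y = nb D (γ • C) (act γ.1 y) := by
  induction C using QuotientGroup.induction_on with
  | H g =>
    rw [pt_mk] at h
    rw [MulAction.Quotient.smul_coe, smul_eq_mul, nb_mk D g h,
      nb_mk D (γ * g) (by rw [Prod.fst_mul, act_mul, om_act]; exact h), mul_smul, Prod.fst_mul,
      _root_.mul_inv_rev, act_mul, act_inv_act]

lemma nb_one {y : V F (k + 2)} (h : y (Sum.inr 0) ≠ 0) : nb D ((1 : G F (k + 2) × H) : Cos D) y = ell D y := by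
  rw [nb_mk D 1 (by rw [Prod.fst_one, act_one, om_e0]; exact h), one_smul, Prod.fst_one, inv_one, act_one]

lemma pt_nb {C : Cos D} {y : V F (k + 2)} (h : om (pt D C) y ≠ 0) : pt D (nb D C y) = y := by
  induction C using QuotientGroup.induction_on with
  | H g =>
    rw [pt_mk] at h
    rw [nb_mk D g h, pt_smul, ell, pt_mk, ellE_act D, act_act_inv]
    rw [← om_e0 (act g.1⁻¹ y), ← om_act g.1, act_act_inv]; exact h

lemma nb_symm {C : Cos D} {y : V F (k + 2)} (h : om (pt D C) y ≠ 0) : nb D (nb D C y) (pt D C) = C := by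
  induction C using QuotientGroup.induction_on with
  | H g =>
    rw [pt_mk] at h
    set y' := act g.1⁻¹ y with hy'
    have hb : y' (Sum.inr 0) ≠ 0 := by rw [← om_e0 y', ← om_act g.1, hy', act_act_inv]; exact h
    have key : nb D (ell D y') (e 0) = ((1 : G F (k + 2) × H) : Cos D) := by
      obtain ⟨s, hs, e1, e2⟩ := ellE_spec D hb
      have hpt : act (ellE D y').1 (e 0) = y' := ellE_act D hb
      have hne : om y' (e 0) ≠ 0 := by rw [om_skew, om_e0]; exact neg_ne_zero.2 hb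
      rw [ell, nb_mk D _ (by rw [hpt]; exact hne), e1]
      set v := (y' (Sum.inr 0))⁻¹ • res y'
      have hfix : act (T D v).1⁻¹ (e 0) = e 0 :=
        (fixV (e 0)).inv_mem (PP_fix D (T_mem_PP D v))
      have he : act (T D v * s).1⁻¹ (e 0) = act s.1⁻¹ (e 0) := by
        rw [Prod.fst_mul, _root_.mul_inv_rev, act_mul, hfix]
      have hbs : act s.1⁻¹ (e 0) (Sum.inr 0) ≠ 0 := by
        rw [← om_e0 (act s.1⁻¹ (e 0)), ← he, ← om_act (T D v * s).1, act_act_inv, ← e1, hpt]; exact hne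
      have h2 := ell_eq D (v := 0) (inv_mem hs) (y := act s.1⁻¹ (e 0))
        (by rw [T_zero, one_mul, Prod.fst_inv]) hbs
      rw [he, ← h2, T_zero, one_mul, MulAction.Quotient.smul_coe, smul_eq_mul, mul_inv_cancel_right]
      exact QuotientGroup.eq.2 (by rw [mul_one]; exact inv_mem (T_mem_PP D v))
    rw [nb_mk D g h, ← hy', pt_mk,
      ← smul_nb D g (ell D y') (by rw [ell, pt_mk, ellE_act D hb, om_skew, om_e0]; exact neg_ne_zero.2 hb), key,
      MulAction.Quotient.smul_coe, smul_eq_mul, mul_one]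

omit D in
lemma om_pl_fix {g : G F (k + 2)} {x : V F (k + 1)} (h : act g (mkV 0 0 x) = mkV 0 0 x)
    {u : V F (k + 1)} {z : F} {a : G F (k + 1)} (e1 : g = sie u z * iota a) :
    act a x = x ∧ om u x = 0 := by
  rw [e1, act_mul, act_iota, act_sie] at h
  obtain ⟨h1, -, h3⟩ := mkV_inj h
  simp only [zero_smul, add_zero] at h3
  exact ⟨h3, by simpa [h3] using h1⟩

/-- Elements of the rank two group `⟨LM 0, LS 0⟩` fixing the first vector lie in the stabiliser lift. -/
lemma rank_two {g : G F (k + 2) × H} (hg : g ∈ LM 0 ⊔ LS 0) (he : act g.1 (e 0) = e 0) : g ∈ PP D := by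
  have hle : (LM 0 ⊔ LS 0).map (MonoidHom.fst _ _) ≤
      (fixV (mkV 0 0 (e 0) : V F (k + 2)) ⊓ ⨅ j : Fin k,
        (fixV (mkV 0 0 (e j.succ) : V F (k + 2)) ⊓ fixV (mkV 0 0 (f j.succ)))) := by
    rw [Subgroup.map_sup, D.sys.mapM 0 h01, D.sys.mapS]
    refine sup_le (fun x hx => ?_) (fun x hx => ?_)
    · refine ⟨?_, Subgroup.mem_iInf.2 fun j => ⟨?_, ?_⟩⟩
      · show act x _ = _; rw [← e_succ]; exact hx.1 _
      · show act x _ = _; rw [← e_succ]; exact hx.1 _
      · show act x _ = _; rw [← f_succ]; exact hx.2 _ (by simp) (by simp)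
    · refine ⟨?_, Subgroup.mem_iInf.2 fun j => ⟨?_, ?_⟩⟩
      · show act x _ = _; rw [← e_succ]; exact (hx _ (Fin.succ_ne_zero _)).1
      · show act x _ = _; rw [← e_succ]; exact (hx _ (Fin.succ_ne_zero _)).1
      · show act x _ = _; rw [← f_succ]; exact (hx _ (Fin.succ_ne_zero _)).2
  obtain ⟨h0, hj'⟩ := hle ⟨g, hg, rfl⟩
  have hj := Subgroup.mem_iInf.1 hj'
  obtain ⟨u, z, a, ha⟩ := exists_stab he
  have a0 := om_pl_fix h0 ha
  have aS : a ∈ SS (0 : Fin (k + 1)) := by
    intro j hj'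
    obtain ⟨j, rfl⟩ := Fin.exists_succ_eq.2 hj'
    exact ⟨(om_pl_fix (hj j).1 ha).1, (om_pl_fix (hj j).2 ha).1⟩
  have hu : u = u (Sum.inl 0) • e 0 := by
    funext i
    rcases i with i | i <;> rcases Fin.eq_zero_or_eq_succ i with rfl | ⟨i, rfl⟩
    · simp [e]
    · have h := (om_pl_fix (hj i).2 ha).2
      rw [om_skew, om_f, neg_neg] at h
      simp [e, h]
    · have h := a0.2
      rw [om_skew, om_e, neg_eq_zero] at h
      simp [e, h]
    · have h := (om_pl_fix (hj i).1 ha).2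
      rw [om_skew, om_e, neg_eq_zero] at h
      simp [e, h]
  obtain ⟨c, rfl⟩ := eq_sie_of_fix aS a0.1
  have hm : iota (sie (0 : V F k) c) ∈ MM (0 : Fin (k + 2)) := by
    refine ⟨fun j => ?_, fun j p q => ?_⟩
    · rcases Fin.eq_zero_or_eq_succ j with rfl | ⟨j, rfl⟩
      · rw [e_zero, act_iota, act_zero]
      · rw [e_succ, act_iota]
        congr 1
        rcases Fin.eq_zero_or_eq_succ j with rfl | ⟨j, rfl⟩
        · exact sie_fix _ _
        · simp [e_succ]
    · rcases Fin.eq_zero_or_eq_succ j with rfl | ⟨j, rfl⟩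
      · simp at p
      · rcases Fin.eq_zero_or_eq_succ j with rfl | ⟨j, rfl⟩
        · simp at q
        · rw [f_succ, act_iota, f_succ, act_sie]; simp
  obtain ⟨y, hy, ey⟩ := exists_ml D h01 hm
  have hlf : lf D (sie (0 : V F k) c) ∈ LM 0 := by
    rwa [(rA D _).eq (Subgroup.mem_sup_right (lf_mem_S1 D aS)) (Subgroup.mem_sup_left hy)
      (by rw [lf_fst, ey])]
  have hp : T D u * Z D z * lf D (sie (0 : V F k) c) ∈ LM 0 ⊔ LS 0 := by
    rw [hu, T_line]
    exact Subgroup.mem_sup_left (mul_mem (mul_mem (tau_mem D _) (Z_mem_M D z)) hlf)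
  rw [(rA D 0).eq hg hp (by rw [Prod.fst_mul, Prod.fst_mul, T_fst, Z_fst, lf_fst, sie_mul, ha]; simp)]
  exact ⟨_, _, _, rfl⟩

lemma tri_base {y z : V F (k + 2)} (hy : res y = 0) (hz : res z = 0 ∨ res z = e 0)
    (hby : y (Sum.inr 0) ≠ 0) (hbz : z (Sum.inr 0) ≠ 0) (hyz : om y z ≠ 0) :
    nb D (ell D y) z = ell D z := by
  have hT : ∀ c : F, T D (c • res z) ∈ LM 0 ⊔ LS 0 := fun c => by
    rcases hz with h | h <;> rw [h]
    · rw [smul_zero, T_zero]; exact one_mem _
    · rw [T_line]; exact Subgroup.mem_sup_left (tau_mem D c)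
  obtain ⟨sy, hsy, e1, e2⟩ := ellE_spec D hby
  rw [hy, smul_zero, T_zero, one_mul] at e1
  have hpt := ellE_act D hby
  rw [ell, nb_mk D _ (by rw [hpt]; exact hyz), e1]
  rw [e1] at hpt
  set z' := act sy.1⁻¹ z with hz'
  have hr : res z' = res z := by
    have hs := (SS (0 : Fin (k + 2))).inv_mem (SS_fst D hsy)
    rw [hz', show z = mkV (z (Sum.inl 0)) (z (Sum.inr 0)) 0 + mkV 0 0 (res z) from
      vext (by simp) (by simp) (by simp), act_add, res_add, SS_zero_fix hs, SS_zero_plane hs]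
    simp
  have hb' : z' (Sum.inr 0) ≠ 0 := by
    rw [← om_e0 z', ← om_act sy.1, hpt, hz', act_act_inv]; exact hyz
  obtain ⟨sz, hsz, f1, f2⟩ := ellE_spec D hbz
  obtain ⟨s', hs', g1, g2⟩ := ellE_spec D hb'
  rw [ell, ell, MulAction.Quotient.smul_coe, smul_eq_mul, QuotientGroup.eq]
  refine rank_two D ?_ ?_
  · refine mul_mem (inv_mem (mul_mem (Subgroup.mem_sup_right hsy) ?_)) ?_
    · rw [g1, hr]; exact mul_mem (hT _) (Subgroup.mem_sup_right hs')
    · rw [f1]; exact mul_mem (hT _) (Subgroup.mem_sup_right hsz)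
  · rw [Prod.fst_mul, Prod.fst_inv, act_mul, ellE_act D hbz, Prod.fst_mul, _root_.mul_inv_rev, act_mul, ← hz']
    exact (congrArg _ (ellE_act D hb').symm).trans (act_inv_act _ _)

lemma tri_one {y z : V F (k + 2)} (hby : y (Sum.inr 0) ≠ 0) (hbz : z (Sum.inr 0) ≠ 0) (hyz : om y z ≠ 0) :
    nb D (ell D y) z = ell D z := by
  obtain ⟨p, hp, hy', hz'⟩ : ∃ p ∈ PP D, res (act p.1 y) = 0 ∧
      (res (act p.1 z) = 0 ∨ res (act p.1 z) = e 0) := by
    set p1 := T D (-((y (Sum.inr 0))⁻¹ • res y))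
    have h1 : res (act p1.1 y) = 0 := by
      rw [T_fst, ← mkV_eta y, act_sie]; simp [smul_smul, hby]
    by_cases h2 : res (act p1.1 z) = 0
    · exact ⟨p1, T_mem_PP D _, h1, Or.inl h2⟩
    obtain ⟨g, hg⟩ := exists_move h2
    refine ⟨lf D g⁻¹ * p1, mul_mem (lf_mem_PP D _) (T_mem_PP D _), ?_, Or.inr ?_⟩
    · rw [Prod.fst_mul, act_mul, lf_fst, ← mkV_eta (act p1.1 y), act_iota, res_mkV, h1, act_zero]
    · rw [Prod.fst_mul, act_mul, lf_fst, ← mkV_eta (act p1.1 z), act_iota, res_mkV]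
      conv_lhs => rw [← hg, act_inv_act]
  have hfix := PP_fix D hp
  have h := tri_base D hy' hz' (by rw [b_act D hfix]; exact hby) (by rw [b_act D hfix]; exact hbz)
    (by rw [om_act]; exact hyz)
  rw [← ell_equivariant D hp hby, ← ell_equivariant D hp hbz,
    ← smul_nb D p (ell D y) (by rw [ell, pt_mk, ellE_act D hby]; exact hyz)] at h
  exact MulAction.injective p h

lemma tri {C : Cos D} {y z : V F (k + 2)} (hy : om (pt D C) y ≠ 0) (hz : om (pt D C) z ≠ 0)
    (hyz : om y z ≠ 0) : nb D (nb D C y) z = nb D C z := by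
  induction C using QuotientGroup.induction_on with
  | H g =>
    rw [pt_mk] at hy hz
    have hby : act g.1⁻¹ y (Sum.inr 0) ≠ 0 := by rw [← om_e0 (act g.1⁻¹ y), ← om_act g.1, act_act_inv]; exact hy
    have hbz : act g.1⁻¹ z (Sum.inr 0) ≠ 0 := by rw [← om_e0 (act g.1⁻¹ z), ← om_act g.1, act_act_inv]; exact hz
    rw [nb_mk D g hy, nb_mk D g hz, ← tri_one D hby hbz (by rw [om_act]; exact hyz)]
    conv_rhs => rw [smul_nb D g _ (by rw [ell, pt_mk, ellE_act D hby, om_act]; exact hyz), act_act_inv]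

/-- The base coset. -/
noncomputable def base : Cos D := ((1 : G F (k + 2) × H) : Cos D)

lemma pt_base : pt D (base D) = e 0 := by rw [base, pt_mk, Prod.fst_one, act_one]

omit D in
/-- A chosen common neighbour. -/
noncomputable def common (w : V F (k + 2)) : V F (k + 2) :=
  open Classical in
  if hw : w = 0 then 0 else (exists_two (e_ne_zero (0 : Fin (k + 2))) hw).choose

/-- The lift of a vector. -/
noncomputable def lift (w : V F (k + 2)) : Cos D := nb D (nb D (base D) (common w)) w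

lemma indep_step {q q' w : V F (k + 2)} (hq : om (e 0) q ≠ 0) (hq' : om (e 0) q' ≠ 0) (hqw : om q w ≠ 0)
    (hqw' : om q' w ≠ 0) (hqq : om q q' ≠ 0) :
    nb D (nb D (base D) q') w = nb D (nb D (base D) q) w := by
  have hpt : pt D (nb D (base D) q) = q := pt_nb D (by rw [pt_base]; exact hq)
  rw [← tri D (C := base D) (y := q) (z := q') (by rw [pt_base]; exact hq) (by rw [pt_base]; exact hq') hqq]
  exact tri D (by rw [hpt]; exact hqq) (by rw [hpt]; exact hqw) hqw'

lemma indep {q q' w : V F (k + 2)} (hq : om (e 0) q ≠ 0) (hq' : om (e 0) q' ≠ 0) (hqw : om q w ≠ 0)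
    (hqw' : om q' w ≠ 0) : nb D (nb D (base D) q') w = nb D (nb D (base D) q) w := by
  by_cases hqq : om q q' = 0
  swap; · exact indep_step D hq hq' hqw hqw' hqq
  by_cases hew : om (e 0) w = 0
  swap
  · have hpt : ∀ r, om (e 0) r ≠ 0 → om r w ≠ 0 → nb D (nb D (base D) r) w = nb D (base D) w :=
      fun r h1 h2 => tri D (by rw [pt_base]; exact h1) (by rw [pt_base]; exact hew) h2
    rw [hpt q hq hqw, hpt q' hq' hqw']
  obtain ⟨x, h1, h2, h3, h4⟩ : ∃ x, om (e 0) x ≠ 0 ∧ om x w ≠ 0 ∧ om q x ≠ 0 ∧ om q' x ≠ 0 := by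
    refine ⟨q + e 0, ?_, ?_, ?_, ?_⟩
    · rw [om_add_right, om_self, add_zero]; exact hq
    · rw [om_add_left, hew, add_zero]; exact hqw
    · rw [om_add_right, om_self, zero_add, om_skew]; exact neg_ne_zero.2 hq
    · rw [om_add_right, show om q' q = 0 by rw [om_skew, hqq, neg_zero], zero_add, om_skew]
      exact neg_ne_zero.2 hq'
  rw [indep_step D h1 hq' h2 hqw' (by rw [om_skew]; exact neg_ne_zero.2 h4),
    ← indep_step D h1 hq h2 hqw (by rw [om_skew]; exact neg_ne_zero.2 h3)]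

lemma lift_eq {q w : V F (k + 2)} (hq : om (e 0) q ≠ 0) (hqw : om q w ≠ 0) :
    lift D w = nb D (nb D (base D) q) w := by
  have hw : w ≠ 0 := fun h => hqw (by rw [h, om_zero_right])
  obtain ⟨h1, h2⟩ := (exists_two (e_ne_zero (0 : Fin (k + 2))) hw).choose_spec
  rw [lift, common, dif_neg hw]
  exact indep D hq h1 hqw (by rw [om_skew]; exact neg_ne_zero.2 h2)

lemma common_spec {w : V F (k + 2)} (hw : w ≠ 0) : ∃ q, om (e 0) q ≠ 0 ∧ om q w ≠ 0 := by
  obtain ⟨q, h1, h2⟩ := exists_two (e_ne_zero (0 : Fin (k + 2))) hw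
  exact ⟨q, h1, by rw [om_skew]; exact neg_ne_zero.2 h2⟩

lemma lift_base : lift D (e 0) = base D := by
  obtain ⟨q, h1, h2⟩ := common_spec D (e_ne_zero (0 : Fin (k + 2)))
  rw [lift_eq D h1 h2]
  have := nb_symm D (C := base D) (y := q) (by rw [pt_base]; exact h1)
  rwa [pt_base] at this

lemma lift_adj {w : V F (k + 2)} (hw : w (Sum.inr 0) ≠ 0) : lift D w = ell D w := by
  have hw0 : w ≠ 0 := fun h => hw (by rw [h]; rfl)
  obtain ⟨q, h1, h2⟩ := common_spec D hw0
  rw [lift_eq D h1 h2, tri D (by rw [pt_base]; exact h1) (by rw [pt_base, om_e0]; exact hw) h2, base, nb_one D hw]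

lemma pt_lift {w : V F (k + 2)} (hw : w ≠ 0) : pt D (lift D w) = w := by
  obtain ⟨q, h1, h2⟩ := common_spec D hw
  rw [lift_eq D h1 h2]
  exact pt_nb D (by rw [pt_nb D (by rw [pt_base]; exact h1)]; exact h2)

lemma lift_edge {v w : V F (k + 2)} (h : om v w ≠ 0) : lift D w = nb D (lift D v) w := by
  have hv : v ≠ 0 := fun e => h (by rw [e, om_zero_left])
  have hw : w ≠ 0 := fun e => h (by rw [e, om_zero_right])
  obtain ⟨x, h1, h2, h3⟩ := exists_three D.hF (e_ne_zero (0 : Fin (k + 2))) hv hw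
  have hx : pt D (nb D (base D) x) = x := pt_nb D (by rw [pt_base]; exact h1)
  have h2' : om x v ≠ 0 := by rw [om_skew]; exact neg_ne_zero.2 h2
  have h3' : om x w ≠ 0 := by rw [om_skew]; exact neg_ne_zero.2 h3
  rw [lift_eq D h1 h2', lift_eq D h1 h3']
  exact (tri D (by rw [hx]; exact h2') (by rw [hx]; exact h3') h).symm

/-- Being equivariant at the base point. -/
lemma equi_of_base {γ : G F (k + 2) × H} (hγ : γ • base D = lift D (act γ.1 (e 0))) {v : V F (k + 2)}
    (hv : v ≠ 0) : γ • lift D v = lift D (act γ.1 v) := by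
  obtain ⟨q, h1, h2⟩ := common_spec D hv
  have a1 : γ • nb D (base D) q = lift D (act γ.1 q) := by
    rw [smul_nb D γ _ (by rw [pt_base]; exact h1), hγ]
    exact (lift_edge D (by rw [om_act]; exact h1)).symm
  rw [lift_eq D h1 h2, smul_nb D γ _ (by rw [pt_nb D (by rw [pt_base]; exact h1)]; exact h2), a1]
  exact (lift_edge D (by rw [om_act]; exact h2)).symm

lemma base_PP {p : G F (k + 2) × H} (hp : p ∈ PP D) : p • base D = lift D (act p.1 (e 0)) := by
  rw [PP_fix D hp, lift_base, base, MulAction.Quotient.smul_coe, smul_eq_mul, mul_one]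
  exact QuotientGroup.eq.2 (by rw [mul_one]; exact inv_mem hp)

lemma base_S0 {s : G F (k + 2) × H} (hs : s ∈ LS 0) : s • base D = lift D (act s.1 (e 0)) := by
  rw [base, MulAction.Quotient.smul_coe, smul_eq_mul, mul_one]
  have key : ∀ t ∈ LS 0, act t.1 (e 0) (Sum.inr 0) ≠ 0 →
      ((t : G F (k + 2) × H) : Cos D) = ell D (act t.1 (e 0)) := fun t ht hb => by
    have := ell_eq D (v := 0) ht (y := act t.1 (e 0)) (by rw [T_zero, one_mul]) hb
    rwa [T_zero, one_mul] at this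
  by_cases hb : act s.1 (e 0) (Sum.inr 0) = 0
  swap; · rw [lift_adj D hb]; exact key s hs hb
  obtain ⟨w, hw, ew⟩ := exists_sl D (pl_mem (m := k + 1) (colMat (0 : F) 1 one_ne_zero))
  have hwe : act w.1 (e 0) = f 0 := by rw [ew, act_pl_col, f_zero]
  set y := act s.1 (e 0) with hy
  have hy0 : y ≠ 0 := act_ne_zero _ (e_ne_zero 0)
  have hplane : res y = 0 := by rw [hy, e_zero]; exact SS_zero_plane (SS_fst D hs) 1 0
  have hyl : y (Sum.inl 0) ≠ 0 := fun h => hy0 (vext h hb hplane)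
  have hfy : om (f 0) y ≠ 0 := by rw [om_f]; exact neg_ne_zero.2 hyl
  have hf : lift D (f 0) = (w : Cos D) := by
    rw [lift_adj D (by simp [f]), key w hw (by rw [hwe]; simp [f]), hwe]
  rw [lift_edge D hfy, hf, nb_mk D w (by rw [hwe]; exact hfy)]
  have hb2 : act w.1⁻¹ y (Sum.inr 0) ≠ 0 := by rw [← om_e0 (act w.1⁻¹ y), ← om_act w.1, act_act_inv, hwe]; exact hfy
  have h2 := key (w⁻¹ * s) (mul_mem (inv_mem hw) hs) (by rw [Prod.fst_mul, Prod.fst_inv, act_mul]; exact hb2)
  rw [Prod.fst_mul, Prod.fst_inv, act_mul] at h2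
  rw [← h2, MulAction.Quotient.smul_coe, smul_eq_mul, mul_inv_cancel_left]

lemma goal : Goal LS LM := by
  have equi : ∀ γ ∈ gam LS LM, ∀ v : V F (k + 2), v ≠ 0 → γ • lift D v = lift D (act γ.1 v) := by
    let A : Subgroup (G F (k + 2) × H) :=
      { carrier := {γ | ∀ v : V F (k + 2), v ≠ 0 → γ • lift D v = lift D (act γ.1 v)}
        one_mem' := fun v _ => by rw [one_smul, Prod.fst_one, act_one]
        mul_mem' := fun {a b} ha hb v hv => by
          rw [mul_smul, hb v hv, ha _ (act_ne_zero _ hv), Prod.fst_mul, act_mul]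
        inv_mem' := fun {a} ha v hv => by
          rw [inv_smul_eq_iff, ha _ (act_ne_zero _ hv), Prod.fst_inv, act_act_inv] }
    refine fun γ hγ => (gam_le (A := A) (fun j => ?_) (fun i hi => ?_)) hγ
    · rcases Fin.eq_zero_or_eq_succ j with rfl | ⟨j, rfl⟩
      · exact fun s hs v hv => equi_of_base D (base_S0 D hs) hv
      · intro s hs v hv
        have hs' : s.1 ∈ SS j.succ := by rw [← D.sys.mapS]; exact ⟨s, hs, rfl⟩
        obtain ⟨h, hh⟩ := SS_succ_range hs'
        rw [lf_eq_S D hs hh.symm]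
        exact equi_of_base D (base_PP D (lf_mem_PP D h)) hv
    · rcases Fin.eq_zero_or_eq_succ i with rfl | ⟨i, rfl⟩
      · intro s hs v hv
        have hs' : s.1 ∈ MM (0 : Fin (k + 2)) := by rw [← D.sys.mapM 0 h01]; exact ⟨s, hs, rfl⟩
        exact equi_of_base D (base_PP D (rank_two D (Subgroup.mem_sup_left hs) (hs'.1 0))) hv
      · intro s hs v hv
        have hs' : s.1 ∈ MM i.succ := by rw [← D.sys.mapM _ hi]; exact ⟨s, hs, rfl⟩
        obtain ⟨h, hh⟩ := MM_succ_range hs'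
        rw [lf_eq_M D (by simpa using hi) hs hh.symm]
        exact equi_of_base D (base_PP D (lf_mem_PP D h)) hv
  refine ⟨fun x hx h1 => ?_, fun g => ?_⟩
  · have h := equi x hx (e 0) (e_ne_zero 0)
    rw [h1, act_one, lift_base, base, MulAction.Quotient.smul_coe, smul_eq_mul, mul_one] at h
    have hP := QuotientGroup.eq.1 h
    rw [mul_one] at hP
    exact PP_rigid D x (by simpa using inv_mem hP) h1
  · have reach : ∀ y : V F (k + 2), y (Sum.inr 0) ≠ 0 → ∃ x ∈ gam LS LM, act x.1 (e 0) = y := fun y hy => by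
      obtain ⟨s, hs, e1, -⟩ := ellE_spec D hy
      exact ⟨ellE D y, e1 ▸ mul_mem (gam_PP_le D (T_mem_PP D _)) (LS_le_gam _ _ 0 hs), ellE_act D hy⟩
    obtain ⟨q, h1, h2⟩ := common_spec D (act_ne_zero g (e_ne_zero (0 : Fin (k + 2))))
    rw [om_e0] at h1
    obtain ⟨a, ha, ea⟩ := reach q h1
    obtain ⟨b, hb, eb⟩ := reach (act a.1⁻¹ (act g (e 0)))
      (by rw [← om_e0 (act a.1⁻¹ (act g (e 0))), ← om_act a.1, ea, act_act_inv]; exact h2)
    obtain ⟨u, z, h, hg⟩ := exists_stab (g := (a * b).1⁻¹ * g) (by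
      rw [act_mul, Prod.fst_mul, _root_.mul_inv_rev, act_mul]
      conv_lhs => rw [← eb, act_inv_act])
    refine ⟨a * b * (T D u * Z D z * lf D h), mul_mem (mul_mem ha hb) (gam_PP_le D ⟨u, z, h, rfl⟩), ?_⟩
    have e3 : (T D u * Z D z * lf D h).1 = (a * b).1⁻¹ * g := by
      rw [hg, Prod.fst_mul, Prod.fst_mul, T_fst, Z_fst, lf_fst, sie_mul]; simp
    rw [Prod.fst_mul, e3, mul_inv_cancel_left]

end Cover

lemma eq_one_of_zero (g : G F 0) : g = 1 := act_ext fun v => funext fun i => i.elim (·.elim0) (·.elim0)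

theorem main (hF : ∃ a : F, a ≠ 0 ∧ a ≠ 1) : ∀ (n : ℕ) (H : Type v) [Group H]
    (LS LM : Fin n → Subgroup (G F n × H)), Sys LS LM → Goal LS LM := by
  intro n
  induction n using Nat.strong_induction_on with
  | _ n ih =>
    intro H _ LS LM hs
    rcases n with _ | _ | k
    · refine ⟨fun x hx _ => ?_, fun g => ⟨1, one_mem _, (eq_one_of_zero g).symm⟩⟩
      have : gam LS LM ≤ ⊥ := gam_le (fun j => j.elim0) (fun i => i.elim0)
      exact Subgroup.mem_bot.1 (this hx)
    · have h1 : gam LS LM ≤ LS 0 :=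
        gam_le (fun j => by rw [Fin.fin_one_eq_zero j]) (fun i hi => absurd hi (by omega))
      refine ⟨fun x hx => hs.rigS 0 x (h1 hx), fun g => ?_⟩
      have hg : g ∈ SS (0 : Fin 1) := fun j hj => absurd (Fin.fin_one_eq_zero j) hj
      rw [← hs.mapS] at hg
      obtain ⟨x, hx, e⟩ := hg
      exact ⟨x, LS_le_gam _ _ 0 hx, e⟩
    · refine goal ⟨hF, hs, ih (k + 1) (by omega) H _ _ (sys_pull hs), fun K hS hM => ?_⟩
      rw [eq_top_iff]
      intro g _
      let LS0 : Fin k → Subgroup (G F k × PUnit.{v+1}) := fun j => (SS j).comap (MonoidHom.fst _ _)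
      let LM0 : Fin k → Subgroup (G F k × PUnit.{v+1}) := fun i => (MM i).comap (MonoidHom.fst _ _)
      have hsurj : Function.Surjective (MonoidHom.fst (G F k) PUnit.{v+1}) := fun a => ⟨(a, PUnit.unit), rfl⟩
      have hr : ∀ A : Subgroup (G F k × PUnit.{v+1}), Rigid A := fun A x _ h => Prod.ext h (Subsingleton.elim _ _)
      obtain ⟨-, hg⟩ := ih k (by omega) PUnit.{v+1} LS0 LM0
        ⟨fun j => Subgroup.map_comap_eq_self_of_surjective hsurj _,
          fun i _ => Subgroup.map_comap_eq_self_of_surjective hsurj _, fun _ => hr _, fun _ _ _ => hr _,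
          fun _ _ _ _ _ => hr _, fun _ _ _ => hr _⟩
      obtain ⟨x, hx, rfl⟩ := hg g
      have : gam LS0 LM0 ≤ K.comap (MonoidHom.fst _ _) :=
        gam_le (fun j => Subgroup.comap_mono (hS j)) (fun i hi => Subgroup.comap_mono (hM i hi))
      exact this hx

end CfsgLib.SpSlim
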