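import Mathlib
import Cfsg.Prelude.Def_Classical

/-!
# The element orders of `PSp₄(3)`

A symplectic `4 × 4` matrix over `ZMod 3` satisfies a palindromic quartic (or squares to one), so
some power with exponent in `{5, 9, 12}` is `± 1`.
-/

set_option autoImplicit false

namespace CfsgLib.Recog.SpecPSp

open Matrix

abbrev F3 := ZMod 3
abbrev M4 := Matrix (Fin 2 ⊕ Fin 2) (Fin 2 ⊕ Fin 2) F3
abbrev Sp := Matrix.symplecticGroup (Fin 2) F3

/-- Reduction of the powers of a root of `X^4 + a X^3 + b X^2 + a X + 1`. -/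
def red (a b : F3) : ℕ → F3 × F3 × F3 × F3
  | 0 => (1, 0, 0, 0)
  | k + 1 => match red a b k with
    | (p, q, r, s) => (-s, p - s * a, q - s * b, r - s * a)

theorem red_spec (a b : F3) (g : M4) (hg : g ^ 4 + a • g ^ 3 + b • g ^ 2 + a • g + 1 = 0) (k : ℕ) :
    g ^ k = (red a b k).1 • 1 + (red a b k).2.1 • g + (red a b k).2.2.1 • g ^ 2 +
      (red a b k).2.2.2 • g ^ 3 := by
  induction k with
  | zero => simp [red]
  | succ k ih =>
    have h4 : g ^ 4 = -(a • g ^ 3 + b • g ^ 2 + a • g + 1) := by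
      rw [eq_neg_iff_add_eq_zero, ← hg]; abel
    have key : ∀ p q r s : F3, (p • (1 : M4) + q • g + r • g ^ 2 + s • g ^ 3) * g =
        p • g + q • g ^ 2 + r • g ^ 3 + s • g ^ 4 := fun p q r s => by
      rw [add_mul, add_mul, add_mul, smul_mul_assoc, smul_mul_assoc, smul_mul_assoc, smul_mul_assoc,
        one_mul, ← sq, ← pow_succ, ← pow_succ]
    rw [pow_succ, ih, key, h4]
    simp only [red]
    module

theorem red_good : ∀ a b : F3, ∃ k ∈ [5, 9, 12], red a b k = (1, 0, 0, 0) ∨ red a b k = (-1, 0, 0, 0) := by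
  decide

theorem exists_pow_eq_one_or_neg_one (A : Sp) :
    ∃ k ∈ [5, 9, 12], (A : M4) ^ k = 1 ∨ (A : M4) ^ k = -1 := by
  set g : M4 := (A : M4) with hgdef
  set J : M4 := Matrix.J (Fin 2) F3 with hJdef
  set g' : M4 := (-J) * gᵀ * J with hg'def
  have hinv : g' * g = 1 := congrArg Subtype.val (inv_mul_cancel A)
  have hinv' : g * g' = 1 := congrArg Subtype.val (mul_inv_cancel A)
  have hJJ : J * J = -1 := Matrix.J_squared _ _
  have hdet : g.det = 1 := SymplecticGroup.det_eq_one A.2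
  clear_value g
  clear_value J
  clear_value g'
  obtain ⟨c3, c2, c1, hP⟩ : ∃ c3 c2 c1 : F3, g ^ 4 + c3 • g ^ 3 + c2 • g ^ 2 + c1 • g + 1 = 0 := by
    refine ⟨g.charpoly.coeff 3, g.charpoly.coeff 2, g.charpoly.coeff 1, ?_⟩
    have hd : g.charpoly.natDegree = 4 := by rw [g.charpoly_natDegree_eq_dim]; rfl
    have h := g.aeval_self_charpoly
    rw [Polynomial.aeval_eq_sum_range, hd] at h
    simp only [Finset.sum_range_succ, Finset.sum_range_zero, zero_add, pow_zero, pow_one] at h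
    have h4 : g.charpoly.coeff 4 = 1 := by
      rw [← hd]; exact g.charpoly_monic.coeff_natDegree
    have h0 : g.charpoly.coeff 0 = 1 := by
      have h1 := g.det_eq_sign_charpoly_coeff
      have hcard : Fintype.card (Fin 2 ⊕ Fin 2) = 4 := rfl
      rw [hdet, hcard, Even.neg_one_pow (by decide : Even 4), one_mul] at h1
      exact h1.symm
    rw [h4, h0, one_smul, one_smul] at h
    rw [← h]; abel
  have hpow : ∀ k : ℕ, g' ^ k = (-J) * (g ^ k)ᵀ * J := by
    intro k
    induction k with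
    | zero => simp [hJJ]
    | succ k ih =>
      rw [pow_succ', ih, hg'def, pow_succ, transpose_mul]
      have e : J * -J = 1 := by rw [mul_neg, hJJ, neg_neg]
      rw [show (-J) * gᵀ * J * ((-J) * (g ^ k)ᵀ * J) = (-J) * gᵀ * (J * -J) * ((g ^ k)ᵀ * J) by
        noncomm_ring, e, mul_one]
      noncomm_ring
  have hQ : g' ^ 4 + c3 • g' ^ 3 + c2 • g' ^ 2 + c1 • g' + 1 = 0 := by
    have h1 := congrArg (fun X : M4 => (-J) * Xᵀ * J) hP
    simp only [transpose_add, transpose_smul, transpose_one, transpose_zero, mul_add, add_mul,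
      mul_smul_comm, smul_mul_assoc, mul_zero, zero_mul, mul_one, ← hpow] at h1
    rw [← hg'def] at h1
    rw [← h1, show (-J) * J = 1 by rw [neg_mul, hJJ, neg_neg]]
  have hR : (1 : M4) + c3 • g + c2 • g ^ 2 + c1 • g ^ 3 + g ^ 4 = 0 := by
    have hc : Commute g' g := hinv.trans hinv'.symm
    have e : ∀ i j : ℕ, g' ^ i * g ^ (i + j) = g ^ j := fun i j => by
      rw [pow_add, ← mul_assoc, ← hc.mul_pow, hinv, one_pow, one_mul]
    have h1 := congrArg (fun X : M4 => X * g ^ 4) hQ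
    simp only [add_mul, smul_mul_assoc, zero_mul, one_mul] at h1
    rw [e 4 0, e 3 1, e 2 2] at h1
    have e1 : g' * g ^ 4 = g ^ 3 := by simpa using e 1 3
    rw [e1, pow_zero, pow_one] at h1
    exact h1
  by_cases h13 : c1 = c3
  · subst h13
    obtain ⟨k, hk, h⟩ := red_good c1 c2
    refine ⟨k, hk, ?_⟩
    have hs := red_spec c1 c2 g hP k
    rcases h with h | h <;> rw [h] at hs
    · left; simpa using hs
    · right; simpa using hs
  · have h : (c1 - c3) • (g ^ 3 - g) = 0 := by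
      have := congrArg₂ (fun X Y : M4 => X - Y) hR hP
      simp only [sub_zero] at this
      rw [← this]; module
    rcases smul_eq_zero.1 h with h | h
    · exact absurd (sub_eq_zero.1 h) h13
    · refine ⟨12, by simp, Or.inl ?_⟩
      have h2 : g ^ 2 = 1 := by
        calc g ^ 2 = g' * g ^ 3 := by rw [pow_succ' g 2, ← mul_assoc, hinv, one_mul]
          _ = g' * g := by rw [sub_eq_zero.1 h]
          _ = 1 := hinv
      rw [show (12 : ℕ) = 2 * 6 from rfl, pow_mul, h2, one_pow]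

theorem exists_pow_mem_center (A : Sp) :
    ∃ k ∈ [5, 9, 12], A ^ k ∈ Subgroup.center Sp := by
  obtain ⟨k, hk, h⟩ := exists_pow_eq_one_or_neg_one A
  refine ⟨k, hk, Subgroup.mem_center_iff.2 fun B => Subtype.ext ?_⟩
  change (B : M4) * ((A ^ k : Sp) : M4) = ((A ^ k : Sp) : M4) * (B : M4)
  rw [SubmonoidClass.coe_pow]
  rcases h with h | h <;> simp [h]

/-- Elements of orders 5, 9 and 12 modulo the centre. -/
def m5 : M4 := Matrix.fromBlocks !![1, 0; 2, 0] !![0, 2; 0, 0] !![0, 1; 1, 1] !![0, 0; 2, 0]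
def m9 : M4 := Matrix.fromBlocks !![0, 0; 2, 0] !![0, 1; 0, 0] !![1, 2; 0, 0] !![0, 0; 2, 2]
def m12 : M4 := Matrix.fromBlocks !![2, 0; 0, 0] !![0, 0; 0, 2] !![2, 0; 0, 1] !![2, 0; 0, 0]
def t1 : M4 := Matrix.fromBlocks !![1, 0; 0, 1] !![1, 1; 1, 1] 0 1
def t2 : M4 := Matrix.fromBlocks !![1, 1; 0, 1] 0 0 !![1, 0; 2, 1]

theorem mem5 : m5 ∈ Sp := SymplecticGroup.mem_iff.2 (by decide +kernel)
theorem mem9 : m9 ∈ Sp := SymplecticGroup.mem_iff.2 (by decide +kernel)
theorem mem12 : m12 ∈ Sp := SymplecticGroup.mem_iff.2 (by decide +kernel)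
theorem memt1 : t1 ∈ Sp := SymplecticGroup.mem_iff.2 (by decide +kernel)
theorem memt2 : t2 ∈ Sp := SymplecticGroup.mem_iff.2 (by decide +kernel)

theorem not_central (A : Sp) (k : ℕ)
    (h : ¬ ((A : M4) ^ k * t1 = t1 * (A : M4) ^ k ∧ (A : M4) ^ k * t2 = t2 * (A : M4) ^ k)) :
    A ^ k ∉ Subgroup.center Sp := by
  intro hc
  rw [Subgroup.mem_center_iff] at hc
  apply h
  have h1 := congrArg Subtype.val (hc ⟨t1, memt1⟩)
  have h2 := congrArg Subtype.val (hc ⟨t2, memt2⟩)
  simp only [Submonoid.coe_mul, SubmonoidClass.coe_pow] at h1 h2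
  exact ⟨h1.symm, h2.symm⟩

section transfer

variable {F : Type*} [Field F]

theorem J_map {K L : Type*} [Field K] [Field L] (e : K →+* L) :
    (Matrix.J (Fin 2) K).map e = Matrix.J (Fin 2) L := by
  simp [Matrix.J, Matrix.fromBlocks_map, Matrix.map_neg]

theorem map_mem {K L : Type*} [Field K] [Field L] (e : K →+* L)
    {A : Matrix (Fin 2 ⊕ Fin 2) (Fin 2 ⊕ Fin 2) K} (hA : A ∈ Matrix.symplecticGroup (Fin 2) K) :
    A.map e ∈ Matrix.symplecticGroup (Fin 2) L := by
  rw [SymplecticGroup.mem_iff, ← J_map e, ← Matrix.transpose_map, ← Matrix.map_mul, ← Matrix.map_mul,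
    SymplecticGroup.mem_iff.1 hA]

/-- `Sp₄(ZMod 3) → PSp₄(F)`. -/
def toPSp (e : F3 ≃+* F) : Sp →* Cfsg.PSp 2 F :=
  (QuotientGroup.mk' _).comp
    { toFun := fun A => ⟨(A : M4).map e, map_mem (e : F3 →+* F) A.2⟩
      map_one' := Subtype.ext (by simp)
      map_mul' := fun A B => Subtype.ext (Matrix.map_mul (f := (e : F3 →+* F))) }

theorem toPSp_surjective (e : F3 ≃+* F) : Function.Surjective (toPSp e) := fun x => by
  obtain ⟨B, rfl⟩ := QuotientGroup.mk'_surjective _ x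
  refine ⟨⟨(B.1).map e.symm, map_mem (e.symm : F →+* F3) B.2⟩, ?_⟩
  refine congrArg (QuotientGroup.mk' _) (Subtype.ext ?_)
  ext i j
  exact e.apply_symm_apply _

theorem toPSp_eq_one_iff (e : F3 ≃+* F) (A : Sp) : toPSp e A = 1 ↔ A ∈ Subgroup.center Sp := by
  rw [toPSp, MonoidHom.comp_apply, QuotientGroup.mk'_apply, QuotientGroup.eq_one_iff,
    Subgroup.mem_center_iff, Subgroup.mem_center_iff]
  constructor
  · intro h B
    have h1 := congrArg Subtype.val (h ⟨(B : M4).map e, map_mem (e : F3 →+* F) B.2⟩)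
    refine Subtype.ext (Matrix.map_injective e.injective ?_)
    show ((B : M4) * (A : M4)).map (e : F3 →+* F) = ((A : M4) * (B : M4)).map (e : F3 →+* F)
    rw [Matrix.map_mul, Matrix.map_mul]
    exact h1
  · intro h B
    have h1 := congrArg Subtype.val (h ⟨(B.1).map e.symm, map_mem (e.symm : F →+* F3) B.2⟩)
    have h2 : ((((B.1).map e.symm) * (A : M4))).map (e : F3 →+* F) =
        (((A : M4) * ((B.1).map e.symm))).map (e : F3 →+* F) :=
      congrArg (fun X : M4 => X.map (e : F3 →+* F)) h1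
    rw [Matrix.map_mul, Matrix.map_mul] at h2
    have hB : ((B.1).map e.symm).map (e : F3 →+* F) = B.1 := by
      ext i j; exact e.apply_symm_apply _
    rw [hB] at h2
    exact Subtype.ext h2

theorem orderOf_toPSp (e : F3 ≃+* F) (A : Sp) (n : ℕ) (hn : 0 < n)
    (h1 : A ^ n ∈ Subgroup.center Sp) (h2 : ∀ d ∈ n.properDivisors, A ^ d ∉ Subgroup.center Sp) :
    orderOf (toPSp e A) = n := by
  have hdvd : orderOf (toPSp e A) ∣ n := by
    rw [orderOf_dvd_iff_pow_eq_one, ← map_pow, toPSp_eq_one_iff]; exact h1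
  rcases (Nat.le_of_dvd hn hdvd).eq_or_lt with h | h
  · exact h
  · exfalso
    refine h2 _ (Nat.mem_properDivisors.2 ⟨hdvd, h⟩) ?_
    rw [← toPSp_eq_one_iff e, map_pow, pow_orderOf_eq_one]

theorem range_orderOf [Fintype F] (hF : Fintype.card F = 3) :
    Set.range (orderOf : Cfsg.PSp 2 F → ℕ) = {d | d ∣ 5 ∨ d ∣ 9 ∨ d ∣ 12} := by
  have e : F3 ≃+* F := ZMod.ringEquivOfPrime F Nat.prime_three hF
  have hwit : ∀ (m : M4) (hm : m ∈ Sp) (n : ℕ), 0 < n → (m ^ n = 1 ∨ m ^ n = -1) →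
      (∀ d ∈ n.properDivisors, ¬ (m ^ d * t1 = t1 * m ^ d ∧ m ^ d * t2 = t2 * m ^ d)) →
      ∀ d, d ∣ n → d ∈ Set.range (orderOf : Cfsg.PSp 2 F → ℕ) := by
    intro m hm n hn h1 h2 d hd
    have ho : orderOf (toPSp e ⟨m, hm⟩) = n := by
      refine orderOf_toPSp e _ n hn (Subgroup.mem_center_iff.2 fun B => Subtype.ext ?_)
        fun d hd => not_central _ d (h2 d hd)
      change (B : M4) * ((⟨m, hm⟩ ^ n : Sp) : M4) = ((⟨m, hm⟩ ^ n : Sp) : M4) * (B : M4)
      rw [SubmonoidClass.coe_pow]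
      rcases h1 with h | h <;> simp [h]
    refine ⟨toPSp e ⟨m, hm⟩ ^ (n / d), ?_⟩
    have h := orderOf_pow_orderOf_div (x := toPSp e ⟨m, hm⟩) (by omega) (n := d) (ho.symm ▸ hd)
    rwa [ho] at h
  ext d
  constructor
  · rintro ⟨x, rfl⟩
    obtain ⟨A, rfl⟩ := toPSp_surjective e x
    obtain ⟨k, hk, h⟩ := exists_pow_mem_center A
    have hd : orderOf (toPSp e A) ∣ k := by
      rw [orderOf_dvd_iff_pow_eq_one, ← map_pow, toPSp_eq_one_iff]; exact h
    fin_cases hk
    · exact Or.inl hd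
    · exact Or.inr (Or.inl hd)
    · exact Or.inr (Or.inr hd)
  · rintro (h | h | h)
    · exact hwit m5 mem5 5 (by norm_num) (by decide +kernel) (by decide +kernel) d h
    · exact hwit m9 mem9 9 (by norm_num) (by decide +kernel) (by decide +kernel) d h
    · exact hwit m12 mem12 12 (by norm_num) (by decide +kernel) (by decide +kernel) d h

end transfer

end CfsgLib.Recog.SpecPSp
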