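import Mathlib

/-!
A solvable group with element orders the divisors of `5`, `9`, `12`: a `3`-group of unitriangular
matrices over `GF(81)` extended by a Frobenius group of order `20`.
-/

set_option autoImplicit false

namespace CfsgLib.Recog.SpecPSp

noncomputable section

variable {F : Type} [Field F] [CharP F 3] [Finite F] [hcard : Fact (Nat.card F = 81)]

/-- `x ↦ x ^ (3 ^ j)`. -/
def fr (j : ℕ) : F →+* F := iterateFrobenius F 3 j

omit [Finite F] hcard in
theorem fr_apply (j : ℕ) (x : F) : fr j x = x ^ 3 ^ j := by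
  simp [fr, iterateFrobenius_def]

omit [Finite F] hcard in
theorem fr_comm (j k : ℕ) (x : F) : fr j (fr k x) = fr k (fr j x) := by
  rw [fr_apply, fr_apply, fr_apply, fr_apply, ← pow_mul, ← pow_mul, mul_comm]

omit [Finite F] hcard in
theorem fr_fr (j k : ℕ) (x : F) : fr j (fr k x) = fr (j + k) x := by
  rw [fr_apply, fr_apply, fr_apply, ← pow_mul, pow_add, mul_comm]

theorem fr_four (x : F) : fr 4 x = x := by
  have := Fintype.ofFinite F
  have h : Fintype.card F = 81 := by rw [← Nat.card_eq_fintype_card]; exact hcard.out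
  rw [fr_apply]
  have := FiniteField.pow_card x
  rw [h] at this
  exact this

theorem fr_mod (j : ℕ) (x : F) : fr j x = fr (j % 4) x := by
  induction j using Nat.strong_induction_on with
  | _ j ih =>
    rcases lt_or_ge j 4 with h | h
    · rw [Nat.mod_eq_of_lt h]
    · calc fr j x = fr (j - 4) (fr 4 x) := by rw [fr_fr, Nat.sub_add_cancel h]
        _ = fr (j - 4) x := by rw [fr_four]
        _ = fr (j % 4) x := by rw [ih (j - 4) (by omega), show (j - 4) % 4 = j % 4 by omega]

omit [Finite F] hcard in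
theorem fr_zero' (x : F) : fr 0 x = x := by simp [fr_apply]

/-- The `3`-group. -/
@[ext]
structure KGroup (F : Type) where
  a : F
  b : F
  p : F
  q : F
  r : F
  s : F
  z : F

namespace KGroup

omit [CharP F 3] [Finite F] hcard in
/-- Coordinates. -/
def toTuple : KGroup F ≃ F × F × F × F × F × F × F where
  toFun x := (x.a, x.b, x.p, x.q, x.r, x.s, x.z)
  invFun t := ⟨t.1, t.2.1, t.2.2.1, t.2.2.2.1, t.2.2.2.2.1, t.2.2.2.2.2.1, t.2.2.2.2.2.2⟩

instance : Finite (KGroup F) := Finite.of_equiv _ (toTuple (F := F)).symm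

instance : One (KGroup F) := ⟨⟨0, 0, 0, 0, 0, 0, 0⟩⟩

instance : Mul (KGroup F) := ⟨fun x y =>
  ⟨x.a + y.a, x.b + y.b, x.p + y.p + fr 3 x.a * y.a, x.q + y.q + fr 3 x.b * y.a,
    x.r + y.r + x.a * fr 1 y.b, x.s + y.s - x.a * fr 1 y.a,
    x.z + y.z + fr 3 x.a * y.r + fr 3 x.b * y.s + x.p * fr 1 y.b - x.q * fr 1 y.a⟩⟩

instance : Inv (KGroup F) := ⟨fun x =>
  ⟨-x.a, -x.b, -x.p + fr 3 x.a * x.a, -x.q + fr 3 x.b * x.a,
    -x.r + x.a * fr 1 x.b, -x.s - x.a * fr 1 x.a,
    -x.z + fr 3 x.a * x.r + fr 3 x.b * x.s - (-x.p + fr 3 x.a * x.a) * fr 1 x.b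
      + (-x.q + fr 3 x.b * x.a) * fr 1 x.a⟩⟩

section simps
variable (x y : KGroup F)
omit [Finite F] hcard

@[simp] theorem one_a : (1 : KGroup F).a = 0 := rfl
@[simp] theorem one_b : (1 : KGroup F).b = 0 := rfl
@[simp] theorem one_p : (1 : KGroup F).p = 0 := rfl
@[simp] theorem one_q : (1 : KGroup F).q = 0 := rfl
@[simp] theorem one_r : (1 : KGroup F).r = 0 := rfl
@[simp] theorem one_s : (1 : KGroup F).s = 0 := rfl
@[simp] theorem one_z : (1 : KGroup F).z = 0 := rfl
@[simp] theorem mul_a : (x * y).a = x.a + y.a := rfl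
@[simp] theorem mul_b : (x * y).b = x.b + y.b := rfl
@[simp] theorem mul_p : (x * y).p = x.p + y.p + fr 3 x.a * y.a := rfl
@[simp] theorem mul_q : (x * y).q = x.q + y.q + fr 3 x.b * y.a := rfl
@[simp] theorem mul_r : (x * y).r = x.r + y.r + x.a * fr 1 y.b := rfl
@[simp] theorem mul_s : (x * y).s = x.s + y.s - x.a * fr 1 y.a := rfl
@[simp] theorem mul_z : (x * y).z =
    x.z + y.z + fr 3 x.a * y.r + fr 3 x.b * y.s + x.p * fr 1 y.b - x.q * fr 1 y.a := rfl

end simps

instance : Group (KGroup F) :=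
  Group.ofLeftAxioms
    (fun x y w => by ext <;> simp <;> ring)
    (fun x => by ext <;> simp)
    (fun x => by
      ext <;> simp [Inv.inv] <;> ring)

omit [Finite F] hcard in
theorem cube (x : KGroup F) :
    x ^ 3 = ⟨0, 0, 0, 0, 0, 0, fr 3 x.a * x.a * fr 1 x.b - fr 3 x.b * x.a * fr 1 x.a⟩ := by
  have h3 : (3 : F) = 0 := by exact_mod_cast CharP.cast_eq_zero F 3
  have h : x ^ 3 = x * x * x := by rw [pow_succ, pow_two]
  rw [h]
  ext <;> simp
  · linear_combination x.a * h3
  · linear_combination x.b * h3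
  · linear_combination (x.p + fr 3 x.a * x.a) * h3
  · linear_combination (x.q + fr 3 x.b * x.a) * h3
  · linear_combination (x.r + x.a * fr 1 x.b) * h3
  · linear_combination (x.s - x.a * fr 1 x.a) * h3
  · linear_combination (x.z + fr 3 x.a * x.r + fr 3 x.b * x.s + x.p * fr 1 x.b - x.q * fr 1 x.a) * h3

omit [Finite F] hcard in
theorem pow_nine (x : KGroup F) : x ^ 9 = 1 := by
  rw [show (9 : ℕ) = 3 * 3 from rfl, pow_mul, cube, cube]
  ext <;> simp

/-- Scaling composed with a power of Frobenius. -/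
def act (c : F) (j : ℕ) (x : KGroup F) : KGroup F :=
  ⟨c * fr j x.a, c * fr j x.b, c ^ 3 * fr j x.p, c ^ 3 * fr j x.q, c ^ 4 * fr j x.r,
    c ^ 4 * fr j x.s, c * fr j x.z⟩

omit [Finite F] hcard in
theorem act_mul {c : F} (hc : c ^ 5 = 1) (j : ℕ) (x y : KGroup F) :
    act c j (x * y) = act c j x * act c j y := by
  have h27 : fr 3 c = c ^ 2 := by
    rw [fr_apply, show 3 ^ 3 = 5 * 5 + 2 from rfl, pow_add, pow_mul, hc, one_pow, one_mul]
  have h1 : fr 1 c = c ^ 3 := by rw [fr_apply]; rfl
  have h6 : c ^ 6 = c := by rw [pow_succ, hc, one_mul]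
  ext <;> simp [act, h27, h1, fr_comm j 3, fr_comm j 1] <;> try ring
  linear_combination (-(fr 3 (fr j x.a) * fr j y.r) - fr 3 (fr j x.b) * fr j y.s -
    fr j x.p * fr 1 (fr j y.b) + fr j x.q * fr 1 (fr j y.a)) * h6

omit [Finite F] hcard in
theorem act_act (c d : F) (j k : ℕ) (x : KGroup F) :
    act c j (act d k x) = act (c * fr j d) (j + k) x := by
  ext <;> simp [act, fr_fr, mul_pow, mul_assoc]

omit [Finite F] hcard in
theorem act_one (x : KGroup F) : act 1 0 x = x := by
  ext <;> simp [act, fr_zero']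

/-- The Frobenius group of order `20`, as automorphisms of the `3`-group. -/
def L : Subgroup (MulAut (KGroup F)) :=
  let M : Submonoid (MulAut (KGroup F)) :=
    { carrier := {f | ∃ c : F, c ^ 5 = 1 ∧ ∃ j : ℕ, ∀ x, f x = act c j x}
      one_mem' := ⟨1, one_pow _, 0, fun x => (act_one x).symm⟩
      mul_mem' := by
        rintro f g ⟨c, hc, j, hf⟩ ⟨d, hd, k, hg⟩
        refine ⟨c * fr j d, by rw [mul_pow, ← map_pow, hd, map_one, hc, one_mul], j + k, fun x => ?_⟩
        rw [MulAut.mul_apply, hg, hf, act_act] }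
  { M with
    inv_mem' := by
      intro f hf
      haveI : Finite (MulAut (KGroup F)) :=
        Finite.of_injective (fun f => (f : KGroup F → KGroup F)) DFunLike.coe_injective
      rw [inv_eq_of_mul_eq_one_right (show f * f ^ (orderOf f - 1) = 1 by
        rw [← pow_succ', Nat.sub_add_cancel (orderOf_pos f), pow_orderOf_eq_one])]
      exact M.pow_mem hf _ }

theorem mem_L {f : MulAut (KGroup F)} :
    f ∈ L ↔ ∃ c : F, c ^ 5 = 1 ∧ ∃ j : ℕ, ∀ x, f x = act c j x := Iff.rfl

end KGroup

open KGroup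

/-- The solvable group. -/
abbrev HGroup (F : Type) [Field F] [CharP F 3] [Finite F] [Fact (Nat.card F = 81)] : Type :=
  KGroup F ⋊[(KGroup.L (F := F)).subtype] ↥(KGroup.L (F := F))

instance : Finite (MulAut (KGroup F)) :=
  Finite.of_injective (fun f => (f : KGroup F → KGroup F)) DFunLike.coe_injective

instance : Finite (HGroup F) := Finite.of_equiv _ SemidirectProduct.equivProd.symm

theorem exists_gen : ∃ g : Fˣ, orderOf g = 80 := by
  have := Fintype.ofFinite F
  obtain ⟨g, hg⟩ := IsCyclic.exists_ofOrder_eq_natCard (α := Fˣ)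
  exact ⟨g, by rw [hg, Nat.card_units, hcard.out]⟩

theorem exists_moved : ∃ b : F, fr 2 b ≠ b := by
  obtain ⟨g, hg⟩ := exists_gen (F := F)
  refine ⟨(g : F), fun h => ?_⟩
  rw [fr_apply] at h
  have h2 : g ^ 9 = g := Units.ext (by simpa using h)
  have h3 : g ^ 8 = 1 := by
    have : g ^ 8 * g = 1 * g := by rw [← pow_succ, h2, one_mul]
    exact mul_right_cancel this
  have := orderOf_dvd_of_pow_eq_one h3
  rw [hg] at this
  norm_num at this

theorem rep_unique {c d : F} {j k : ℕ} (hc5 : c ^ 5 = 1) (h : ∀ x, act c j x = act d k x) :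
    c = d ∧ j % 4 = k % 4 := by
  have h1 := congrArg KGroup.z (h ⟨0, 0, 0, 0, 0, 0, 1⟩)
  simp only [act, map_one, mul_one] at h1
  subst h1
  refine ⟨rfl, ?_⟩
  have hc : c ≠ 0 := fun e => by simp [e] at hc5
  obtain ⟨b, hb⟩ := exists_moved (F := F)
  have h2 := congrArg KGroup.z (h ⟨0, 0, 0, 0, 0, 0, b⟩)
  simp only [act] at h2
  have h3 := mul_left_cancel₀ hc h2
  rw [fr_mod j, fr_mod k] at h3
  have key : ∀ i, fr i b = b → i % 4 = 0 := by
    intro i hi
    rw [fr_mod] at hi
    have hlt := Nat.mod_lt i (show 4 > 0 by norm_num)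
    interval_cases hm : i % 4
    · rfl
    · exact absurd (show fr 2 b = b by rw [← fr_fr 1 1, hi, hi]) hb
    · exact absurd hi hb
    · have h6 : fr 6 b = b := by rw [← fr_fr 3 3, hi, hi]
      rw [fr_mod] at h6
      exact absurd h6 hb
  have h4 : fr (4 - k % 4 + j % 4) b = b := by
    rw [← fr_fr, h3, fr_fr, show 4 - k % 4 + k % 4 = 4 by omega, fr_four]
  have := key _ h4
  omega

theorem inl_of_right {g : HGroup F} (h : g.right = 1) : SemidirectProduct.inl g.left = g := by
  ext <;> simp [h]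

theorem fixed_conj (g : HGroup F) (n : ℕ) (h : (g ^ n).right = 1) :
    (g ^ n).left * g.left = g.left * (g.right : MulAut (KGroup F)) (g ^ n).left := by
  have hc : g ^ n * g = g * g ^ n := (pow_mul_comm' g n)
  have := congrArg SemidirectProduct.left hc
  rw [SemidirectProduct.mul_left, SemidirectProduct.mul_left, h, map_one, MulAut.one_apply] at this
  exact this

theorem pow_right (g : HGroup F) (n : ℕ) : (g ^ n).right = g.right ^ n :=
  map_pow SemidirectProduct.rightHom g n

theorem pow_of_right_one {g : HGroup F} (n : ℕ) (h : g.right = 1) :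
    g ^ n = SemidirectProduct.inl (g.left ^ n) := by
  rw [map_pow, inl_of_right h]

theorem pow_rep {f : MulAut (KGroup F)} {c : F} {j : ℕ} (hf : ∀ x, f x = act c j x) (x : KGroup F) :
    (f ^ 2) x = act (c * fr j c) (j + j) x := by
  rw [pow_two, MulAut.mul_apply, hf, hf, act_act]

theorem pow_six_of_two {g : HGroup F} {c : F} {j : ℕ} (hc : c ^ 5 = 1) (hj : j % 4 = 2)
    (hf : ∀ x, (g.right : MulAut (KGroup F)) x = act c j x) : g ^ 6 = 1 := by
  have h9 : ∀ y : F, fr j y = fr 2 y := fun y => by rw [fr_mod, hj]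
  have hr : g.right ^ 2 = 1 := by
    refine Subtype.ext (MulEquiv.ext fun x => ?_)
    rw [SubgroupClass.coe_pow, pow_rep hf]
    have e1 : c * fr j c = 1 := by
      rw [h9, fr_apply, ← pow_succ', show 3 ^ 2 + 1 = 5 * 2 from rfl, pow_mul, hc, one_pow]
    rw [e1]
    show act 1 (j + j) x = x
    ext <;> simp [act] <;> rw [fr_mod, show (j + j) % 4 = 0 by omega, fr_zero']
  have h2 : (g ^ 2).right = 1 := by rw [pow_right, hr]
  have hcomm := fixed_conj g 2 h2
  rw [hf] at hcomm
  set y := (g ^ 2).left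
  have ha : y.a = c * fr 2 y.a := by
    have := congrArg KGroup.a hcomm; simp [act, h9] at this; linear_combination this
  have hb : y.b = c * fr 2 y.b := by
    have := congrArg KGroup.b hcomm; simp [act, h9] at this; linear_combination this
  have hy : y ^ 3 = 1 := by
    have h1c : fr 1 c = c ^ 3 := by rw [fr_apply]; rfl
    have ea : fr 1 y.a = c ^ 3 * fr 3 y.a := by
      conv_lhs => rw [ha, map_mul, h1c, fr_fr]
    have eb : fr 1 y.b = c ^ 3 * fr 3 y.b := by
      conv_lhs => rw [hb, map_mul, h1c, fr_fr]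
    rw [KGroup.cube]
    ext <;> simp
    rw [ea, eb]; ring
  rw [show (6 : ℕ) = 2 * 3 from rfl, pow_mul, pow_of_right_one 3 h2, hy, map_one]

theorem pow_five_of_zero {g : HGroup F} {c : F} {j : ℕ} (hc : c ^ 5 = 1) (hc1 : c ≠ 1)
    (hj : j % 4 = 0) (hf : ∀ x, (g.right : MulAut (KGroup F)) x = act c j x) : g ^ 5 = 1 := by
  have hi : ∀ y : F, fr j y = y := fun y => by rw [fr_mod, hj, fr_zero']
  have hpow : ∀ (n : ℕ) (x : KGroup F), ((g.right : MulAut (KGroup F)) ^ n) x = act (c ^ n) 0 x := by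
    intro n
    induction n with
    | zero => intro x; simp [act_one]
    | succ n ih =>
      intro x
      rw [pow_succ', MulAut.mul_apply, ih, hf, act_act, hi, Nat.add_zero, ← pow_succ']
      ext <;> simp [act, hi, fr_zero']
  have hr : g.right ^ 5 = 1 := by
    refine Subtype.ext (MulEquiv.ext fun x => ?_)
    rw [SubgroupClass.coe_pow, hpow, hc, act_one]
    rfl
  have h5 : (g ^ 5).right = 1 := by rw [pow_right, hr]
  have hcomm := fixed_conj g 5 h5
  rw [hf] at hcomm
  set y := (g ^ 5).left with hy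
  have hc3 : c ^ 3 ≠ 1 := fun h => hc1 (by
    have : c ^ 6 = 1 := by rw [show (6 : ℕ) = 3 * 2 from rfl, pow_mul, h, one_pow]
    rwa [pow_succ, hc, one_mul] at this)
  have hc4 : c ^ 4 ≠ 1 := fun h => hc1 (by rwa [pow_succ, h, one_mul] at hc)
  have key : ∀ (d u w : F), d ≠ 1 → u + w = w + d * u → u = 0 := by
    intro d u w hd h
    have h' : (1 - d) * u = 0 := by linear_combination h
    exact (mul_eq_zero.1 h').resolve_left (sub_ne_zero.2 (Ne.symm hd))
  have ha : y.a = 0 := key c _ g.left.a hc1 (by simpa [act, hi] using congrArg KGroup.a hcomm)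
  have hb : y.b = 0 := key c _ g.left.b hc1 (by simpa [act, hi] using congrArg KGroup.b hcomm)
  have hp : y.p = 0 := key _ _ g.left.p hc3 (by
    simpa [act, hi, ha] using congrArg KGroup.p hcomm)
  have hq : y.q = 0 := key _ _ g.left.q hc3 (by
    simpa [act, hi, ha, hb] using congrArg KGroup.q hcomm)
  have hr' : y.r = 0 := key _ _ g.left.r hc4 (by
    simpa [act, hi, ha, hb] using congrArg KGroup.r hcomm)
  have hs : y.s = 0 := key _ _ g.left.s hc4 (by
    simpa [act, hi, ha, hb] using congrArg KGroup.s hcomm)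
  have hz : y.z = 0 := key _ _ g.left.z hc1 (by
    simpa [act, hi, ha, hb, hp, hq, hr', hs] using congrArg KGroup.z hcomm)
  have h1 : y = 1 := by ext <;> assumption
  rw [← pow_one (g ^ 5), pow_of_right_one 1 h5, ← hy, h1, one_pow, map_one]

theorem orderOf_dvd (g : HGroup F) : orderOf g ∣ 5 ∨ orderOf g ∣ 9 ∨ orderOf g ∣ 12 := by
  obtain ⟨c, hc, j, hf⟩ := mem_L.1 g.right.2
  have hj : j % 4 = 0 ∨ j % 4 = 2 ∨ j % 2 = 1 := by omega
  rcases hj with hj | hj | hj
  · by_cases hc1 : c = 1
    · refine Or.inr (Or.inl (orderOf_dvd_of_pow_eq_one ?_))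
      have hr : g.right = 1 := by
        refine Subtype.ext (MulEquiv.ext fun x => ?_)
        rw [hf, hc1]
        show act 1 j x = x
        ext <;> simp [act] <;> rw [fr_mod, hj, fr_zero']
      rw [pow_of_right_one 9 hr, KGroup.pow_nine, map_one]
    · exact Or.inl (orderOf_dvd_of_pow_eq_one (pow_five_of_zero hc hc1 hj hf))
  · refine Or.inr (Or.inr (orderOf_dvd_of_pow_eq_one ?_))
    rw [show (12 : ℕ) = 6 * 2 from rfl, pow_mul, pow_six_of_two hc hj hf, one_pow]
  · refine Or.inr (Or.inr (orderOf_dvd_of_pow_eq_one ?_))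
    rw [show (12 : ℕ) = 2 * 6 from rfl, pow_mul]
    refine pow_six_of_two (c := c * fr j c) (j := j + j) ?_ (by omega) fun x => ?_
    · rw [mul_pow, ← map_pow, hc, map_one, one_mul]
    · rw [pow_right, SubgroupClass.coe_pow, pow_rep hf]

/-- The automorphism `act c j`. -/
def autOf (c : F) (hc : c ^ 5 = 1) (j : ℕ) : ↥(KGroup.L (F := F)) :=
  ⟨MulEquiv.ofBijective
      ({ toFun := act c j, map_one' := by ext <;> simp [act], map_mul' := act_mul hc j } :
        KGroup F →* KGroup F)
      (Finite.injective_iff_bijective.1 fun x y h => by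
        have hne : c ≠ 0 := fun e => by simp [e] at hc
        simpa [act, hne, KGroup.ext_iff, (fr (F := F) j).injective.eq_iff] using h),
    mem_L.2 ⟨c, hc, j, fun _ => rfl⟩⟩

theorem autOf_apply (c : F) (hc : c ^ 5 = 1) (j : ℕ) (x : KGroup F) :
    (autOf c hc j : MulAut (KGroup F)) x = act c j x := rfl

theorem autOf_pow (j n : ℕ) (x : KGroup F) :
    ((autOf (1 : F) (one_pow _) j : MulAut (KGroup F)) ^ n) x = act 1 (n * j) x := by
  induction n generalizing x with
  | zero => simp [act_one]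
  | succ n ih =>
    rw [pow_succ', MulAut.mul_apply, ih, autOf_apply, act_act, map_one, mul_one,
      show j + n * j = (n + 1) * j by ring]

theorem exists_nine : ∃ g : HGroup F, orderOf g = 9 := by
  obtain ⟨b, hb⟩ := exists_moved (F := F)
  set x : KGroup F := ⟨1, b, 0, 0, 0, 0, 0⟩ with hx
  refine ⟨SemidirectProduct.inl x, ?_⟩
  rw [orderOf_injective _ SemidirectProduct.inl_injective]
  refine orderOf_eq_prime_pow (p := 3) (n := 1) ?_ (by simpa using KGroup.pow_nine x)
  intro h
  rw [pow_one, KGroup.cube] at h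
  have hz := congrArg KGroup.z h
  simp [hx, sub_eq_zero] at hz
  have h2 : fr 2 b = b := (fr (F := F) 1).injective (by rw [fr_fr, ← hz])
  exact hb h2

theorem exists_five : ∃ g : HGroup F, orderOf g = 5 := by
  obtain ⟨u, hu⟩ := exists_gen (F := F)
  have hc : ((u : F) ^ 16) ^ 5 = 1 := by
    rw [← pow_mul, ← Units.val_pow_eq_pow_val, show 16 * 5 = orderOf u by rw [hu],
      pow_orderOf_eq_one, Units.val_one]
  have hne : (u : F) ^ 16 ≠ 1 := fun h => by
    have h' : u ^ 16 = 1 := Units.ext (by simpa using h)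
    have := orderOf_dvd_of_pow_eq_one h'
    rw [hu] at this
    norm_num at this
  refine ⟨SemidirectProduct.inr (autOf _ hc 0), ?_⟩
  haveI : Fact (Nat.Prime 5) := ⟨by norm_num⟩
  refine orderOf_eq_prime ?_ ?_
  · exact pow_five_of_zero hc hne rfl fun x => rfl
  · intro h
    have h1 := congrArg SemidirectProduct.right h
    rw [SemidirectProduct.right_inr, SemidirectProduct.one_right] at h1
    have h2 : ∀ x, act ((u : F) ^ 16) 0 x = act 1 0 x := fun x => by
      rw [act_one, ← autOf_apply _ hc, h1]; rfl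
    exact hne (rep_unique hc h2).1

theorem exists_twelve : ∃ g : HGroup F, orderOf g = 12 := by
  haveI : Fact (Nat.Prime 3) := ⟨by norm_num⟩
  set x : KGroup F := ⟨0, 0, 0, 0, 0, 0, 1⟩ with hx
  set f : ↥(KGroup.L (F := F)) := autOf 1 (one_pow _) 1 with hf
  have hfix : (f : MulAut (KGroup F)) x = x := by
    rw [autOf_apply]; ext <;> simp [act, hx]
  have hcomm : Commute (SemidirectProduct.inl x : HGroup F) (SemidirectProduct.inr f) := by
    refine SemidirectProduct.ext ?_ ?_ <;> simp [hfix]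
  refine ⟨SemidirectProduct.inl x * SemidirectProduct.inr f, ?_⟩
  have h3 : orderOf x = 3 := by
    refine orderOf_eq_prime ?_ fun h => ?_
    · rw [KGroup.cube, hx]; ext <;> simp
    · simpa [hx] using congrArg KGroup.z h
  have h4 : orderOf f = 4 := by
    haveI : Fact (Nat.Prime 2) := ⟨Nat.prime_two⟩
    refine orderOf_eq_prime_pow (p := 2) (n := 1) ?_ ?_
    · intro h
      have h2 : ∀ y : KGroup F, act 1 2 y = act 1 0 y := fun y => by
        have := DFunLike.congr_fun (congrArg Subtype.val h) y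
        rw [SubgroupClass.coe_pow, pow_one, autOf_pow] at this
        rw [act_one]; simpa using this
      have := (rep_unique (one_pow _) h2).2
      norm_num at this
    · refine Subtype.ext (MulEquiv.ext fun y => ?_)
      rw [SubgroupClass.coe_pow, autOf_pow]
      show act 1 _ y = y
      ext <;> simp [act] <;> rw [fr_four]
  rw [hcomm.orderOf_mul_eq_mul_orderOf_of_coprime] <;>
    rw [orderOf_injective _ SemidirectProduct.inl_injective, orderOf_injective _ SemidirectProduct.inr_injective,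
      h3, h4]
  norm_num

theorem range_orderOf_HGroup :
    Set.range (orderOf : HGroup F → ℕ) = {d | d ∣ 5 ∨ d ∣ 9 ∨ d ∣ 12} := by
  have hwit : ∀ n, (∃ g : HGroup F, orderOf g = n) → ∀ d, d ∣ n →
      d ∈ Set.range (orderOf : HGroup F → ℕ) := by
    rintro n ⟨g, rfl⟩ d hd
    exact ⟨g ^ (orderOf g / d), orderOf_pow_orderOf_div (orderOf_pos g).ne' hd⟩
  ext d
  constructor
  · rintro ⟨g, rfl⟩; exact orderOf_dvd g
  · rintro (h | h | h)
    · exact hwit 5 exists_five d h
    · exact hwit 9 exists_nine d h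
    · exact hwit 12 exists_twelve d h

/-- The Frobenius exponent of an element of `L`. -/
def jExp (f : ↥(KGroup.L (F := F))) : ℕ := (mem_L.1 f.2).choose_spec.2.choose

theorem isSolvable_L : Group.IsSolvable ↥(KGroup.L (F := F)) := by
  have hrep : ∀ f : ↥(KGroup.L (F := F)), ∃ c : F, c ^ 5 = 1 ∧
      ∀ x, (f : MulAut (KGroup F)) x = act c (jExp f) x := fun f =>
    ⟨_, (mem_L.1 f.2).choose_spec.1, (mem_L.1 f.2).choose_spec.2.choose_spec⟩
  have hmul : ∀ f g : ↥(KGroup.L (F := F)), jExp (f * g) % 4 = (jExp f + jExp g) % 4 := by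
    intro f g
    obtain ⟨c, hc, hf⟩ := hrep f
    obtain ⟨d, hd, hg⟩ := hrep g
    obtain ⟨e, he, hfg⟩ := hrep (f * g)
    refine (rep_unique he (d := c * fr (jExp f) d) fun x => ?_).2
    rw [← hfg, Subgroup.coe_mul, MulAut.mul_apply, hg, hf, act_act]
  let ε : ↥(KGroup.L (F := F)) →* Multiplicative (ZMod 4) :=
    MonoidHom.mk' (fun f => Multiplicative.ofAdd (jExp f : ZMod 4)) fun f g => by
      rw [← ofAdd_add, ← Nat.cast_add, (ZMod.natCast_eq_natCast_iff' _ _ 4).2 (hmul f g)]
  have hcomm : IsMulCommutative ε.ker := ⟨⟨fun f g => by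
    refine Subtype.ext (Subtype.ext (MulEquiv.ext fun x => ?_))
    obtain ⟨c, hc, hf⟩ := hrep f.1
    obtain ⟨d, hd, hg⟩ := hrep g.1
    have h0 : ∀ k : ↥ε.ker, jExp k.1 % 4 = 0 := fun k => by
      have := k.2
      rw [MonoidHom.mem_ker] at this
      have h' : ((jExp k.1 : ℕ) : ZMod 4) = ((0 : ℕ) : ZMod 4) := by
        rw [Nat.cast_zero]; exact Multiplicative.ofAdd.injective this
      simpa using (ZMod.natCast_eq_natCast_iff' _ _ 4).1 h'
    simp only [Subgroup.coe_mul, MulAut.mul_apply, hf, hg, act_act]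
    rw [fr_mod (jExp f.1), h0 f, fr_mod (jExp g.1), h0 g, fr_zero', fr_zero', mul_comm c d,
      add_comm]⟩⟩
  haveI : Group.IsSolvable ε.ker := Group.isSolvable_of_comm fun a b => hcomm.is_comm.comm a b
  exact Group.isSolvable_of_ker_le_range ε.ker.subtype ε (by rw [Subgroup.range_subtype])

theorem isSolvable_HGroup : Group.IsSolvable (HGroup F) := by
  haveI : Fact (Nat.Prime 3) := ⟨by norm_num⟩
  haveI := isSolvable_L (F := F)
  have hp : IsPGroup 3 (KGroup F) := fun x => ⟨2, by simpa using KGroup.pow_nine x⟩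
  haveI : Group.IsNilpotent (KGroup F) := hp.isNilpotent
  exact Group.isSolvable_of_ker_le_range (SemidirectProduct.inl)
    (SemidirectProduct.rightHom : HGroup F →* _) SemidirectProduct.range_inl_eq_ker_rightHom.ge

end

end CfsgLib.Recog.SpecPSp
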