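import Cfsg.Agent.Lib.Comp.Local
import Cfsg.Agent.Lib.Solvable.Nilpotent
import Mathlib.GroupTheory.GroupAction.Primitive
import Mathlib.GroupTheory.IsSubnormal
import Mathlib.Tactic.Group

/-!
Kernels along an orbital of a primitive group, after Thompson and Wielandt:
the generalized Fitting subgroup of a point stabiliser is a p-group unless the two
double kernels have coprime orders.
-/

set_option autoImplicit false

namespace CfsgLib.Recog.TW

open Subgroup

variable {G : Type*} [Group G]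

/-- Conjugate of a subgroup. -/
def cj (g : G) (X : Subgroup G) : Subgroup G := X.map (MulAut.conj g).toMonoidHom

theorem mem_cj {g a : G} {X : Subgroup G} : a ∈ cj g X ↔ g⁻¹ * a * g ∈ X := by
  rw [cj, mem_map_equiv, MulAut.conj_symm_apply]

theorem subn_of_normalizer {X Z : Subgroup G} (hXZ : X ≤ Z) (h : Z ≤ normalizer (X : Set G)) :
    (X.subgroupOf Z).IsSubnormal :=
  Normal.isSubnormal ((normal_subgroupOf_iff_le_normalizer hXZ).2 h)

theorem subn_trans {X Y Z : Subgroup G} (hXY : X ≤ Y) (hYZ : Y ≤ Z) (h1 : (X.subgroupOf Y).IsSubnormal)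
    (h2 : (Y.subgroupOf Z).IsSubnormal) : (X.subgroupOf Z).IsSubnormal := by
  refine IsSubnormal.trans (K := Y.subgroupOf Z) (comap_mono hXY) ?_ h2
  have h3 := h1.comap (subgroupOfEquivOfLe hYZ).toMonoidHom
  convert h3 using 1
  ext; rfl

theorem subn_restrict {X D Z : Subgroup G} (hDZ : D ≤ Z) (h : (X.subgroupOf Z).IsSubnormal) :
    (X.subgroupOf D).IsSubnormal := by
  have h3 := h.comap (inclusion hDZ)
  convert h3 using 1
  ext; rfl

/-- The largest normal `r`-subgroup of a subgroup, in the group. -/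
def pc (r : ℕ) (Z : Subgroup G) : Subgroup G := (Cfsg.pCore r Z).map Z.subtype

theorem pc_le (r : ℕ) (Z : Subgroup G) : pc r Z ≤ Z := map_subtype_le _

theorem subgroupOf_pc (r : ℕ) (Z : Subgroup G) : (pc r Z).subgroupOf Z = Cfsg.pCore r Z :=
  comap_map_eq_self_of_injective Z.subtype_injective _

theorem pc_norm (r : ℕ) (Z : Subgroup G) : Z ≤ normalizer (pc r Z : Set G) := by
  rw [← normal_subgroupOf_iff_le_normalizer (pc_le r Z), subgroupOf_pc]
  exact Cfsg.pCore_normal r Z

theorem pc_isPGroup [Finite G] (r : ℕ) (Z : Subgroup G) : IsPGroup r (pc r Z) :=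
  (CfsgLib.Comp.isPGroup_pCore r Z).map _

theorem le_pc [Finite G] {r : ℕ} {X Z : Subgroup G} (hXZ : X ≤ Z) (h : (X.subgroupOf Z).IsSubnormal)
    (hp : IsPGroup r X) : X ≤ pc r Z := by
  rw [← map_subgroupOf_eq_of_le hXZ]
  exact map_mono (CfsgLib.Comp.le_pCore_of_isSubnormal h (hp.of_equiv (subgroupOfEquivOfLe hXZ).symm))

theorem pc_commute [Finite G] {r s : ℕ} (hr : r.Prime) (hs : s.Prime) (hne : r ≠ s) (Z : Subgroup G) :
    pc r Z ≤ centralizer (pc s Z : Set G) := by
  haveI := Fact.mk hr; haveI := Fact.mk hs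
  haveI := Cfsg.pCore_normal r Z; haveI := Cfsg.pCore_normal s Z
  rintro _ ⟨a, ha, rfl⟩
  rw [mem_centralizer_iff]
  rintro _ ⟨b, hb, rfl⟩
  rw [← map_mul, ← map_mul]
  refine congrArg _ ((commute_of_normal_of_disjoint _ _ inferInstance inferInstance ?_ b a hb ha).eq)
  exact IsPGroup.disjoint_of_ne s r hne.symm _ _ (CfsgLib.Comp.isPGroup_pCore s Z) (CfsgLib.Comp.isPGroup_pCore r Z)

theorem pCore_equiv {X Y : Type*} [Group X] [Finite X] [Group Y] [Finite Y] (e : X ≃* Y) (r : ℕ) :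
    (Cfsg.pCore r X).map e.toMonoidHom = Cfsg.pCore r Y := by
  haveI := Cfsg.pCore_normal r X
  haveI := Cfsg.pCore_normal r Y
  refine le_antisymm (CfsgLib.Comp.le_pCore_of_isSubnormal
    (Normal.isSubnormal (Normal.map inferInstance _ e.surjective)) ((CfsgLib.Comp.isPGroup_pCore r X).map _))
    fun y hy => ?_
  have h := CfsgLib.Comp.le_pCore_of_isSubnormal (G := X)
    (Normal.isSubnormal (Normal.map (f := e.symm.toMonoidHom) (inferInstance : (Cfsg.pCore r Y).Normal) e.symm.surjective))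
    ((CfsgLib.Comp.isPGroup_pCore r Y).map _) (mem_map_of_mem _ hy)
  exact ⟨_, h, e.apply_symm_apply y⟩

theorem pc_cj [Finite G] (r : ℕ) (g : G) (Z : Subgroup G) : pc r (cj g Z) = cj g (pc r Z) := by
  unfold pc cj
  rw [← pCore_equiv (Z.equivMapOfInjective (MulAut.conj g).toMonoidHom (MulAut.conj g).injective) r, map_map, map_map]
  rfl

/-- The layer of a subgroup, in the group. -/
def lay (Z : Subgroup G) : Subgroup G := (Cfsg.layer Z).map Z.subtype

theorem lay_le (Z : Subgroup G) : lay Z ≤ Z := map_subtype_le _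

theorem lay_norm (Z : Subgroup G) : Z ≤ normalizer (lay Z : Set G) := by
  rw [← normal_subgroupOf_iff_le_normalizer (lay_le Z), lay, subgroupOf,
    comap_map_eq_self_of_injective Z.subtype_injective]
  exact CfsgLib.Comp.layer_normal Z

theorem card_lay_le [Finite G] {Z Z' : Subgroup G} (e : Z ≃* Z') : Nat.card (lay Z) ≤ Nat.card (lay Z') := by
  rw [lay, lay, card_map_of_injective Z.subtype_injective, card_map_of_injective Z'.subtype_injective,
    ← card_map_of_injective (f := e.toMonoidHom) e.injective]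
  exact Subgroup.card_le_of_le (CfsgLib.Comp.layer_map_le_layer e.toMonoidHom e.surjective)

theorem exists_pCore_inf {Z : Type*} [Group Z] [Finite Z] (hE : Cfsg.layer Z = ⊥) (Y : Subgroup Z) [Y.Normal]
    (hY : Y ≠ ⊥) : ∃ q : ℕ, q.Prime ∧ Y ⊓ Cfsg.pCore q Z ≠ ⊥ := by
  by_contra hc
  push_neg at hc
  haveI := CfsgLib.Comp.fittingSubgroup_normal Z
  haveI := CfsgLib.Comp.isNilpotent_fittingSubgroup Z
  have hdis : Y ⊓ Cfsg.fittingSubgroup Z = ⊥ := by
    rw [eq_bot_iff]
    rintro x ⟨hxY, hxF⟩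
    rw [mem_bot]
    by_contra hx
    have ho : orderOf x ≠ 1 := fun h => hx (orderOf_eq_one_iff.1 h)
    obtain ⟨q, hq, hqd⟩ := Nat.exists_prime_and_dvd ho
    haveI := Fact.mk hq
    set z := x ^ (orderOf x / q) with hz
    have hoz : orderOf z = q := orderOf_pow_orderOf_div (orderOf_pos x).ne' hqd
    have hzF : zpowers z ≤ Cfsg.fittingSubgroup Z := zpowers_le.2 (pow_mem hxF _)
    have hsub : (zpowers z).IsSubnormal :=
      IsSubnormal.trans hzF (CfsgLib.Solvable.isSubnormal_of_isNilpotent _)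
        (Normal.isSubnormal inferInstance)
    have hp : IsPGroup q (zpowers z) := IsPGroup.of_card (n := 1) (by rw [Nat.card_zpowers, hoz, pow_one])
    have hmem : z ∈ Y ⊓ Cfsg.pCore q Z :=
      ⟨pow_mem hxY _, CfsgLib.Comp.le_pCore_of_isSubnormal hsub hp (mem_zpowers z)⟩
    rw [hc q hq, mem_bot] at hmem
    rw [hmem, orderOf_one] at hoz
    exact hq.ne_one hoz.symm
  have hle : Y ≤ Cfsg.fittingSubgroup Z := by
    refine le_trans ?_ ((CfsgLib.Comp.centralizer_fitting_le_iff Z).2 hE)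
    intro y hy
    rw [mem_centralizer_iff]
    intro f hf
    exact (commute_of_normal_of_disjoint _ _ inferInstance inferInstance (disjoint_iff.2 hdis) y f hy hf).eq.symm
  rw [inf_eq_left.2 hle] at hdis
  exact hY hdis

variable (G) in
/-- An orbital of a primitive group, as a relation between points. -/
structure Orbital (Ω : Type*) [MulAction G Ω] where
  /-- The arcs. -/
  E : Ω → Ω → Prop
  inv : ∀ (g : G) (x y : Ω), E x y → E (g • x) (g • y)
  trans : ∀ x y x' y' : Ω, E x y → E x' y' → ∃ g : G, g • x = x' ∧ g • y = y'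
  out : ∀ x, ∃ y, E x y
  inn : ∀ y, ∃ x, E x y
  moved : ∀ x y, E x y → MulAction.stabilizer G x ≠ MulAction.stabilizer G y
  maxim : ∀ (x : Ω) (X : Subgroup G), X ≠ ⊥ → X ≤ MulAction.stabilizer G x →
    MulAction.stabilizer G x ≤ normalizer (X : Set G) → normalizer (X : Set G) ≤ MulAction.stabilizer G x

namespace Orbital

variable {Ω : Type*} [MulAction G Ω] (O : Orbital G Ω)

/-- The reversed orbital. -/
def flip : Orbital G Ω where
  E x y := O.E y x
  inv g x y h := O.inv g y x h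
  trans x y x' y' h h' := by
    obtain ⟨g, h1, h2⟩ := O.trans y x y' x' h h'
    exact ⟨g, h2, h1⟩
  out := O.inn
  inn := O.out
  moved x y h := (O.moved y x h).symm
  maxim := O.maxim

/-- The kernel on the out-neighbours. -/
def K (x : Ω) : Subgroup G :=
  MulAction.stabilizer G x ⊓ ⨅ (y : Ω) (_ : O.E x y), MulAction.stabilizer G y

/-- The double kernel. -/
def N (x : Ω) : Subgroup G := O.K x ⊓ ⨅ (y : Ω) (_ : O.E x y), O.flip.K y

theorem mem_K {x : Ω} {g : G} : g ∈ O.K x ↔ g • x = x ∧ ∀ y, O.E x y → g • y = y := by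
  simp [K, Subgroup.mem_iInf]

theorem mem_N {x : Ω} {g : G} : g ∈ O.N x ↔ g ∈ O.K x ∧ ∀ y, O.E x y → g ∈ O.flip.K y := by
  simp [N, Subgroup.mem_iInf]

theorem K_le (x : Ω) : O.K x ≤ MulAction.stabilizer G x := inf_le_left

theorem K_le_nbr {x y : Ω} (h : O.E x y) : O.K x ≤ MulAction.stabilizer G y :=
  fun _ hg => (O.mem_K.1 hg).2 y h

theorem N_le_K (x : Ω) : O.N x ≤ O.K x := inf_le_left

theorem N_le_M {x y : Ω} (h : O.E x y) : O.N x ≤ O.flip.K y := fun _ hg => (O.mem_N.1 hg).2 y h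

theorem N_le (x : Ω) : O.N x ≤ MulAction.stabilizer G x := (O.N_le_K x).trans (O.K_le x)

theorem inv_iff (g : G) (x y : Ω) : O.E (g • x) y ↔ O.E x (g⁻¹ • y) :=
  ⟨fun h => by simpa using O.inv g⁻¹ _ _ h, fun h => by simpa using O.inv g _ _ h⟩

theorem K_smul (g : G) (x : Ω) : O.K (g • x) = cj g (O.K x) := by
  ext a
  rw [mem_cj, mem_K, mem_K]
  constructor
  · rintro ⟨h1, h2⟩
    refine ⟨by rw [mul_smul, mul_smul, h1, inv_smul_smul], fun y hy => ?_⟩
    rw [mul_smul, mul_smul, h2 _ (O.inv g _ _ hy), inv_smul_smul]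
  · rintro ⟨h1, h2⟩
    rw [mul_smul, mul_smul, inv_smul_eq_iff] at h1
    refine ⟨h1, fun y hy => ?_⟩
    have := h2 _ ((O.inv_iff g x y).1 hy)
    rwa [mul_smul, mul_smul, smul_inv_smul, smul_left_cancel_iff] at this

theorem N_smul (g : G) (x : Ω) : O.N (g • x) = cj g (O.N x) := by
  ext a
  rw [mem_cj, mem_N, mem_N, K_smul, mem_cj]
  refine and_congr_right fun _ => ⟨fun h y hy => ?_, fun h y hy => ?_⟩
  · have := h _ (O.inv g _ _ hy)
    rwa [O.flip.K_smul, mem_cj] at this
  · have := h _ ((O.inv_iff g x y).1 hy)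
    rwa [← mem_cj, ← O.flip.K_smul, smul_inv_smul] at this

theorem vtrans (O : Orbital G Ω) (x x' : Ω) : ∃ g : G, g • x = x' := by
  obtain ⟨y, hy⟩ := O.out x
  obtain ⟨y', hy'⟩ := O.out x'
  obtain ⟨g, hg, -⟩ := O.trans x y x' y' hy hy'
  exact ⟨g, hg⟩

theorem norm_of_smul {F : Ω → Subgroup G} (hF : ∀ (g : G) (x : Ω), F (g • x) = cj g (F x)) (x : Ω) :
    MulAction.stabilizer G x ≤ normalizer (F x : Set G) := fun g hg => by
  rw [mem_normalizer_iff_map_conj_eq]
  exact (hF g x).symm.trans (by rw [MulAction.mem_stabilizer_iff.1 hg])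

theorem card_of_smul {F : Ω → Subgroup G} (hF : ∀ (g : G) (x : Ω), F (g • x) = cj g (F x)) (O : Orbital G Ω)
    (x x' : Ω) : Nat.card (F x) = Nat.card (F x') := by
  obtain ⟨g, rfl⟩ := O.vtrans x x'
  rw [hF, cj, card_map_of_injective (MulAut.conj g).injective]

theorem ne_bot_of_smul {F : Ω → Subgroup G} (hF : ∀ (g : G) (x : Ω), F (g • x) = cj g (F x)) (O : Orbital G Ω)
    {x : Ω} (h : F x ≠ ⊥) (x' : Ω) : F x' ≠ ⊥ := by
  obtain ⟨g, rfl⟩ := O.vtrans x x'
  rw [hF]
  exact fun e => h ((map_eq_bot_iff_of_injective _ (MulAut.conj g).injective).1 e)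

theorem pc_smul [Finite G] (r : ℕ) (g : G) (x : Ω) :
    pc r (MulAction.stabilizer G (g • x)) = cj g (pc r (MulAction.stabilizer G x)) := by
  rw [MulAction.stabilizer_smul_eq_stabilizer_map_conj, ← pc_cj]
  rfl

theorem inf_smul {F F' : Ω → Subgroup G} (hF : ∀ (g : G) (x : Ω), F (g • x) = cj g (F x))
    (hF' : ∀ (g : G) (x : Ω), F' (g • x) = cj g (F' x)) (g : G) (x : Ω) :
    F (g • x) ⊓ F' (g • x) = cj g (F x ⊓ F' x) := by
  rw [hF, hF', cj, cj, cj, map_inf _ _ _ (MulAut.conj g).injective]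

/-- A subgroup of two adjacent stabilisers normalised by both is trivial. -/
theorem both {x y : Ω} (h : O.E x y) {X : Subgroup G} (hx : X ≤ MulAction.stabilizer G x)
    (hy : X ≤ MulAction.stabilizer G y) (nx : MulAction.stabilizer G x ≤ normalizer (X : Set G))
    (ny : MulAction.stabilizer G y ≤ normalizer (X : Set G)) : X = ⊥ := by
  by_contra hX
  exact O.moved x y h (le_antisymm (nx.trans (O.maxim y X hX hy ny)) (ny.trans (O.maxim x X hX hx nx)))

theorem eq_bot_of_le [Finite G] {x y : Ω} (h : O.E x y) {Fx Fy : Subgroup G}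
    (hx : Fx ≤ MulAction.stabilizer G x) (hy : Fy ≤ MulAction.stabilizer G y)
    (nx : MulAction.stabilizer G x ≤ normalizer (Fx : Set G)) (ny : MulAction.stabilizer G y ≤ normalizer (Fy : Set G))
    (hle : Fy ≤ Fx) (hc : Nat.card Fx ≤ Nat.card Fy) : Fy = ⊥ := by
  have e := eq_of_le_of_card_ge hle hc
  exact O.both h (e ▸ hx) hy (e ▸ nx) ny

/-- The kernel on the in-neighbours is self-centralising. -/
theorem centralizer_M_le (hN : ∀ x, O.N x ≠ ⊥) (y : Ω) :
    centralizer (O.flip.K y : Set G) ≤ O.flip.K y := by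
  intro z hz
  obtain ⟨x₀, hx₀⟩ := O.inn y
  rw [O.flip.mem_K]
  have hMne : O.flip.K y ≠ ⊥ := fun e => hN x₀ (le_bot_iff.1 ((O.N_le_M hx₀).trans e.le))
  refine ⟨O.flip.maxim y _ hMne (O.flip.K_le y) (norm_of_smul O.flip.K_smul y) (centralizer_le_normalizer _ hz), ?_⟩
  intro x hx
  exact O.maxim x _ (hN x) (O.N_le x) (norm_of_smul O.N_smul x)
    (centralizer_le_normalizer _ (centralizer_le (O.N_le_M hx) hz))

theorem centralizer_K_le (hN' : ∀ y, O.flip.N y ≠ ⊥) (x : Ω) : centralizer (O.K x : Set G) ≤ O.K x :=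
  O.flip.centralizer_M_le hN' x

/-- The point stabiliser has no components. -/
theorem layer_eq_bot [Finite G] (hN : ∀ x, O.N x ≠ ⊥) (hN' : ∀ y, O.flip.N y ≠ ⊥) (x : Ω) :
    Cfsg.layer (MulAction.stabilizer G x) = ⊥ := by
  obtain ⟨y, hxy⟩ := O.out x
  set H := MulAction.stabilizer G x with hH
  set B := MulAction.stabilizer G y with hB
  set D := H ⊓ B with hD
  have hKH : H ≤ normalizer (O.K x : Set G) := norm_of_smul O.K_smul x
  have hMB : B ≤ normalizer (O.flip.K y : Set G) := norm_of_smul O.flip.K_smul y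
  have hKD : O.K x ≤ D := le_inf (O.K_le x) (O.K_le_nbr hxy)
  have hMD : O.flip.K y ≤ D := le_inf (O.flip.K_le_nbr hxy) (O.flip.K_le y)
  haveI hKn : ((O.K x).subgroupOf H).Normal := (normal_subgroupOf_iff_le_normalizer (O.K_le x)).2 hKH
  haveI hMn : ((O.flip.K y).subgroupOf D).Normal :=
    (normal_subgroupOf_iff_le_normalizer hMD).2 (inf_le_right.trans hMB)
  have key : ∀ C : Subgroup H, Cfsg.IsComponent C → C.map H.subtype ≤ lay B := by
    intro C hC
    set C0 := C.map H.subtype with hC0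
    have hC0K : C0 ≤ O.K x := by
      rcases CfsgLib.Comp.component_le_or_le_centralizer hC (Normal.isSubnormal hKn) with h | h
      · exact (map_mono h).trans (by rw [map_subgroupOf_eq_of_le (O.K_le x)])
      · refine le_trans ?_ (O.centralizer_K_le hN' x)
        rintro _ ⟨c, hc, rfl⟩
        rw [mem_centralizer_iff]
        intro k hk
        exact congrArg Subtype.val (mem_centralizer_iff.1 (h hc) ⟨k, O.K_le x hk⟩ hk)
    have hC0H : (C0.subgroupOf H) = C := comap_map_eq_self_of_injective H.subtype_injective C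
    have hq : Cfsg.IsQuasisimple C0 :=
      CfsgLib.Comp.isQuasisimple_congr (C.equivMapOfInjective _ H.subtype_injective) hC.2
    have hCD : Cfsg.IsComponent (C0.subgroupOf D) :=
      ⟨subn_restrict inf_le_left (hC0H.symm ▸ hC.1),
        CfsgLib.Comp.isQuasisimple_congr (subgroupOfEquivOfLe (hC0K.trans hKD)).symm hq⟩
    have hC0M : C0 ≤ O.flip.K y := by
      rcases CfsgLib.Comp.component_le_or_le_centralizer hCD (Normal.isSubnormal hMn) with h | h
      · intro c hc
        exact h (show (⟨c, hKD (hC0K hc)⟩ : D) ∈ C0.subgroupOf D from hc)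
      · refine le_trans ?_ (O.centralizer_M_le hN y)
        intro c hc
        rw [mem_centralizer_iff]
        intro m hm
        exact congrArg Subtype.val (mem_centralizer_iff.1
          (h (show (⟨c, hKD (hC0K hc)⟩ : D) ∈ C0.subgroupOf D from hc)) ⟨m, hMD hm⟩ hm)
    have hC0B : C0 ≤ B := hC0M.trans (O.flip.K_le y)
    have hsub : (C0.subgroupOf B).IsSubnormal :=
      subn_trans hC0M (O.flip.K_le y) (subn_restrict hMD hCD.1) (subn_of_normalizer (O.flip.K_le y) hMB)
    have : Cfsg.IsComponent (C0.subgroupOf B) :=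
      ⟨hsub, CfsgLib.Comp.isQuasisimple_congr (subgroupOfEquivOfLe hC0B).symm hq⟩
    rw [← map_subgroupOf_eq_of_le hC0B]
    exact map_mono (CfsgLib.Comp.le_layer this)
  have hle : lay H ≤ lay B := by
    rw [lay, Cfsg.layer, map_le_iff_le_comap]
    exact sSup_le fun C hC => map_le_iff_le_comap.1 (key C hC)
  obtain ⟨g, hg⟩ := O.vtrans x y
  have hcard : Nat.card (lay B) ≤ Nat.card (lay H) :=
    card_lay_le (MulAction.stabilizerEquivStabilizer hg.symm).symm
  have := O.flip.eq_bot_of_le (x := y) (y := x) hxy (lay_le B) (lay_le H) (lay_norm B) (lay_norm H) hle hcard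
  exact (map_eq_bot_iff_of_injective _ H.subtype_injective).1 this

/-- A core that lies in all predecessors and all their successors is trivial. -/
theorem pc_eq_bot [Finite G] {r : ℕ} {x y : Ω} (hxy : O.E x y)
    (hpred : pc r (MulAction.stabilizer G y) ≤ MulAction.stabilizer G x)
    (hsucc : ∀ y', O.E x y' → pc r (MulAction.stabilizer G y) ≤ MulAction.stabilizer G y') :
    pc r (MulAction.stabilizer G y) = ⊥ := by
  set P := pc r (MulAction.stabilizer G y)
  have hPK : P ≤ O.K x := fun a ha => O.mem_K.2 ⟨hpred ha, fun y' hy' => hsucc y' hy' ha⟩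
  have hle : P ≤ pc r (MulAction.stabilizer G x) := le_pc hpred
    (subn_trans hPK (O.K_le x) (subn_of_normalizer hPK ((O.K_le_nbr hxy).trans (pc_norm r _)))
      (subn_of_normalizer (O.K_le x) (norm_of_smul O.K_smul x))) (pc_isPGroup r _)
  exact O.eq_bot_of_le hxy (pc_le r _) (pc_le r _) (pc_norm r _) (pc_norm r _) hle
    (card_of_smul (F := fun z => pc r (MulAction.stabilizer G z)) (pc_smul r) O x y).le

theorem pc_le_pred [Finite G] {r q : ℕ} (hr : r.Prime) (hq : q.Prime) (hne : r ≠ q) {x y : Ω} (hxy : O.E x y)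
    (hqx : O.N x ⊓ pc q (MulAction.stabilizer G x) ≠ ⊥) :
    pc r (MulAction.stabilizer G y) ≤ MulAction.stabilizer G x := by
  have hsm : ∀ (g : G) (z : Ω), O.N (g • z) ⊓ pc q (MulAction.stabilizer G (g • z)) =
      cj g (O.N z ⊓ pc q (MulAction.stabilizer G z)) := inf_smul (F' := fun z => pc q (MulAction.stabilizer G z)) O.N_smul (pc_smul q)
  set Q := O.N x ⊓ pc q (MulAction.stabilizer G x) with hQ
  have hQn : MulAction.stabilizer G x ≤ normalizer (Q : Set G) := norm_of_smul (F := fun z => O.N z ⊓ pc q (MulAction.stabilizer G z)) hsm x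
  have hQM : Q ≤ O.flip.K y := inf_le_left.trans (O.N_le_M hxy)
  have hQy : Q ≤ pc q (MulAction.stabilizer G y) := le_pc (hQM.trans (O.flip.K_le y))
    (subn_trans hQM (O.flip.K_le y) (subn_of_normalizer hQM ((O.flip.K_le_nbr hxy).trans hQn))
      (subn_of_normalizer (O.flip.K_le y) (norm_of_smul O.flip.K_smul y)))
    ((pc_isPGroup q _).to_le inf_le_right)
  intro a ha
  exact O.maxim x Q hqx (inf_le_left.trans (O.N_le x)) hQn
    (centralizer_le_normalizer _ (centralizer_le hQy (pc_commute hr hq hne _ ha)))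

/-- A core for a prime foreign to both double kernels is trivial. -/
theorem pc_eq_bot_of_ne [Finite G] {r q q' : ℕ} (hr : r.Prime) (hq : q.Prime) (hq' : q'.Prime)
    (hne : r ≠ q) (hne' : r ≠ q') (hqx : ∀ x, O.N x ⊓ pc q (MulAction.stabilizer G x) ≠ ⊥)
    (hqy : ∀ y, O.flip.N y ⊓ pc q' (MulAction.stabilizer G y) ≠ ⊥) (y : Ω) :
    pc r (MulAction.stabilizer G y) = ⊥ := by
  obtain ⟨x, hxy⟩ := O.inn y
  have hpred := O.pc_le_pred hr hq hne hxy (hqx x)
  refine O.pc_eq_bot hxy hpred fun y' hy' => ?_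
  set P := pc r (MulAction.stabilizer G y) with hP
  have hsm : ∀ (g : G) (z : Ω), O.flip.N (g • z) ⊓ pc q' (MulAction.stabilizer G (g • z)) =
      cj g (O.flip.N z ⊓ pc q' (MulAction.stabilizer G z)) := inf_smul (F' := fun z => pc q' (MulAction.stabilizer G z)) O.flip.N_smul (pc_smul q')
  set Q := O.flip.N y' ⊓ pc q' (MulAction.stabilizer G y') with hQ
  have hQn : MulAction.stabilizer G y' ≤ normalizer (Q : Set G) := norm_of_smul (F := fun z => O.flip.N z ⊓ pc q' (MulAction.stabilizer G z)) hsm y'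
  have hQK : Q ≤ O.K x := inf_le_left.trans (O.flip.N_le_M hy')
  set D := MulAction.stabilizer G x ⊓ MulAction.stabilizer G y with hD
  have hKD : O.K x ≤ D := le_inf (O.K_le x) (O.K_le_nbr hxy)
  have hQD : Q ≤ pc q' D := le_pc (hQK.trans hKD)
    (subn_trans hQK hKD (subn_of_normalizer hQK ((O.K_le_nbr hy').trans hQn))
      (subn_of_normalizer hKD (inf_le_left.trans (norm_of_smul O.K_smul x))))
    ((pc_isPGroup q' _).to_le inf_le_right)
  have hPD : P ≤ pc r D := le_pc (le_inf hpred (pc_le r _))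
    (subn_of_normalizer (le_inf hpred (pc_le r _)) (inf_le_right.trans (pc_norm r _))) (pc_isPGroup r _)
  intro a ha
  exact O.flip.maxim y' Q (hqy y') (inf_le_left.trans (O.flip.N_le y')) hQn
    (centralizer_le_normalizer _ (centralizer_le hQD (pc_commute hr hq' hne' _ (hPD ha))))

/-- The elements of order prime to `p` of a double kernel generate this subgroup. -/
def pPrimePart (p : ℕ) (y : Ω) : Subgroup G := closure {s | s ∈ O.N y ∧ (orderOf s).Coprime p}

theorem pPrimePart_smul (p : ℕ) (g : G) (y : Ω) : O.pPrimePart p (g • y) = cj g (O.pPrimePart p y) := by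
  rw [pPrimePart, pPrimePart, cj, MonoidHom.map_closure]
  congr 1
  ext a
  simp only [Set.mem_image, Set.mem_setOf_eq, MulEquiv.coe_toMonoidHom, MulAut.conj_apply]
  constructor
  · rintro ⟨h1, h2⟩
    rw [N_smul, mem_cj] at h1
    refine ⟨g⁻¹ * a * g, ⟨h1, ?_⟩, by group⟩
    have := MulEquiv.orderOf_eq (MulAut.conj g⁻¹) a
    rw [MulAut.conj_apply, inv_inv] at this
    rwa [this]
  · rintro ⟨s, ⟨h1, h2⟩, rfl⟩
    refine ⟨by rw [N_smul, mem_cj]; simpa [mul_assoc] using h1, ?_⟩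
    rwa [← MulAut.conj_apply, MulEquiv.orderOf_eq]

/-- A `p`-group normalising an overgroup in which the double kernel is normal normalises its `p'`-part. -/
theorem pPrimePart_norm [Finite G] {p : ℕ} {P : Subgroup G} (hP : IsPGroup p P) {y : Ω} {K : Subgroup G}
    (hSK : O.N y ≤ K) (hn : K ≤ normalizer (O.N y : Set G)) (hKP : K ≤ normalizer (P : Set G))
    (hPK : P ≤ normalizer (K : Set G)) : P ≤ normalizer (O.pPrimePart p y : Set G) := by
  intro a ha
  haveI hSn : ((O.N y).subgroupOf K).Normal := (normal_subgroupOf_iff_le_normalizer hSK).2 hn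
  have key : ∀ b ∈ P, ∀ s ∈ O.N y, (orderOf s).Coprime p → b * s * b⁻¹ ∈ O.N y := by
    intro b hb s hs hco
    have htK : b * s * b⁻¹ ∈ K := (mem_normalizer_iff.1 (hPK hb) s).1 (hSK hs)
    set u := b * s * b⁻¹ * s⁻¹ with hu
    have huP : u ∈ P := by
      have h1 : s * b⁻¹ * s⁻¹ ∈ P := (mem_normalizer_iff.1 (hKP (hSK hs)) b⁻¹).1 (inv_mem hb)
      rw [hu, show b * s * b⁻¹ * s⁻¹ = b * (s * b⁻¹ * s⁻¹) by group]
      exact mul_mem hb h1
    have huK : u ∈ K := mul_mem htK (inv_mem (hSK hs))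
    obtain ⟨k, hk⟩ := hP ⟨u, huP⟩
    have hk' : u ^ p ^ k = 1 := congrArg Subtype.val hk
    let f := QuotientGroup.mk' ((O.N y).subgroupOf K)
    have hfeq : f ⟨b * s * b⁻¹, htK⟩ = f ⟨u, huK⟩ := by
      have : (⟨b * s * b⁻¹, htK⟩ : K) = ⟨u, huK⟩ * ⟨s, hSK hs⟩ := Subtype.ext (by simp [hu])
      rw [this, map_mul]
      have h1 : f ⟨s, hSK hs⟩ = 1 := (QuotientGroup.eq_one_iff _).2 hs
      rw [h1, mul_one]
    have hd1 : orderOf (f ⟨b * s * b⁻¹, htK⟩) ∣ orderOf s := by
      refine (orderOf_map_dvd f _).trans ?_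
      rw [Subgroup.orderOf_mk, ← MulAut.conj_apply, MulEquiv.orderOf_eq]
    have hd2 : orderOf (f ⟨b * s * b⁻¹, htK⟩) ∣ p ^ k := by
      rw [hfeq]
      refine (orderOf_map_dvd f _).trans ?_
      rw [Subgroup.orderOf_mk]
      exact orderOf_dvd_of_pow_eq_one hk'
    have h1 := Nat.eq_one_of_dvd_coprimes (Nat.Coprime.pow_right k hco) hd1 hd2
    exact (QuotientGroup.eq_one_iff (⟨b * s * b⁻¹, htK⟩ : K)).1 (orderOf_eq_one_iff.1 h1)
  have hclos : cj a (O.pPrimePart p y) ≤ O.pPrimePart p y := by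
    rw [cj, pPrimePart, MonoidHom.map_closure, closure_le]
    rintro _ ⟨s, ⟨h1, h2⟩, rfl⟩
    refine subset_closure ⟨key a ha s h1 h2, ?_⟩
    rw [MulEquiv.coe_toMonoidHom, MulEquiv.orderOf_eq]; exact h2
  rw [mem_normalizer_iff_map_conj_eq]
  exact eq_of_le_of_card_ge hclos (card_map_of_injective (MulAut.conj a).injective).ge

/-- A double kernel without elements of order prime to `p` is a `p`-group. -/
theorem isPGroup_of_pPrimePart [Finite G] {p : ℕ} (hp : p.Prime) {y : Ω} (hbot : O.pPrimePart p y = ⊥) :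
    IsPGroup p (O.N y) := by
  intro s
  obtain ⟨k, m, hm, hord⟩ := Nat.exists_eq_pow_mul_and_not_dvd (orderOf_pos s).ne' p hp.ne_one
  refine ⟨k, ?_⟩
  have hmem : ((s : G) ^ p ^ k) ∈ O.pPrimePart p y := by
    refine subset_closure ⟨pow_mem s.2 _, ?_⟩
    rw [← Subgroup.orderOf_coe] at hord
    rw [orderOf_pow_of_dvd (pow_ne_zero _ hp.ne_zero) (hord ▸ dvd_mul_right _ _), hord,
      Nat.mul_div_cancel_left _ (pow_pos hp.pos _)]
    exact (hp.coprime_iff_not_dvd.2 hm).symm
  rw [hbot, mem_bot] at hmem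
  exact Subtype.ext (by simpa using hmem)

theorem pPrimePart_le (p : ℕ) (y : Ω) : O.pPrimePart p y ≤ MulAction.stabilizer G y :=
  (closure_le _).2 fun _ hs => O.N_le y hs.1

/-- With two primes in play the reverse double kernel is a `q'`-group. -/
theorem isPGroup_flip_N [Finite G] {q q' : ℕ} (hq : q.Prime) (hq' : q'.Prime) (hne : q' ≠ q)
    (hqx : ∀ x, O.N x ⊓ pc q (MulAction.stabilizer G x) ≠ ⊥)
    (hqy : ∀ y, O.flip.N y ⊓ pc q' (MulAction.stabilizer G y) ≠ ⊥) (y₀ : Ω) :
    IsPGroup q' (O.flip.N y₀) := by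
  haveI := Fact.mk hq'
  by_contra hnp
  have hX : ∀ y, O.flip.pPrimePart q' y ≠ ⊥ := by
    exact ne_bot_of_smul (O.flip.pPrimePart_smul q') O (x := y₀) fun hbot =>
      hnp (O.flip.isPGroup_of_pPrimePart hq' hbot)
  obtain ⟨y, hy⟩ := O.out y₀
  have : pc q' (MulAction.stabilizer G y) = ⊥ := by
    obtain ⟨x, hxy⟩ := O.inn y
    have hpred := O.pc_le_pred hq' hq hne hxy (hqx x)
    refine O.pc_eq_bot hxy hpred fun y' hy' => ?_
    set P := pc q' (MulAction.stabilizer G y) with hP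
    intro a ha
    refine O.flip.maxim y' _ (hX y') (O.flip.pPrimePart_le q' y') (norm_of_smul (O.flip.pPrimePart_smul q') y') ?_
    exact O.flip.pPrimePart_norm (pc_isPGroup q' _) (K := O.K x) (O.flip.N_le_M hy')
      ((O.K_le_nbr hy').trans (norm_of_smul O.flip.N_smul y')) ((O.K_le_nbr hxy).trans (pc_norm q' _))
      (hpred.trans (norm_of_smul O.K_smul x)) ha
  exact hqy y (le_bot_iff.1 (inf_le_right.trans this.le))

theorem exists_prime [Finite G] (hN : ∀ x, O.N x ≠ ⊥) (hE : ∀ x : Ω, Cfsg.layer (MulAction.stabilizer G x) = ⊥)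
    (x₀ : Ω) : ∃ q : ℕ, q.Prime ∧ ∀ x, O.N x ⊓ pc q (MulAction.stabilizer G x) ≠ ⊥ := by
  haveI : ((O.N x₀).subgroupOf (MulAction.stabilizer G x₀)).Normal :=
    (normal_subgroupOf_iff_le_normalizer (O.N_le x₀)).2 (norm_of_smul O.N_smul x₀)
  obtain ⟨q, hq, hne⟩ := exists_pCore_inf (hE x₀) ((O.N x₀).subgroupOf (MulAction.stabilizer G x₀))
    (fun h => hN x₀ (by rw [← map_subgroupOf_eq_of_le (O.N_le x₀), h, Subgroup.map_bot]))
  refine ⟨q, hq, ne_bot_of_smul (inf_smul (F' := fun z => pc q (MulAction.stabilizer G z)) O.N_smul (pc_smul q)) O (x := x₀) fun h => hne ?_⟩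
  rw [eq_bot_iff]
  rintro a ⟨ha1, ha2⟩
  have : (a : G) ∈ O.N x₀ ⊓ pc q (MulAction.stabilizer G x₀) := ⟨ha1, ⟨a, ha2, rfl⟩⟩
  rw [h, mem_bot] at this
  exact mem_bot.2 (Subtype.ext this)

/-- Either the generalized Fitting subgroup of a point stabiliser is a `p`-core, or the double kernels have coprime orders. -/
theorem pCore_or_coprime [Finite G] (hN : ∀ x, O.N x ≠ ⊥) (hN' : ∀ y, O.flip.N y ≠ ⊥) (a : Ω) :
    (∃ q : ℕ, q.Prime ∧
      Cfsg.generalizedFittingSubgroup (MulAction.stabilizer G a) = Cfsg.pCore q (MulAction.stabilizer G a)) ∨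
    (Nat.card (O.N a)).Coprime (Nat.card (O.flip.N a)) := by
  have hE := O.layer_eq_bot hN hN'
  obtain ⟨q, hq, hqx⟩ := O.exists_prime hN hE a
  obtain ⟨q', hq', hqy⟩ := O.flip.exists_prime hN' hE a
  haveI := Fact.mk hq
  set H := MulAction.stabilizer G a
  by_cases hO : Cfsg.pPrimeCore q H = ⊥
  · exact Or.inl ⟨q, hq, (CfsgLib.Comp.generalizedFitting_eq_pCore_iff q H).2
      ((CfsgLib.Comp.centralizer_pCore_le_iff q H).2 ⟨hE a, hO⟩)⟩
  haveI := Cfsg.pPrimeCore_normal q H
  obtain ⟨r, hr, hne⟩ := exists_pCore_inf (hE a) (Cfsg.pPrimeCore q H) hO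
  have hrq : r ≠ q := by
    rintro rfl
    exact hne ((inf_comm _ _).trans (CfsgLib.Comp.inf_eq_bot_of_isPGroup (CfsgLib.Comp.isPGroup_pCore r H)
      (CfsgLib.Comp.coprime_card_pPrimeCore r H)))
  have hrq' : r = q' := by
    by_contra h
    have h0 := O.pc_eq_bot_of_ne hr hq hq' hrq h hqx hqy a
    rw [pc, map_eq_bot_iff_of_injective _ H.subtype_injective] at h0
    exact hne (le_bot_iff.1 (inf_le_right.trans h0.le))
  subst hrq'
  haveI := Fact.mk hr
  exact Or.inr (IsPGroup.coprime_card_of_ne q r hrq.symm _ _ (O.flip.isPGroup_flip_N hr hq hrq.symm hqy hqx a)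
    (O.isPGroup_flip_N hq hr hrq hqx hqy a))

end Orbital

end CfsgLib.Recog.TW
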