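import Cfsg.Agent.Lib.Recog.ThompsonWielandt
import Mathlib.GroupTheory.Perm.Basic
import Mathlib.Data.Fintype.Perm
import Mathlib.Data.Fintype.BigOperators

/-! The orbital of a suborbit and the index of its double kernel. -/

set_option autoImplicit false

namespace CfsgLib.Recog.TW

open Subgroup

variable {G Ω : Type*} [Group G] [MulAction G Ω]

/-- The permutations of an invariant set. -/
def restrictHom (X : Subgroup G) (S : Set Ω) (hS : ∀ g ∈ X, ∀ y ∈ S, g • y ∈ S) : X →* Equiv.Perm S where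
  toFun g :=
    { toFun := fun y => ⟨(g : G) • (y : Ω), hS g g.2 y y.2⟩
      invFun := fun y => ⟨(g : G)⁻¹ • (y : Ω), hS _ (inv_mem g.2) y y.2⟩
      left_inv := fun y => Subtype.ext (inv_smul_smul _ _)
      right_inv := fun y => Subtype.ext (smul_inv_smul _ _) }
  map_one' := by ext y; simp
  map_mul' g h := by ext y; simp [mul_smul]

theorem relIndex_dvd [Finite G] [Finite Ω] {ι : Type*} [Finite ι] (X K : Subgroup G) (S : ι → Set Ω)
    (hS : ∀ i, ∀ g ∈ X, ∀ y ∈ S i, g • y ∈ S i) (hK : ∀ g ∈ X, g ∈ K ↔ ∀ i, ∀ y ∈ S i, g • y = y)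
    (c : ℕ) (hc : ∀ i, Nat.card (S i) = c) : K.relIndex X ∣ c.factorial ^ Nat.card ι := by
  classical
  haveI := Fintype.ofFinite ι
  let f : X →* ∀ i, Equiv.Perm (S i) := MonoidHom.pi fun i => restrictHom X (S i) (hS i)
  have hker : f.ker = K.subgroupOf X := by
    ext g
    rw [MonoidHom.mem_ker, mem_subgroupOf, hK g g.2, funext_iff]
    refine forall_congr' fun i => ⟨fun h y hy => ?_, fun h => ?_⟩
    · exact congrArg Subtype.val (Equiv.Perm.ext_iff.1 h ⟨y, hy⟩)
    · exact Equiv.ext fun y => Subtype.ext (h y y.2)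
  rw [relIndex, ← hker, Subgroup.index_ker]
  refine (Subgroup.card_subgroup_dvd_card _).trans ?_
  rw [Nat.card_pi]
  simp only [Nat.card_perm, hc, Finset.prod_const, Finset.card_univ, Nat.card_eq_fintype_card (α := ι)]
  exact dvd_rfl

namespace Orbital

variable (O : Orbital G Ω) {d : ℕ}

theorem relIndex_K_dvd [Finite G] [Finite Ω] (hout : ∀ x, Nat.card {y // O.E x y} = d) (x : Ω) :
    (O.K x).relIndex (MulAction.stabilizer G x) ∣ d.factorial := by
  have h := relIndex_dvd (MulAction.stabilizer G x) (O.K x) (fun _ : Unit => {y | O.E x y})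
    (fun _ g hg y hy => by
      have := O.inv g x y hy
      rwa [MulAction.mem_stabilizer_iff.1 hg] at this)
    (fun g hg => by
      rw [O.mem_K]
      exact ⟨fun h _ y hy => h.2 y hy, fun h => ⟨hg, fun y hy => h () y hy⟩⟩)
    d (fun _ => hout x)
  rwa [Nat.card_eq_fintype_card, Fintype.card_unit, pow_one] at h

theorem relIndex_N_dvd [Finite G] [Finite Ω] (hout : ∀ x, Nat.card {y // O.E x y} = d)
    (hin : ∀ y, Nat.card {x // O.E x y} = d) (x : Ω) :
    (O.N x).relIndex (O.K x) ∣ (d - 1).factorial ^ d := by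
  have h := relIndex_dvd (O.K x) (O.N x) (fun y : {y // O.E x y} => {c | O.E c y.1} \ {x})
    (fun y g hg c hc => by
      obtain ⟨h1, h2⟩ := O.mem_K.1 hg
      refine ⟨?_, ?_⟩
      · have := O.inv g c y.1 hc.1
        rwa [h2 y.1 y.2] at this
      · intro he
        rw [Set.mem_singleton_iff] at he
        exact hc.2 ((smul_left_cancel g (he.trans h1.symm))))
    (fun g hg => by
      obtain ⟨h1, h2⟩ := O.mem_K.1 hg
      rw [O.mem_N]
      refine ⟨fun h y c hc => (O.flip.mem_K.1 (h.2 y.1 y.2)).2 c hc.1,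
        fun h => ⟨hg, fun y hy => O.flip.mem_K.2 ⟨h2 y hy, fun c hc => ?_⟩⟩⟩
      by_cases hcx : c = x
      · rw [hcx, h1]
      · exact h ⟨y, hy⟩ c ⟨hc, hcx⟩)
    (d - 1) (fun y => by
      rw [Nat.card_coe_set_eq, Set.ncard_sdiff_singleton_of_mem (show x ∈ {c | O.E c y.1} from y.2),
        ← Nat.card_coe_set_eq]
      exact congrArg (· - 1) (hin y.1))
  rwa [hout x] at h

theorem card_dvd [Finite G] [Finite Ω] (hout : ∀ x, Nat.card {y // O.E x y} = d)
    (hin : ∀ y, Nat.card {x // O.E x y} = d) (x : Ω) :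
    Nat.card (MulAction.stabilizer G x) ∣ d.factorial * (d - 1).factorial ^ d * Nat.card (O.N x) := by
  rw [← relIndex_bot_left (MulAction.stabilizer G x),
    ← relIndex_mul_relIndex ⊥ (O.N x) (MulAction.stabilizer G x) bot_le (O.N_le x), relIndex_bot_left, mul_comm,
    ← relIndex_mul_relIndex (O.N x) (O.K x) _ (O.N_le_K x) (O.K_le x), mul_comm ((O.N x).relIndex (O.K x))]
  exact mul_dvd_mul (mul_dvd_mul (O.relIndex_K_dvd hout x) (O.relIndex_N_dvd hout hin x)) dvd_rfl

end Orbital

variable [Finite G] [FaithfulSMul G Ω] [Finite Ω]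

theorem exists_orbital (hprim : MulAction.IsPreprimitive G Ω) (a b : Ω) (d : ℕ)
    (hd : Nat.card (MulAction.orbit (MulAction.stabilizer G a) b) = d) (h2 : 2 ≤ d) :
    ∃ O : Orbital G Ω, O.E a b ∧ (∀ x, Nat.card {y // O.E x y} = d) ∧ (∀ y, Nat.card {x // O.E x y} = d) := by
  haveI := hprim.toIsPretransitive
  have hne : MulAction.stabilizer G a ≠ MulAction.stabilizer G b := by
    intro e
    have hsub : MulAction.orbit (MulAction.stabilizer G a) b ⊆ {b} := by
      rintro _ ⟨g, rfl⟩
      exact (show (g : G) • b = b from (e ▸ g.2 : (g : G) ∈ MulAction.stabilizer G b))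
    have := Set.ncard_le_ncard hsub (Set.finite_singleton b)
    rw [Set.ncard_singleton, ← Nat.card_coe_set_eq, hd] at this
    omega
  haveI : Nontrivial Ω := ⟨a, b, fun h => hne (by rw [h])⟩
  have hcoatom : ∀ x : Ω, IsCoatom (MulAction.stabilizer G x) := fun x =>
    (MulAction.isCoatom_stabilizer_iff_preprimitive G x).2 hprim
  let E : Ω → Ω → Prop := fun x y => ∃ g : G, g • a = x ∧ g • b = y
  have inv : ∀ (g : G) (x y : Ω), E x y → E (g • x) (g • y) := by
    rintro g x y ⟨k, rfl, rfl⟩; exact ⟨g * k, mul_smul .., mul_smul ..⟩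
  have maxim : ∀ (x : Ω) (X : Subgroup G), X ≠ ⊥ → X ≤ MulAction.stabilizer G x →
      MulAction.stabilizer G x ≤ normalizer (X : Set G) → normalizer (X : Set G) ≤ MulAction.stabilizer G x := by
    intro x X hX hXle hn
    rcases (hcoatom x).le_iff.1 hn with h | h
    · exfalso
      refine hX (eq_bot_iff.2 fun s hs => mem_bot.2 (FaithfulSMul.eq_of_smul_eq_smul fun z : Ω => ?_))
      obtain ⟨g, rfl⟩ := MulAction.exists_smul_eq G x z
      have hg : g⁻¹ ∈ normalizer (X : Set G) := h ▸ mem_top _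
      have h1 := (mem_normalizer_iff.1 hg s).1 hs
      rw [inv_inv] at h1
      have h2 : (g⁻¹ * s * g) • x = x := hXle h1
      rw [mul_smul, mul_smul, inv_smul_eq_iff] at h2
      rw [one_smul]; exact h2
    · exact h.le
  have moved : ∀ x y, E x y → MulAction.stabilizer G x ≠ MulAction.stabilizer G y := by
    rintro x y ⟨g, rfl, rfl⟩
    rw [MulAction.stabilizer_smul_eq_stabilizer_map_conj, MulAction.stabilizer_smul_eq_stabilizer_map_conj]
    exact fun e => hne (Subgroup.map_injective (MulAut.conj g).injective e)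
  refine ⟨⟨E, inv, ?_, fun x => ?_, fun y => ?_, moved, maxim⟩, ⟨1, one_smul _ _, one_smul _ _⟩, fun x => ?_, fun y => ?_⟩
  · rintro x y x' y' ⟨g, rfl, rfl⟩ ⟨k, rfl, rfl⟩
    exact ⟨k * g⁻¹, by rw [mul_smul, inv_smul_smul], by rw [mul_smul, inv_smul_smul]⟩
  · obtain ⟨g, rfl⟩ := MulAction.exists_smul_eq G a x; exact ⟨g • b, g, rfl, rfl⟩
  · obtain ⟨g, rfl⟩ := MulAction.exists_smul_eq G b y; exact ⟨g • a, g, rfl, rfl⟩
  · obtain ⟨g, rfl⟩ := MulAction.exists_smul_eq G a x
    show Nat.card {y // E (g • a) y} = d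
    rw [← hd]
    refine (Nat.card_congr (Equiv.subtypeEquiv (MulAction.toPerm g) fun z => ?_)).symm
    constructor
    · rintro ⟨h, rfl⟩
      exact ⟨g * h, by rw [mul_smul]; exact congrArg (g • ·) h.2, by rw [mul_smul]; rfl⟩
    · rintro ⟨k, h1, h2⟩
      refine ⟨⟨g⁻¹ * k, ?_⟩, ?_⟩
      · show (g⁻¹ * k) • a = a
        rw [mul_smul, h1, inv_smul_smul]
      · show (g⁻¹ * k) • b = z
        rw [mul_smul, h2, MulAction.toPerm_apply, inv_smul_smul]
  · obtain ⟨g, rfl⟩ := MulAction.exists_smul_eq G b y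
    show Nat.card {x // E x (g • b)} = d
    have h1 : Nat.card (MulAction.orbit (MulAction.stabilizer G b) a) = d := by
      have hsc : ∀ c : Ω, Nat.card Ω * Nat.card (MulAction.stabilizer G c) = Nat.card G := fun c => by
        rw [← Subgroup.index_mul_card (MulAction.stabilizer G c), MulAction.index_stabilizer_of_transitive]
      have hpos : 0 < Nat.card Ω := Nat.card_pos
      have hab : Nat.card (MulAction.stabilizer G a) = Nat.card (MulAction.stabilizer G b) :=
        Nat.eq_of_mul_eq_mul_left hpos ((hsc a).trans (hsc b).symm)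
      have horb : ∀ u v : Ω, Nat.card (MulAction.orbit (MulAction.stabilizer G u) v) *
          Nat.card (MulAction.stabilizer G u ⊓ MulAction.stabilizer G v : Subgroup G) = Nat.card (MulAction.stabilizer G u) := by
        intro u v
        rw [Nat.card_coe_set_eq, ← MulAction.index_stabilizer, mul_comm,
          ← Subgroup.card_mul_index (MulAction.stabilizer (MulAction.stabilizer G u) v)]
        congr 1
        refine Nat.card_congr ⟨fun s => ⟨⟨s.1, s.2.1⟩, s.2.2⟩, fun s => ⟨s.1.1, s.1.2, s.2⟩, fun _ => rfl, fun _ => rfl⟩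
      have e1 := horb a b
      have e2 := horb b a
      rw [inf_comm (MulAction.stabilizer G b), ← hab] at e2
      rw [← hd]
      exact Nat.eq_of_mul_eq_mul_right Nat.card_pos (e2.trans e1.symm)
    rw [← h1]
    refine (Nat.card_congr (Equiv.subtypeEquiv (MulAction.toPerm g) fun z => ?_)).symm
    constructor
    · rintro ⟨h, rfl⟩
      exact ⟨g * h, by rw [mul_smul]; rfl, by rw [mul_smul]; exact congrArg (g • ·) h.2⟩
    · rintro ⟨k, h1, h2⟩
      refine ⟨⟨g⁻¹ * k, ?_⟩, ?_⟩
      · show (g⁻¹ * k) • b = b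
        rw [mul_smul, h2, inv_smul_smul]
      · show (g⁻¹ * k) • a = z
        rw [mul_smul, h1, MulAction.toPerm_apply, inv_smul_smul]

/-- A point stabiliser with non-p-core generalized Fitting subgroup has order bounded by a suborbit length. -/
theorem card_stabilizer_dvd (hprim : MulAction.IsPreprimitive G Ω) (a b : Ω) (d : ℕ)
    (hd : Nat.card (MulAction.orbit (MulAction.stabilizer G a) b) = d) (h2 : 2 ≤ d)
    (hnc : ∀ p : ℕ, p.Prime → Cfsg.generalizedFittingSubgroup (MulAction.stabilizer G a) ≠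
      Cfsg.pCore p (MulAction.stabilizer G a)) :
    Nat.card (MulAction.stabilizer G a) ∣ d.factorial * (d - 1).factorial ^ d := by
  obtain ⟨O, hab, hout, hin⟩ := exists_orbital hprim a b d hd h2
  have e1 := O.card_dvd hout hin a
  have e2 := O.flip.card_dvd hin hout a
  by_cases hN : O.N a = ⊥
  · rwa [hN, card_bot, mul_one] at e1
  by_cases hN' : O.flip.N a = ⊥
  · rwa [hN', card_bot, mul_one] at e2
  rcases O.pCore_or_coprime (Orbital.ne_bot_of_smul O.N_smul O hN)
    (Orbital.ne_bot_of_smul O.flip.N_smul O hN') a with ⟨q, hq, h⟩ | hcop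
  · exact absurd h (hnc q hq)
  · have h := Nat.dvd_gcd e1 e2
    rwa [Nat.gcd_mul_left, hcop.gcd_eq_one, mul_one] at h

end CfsgLib.Recog.TW
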