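import Cfsg.Agent.Lib.Recog.ThompsonWielandtBound
import Cfsg.Agent.Lib.ClassK.Core
import Cfsg.Agent.Lib.Comp.Components

/-!
Nontrivial double kernels along an orbital are `p`-groups for a single prime `p`, and the
generalized Fitting subgroups of the point stabiliser and of its kernel are `p`-groups.
-/

set_option autoImplicit false
set_option linter.unusedSectionVars false
set_option linter.style.haveILetI false

namespace CfsgLib.Recog.TW

open Subgroup

variable {G Ω : Type*} [Group G] [Finite G] [MulAction G Ω]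

/-- In a normal subgroup the properties of `F*` being a `p`-group are inherited. -/
theorem gfit_eq_pCore_of_normal {p : ℕ} [Fact p.Prime] {H : Subgroup G} {X : Subgroup G} (hXH : X ≤ H)
    (hn : H ≤ normalizer (X : Set G)) (hE : Cfsg.layer H = ⊥) (hO : Cfsg.pPrimeCore p H = ⊥) :
    Cfsg.generalizedFittingSubgroup X = Cfsg.pCore p X := by
  set T := X.subgroupOf H
  haveI hT : T.Normal := (normal_subgroupOf_iff_le_normalizer hXH).2 hn
  let e : X ≃* T := (subgroupOfEquivOfLe hXH).symm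
  rw [CfsgLib.Comp.generalizedFitting_eq_pCore_iff, CfsgLib.Comp.centralizer_pCore_le_iff]
  refine ⟨?_, ?_⟩
  · refine le_bot_iff.1 (sSup_le fun C hC => ?_)
    have h1 := CfsgLib.Comp.le_layer (CfsgLib.Comp.isComponent_map_subtype (Normal.isSubnormal hT)
      (CfsgLib.Comp.isComponent_map_mulEquiv e hC))
    rw [hE, le_bot_iff, map_eq_bot_iff_of_injective _ T.subtype_injective,
      map_eq_bot_iff_of_injective _ e.injective] at h1
    exact h1.le
  · haveI := Cfsg.pPrimeCore_normal p X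
    haveI := CfsgLib.Solvable.pPrimeCore_characteristic p T
    have hcard := CfsgLib.Comp.coprime_card_pPrimeCore p X
    have h1 : (Cfsg.pPrimeCore p X).map e.toMonoidHom ≤ Cfsg.pPrimeCore p T :=
      CfsgLib.ClassK.le_pPrimeCore (Normal.map inferInstance _ e.surjective)
        (by rw [card_map_of_injective e.injective]; exact hcard)
    have h2 : (Cfsg.pPrimeCore p T).map T.subtype ≤ Cfsg.pPrimeCore p H :=
      CfsgLib.ClassK.le_pPrimeCore inferInstance
        (by rw [card_map_of_injective T.subtype_injective]; exact CfsgLib.Comp.coprime_card_pPrimeCore p T)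
    rw [hO, le_bot_iff, map_eq_bot_iff_of_injective _ T.subtype_injective] at h2
    rw [h2, le_bot_iff, map_eq_bot_iff_of_injective _ e.injective] at h1
    exact h1

namespace Orbital

variable (O : Orbital G Ω)

/-- The cores for all primes but one are trivial. -/
theorem pc_eq_bot_one {r q : ℕ} (hr : r.Prime) (hq : q.Prime) (hne : r ≠ q)
    (hqx : ∀ x, O.N x ⊓ pc q (MulAction.stabilizer G x) ≠ ⊥) (y : Ω) :
    pc r (MulAction.stabilizer G y) = ⊥ := by
  obtain ⟨x, hxy⟩ := O.inn y
  set D := MulAction.stabilizer G y ⊓ MulAction.stabilizer G x with hD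
  have hMD : O.flip.K y ≤ D := le_inf (O.flip.K_le y) (O.flip.K_le_nbr hxy)
  have hMn : D ≤ normalizer (O.flip.K y : Set G) := inf_le_left.trans (norm_of_smul O.flip.K_smul y)
  have hle : pc r D ≤ O.flip.K y := by
    intro a ha
    refine O.flip.mem_K.2 ⟨(pc_le r D ha).1, fun x' hx' => ?_⟩
    set Q := O.N x' ⊓ pc q (MulAction.stabilizer G x') with hQ
    have hsm : ∀ (g : G) (z : Ω), O.N (g • z) ⊓ pc q (MulAction.stabilizer G (g • z)) =
        cj g (O.N z ⊓ pc q (MulAction.stabilizer G z)) :=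
      inf_smul (F' := fun z => pc q (MulAction.stabilizer G z)) O.N_smul (pc_smul q)
    have hQn : MulAction.stabilizer G x' ≤ normalizer (Q : Set G) :=
      norm_of_smul (F := fun z => O.N z ⊓ pc q (MulAction.stabilizer G z)) hsm x'
    have hQM : Q ≤ O.flip.K y := inf_le_left.trans (O.N_le_M hx')
    have hQD : Q ≤ pc q D := le_pc (hQM.trans hMD)
      (subn_trans hQM hMD (subn_of_normalizer hQM ((O.flip.K_le_nbr hx').trans hQn))
        (subn_of_normalizer hMD hMn))
      ((pc_isPGroup q _).to_le inf_le_right)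
    exact O.maxim x' Q (hqx x') (inf_le_left.trans (O.N_le x')) hQn
      (centralizer_le_normalizer _ (centralizer_le hQD (pc_commute hr hq hne _ ha)))
  have h0 : pc r D = ⊥ := O.flip.pc_arc_eq_bot hr hxy hle
  have hPD : pc r (MulAction.stabilizer G y) ≤ D := le_inf (pc_le r _) (O.pc_le_pred hr hq hne hxy (hqx x))
  exact le_bot_iff.1 ((le_pc (r := r) hPD (subn_of_normalizer hPD (inf_le_left.trans (pc_norm r _)))
    (pc_isPGroup r _)).trans h0.le)

/-- The double kernel is a `q`-group. -/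
theorem isPGroup_N {q : ℕ} (hq : q.Prime) (hqy : ∀ y : Ω, pc q (MulAction.stabilizer G y) ≠ ⊥) (a : Ω) :
    IsPGroup q (O.N a) := by
  by_contra hnp
  have hX := ne_bot_of_smul (O.pPrimePart_smul q) O (x := a) fun h => hnp (O.isPGroup_of_pPrimePart hq h)
  obtain ⟨y, hay⟩ := O.out a
  set D := MulAction.stabilizer G y ⊓ MulAction.stabilizer G a with hD
  have hMD : O.flip.K y ≤ D := le_inf (O.flip.K_le y) (O.flip.K_le_nbr hay)
  have key : ∀ P : Subgroup G, IsPGroup q P → P ≤ MulAction.stabilizer G y →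
      O.flip.K y ≤ normalizer (P : Set G) → ∀ x', O.E x' y → P ≤ MulAction.stabilizer G x' := by
    intro P hP hPy hKP x' hx'
    exact (O.pPrimePart_norm hP (O.N_le_M hx') ((O.flip.K_le_nbr hx').trans (norm_of_smul O.N_smul x'))
      hKP (hPy.trans (norm_of_smul O.flip.K_smul y))).trans
      (O.maxim x' _ (hX x') (O.pPrimePart_le q x') (norm_of_smul (O.pPrimePart_smul q) x'))
  have hR : pc q D ≤ O.flip.K y := fun b hb => O.flip.mem_K.2 ⟨(pc_le q D hb).1, fun x' hx' =>
    key _ (pc_isPGroup q D) ((pc_le q D).trans inf_le_left) (hMD.trans (pc_norm q D)) x' hx' hb⟩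
  have h0 : pc q D = ⊥ := O.flip.pc_arc_eq_bot hq hay hR
  have hPD : pc q (MulAction.stabilizer G y) ≤ D := le_inf (pc_le q _)
    (key _ (pc_isPGroup q _) (pc_le q _) ((O.flip.K_le y).trans (pc_norm q _)) a hay)
  exact hqy y (le_bot_iff.1 ((le_pc (r := q) hPD (subn_of_normalizer hPD (inf_le_left.trans (pc_norm q _)))
    (pc_isPGroup q _)).trans h0.le))

/-- The one-prime form of the theorem of Thompson and Wielandt. -/
theorem one_prime (hN : ∀ x, O.N x ≠ ⊥) (hN' : ∀ y, O.flip.N y ≠ ⊥) (a : Ω) :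
    ∃ p : ℕ, p.Prime ∧ (∀ x, IsPGroup p (O.N x)) ∧ (∀ y, IsPGroup p (O.flip.N y)) ∧
      ∀ x, Cfsg.generalizedFittingSubgroup (MulAction.stabilizer G x) =
          Cfsg.pCore p (MulAction.stabilizer G x) ∧
        Cfsg.generalizedFittingSubgroup (O.K x) = Cfsg.pCore p (O.K x) ∧
        Cfsg.generalizedFittingSubgroup (O.flip.K x) = Cfsg.pCore p (O.flip.K x) := by
  have hE := O.layer_eq_bot hN hN'
  obtain ⟨p, hp, hqx⟩ := O.exists_prime hN hE a
  haveI := Fact.mk hp
  have hne : ∀ y : Ω, pc p (MulAction.stabilizer G y) ≠ ⊥ := fun y h =>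
    hqx y (le_bot_iff.1 (inf_le_right.trans h.le))
  have hO : ∀ x : Ω, Cfsg.pPrimeCore p (MulAction.stabilizer G x) = ⊥ := by
    intro x
    by_contra hOx
    haveI := Cfsg.pPrimeCore_normal p (MulAction.stabilizer G x)
    obtain ⟨r, hr, hrne⟩ := exists_pCore_inf (hE x) (Cfsg.pPrimeCore p (MulAction.stabilizer G x)) hOx
    have hrp : r ≠ p := by
      rintro rfl
      exact hrne ((inf_comm _ _).trans (CfsgLib.Comp.inf_eq_bot_of_isPGroup
        (CfsgLib.Comp.isPGroup_pCore r _) (CfsgLib.Comp.coprime_card_pPrimeCore r _)))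
    have h0 := O.pc_eq_bot_one hr hp hrp hqx x
    rw [pc, map_eq_bot_iff_of_injective _ (MulAction.stabilizer G x).subtype_injective] at h0
    exact hrne (le_bot_iff.1 (inf_le_right.trans h0.le))
  exact ⟨p, hp, fun x => O.isPGroup_N hp hne x, fun y => O.flip.isPGroup_N hp hne y, fun x =>
    ⟨(CfsgLib.Comp.generalizedFitting_eq_pCore_iff p _).2
        ((CfsgLib.Comp.centralizer_pCore_le_iff p _).2 ⟨hE x, hO x⟩),
      gfit_eq_pCore_of_normal (O.K_le x) (norm_of_smul O.K_smul x) (hE x) (hO x),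
      gfit_eq_pCore_of_normal (O.flip.K_le x) (norm_of_smul O.flip.K_smul x) (hE x) (hO x)⟩⟩

theorem mem_core {M Y : Subgroup G} {a : G} :
    a ∈ (Y.subgroupOf M).normalCore.map M.subtype ↔ a ∈ M ∧ ∀ h ∈ M, h * a * h⁻¹ ∈ Y := by
  constructor
  · rintro ⟨b, hb, rfl⟩
    exact ⟨b.2, fun h hh => hb ⟨h, hh⟩⟩
  · rintro ⟨ha, h⟩
    exact ⟨⟨a, ha⟩, fun k => h k k.2, rfl⟩

theorem smul_stab {g a : G} {z : Ω} :
    a ∈ MulAction.stabilizer G (g • z) ↔ g⁻¹ * a * g ∈ MulAction.stabilizer G z := by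
  rw [MulAction.mem_stabilizer_iff, MulAction.mem_stabilizer_iff, mul_smul, mul_smul, inv_smul_eq_iff]

theorem K_eq_core {x y : Ω} (h : O.E x y) :
    O.K x = ((MulAction.stabilizer G x ⊓ MulAction.stabilizer G y).subgroupOf
      (MulAction.stabilizer G x)).normalCore.map (MulAction.stabilizer G x).subtype := by
  ext a
  rw [mem_core, mem_K]
  refine ⟨fun ⟨h1, h2⟩ => ⟨h1, fun k hk => mem_inf.2 ⟨?_, ?_⟩⟩,
    fun ⟨h1, h2⟩ => ⟨h1, fun y' hy' => ?_⟩⟩
  · exact mul_mem (mul_mem hk (show a ∈ MulAction.stabilizer G x from h1)) (inv_mem hk)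
  · have he : O.E x (k⁻¹ • y) := by
      have := O.inv k⁻¹ _ _ h
      rwa [MulAction.mem_stabilizer_iff.1 (inv_mem hk)] at this
    have := h2 _ he
    rw [MulAction.mem_stabilizer_iff, mul_smul, mul_smul, this, smul_inv_smul]
  · obtain ⟨k, hk, rfl⟩ := O.trans x y x y' h hy'
    have := (mem_inf.1 (h2 k⁻¹ (inv_mem (show k ∈ MulAction.stabilizer G x from hk)))).2
    rw [inv_inv] at this
    exact MulAction.mem_stabilizer_iff.1 (smul_stab.2 this)

theorem N_eq_core {x y : Ω} (h : O.E x y) :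
    O.N x = ((O.K x ⊓ O.flip.K y).subgroupOf
      (MulAction.stabilizer G x)).normalCore.map (MulAction.stabilizer G x).subtype := by
  ext a
  rw [mem_core, mem_N]
  refine ⟨fun ⟨h1, h2⟩ => ⟨O.K_le x h1, fun k hk => ?_⟩, fun ⟨h1, h2⟩ => ⟨?_, fun y' hy' => ?_⟩⟩
  · refine ⟨(mem_normalizer_iff.1 (norm_of_smul O.K_smul x hk) a).1 h1, ?_⟩
    have he : O.E x (k⁻¹ • y) := by
      have := O.inv k⁻¹ _ _ h
      rwa [MulAction.mem_stabilizer_iff.1 (inv_mem hk)] at this
    have := h2 _ he
    rwa [O.flip.K_smul, mem_cj, inv_inv] at this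
  · have := (h2 1 (one_mem _)).1
    rwa [one_mul, inv_one, mul_one] at this
  · obtain ⟨k, hk, rfl⟩ := O.trans x y x y' h hy'
    have := (h2 k⁻¹ (inv_mem (show k ∈ MulAction.stabilizer G x from hk))).2
    rw [inv_inv] at this
    rw [O.flip.K_smul, mem_cj]
    exact this

end Orbital

/-- The orbital on cosets of a core-free maximal subgroup. -/
def cosetOrbital (M : Subgroup G) (hM : IsCoatom M) (hcore : M.normalCore = ⊥) (g : G)
    (hg : M ≠ M.map (MulAut.conj g).toMonoidHom) : Orbital G (G ⧸ M) where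
  E a b := ∃ h : G, h • ((1 : G) : G ⧸ M) = a ∧ h • ((g : G) : G ⧸ M) = b
  inv k x y := by
    rintro ⟨h, rfl, rfl⟩
    exact ⟨k * h, mul_smul _ _ _, mul_smul _ _ _⟩
  trans := by
    rintro _ _ _ _ ⟨h, rfl, rfl⟩ ⟨h', rfl, rfl⟩
    exact ⟨h' * h⁻¹, by rw [mul_smul, inv_smul_smul], by rw [mul_smul, inv_smul_smul]⟩
  out x := by
    obtain ⟨h, rfl⟩ := QuotientGroup.mk_surjective x
    exact ⟨_, h, by rw [MulAction.Quotient.smul_mk, smul_eq_mul, mul_one], rfl⟩
  inn y := by
    obtain ⟨h, rfl⟩ := QuotientGroup.mk_surjective y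
    exact ⟨_, h * g⁻¹, rfl, by rw [MulAction.Quotient.smul_mk, smul_eq_mul, inv_mul_cancel_right]⟩
  moved := by
    rintro _ _ ⟨h, rfl, rfl⟩ he
    rw [MulAction.stabilizer_smul_eq_stabilizer_map_conj,
      MulAction.stabilizer_smul_eq_stabilizer_map_conj] at he
    have he' := map_injective (MulAut.conj h).injective he
    rw [show ((g : G) : G ⧸ M) = g • ((1 : G) : G ⧸ M) by
      rw [MulAction.Quotient.smul_mk, smul_eq_mul, mul_one],
      MulAction.stabilizer_smul_eq_stabilizer_map_conj] at he'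
    have e1 : MulAction.stabilizer G ((1 : G) : G ⧸ M) = M := MulAction.stabilizer_quotient M
    rw [e1] at he'
    exact hg he'
  maxim x X hX hXx hn := by
    obtain ⟨h, rfl⟩ := QuotientGroup.mk_surjective x
    have e : MulAction.stabilizer G ((h : G) : G ⧸ M) = M.map (MulAut.conj h).toMonoidHom := by
      rw [show ((h : G) : G ⧸ M) = h • ((1 : G) : G ⧸ M) by
        rw [MulAction.Quotient.smul_mk, smul_eq_mul, mul_one],
        MulAction.stabilizer_smul_eq_stabilizer_map_conj]
      exact congrArg (map _) (MulAction.stabilizer_quotient M)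
    rw [e] at hXx hn ⊢
    have hmax : IsCoatom (M.map (MulAut.conj h).toMonoidHom) :=
      ((MulAut.conj h).mapSubgroup.isCoatom_iff M).2 hM
    rcases hmax.le_iff.1 hn with ht | ht
    · exfalso
      haveI : X.Normal := normalizer_eq_top_iff.1 ht
      refine hX (le_bot_iff.1 ?_)
      rw [← hcore]
      refine Subgroup.normal_le_normalCore.2 fun a ha => ?_
      obtain ⟨b, hb, hab⟩ := hXx (Normal.conj_mem inferInstance a ha h)
      rwa [← (MulAut.conj h).injective hab]
    · exact ht.le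

theorem stabilizer_cosetBase (M : Subgroup G) (g : G) :
    MulAction.stabilizer G ((g : G) : G ⧸ M) = M.map (MulAut.conj g).toMonoidHom := by
  rw [show ((g : G) : G ⧸ M) = g • ((1 : G) : G ⧸ M) by
    rw [MulAction.Quotient.smul_mk, smul_eq_mul, mul_one],
    MulAction.stabilizer_smul_eq_stabilizer_map_conj]
  exact congrArg (map _) (MulAction.stabilizer_quotient M)

end CfsgLib.Recog.TW
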