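import Cfsg.Prelude.Def_CaseTheorems
import Cfsg.Agent.Lib.StructC.UniqueInvol
import Mathlib.LinearAlgebra.FiniteDimensional.Lemmas
import Mathlib.LinearAlgebra.Matrix.GeneralLinearGroup.Card
import Mathlib.LinearAlgebra.Matrix.ToLinearEquiv
import Mathlib.GroupTheory.Sylow
import Mathlib.RingTheory.IntegralDomain
import Mathlib.Tactic

/-! p-groups transitive on the nonzero vectors of a finite space over a prime field. -/

set_option autoImplicit false

namespace CfsgLib.Recog.TransitivePGroup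

theorem odd_cofactor_add {p : ℕ} (hp : Odd p) : ∀ m : ℕ, ∃ t, p ^ (2 * m + 1) + 1 = (p + 1) * (2 * t + 1)
  | 0 => ⟨0, by ring⟩
  | m + 1 => by
    obtain ⟨t, ht⟩ := odd_cofactor_add hp m
    obtain ⟨r, rfl⟩ := hp
    refine ⟨(2 * r + 1) ^ 2 * t + 2 * r * r + r, ?_⟩
    zify at ht ⊢
    rw [show 2 * (m + 1) + 1 = 2 * m + 1 + 2 by ring, pow_add]
    linear_combination (2 * (r : ℤ) + 1) ^ 2 * ht

theorem odd_cofactor_sub {q : ℕ} (hq : Odd q) : ∀ m : ℕ, ∃ t, q ^ (2 * m + 1) = 1 + (q - 1) * (2 * t + 1)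
  | 0 => ⟨0, by have := hq.pos; simp; omega⟩
  | m + 1 => by
    obtain ⟨t, ht⟩ := odd_cofactor_sub hq m
    obtain ⟨r, rfl⟩ := hq
    refine ⟨(2 * r + 1) ^ 2 * t + 2 * r * r + 3 * r + 1, ?_⟩
    simp only [Nat.add_sub_cancel] at ht ⊢
    zify at ht ⊢
    rw [show 2 * (m + 1) + 1 = 2 * m + 1 + 2 by ring, pow_add]
    linear_combination (2 * (r : ℤ) + 1) ^ 2 * ht

theorem eq_one_of_odd_dvd_two_pow {c d : ℕ} (hc : Odd c) (h : c ∣ 2 ^ d) : c = 1 :=
  Nat.eq_one_of_dvd_coprimes ((Nat.coprime_two_right.2 hc).pow_right d) dvd_rfl h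

theorem exp_eq_one_of_add_one {p e d : ℕ} (hp : Odd p) (hp1 : p ≠ 1) (he : e ≠ 0) (h : p ^ e + 1 = 2 ^ d) :
    e = 1 := by
  rcases Nat.even_or_odd' e with ⟨m, rfl | rfl⟩
  · exfalso
    obtain ⟨s, hs⟩ : Odd (p ^ m) := hp.pow
    rw [pow_mul', hs] at h
    have hm : 1 < p ^ m := Nat.one_lt_pow (by omega) (by have := hp.pos; omega)
    match d, h with
    | 0, h => nlinarith
    | 1, h => nlinarith
    | d + 2, h =>
      have h4 : (2 * s + 1) ^ 2 + 1 = 4 * (s * s + s) + 2 := by ring
      have h5 : 2 ^ (d + 2) = 4 * 2 ^ d := by ring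
      omega
  · obtain ⟨t, ht⟩ := odd_cofactor_add hp m
    have h1 := eq_one_of_odd_dvd_two_pow (c := 2 * t + 1) ⟨t, rfl⟩ (d := d) ⟨p + 1, by rw [← h, ht, mul_comm]⟩
    rw [h1, mul_one] at ht
    exact Nat.pow_right_injective (show 2 ≤ p by have := hp.pos; omega) (show p ^ (2 * m + 1) = p ^ 1 by rw [pow_one]; omega)

theorem two_pow_add_one {q e d : ℕ} (hq : Odd q) (hq1 : q ≠ 1) (hd : d ≠ 0) (h : q ^ d = 2 ^ e + 1) :
    d = 1 ∨ (q = 3 ∧ d = 2) := by
  have hq3 : 3 ≤ q := by obtain ⟨r, rfl⟩ := hq; omega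
  rcases Nat.even_or_odd' d with ⟨m, rfl | rfl⟩
  · right
    obtain ⟨r, hr⟩ : ∃ r, r = q ^ m := ⟨_, rfl⟩
    have hr3 : 3 ≤ r := hr ▸ le_trans hq3 (Nat.le_self_pow (by omega) q)
    rw [pow_mul', ← hr] at h
    have hdvd : r - 1 ∣ 2 ^ e := ⟨r + 1, by
      obtain ⟨s, rfl⟩ : ∃ s, r = s + 1 := ⟨r - 1, by omega⟩
      simp only [Nat.add_sub_cancel]; nlinarith⟩
    obtain ⟨i, -, hi⟩ := (Nat.dvd_prime_pow Nat.prime_two).1 hdvd
    obtain ⟨j, -, hj⟩ := (Nat.dvd_prime_pow Nat.prime_two).1 (show r + 1 ∣ 2 ^ e from ⟨r - 1, by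
      obtain ⟨s, rfl⟩ : ∃ s, r = s + 1 := ⟨r - 1, by omega⟩
      simp only [Nat.add_sub_cancel]; nlinarith⟩)
    have hi1 : i = 1 := by
      match i, hi with
      | 0, hi => simp at hi; omega
      | 1, _ => rfl
      | i + 2, hi =>
        match j, hj with
        | 0, hj => simp at hj; omega
        | 1, hj => simp at hj; omega
        | j + 2, hj =>
          rw [pow_add] at hi hj; omega
    subst hi1
    have hr' : q ^ m = 3 := by rw [pow_one] at hi; rw [← hr]; omega
    have := Nat.le_self_pow (show m ≠ 0 by omega) q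
    have hq' : q = 3 := by omega
    subst hq'
    refine ⟨rfl, ?_⟩
    have := Nat.pow_right_injective (show 2 ≤ 3 by norm_num) (show 3 ^ m = 3 ^ 1 by rw [pow_one]; exact hr')
    omega
  · left
    obtain ⟨t, ht⟩ := odd_cofactor_sub hq m
    have h1 := eq_one_of_odd_dvd_two_pow (c := 2 * t + 1) ⟨t, rfl⟩ (d := e) ⟨q - 1, by rw [mul_comm]; omega⟩
    rw [h1, mul_one] at ht
    exact Nat.pow_right_injective (show 2 ≤ q by omega) (show q ^ (2 * m + 1) = q ^ 1 by rw [pow_one]; omega)

/-- An element of order eight in `GL(2,3)`. -/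
def mX : GL (Fin 2) (ZMod 3) := ⟨!![0, 1; 1, 1], !![2, 1; 1, 0], by decide +kernel, by decide +kernel⟩

/-- An involution in `GL(2,3)` mapping it to its cube. -/
def mY : GL (Fin 2) (ZMod 3) := ⟨!![1, 1; 0, 2], !![1, 1; 0, 2], by decide +kernel, by decide +kernel⟩

theorem gl_facts : mX ^ 8 = 1 ∧ mX ^ 4 ≠ 1 ∧ mY ^ 2 = 1 ∧ mY ≠ 1 ∧ mY * mX * mY⁻¹ = mX ^ 3 := by
  refine ⟨?_, ?_, ?_, ?_, ?_⟩ <;> decide +kernel

theorem isQuasiDihedral_sixteen {G : Type*} [Group G] [Finite G] (hcard : Nat.card G = 16)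
    (f : G →* GL (Fin 2) (ZMod 3)) (hf : Function.Injective f) : Cfsg.IsQuasiDihedral G := by
  haveI : Fact (Nat.Prime 2) := ⟨Nat.prime_two⟩
  haveI : Fact (Nat.Prime 3) := ⟨Nat.prime_three⟩
  obtain ⟨h8, h4, hy2, hy1, hconj⟩ := gl_facts
  have ox : orderOf mX = 8 := orderOf_eq_prime_pow (p := 2) (n := 2) h4 h8
  have oy : orderOf mY = 2 := orderOf_eq_prime hy2 hy1
  have hpX : IsPGroup 2 (Subgroup.zpowers mX) := IsPGroup.of_card (n := 3) (by rw [Nat.card_zpowers, ox]; rfl)
  have hpY : IsPGroup 2 (Subgroup.zpowers mY) := IsPGroup.of_card (n := 1) (by rw [Nat.card_zpowers, oy]; rfl)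
  have hnorm : Subgroup.zpowers mY ≤ Subgroup.normalizer (Subgroup.zpowers mX : Set (GL (Fin 2) (ZMod 3))) := by
    rw [Subgroup.zpowers_le, Subgroup.mem_normalizer_iff_map_conj_eq]
    rw [MonoidHom.map_zpowers]
    show Subgroup.zpowers (mY * mX * mY⁻¹) = _
    refine Subgroup.eq_of_le_of_card_ge ?_ ?_
    · rw [Subgroup.zpowers_le, hconj]; exact pow_mem (Subgroup.mem_zpowers _) 3
    · rw [Nat.card_zpowers, Nat.card_zpowers, hconj, orderOf_pow' mX (by norm_num : 3 ≠ 0), ox]; decide
  have hQ := IsPGroup.to_sup_of_normal_right' hpY hpX hnorm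
  obtain ⟨S, hS⟩ := hQ.exists_le_sylow
  have h48 : Nat.card (GL (Fin 2) (ZMod 3)) = 48 := by
    rw [Matrix.card_GL_field, ZMod.card]; decide
  have hS16 : Nat.card (S : Subgroup (GL (Fin 2) (ZMod 3))) = 16 := by
    have h24 : Nat.factorization 48 2 = 4 := by
      rw [show (48 : ℕ) = 2 ^ 4 * 3 by norm_num, Nat.factorization_mul (by norm_num) (by norm_num), Finsupp.add_apply,
        Nat.Prime.factorization_pow Nat.prime_two, Finsupp.single_eq_same,
        Nat.factorization_eq_zero_of_not_dvd (show ¬ 2 ∣ 3 by norm_num)]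
    rw [S.card_eq_multiplicity, h48, h24]
    rfl
  let x : (S : Subgroup (GL (Fin 2) (ZMod 3))) := ⟨mX, hS (Subgroup.mem_sup_right (Subgroup.mem_zpowers _))⟩
  let y : (S : Subgroup (GL (Fin 2) (ZMod 3))) := ⟨mY, hS (Subgroup.mem_sup_left (Subgroup.mem_zpowers _))⟩
  have hR16 : Nat.card f.range = 16 := by rw [Nat.card_congr (MonoidHom.ofInjective hf).symm.toEquiv, hcard]
  let S' : Sylow 2 (GL (Fin 2) (ZMod 3)) := Sylow.ofCard f.range (by
    rw [hR16, ← hS16, S.card_eq_multiplicity])
  let e : (S : Subgroup (GL (Fin 2) (ZMod 3))) ≃* G := (S.equiv S').trans (MonoidHom.ofInjective hf).symm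
  refine ⟨3, le_rfl, by rw [hcard]; rfl, e x, e y, ?_, ?_, ?_⟩
  · rw [MulEquiv.orderOf_eq, ← Subgroup.orderOf_coe]; exact ox
  · rw [MulEquiv.orderOf_eq, ← Subgroup.orderOf_coe]; exact oy
  · rw [← map_inv, ← map_mul, ← map_mul, ← map_pow]
    exact congrArg e (Subtype.ext hconj)

theorem quat_two {G : Type*} [Group G] {n : ℕ} (hk : Nat.card G = 2 ^ 3)
    (hn : Nonempty (G ≃* QuaternionGroup (2 ^ n))) : Nonempty (G ≃* QuaternionGroup 2) := by
  obtain ⟨e⟩ := hn
  have := Nat.card_congr e.toEquiv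
  rw [hk, Nat.card_eq_fintype_card, QuaternionGroup.card] at this
  have h2 : 2 ^ n = 2 := by omega
  rw [h2] at e
  exact ⟨e⟩

theorem orbit_mul_stab (G : Type*) [Group G] [Finite G] {X : Type*} [MulAction G X] (b : X) :
    Nat.card (MulAction.orbit G b) * Nat.card (MulAction.stabilizer G b) = Nat.card G := by
  rw [Nat.card_coe_set_eq, ← MulAction.index_stabilizer, mul_comm, Subgroup.card_mul_index]

variable {q : ℕ} [Fact q.Prime] {V : Type*} [AddCommGroup V] [Module (ZMod q) V] [Finite V] [Nontrivial V]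
  {G : Type*} [Group G] [Finite G] [Nontrivial G] {p : ℕ} [Fact p.Prime]

theorem main (hG : IsPGroup p G) (ρ : G →* (V ≃ₗ[ZMod q] V)) (hρ : Function.Injective ρ)
    (htrans : ∀ v w : V, v ≠ 0 → w ≠ 0 → ∃ g : G, ρ g v = w) :
    (q = 2 ∧ p = Nat.card V - 1 ∧ Nat.card G = p) ∨
    (p = 2 ∧ Nat.card V = q ∧ (∃ m : ℕ, q = 2 ^ m + 1 ∧ Nat.card G = 2 ^ m) ∧ IsCyclic G) ∨
    (p = 2 ∧ q = 3 ∧ Nat.card V = 9 ∧
      ((IsCyclic G ∧ Nat.card G = 8) ∨ Nonempty (G ≃* QuaternionGroup 2) ∨ (Cfsg.IsQuasiDihedral G ∧ Nat.card G = 16))) := by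
  classical
  have hqp : q.Prime := Fact.out
  have hpp : p.Prime := Fact.out
  letI : MulAction G V := MulAction.compHom V ((LinearEquiv.automorphismGroup.toLinearMapMonoidHom).comp ρ)
  have hsmul : ∀ (g : G) (v : V), g • v = ρ g v := fun g v => rfl
  obtain ⟨v, hv⟩ := exists_ne (0 : V)
  set d := Module.finrank (ZMod q) V with hd
  have hV : Nat.card V = q ^ d := by rw [Module.natCard_eq_pow_finrank (K := ZMod q), Nat.card_zmod]
  have hd0 : d ≠ 0 := by
    intro h0; rw [h0, pow_zero] at hV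
    exact absurd hV Finite.one_lt_card.ne'
  -- the orbit
  have horb : MulAction.orbit G v = {w | w ≠ 0} := by
    ext w
    constructor
    · rintro ⟨g, rfl⟩; exact fun h => hv ((map_eq_zero_iff _ (ρ g).injective).1 h)
    · intro hw; obtain ⟨g, hg⟩ := htrans v w hv hw; exact ⟨g, hg⟩
  obtain ⟨e, he⟩ := hG.card_orbit v
  have hN : q ^ d = p ^ e + 1 := by
    have h1 : Nat.card ({w : V | w ≠ 0} : Set V) + 1 = Nat.card V := by
      rw [Nat.card_coe_set_eq, show {w : V | w ≠ 0} = ({0} : Set V)ᶜ from rfl, ← Set.ncard_singleton (0 : V),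
        add_comm, Set.ncard_add_ncard_compl]
    rw [horb] at he
    omega
  have hfix : ∀ g : G, (∀ w, ρ g w = w) → g = 1 := fun g h => hρ (by rw [map_one]; ext w; exact h w)
  have he0 : e ≠ 0 := by
    intro h0
    rw [h0, pow_zero] at hN
    obtain ⟨g, hg⟩ := exists_ne (1 : G)
    refine hg (hfix g fun w => ?_)
    by_cases hw : w = 0
    · rw [hw, map_zero]
    · by_contra hne
      have h3 : 3 ≤ Nat.card V := by
        haveI := Fintype.ofFinite V
        rw [Nat.card_eq_fintype_card]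
        calc 3 = ({0, w, ρ g w} : Finset V).card := by
              rw [Finset.card_eq_three.2 ⟨0, w, ρ g w, Ne.symm hw, fun h => hw ((map_eq_zero_iff _ (ρ g).injective).1 h.symm), Ne.symm hne, rfl⟩]
          _ ≤ _ := Finset.card_le_univ _
      omega
  have hGcard : ∃ k, Nat.card G = p ^ k := IsPGroup.iff_card.1 hG
  obtain ⟨k, hk⟩ := hGcard
  have horbdvd : p ^ e ∣ Nat.card G := he ▸ ⟨_, (orbit_mul_stab G v).symm⟩
  rcases hqp.eq_two_or_odd' with rfl | hqo
  · -- characteristic two
    left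
    have hpo : Odd p := by
      rcases hpp.eq_two_or_odd' with rfl | h
      · exfalso
        obtain ⟨e', rfl⟩ : ∃ e', e = e' + 1 := ⟨e - 1, by omega⟩
        obtain ⟨d', hd'⟩ : ∃ d', d = d' + 1 := ⟨d - 1, by omega⟩
        rw [hd', pow_succ, pow_succ] at hN; omega
      · exact h
    have he1 := exp_eq_one_of_add_one hpo hpp.ne_one he0 hN.symm
    subst he1
    rw [pow_one] at hN he horbdvd
    refine ⟨rfl, by omega, ?_⟩
    have hstab : MulAction.stabilizer G v = ⊥ := by
      rw [eq_bot_iff]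
      intro g hg
      rw [Subgroup.mem_bot]
      let K := MulAction.stabilizer G v
      let W : Submodule (ZMod 2) V :=
        { carrier := {w | ∀ h : K, ρ h w = w}
          add_mem' := fun {a b} ha hb h => by rw [map_add, ha h, hb h]
          zero_mem' := fun h => map_zero _
          smul_mem' := fun c a ha h => by rw [map_smul, ha h] }
      have hWeq : MulAction.fixedPoints K V = (W : Set V) := by
        ext w; simp only [MulAction.mem_fixedPoints]; rfl
      have hmod := (hG.to_subgroup K).card_modEq_card_fixedPoints V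
      rw [hWeq] at hmod
      set j := Module.finrank (ZMod 2) W with hj
      have hW : Nat.card W = 2 ^ j := by rw [Module.natCard_eq_pow_finrank (K := ZMod 2), Nat.card_zmod]
      change Nat.card V ≡ Nat.card W [MOD p] at hmod
      rw [hV, hW] at hmod
      have hjd : j ≤ d := Submodule.finrank_le W
      have hj1 : j ≠ 0 := by
        intro h0; rw [h0, pow_zero] at hW
        haveI := (Nat.card_eq_one_iff_unique.1 hW).1
        have := Subsingleton.elim (⟨v, fun h => h.2⟩ : W) 0
        exact hv (congrArg Subtype.val this)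
      have heq : j = d := by
        by_contra hne
        have hdvd := (Nat.modEq_iff_dvd' (Nat.pow_le_pow_right (by norm_num) hjd)).1 hmod.symm
        rw [show 2 ^ d - 2 ^ j = 2 ^ j * (2 ^ (d - j) - 1) by
          rw [Nat.mul_sub, ← pow_add, Nat.add_sub_cancel' hjd, mul_one]] at hdvd
        rcases hpp.dvd_mul.1 hdvd with h | h
        · have := (Nat.prime_dvd_prime_iff_eq hpp Nat.prime_two).1 (hpp.dvd_of_dvd_pow h)
          rw [this] at hpo; exact absurd hpo (by decide)
        · have h1 : 2 ^ (d - j) < 2 ^ d := Nat.pow_lt_pow_right (by norm_num) (by omega)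
          have h2 : 2 ≤ 2 ^ (d - j) := Nat.le_self_pow (by omega) 2
          have := Nat.le_of_dvd (by omega) h
          omega
      have htop : W = ⊤ := Submodule.eq_top_of_finrank_eq heq
      exact hfix g fun w => (htop ▸ Submodule.mem_top : w ∈ W) ⟨g, hg⟩
    have := orbit_mul_stab G v
    rw [he, hstab, Subgroup.card_bot, mul_one] at this
    exact this.symm
  · have hp2 : p = 2 := by
      rcases hpp.eq_two_or_odd' with h | h
      · exact h
      · exfalso
        have h1 : Odd (q ^ d) := hqo.pow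
        rw [hN, Nat.odd_add_one, Nat.not_odd_iff_even, Nat.even_pow] at h1
        exact Nat.not_odd_iff_even.2 h1.1 h
    subst hp2
    rcases two_pow_add_one hqo hqp.ne_one hd0 hN with h1 | ⟨h3, h2⟩
    · right; left
      rw [h1, pow_one] at hV hN
      have hline : ∀ w : V, ∃ c : ZMod q, c • v = w := fun w =>
        (finrank_eq_one_iff_of_nonzero' v hv).1 h1 w
      choose c hc using fun g : G => hline (ρ g v)
      have hcne : ∀ g, c g ≠ 0 := fun g h0 => hv ((map_eq_zero_iff _ (ρ g).injective).1 (by rw [← hc g, h0, zero_smul]))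
      have huniq : ∀ a b : ZMod q, a • v = b • v → a = b := fun a b h => by
        rw [← sub_eq_zero, ← sub_smul] at h
        exact sub_eq_zero.1 ((smul_eq_zero.1 h).resolve_right hv)
      let f : G →* ZMod q :=
        { toFun := c
          map_one' := huniq _ _ (by rw [hc, map_one, one_smul]; rfl)
          map_mul' := fun g h => huniq _ _ (by
            rw [hc, map_mul, LinearEquiv.mul_apply, ← hc h, map_smul, ← hc g, smul_smul, mul_comm]) }
      have hfi : Function.Injective f := by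
        intro g h hgh
        refine hρ (LinearEquiv.ext fun w => ?_)
        obtain ⟨a, rfl⟩ := hline w
        rw [map_smul, map_smul, ← hc g, ← hc h]
        exact congrArg (fun x => a • x • v) hgh
      let f' : G →* (ZMod q)ˣ := f.toHomUnits
      have hf'i : Function.Injective f' := fun g h hgh => hfi (congrArg Units.val hgh)
      refine ⟨rfl, hV, ⟨e, hN, le_antisymm ?_ (Nat.le_of_dvd Nat.card_pos horbdvd)⟩, isCyclic_of_injective f' hf'i⟩
      have := Nat.card_le_card_of_injective f' hf'i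
      rw [Nat.card_units, Nat.card_zmod] at this
      omega
    · right; right
      subst h3
      rw [h2] at hV hN
      have he3 : e = 3 := Nat.pow_right_injective (le_refl 2) (show 2 ^ e = 2 ^ 3 by norm_num at hN ⊢; omega)
      subst he3
      refine ⟨rfl, rfl, hV.trans (by norm_num), ?_⟩
      let b := Module.finBasisOfFinrankEq (ZMod 3) V h2
      let U : (V →ₗ[ZMod 3] V)ˣ →* GL (Fin 2) (ZMod 3) :=
        Units.map (LinearMap.toMatrixAlgEquiv b).toMulEquiv.toMonoidHom
      let F : G →* GL (Fin 2) (ZMod 3) :=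
        U.comp ((LinearMap.GeneralLinearGroup.generalLinearEquiv (ZMod 3) V).symm.toMonoidHom.comp ρ)
      have hF : Function.Injective F :=
        (Units.map_injective (LinearMap.toMatrixAlgEquiv b).injective).comp
          ((LinearMap.GeneralLinearGroup.generalLinearEquiv (ZMod 3) V).symm.injective.comp hρ)
      have h48 : Nat.card G ∣ 48 := by
        have := Subgroup.card_dvd_of_injective F hF
        rwa [show Nat.card (GL (Fin 2) (ZMod 3)) = 48 by rw [Matrix.card_GL_field, ZMod.card]; decide] at this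
      rw [hk] at h48 horbdvd
      have hk3 : 3 ≤ k := (Nat.pow_dvd_pow_iff_le_right (le_refl 2)).1 horbdvd
      have hk4 : k ≤ 4 := by
        by_contra h
        have := (Nat.pow_dvd_pow 2 (show 5 ≤ k by omega)).trans h48
        norm_num at this
      interval_cases k
      · -- regular
        have hreg : ∀ (g : G) (w : V), w ≠ 0 → ρ g w = w → g = 1 := by
          intro g w hw hgw
          have ho : MulAction.orbit G w = MulAction.orbit G v := MulAction.orbit_eq_iff.2 (by rw [horb]; exact hw)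
          have hc := orbit_mul_stab G w
          rw [ho, he, hk] at hc
          have hb : MulAction.stabilizer G w = ⊥ := by
            rw [← Subgroup.card_eq_one]
            exact Nat.eq_of_mul_eq_mul_left (show 0 < 2 ^ 3 by norm_num) (by rw [hc, mul_one])
          exact Subgroup.mem_bot.1 (hb ▸ (show g ∈ MulAction.stabilizer G w from hgw))
        have hneg : ∀ s : G, s ^ 2 = 1 → s ≠ 1 → ∀ w, ρ s w = -w := by
          intro s hs hs1 w
          have h : ρ s (w + ρ s w) = w + ρ s w := by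
            rw [map_add, ← LinearEquiv.mul_apply, ← map_mul, ← pow_two, hs, map_one, add_comm]; rfl
          by_contra hne
          exact hs1 (hreg s _ (fun h0 => hne (eq_neg_of_add_eq_zero_right h0)) h)
        have h2 : ∀ s : G, orderOf s = 2 → ∀ w, ρ s w = -w := fun s hs => hneg s
          (by rw [← hs]; exact pow_orderOf_eq_one s) (fun h => by rw [h, orderOf_one] at hs; omega)
        have huni : ∀ s t : G, orderOf s = 2 → orderOf t = 2 → Commute s t → t ∈ Subgroup.zpowers s :=
          fun s t hs ht _ => by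
            rw [hρ (LinearEquiv.ext fun w => (h2 t ht w).trans (h2 s hs w).symm)]
            exact Subgroup.mem_zpowers s
        rcases CfsgLib.StructC.isCyclic_or_quaternion hG huni with hc | ⟨n, -, hn⟩
        · exact Or.inl ⟨hc, hk⟩
        · refine Or.inr (Or.inl ?_)
          exact quat_two hk hn
      · exact Or.inr (Or.inr ⟨isQuasiDihedral_sixteen hk F hF, hk⟩)

end CfsgLib.Recog.TransitivePGroup
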