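import Mathlib.GroupTheory.Sylow
import Mathlib.GroupTheory.GroupAction.Quotient
import Mathlib.GroupTheory.Index
import Mathlib.GroupTheory.IndexNormal
import Mathlib.GroupTheory.Nilpotent
import Mathlib.Tactic

/-!
A 2-closed transitive group of degree `2p²` has a derangement of prime order.
-/

set_option autoImplicit false
set_option linter.style.haveILetI false

namespace CfsgLib.Recog

open MulAction

theorem two_closed_two_p_sq {G Ω : Type*} [Group G] [Finite G] [MulAction G Ω] [FaithfulSMul G Ω]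
    [Finite Ω] (htrans : IsPretransitive G Ω) (p : ℕ) [Fact p.Prime]
    (hcard : Nat.card Ω = 2 * p ^ 2)
    (hcl : ∀ σ : Equiv.Perm Ω, (∀ a b : Ω, ∃ g : G, σ a = g • a ∧ σ b = g • b) →
      ∃ g : G, ∀ a : Ω, σ a = g • a) :
    ∃ g : G, (orderOf g).Prime ∧ ∀ ω : Ω, g • ω ≠ ω := by
  classical
  have hp : p.Prime := Fact.out
  by_contra hcon
  push Not at hcon
  haveI : Nonempty Ω := (Nat.card_pos_iff.1 (hcard ▸ Nat.mul_pos two_pos (pow_pos hp.pos 2))).1
  obtain ⟨P⟩ : Nonempty (Sylow p G) := inferInstance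
  -- every orbit of `P` has length divisible by `p ^ 2`
  have horb : ∀ x : Ω, p ^ 2 ∣ Nat.card (orbit P x) := by
    intro x
    rw [Nat.card_coe_set_eq, ← index_stabilizer]
    have h1 : p ^ 2 ∣ (stabilizer G x).index := by
      rw [index_stabilizer_of_transitive, hcard]; exact dvd_mul_left _ _
    have hPx : Nat.card (stabilizer P x) ∣ Nat.card (stabilizer G x) := by
      rw [Nat.card_congr ((stabilizer P x).equivMapOfInjective (P : Subgroup G).subtype
        (Subgroup.subtype_injective _)).toEquiv]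
      refine Subgroup.card_dvd_of_le ?_
      rintro _ ⟨g, hg, rfl⟩
      exact hg
    obtain ⟨e, he⟩ := IsPGroup.iff_card.1 (P.2.to_subgroup (stabilizer P x))
    have h2 : p ^ (e + 2) ∣ Nat.card G := by
      rw [← Subgroup.card_mul_index (stabilizer G x), pow_add]
      exact mul_dvd_mul (he ▸ hPx) h1
    have h3 : p ^ (e + 2) ∣ Nat.card P := P.pow_dvd_card_of_pow_dvd_card h2
    rw [← Subgroup.card_mul_index (stabilizer P x), he, pow_add] at h3
    exact (Nat.mul_dvd_mul_iff_left (pow_pos hp.pos e)).1 h3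
  haveI : Nontrivial P := by
    obtain ⟨x⟩ := ‹Nonempty Ω›
    by_contra h
    rw [not_nontrivial_iff_subsingleton] at h
    have h1 := horb x
    rw [Nat.card_eq_one_iff_unique.2 ⟨⟨fun a b => by
      obtain ⟨g, hg⟩ := a.2; obtain ⟨g', hg'⟩ := b.2
      exact Subtype.ext (by rw [← hg, ← hg', Subsingleton.elim g g'])⟩, ⟨⟨x, mem_orbit_self x⟩⟩⟩] at h1
    have := Nat.le_of_dvd one_pos h1
    nlinarith [hp.two_le]
  haveI : Nontrivial (Subgroup.center P) := P.2.center_nontrivial
  have getp : ∀ Z : Subgroup P, Z ≠ ⊥ → ∃ z ∈ Z, orderOf z = p := by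
    intro Z hZ
    obtain ⟨e, he⟩ := IsPGroup.iff_card.1 (P.2.to_subgroup Z)
    have he0 : e ≠ 0 := by
      rintro rfl
      exact hZ (Subgroup.card_eq_one.1 (by simpa using he))
    obtain ⟨z, hz⟩ := exists_prime_orderOf_dvd_card' (G := Z) p (he ▸ dvd_pow_self p he0)
    exact ⟨z, z.2, by rw [Subgroup.orderOf_coe, hz]⟩
  obtain ⟨z, hzc, hzp⟩ := getp (Subgroup.center P) ((Subgroup.nontrivial_iff_ne_bot _).1 inferInstance)
  -- a central element fixing a point fixes its orbit
  have cfix : ∀ w : P, w ∈ Subgroup.center P → ∀ x c : Ω, w • x = x → c ∈ orbit P x → w • c = c := by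
    rintro w hw x _ hx ⟨g, rfl⟩
    show w • g • x = g • x
    rw [← mul_smul, ← Subgroup.mem_center_iff.1 hw g, mul_smul, hx]
  have hder : ∀ w : P, orderOf w = p → ∃ x : Ω, w • x = x := fun w hw =>
    (hcon (w : G) (by rw [Subgroup.orderOf_coe, hw]; exact hp))
  obtain ⟨y, hy⟩ := hder z hzp
  obtain ⟨x, hx⟩ : ∃ x : Ω, z • x ≠ x := by
    by_contra h
    push Not at h
    have : z = 1 := Subtype.ext (FaithfulSMul.eq_of_smul_eq_smul (α := Ω) fun w => by
      rw [OneMemClass.coe_one, one_smul]; exact h w)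
    rw [this, orderOf_one] at hzp
    exact hp.ne_one hzp.symm
  set O₁ := orbit P x with hO₁
  set O₂ := orbit P y with hO₂
  have hdis : ∀ c ∈ O₂, c ∉ O₁ := by
    intro c h2 h1
    have : x ∈ O₂ := by
      rw [hO₂, ← orbit_eq_iff.2 h2, orbit_eq_iff.2 h1]; exact mem_orbit_self x
    exact hx (cfix z hzc y x hy this)
  have hcard₁₂ : O₁.ncard = p ^ 2 ∧ O₁ ∪ O₂ = Set.univ := by
    have h1 := Nat.le_of_dvd (by rw [Nat.card_coe_set_eq]; exact (Set.ncard_pos (Set.toFinite _)).2 ⟨x, mem_orbit_self x⟩) (horb x)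
    have h2 := Nat.le_of_dvd (by rw [Nat.card_coe_set_eq]; exact (Set.ncard_pos (Set.toFinite _)).2 ⟨y, mem_orbit_self y⟩) (horb y)
    rw [Nat.card_coe_set_eq, ← hO₁] at h1
    rw [Nat.card_coe_set_eq, ← hO₂] at h2
    have hu := Set.ncard_union_eq (Set.disjoint_left.2 fun c a b => hdis c b a :
      Disjoint O₁ O₂) (Set.toFinite _) (Set.toFinite _)
    have hle := Set.ncard_le_ncard (Set.subset_univ (O₁ ∪ O₂)) (Set.toFinite _)
    rw [Set.ncard_univ, hcard, hu] at hle
    refine ⟨by omega, Set.eq_of_subset_of_ncard_le (Set.subset_univ _) ?_ (Set.toFinite _)⟩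
    rw [Set.ncard_univ, hcard, hu]; omega
  have hsplit : ∀ c, c ∈ O₁ ∨ c ∈ O₂ := fun c => hcard₁₂.2.symm.subset (Set.mem_univ c)
  have hO₁inv : ∀ (g : P) (c : Ω), g • c ∈ O₁ ↔ c ∈ O₁ := fun g c => by
    rw [hO₁, ← orbit_eq_iff, ← orbit_eq_iff, orbit_smul]
  -- `P` is faithful on the first orbit
  have hK₁ : ∀ g : P, (∀ c ∈ O₁, g • c = c) → g = 1 := by
    let K₁ : Subgroup P :=
      { carrier := {g | ∀ c ∈ O₁, g • c = c}
        one_mem' := fun c _ => one_smul _ c
        mul_mem' := fun {g h} hg hh c hc => by rw [mul_smul, hh c hc, hg c hc]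
        inv_mem' := fun {g} hg c hc => inv_smul_eq_iff.2 (hg c hc).symm }
    haveI : K₁.Normal := ⟨fun g hg h c hc => by
      rw [mul_smul, mul_smul, hg _ ((hO₁inv _ _).2 hc), smul_inv_smul]⟩
    intro g hg
    by_contra hne
    have hK : K₁ ≠ ⊥ := fun h => hne (Subgroup.mem_bot.1 (h ▸ (hg : g ∈ K₁)))
    have hKZ : K₁ ⊓ Subgroup.center P ≠ ⊥ := by
      obtain ⟨e, he⟩ := IsPGroup.iff_card.1 (P.2.to_subgroup K₁)
      have he0 : e ≠ 0 := by
        rintro rfl
        exact hK (Subgroup.card_eq_one.1 (by simpa using he))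
      have hC : IsPGroup p (ConjAct P) := P.2.of_equiv ConjAct.toConjAct
      obtain ⟨b, hb, hb1⟩ := hC.exists_fixed_point_of_prime_dvd_card_of_fixed_point K₁
        (he ▸ dvd_pow_self p he0) (a := 1) (fun g => smul_one g)
      intro hbot
      refine hb1 (Subtype.ext (Subgroup.mem_bot.1 (hbot ▸ ⟨b.2, ?_⟩)).symm)
      show (b : P) ∈ Subgroup.center P
      rw [Subgroup.mem_center_iff]
      intro g
      have h := congrArg Subtype.val (hb (ConjAct.toConjAct g))
      rw [ConjAct.Subgroup.val_conj_smul, ConjAct.toConjAct_smul] at h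
      exact mul_inv_eq_iff_eq_mul.1 h
    obtain ⟨w, ⟨hw1, hw2⟩, hwp⟩ := getp _ hKZ
    have hord : orderOf (z * w) = p := by
      refine orderOf_eq_prime ?_ fun e => hx ?_
      · rw [Commute.mul_pow (Subgroup.mem_center_iff.1 hw2 z),
          orderOf_dvd_iff_pow_eq_one.1 hzp.dvd, orderOf_dvd_iff_pow_eq_one.1 hwp.dvd, one_mul]
      · have := congrArg (fun g : P => g • x) e
        simp only [mul_smul, one_smul] at this
        rwa [hw1 x (mem_orbit_self x)] at this
    obtain ⟨c, hc⟩ := hder _ hord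
    rw [mul_smul] at hc
    rcases hsplit c with h1 | h2
    · rw [hw1 c h1] at hc
      exact hx (cfix z hzc c x hc (orbit_eq_iff.2 h1 ▸ mem_orbit_self x))
    · rw [cfix z hzc y _ hy (by rwa [← hO₂, hO₂, ← orbit_eq_iff, orbit_smul, orbit_eq_iff])] at hc
      have hw : w = 1 := Subtype.ext (FaithfulSMul.eq_of_smul_eq_smul (α := Ω) fun d => by
        rw [OneMemClass.coe_one, one_smul]
        rcases hsplit d with hd | hd
        · exact hw1 d hd
        · exact cfix w hw2 c d hc (by rw [orbit_eq_iff.2 h2]; exact hd))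
      exact hp.ne_one (hwp.symm.trans (hw ▸ orderOf_one))
  -- the kernel on the second orbit
  let K : Subgroup P :=
    { carrier := {g | ∀ c ∈ O₂, g • c = c}
      one_mem' := fun c _ => one_smul _ c
      mul_mem' := fun {g h} hg hh c hc => by rw [mul_smul, hh c hc, hg c hc]
      inv_mem' := fun {g} hg c hc => inv_smul_eq_iff.2 (hg c hc).symm }
  haveI hKn : K.Normal := ⟨fun g hg h c hc => by
    rw [mul_smul, mul_smul, hg _ (by rw [hO₂, ← orbit_eq_iff, orbit_smul, orbit_eq_iff]; exact hc),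
      smul_inv_smul]⟩
  have hzK : z ∈ K := fun c hc => cfix z hzc y c hy hc
  set R := K ⊔ stabilizer P x with hR
  have hRidx : R.index ∣ p := by
    have h := Subgroup.relIndex_mul_index (show stabilizer P x ≤ R from le_sup_right)
    rw [index_stabilizer, hcard₁₂.1] at h
    obtain ⟨e, he, heq⟩ := (Nat.dvd_prime_pow hp).1 ⟨_, h.symm.trans (mul_comm _ _)⟩
    rcases Nat.lt_or_ge e 2 with h' | h'
    · rw [heq]; exact (pow_dvd_pow p (show e ≤ 1 by omega)).trans (pow_one p).dvd
    · obtain rfl : e = 2 := by omega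
      rw [heq] at h
      have h1 := Subgroup.relIndex_eq_one.1
        (Nat.eq_one_of_mul_eq_one_right (show (stabilizer P x).relIndex R * 1 = 1 from
          Nat.eq_of_mul_eq_mul_right (pow_pos hp.pos 2) (by rw [mul_one, one_mul]; exact h)))
      exact absurd (h1 (Subgroup.mem_sup_left hzK)) hx
  haveI hRn : R.Normal := by
    rcases (Nat.dvd_prime hp).1 hRidx with h | h
    · rw [Subgroup.index_eq_one.1 h]; infer_instance
    · obtain ⟨e, he⟩ := IsPGroup.iff_card.1 P.2
      refine Subgroup.normal_of_index_eq_minFac_card ?_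
      have he0 : e ≠ 0 := by
        rintro rfl
        have := Finite.one_lt_card (α := P)
        simp [he] at this
      rw [h, he, Nat.Prime.pow_minFac hp he0]
  have hKorb : ∀ r ∈ R, ∀ c ∈ O₁, ∃ k ∈ K, k • r • c = c := by
    rintro r hr _ ⟨g, rfl⟩
    have h1 : g⁻¹ * r * g ∈ R := by
      have := hRn.conj_mem r hr g⁻¹; rwa [inv_inv] at this
    obtain ⟨k, hk, s, hs, he⟩ := Subgroup.mem_sup_of_normal_left.1 h1
    refine ⟨g * k⁻¹ * g⁻¹, hKn.conj_mem _ (inv_mem hk) g, ?_⟩
    show (g * k⁻¹ * g⁻¹) • r • g • x = g • x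
    have e : r * g = g * (k * s) := by rw [he]; group
    rw [← mul_smul r g, e, ← mul_smul, show g * k⁻¹ * g⁻¹ * (g * (k * s)) = g * s by group, mul_smul,
      mem_stabilizer_iff.1 hs]
  -- half of an element of `R` lies in the group
  have hRK : R ≤ K := by
    intro q hq
    let M : Subgroup G :=
      { carrier := {g | ∃ r ∈ R, (∀ c ∈ O₁, g • c = c) ∧ ∀ c ∈ O₂, g • c = r • c}
        one_mem' := ⟨1, one_mem R, fun c _ => one_smul G c, fun c _ => by rw [one_smul, one_smul]⟩
        mul_mem' := by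
          rintro g g' ⟨r, hr, g1, g2⟩ ⟨r', hr', g1', g2'⟩
          refine ⟨r * r', mul_mem hr hr', fun c hc => by rw [mul_smul, g1' c hc, g1 c hc], fun c hc => ?_⟩
          rw [mul_smul, g2' c hc, mul_smul, g2 _ (by
            rw [hO₂, ← orbit_eq_iff, orbit_smul, orbit_eq_iff]; exact hc)]
        inv_mem' := by
          rintro g ⟨r, hr, g1, g2⟩
          refine ⟨r⁻¹, inv_mem hr, fun c hc => inv_smul_eq_iff.2 (g1 c hc).symm, fun c hc => ?_⟩
          rw [inv_smul_eq_iff, g2 _ (by rw [hO₂, ← orbit_eq_iff, orbit_smul, orbit_eq_iff]; exact hc),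
            smul_inv_smul] }
    have hM : IsPGroup p M := by
      rintro ⟨g, r, hr, g1, g2⟩
      obtain ⟨j, hj⟩ := P.2 r
      refine ⟨j, Subtype.ext (FaithfulSMul.eq_of_smul_eq_smul (α := Ω) fun c => ?_)⟩
      show g ^ p ^ j • c = (1 : G) • c
      rw [one_smul]
      rcases hsplit c with hc | hc
      · have : ∀ i : ℕ, g ^ i • c = c := by
          intro i
          induction i with
          | zero => rw [pow_zero, one_smul]
          | succ i ih => rw [pow_succ, mul_smul, g1 c hc, ih]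
        exact this _
      · have : ∀ (i : ℕ) (d : Ω), d ∈ O₂ → g ^ i • d = r ^ i • d := by
          intro i
          induction i with
          | zero => intro d _; rw [pow_zero, pow_zero, one_smul, one_smul]
          | succ i ih =>
            intro d hd
            rw [pow_succ, pow_succ, mul_smul, mul_smul, g2 d hd, ih _ (by
              rw [hO₂, ← orbit_eq_iff, orbit_smul, orbit_eq_iff]; exact hd)]
        rw [this _ c hc, hj, one_smul]
    have hnorm : (P : Subgroup G) ≤ Subgroup.normalizer (M : Set G) := by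
      intro h hh
      have key : ∀ h : P, ∀ g ∈ M, (h : G) * g * (h : G)⁻¹ ∈ M := by
        rintro h g ⟨r, hr, g1, g2⟩
        refine ⟨h * r * h⁻¹, hRn.conj_mem r hr h, fun c hc => ?_, fun c hc => ?_⟩
        · rw [mul_smul, mul_smul]
          show h • g • h⁻¹ • c = c
          rw [g1 _ ((hO₁inv _ _).2 hc), smul_inv_smul]
        · rw [mul_smul, mul_smul, mul_smul, mul_smul]
          show h • g • h⁻¹ • c = h • r • h⁻¹ • c
          rw [g2 _ (by rw [hO₂, ← orbit_eq_iff, orbit_smul, orbit_eq_iff]; exact hc)]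
      rw [Subgroup.mem_normalizer_iff]
      refine fun g => ⟨key ⟨h, hh⟩ g, fun hg => ?_⟩
      have := key (⟨h, hh⟩ : P)⁻¹ _ hg
      simpa [mul_assoc] using this
    have hsup : IsPGroup p ((P : Subgroup G) ⊔ M : Subgroup G) := by
      rw [sup_comm]
      exact hM.to_sup_of_normal_left' P.2 hnorm
    have hMP : M ≤ (P : Subgroup G) := le_sup_right.trans (P.3 hsup le_sup_left).le
    -- the permutation
    let σ : Equiv.Perm Ω :=
      { toFun := fun c => if c ∈ O₁ then c else q • c
        invFun := fun c => if c ∈ O₁ then c else q⁻¹ • c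
        left_inv := fun c => by
          by_cases hc : c ∈ O₁
          · simp [hc]
          · simp [hc, hO₁inv]
        right_inv := fun c => by
          by_cases hc : c ∈ O₁
          · simp [hc]
          · simp [hc, hO₁inv] }
    have hσ : ∀ c, σ c = if c ∈ O₁ then c else q • c := fun c => rfl
    have hout : ∀ c, c ∉ O₁ → c ∈ O₂ := fun c hc => (hsplit c).resolve_left hc
    obtain ⟨g, hg⟩ := hcl σ fun c d => by
      have mixed : ∀ c d, c ∈ O₁ → d ∉ O₁ → ∃ g : G, c = g • c ∧ q • d = g • d := by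
        intro c d hc hd
        obtain ⟨k, hk, hkc⟩ := hKorb q hq c hc
        refine ⟨((k * q : P) : G), ?_, ?_⟩
        · show c = (k * q) • c
          rw [mul_smul, hkc]
        · show q • d = (k * q) • d
          rw [mul_smul, hk _ (by rw [hO₂, ← orbit_eq_iff, orbit_smul, orbit_eq_iff]; exact hout d hd)]
      by_cases hc : c ∈ O₁ <;> by_cases hd : d ∈ O₁ <;> simp only [hσ, hc, hd, if_true, if_false]
      · exact ⟨1, (one_smul G c).symm, (one_smul G d).symm⟩
      · exact mixed c d hc hd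
      · obtain ⟨g, h1, h2⟩ := mixed d c hd hc
        exact ⟨g, h2, h1⟩
      · exact ⟨(q : G), rfl, rfl⟩
    have hgM : g ∈ M := ⟨q, hq, fun c hc => by rw [← hg, hσ, if_pos hc],
      fun c hc => by rw [← hg, hσ, if_neg (hdis c hc)]⟩
    have hg1 : (⟨g, hMP hgM⟩ : P) = 1 := hK₁ _ fun c hc => by
      show g • c = c
      rw [← hg, hσ, if_pos hc]
    intro c hc
    have hh := hg c
    rw [hσ, if_neg (hdis c hc), show g = 1 from congrArg Subtype.val hg1, one_smul] at hh
    exact hh
  have hKy : K ≤ stabilizer P y := fun k hk => hk y (mem_orbit_self y)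
  have hdd := Subgroup.index_dvd_of_le (hRK.trans hKy)
  rw [index_stabilizer, ← Nat.card_coe_set_eq] at hdd
  have := Nat.le_of_dvd hp.pos ((horb y).trans (hdd.trans hRidx))
  nlinarith [hp.two_le]

end CfsgLib.Recog
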