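import Cfsg.Agent.Lib.Recog.DerangeClasses
import Mathlib.GroupTheory.GroupAction.MultipleTransitivity
import Mathlib.GroupTheory.OrderOfElement
import Mathlib.GroupTheory.PGroup

/-!
Burnside's theorem: the socle of a 2-transitive group is elementary abelian regular or simple.
-/

set_option autoImplicit false

namespace CfsgLib.Recog

open MulAction Subgroup

variable {G Ω : Type*} [Group G] [Finite G] [MulAction G Ω] [FaithfulSMul G Ω]

theorem IsFactor.not_semiregular_of_two_transitive {N T : Subgroup G} (h : IsFactor N T)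
    (h2 : IsMultiplyPretransitive G Ω 2) (a : Ω)
    (hsr : ∀ x ∈ T, ∀ ω : Ω, x • ω = ω → x = 1) : False := by
  have := h.simple
  have key : ∀ t₁ ∈ T, ∀ t₂ ∈ T, t₁ ≠ 1 → t₂ ≠ 1 → orderOf t₂ = orderOf t₁ := by
    intro t₁ ht₁ t₂ ht₂ h₁ h₂
    have e1 : t₁ • a ≠ a := fun e => h₁ (hsr _ ht₁ _ e)
    have e2 : t₂ • a ≠ a := fun e => h₂ (hsr _ ht₂ _ e)
    obtain ⟨k, hka, hk⟩ := CfsgLib.Perm.exists_smul_pair h2 e1.symm e2.symm
    set u := k * t₁ * k⁻¹ with hu
    have huT : u ∈ cj k T := conj_mem_cj ht₁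
    have hua : u • a = t₂ • a := by
      rw [hu, mul_smul, mul_smul, inv_smul_eq_iff.mpr hka.symm, hk]
    have hord : orderOf u = orderOf t₁ := (MulAut.conj k).orderOf_eq t₁
    have hsr' : ∀ y ∈ cj k T, y • a = a → y = 1 := by
      intro y hy hya
      have h1 := hsr _ (mem_cj.mp hy) (k⁻¹ • a) (by rw [mul_smul, mul_smul, smul_inv_smul, hya])
      simpa [mul_eq_one_iff_eq_inv, inv_mul_eq_iff_eq_mul] using h1
    rcases h.eq_or_le_centralizer k with hc | hc
    · have he : t₂⁻¹ * u = 1 := hsr _ (mul_mem (inv_mem ht₂) (hc.le huT)) a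
        (by rw [mul_smul, hua, inv_smul_smul])
      rw [← hord, ← inv_mul_eq_one.mp he]
    · have hpow : ∀ n : ℕ, u ^ n • a = t₂ ^ n • a := by
        intro n
        induction n with
        | zero => rw [pow_zero, pow_zero]
        | succ n ih =>
          have hcn : t₂ * u ^ n = u ^ n * t₂ :=
            mem_centralizer_iff.mp (hc (pow_mem huT n)) t₂ ht₂
          rw [pow_succ u, mul_smul, hua, ← mul_smul, ← hcn, mul_smul, ih, ← mul_smul, ← pow_succ']
      rw [← hord]
      refine orderOf_eq_orderOf_iff.mpr fun n => ⟨fun e => ?_, fun e => ?_⟩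
      · refine hsr' _ (pow_mem huT n) ?_
        rw [hpow, e, one_smul]
      · refine hsr _ (pow_mem ht₂ n) a ?_
        rw [← hpow, e, one_smul]
  have hT1 : 1 < Nat.card T := (Subgroup.one_lt_card_iff_ne_bot T).mpr h.ne_bot
  obtain ⟨r, hr, hrd⟩ := Nat.exists_prime_and_dvd hT1.ne'
  have : Fact r.Prime := ⟨hr⟩
  obtain ⟨⟨x, hx⟩, hxo⟩ := exists_prime_orderOf_dvd_card' r hrd
  rw [Subgroup.orderOf_mk] at hxo
  refine not_isPGroup_of_simple_nonabelian h.nonabelian hr fun y => ?_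
  by_cases hy : (y : G) = 1
  · exact ⟨0, by rw [pow_zero, pow_one]; exact Subtype.ext hy⟩
  refine ⟨1, Subtype.ext ?_⟩
  rw [pow_one, Subgroup.coe_pow, Subgroup.coe_one, ← hxo,
    ← key x hx y y.2 (fun e => hr.ne_one (by rw [← hxo, e, orderOf_one])) hy, pow_orderOf_eq_one]

/-- Burnside: a non-abelian minimal normal subgroup of a 2-transitive group is simple with
trivial centralizer. -/
theorem simple_of_two_transitive [Nontrivial Ω] (h2 : IsMultiplyPretransitive G Ω 2)
    {N : Subgroup G} (hN : N.Normal) (hne : N ≠ ⊥)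
    (hmin : ∀ K : Subgroup G, K.Normal → K ≤ N → K = ⊥ ∨ K = N) (hab : ¬ IsMulCommutative N) :
    IsSimpleGroup N ∧ centralizer (N : Set G) = ⊥ := by
  have hprim : IsPreprimitive G Ω := isPreprimitive_of_is_two_pretransitive h2
  obtain ⟨T, hT⟩ := exists_isFactor hN hne hmin hab
  have := CfsgLib.Perm.normal_isPretransitive (α := Ω) hne
  obtain ⟨a⟩ := (inferInstance : Nonempty Ω)
  have hsr : ∀ ω : Ω, T ⊓ stabilizer G ω ≠ ⊥ := by
    intro ω hb
    refine hT.not_semiregular_of_two_transitive h2 a fun x hx ω' hω' => ?_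
    obtain ⟨t, ht, hfix⟩ := hT.exists_conj_fix ω hx hω'
    have hm : t⁻¹ * x * t ∈ T ⊓ stabilizer G ω :=
      Subgroup.mem_inf.mpr ⟨mul_mem (mul_mem (inv_mem ht) hx) ht, hfix⟩
    rw [hb, Subgroup.mem_bot] at hm
    simpa [mul_eq_one_iff_eq_inv, inv_mul_eq_iff_eq_mul] using hm
  have hall : ∀ g : G, cj g T = T := by
    by_contra hno
    push Not at hno
    obtain ⟨g, hg⟩ := hno
    have hle := (hT.eq_or_le_centralizer g).resolve_left hg
    obtain ⟨t, ht, hta⟩ := SetLike.not_le_iff_exists.mp (hT.not_le_stabilizer (Ω := Ω) a)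
    obtain ⟨u, hu, hua⟩ : ∃ u ∈ cj g T, u • a ≠ a := by
      obtain ⟨t', ht', hta'⟩ := SetLike.not_le_iff_exists.mp (hT.not_le_stabilizer (Ω := Ω) (g⁻¹ • a))
      refine ⟨g * t' * g⁻¹, conj_mem_cj ht', fun e => hta' (mem_stabilizer_iff.mpr ?_)⟩
      rw [mul_smul, mul_smul, ← eq_inv_smul_iff] at e
      exact e
    have hfix : ∀ x ∈ T, ∀ v ∈ centralizer (T : Set G), (x * v) • a = a → x • a = a :=
      fun x hx v hv => hT.fix_of_mul_fix a (hsr a) hx hv
    have hne' : (t * u) • a ≠ a := fun e => hta (hfix t ht u (hle hu) e)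
    obtain ⟨k, hka, hk⟩ := CfsgLib.Perm.exists_smul_pair h2
      (show a ≠ t • a from fun e => hta e.symm) hne'.symm
    set z := k * t * k⁻¹ with hz
    have hza : z • a = (t * u) • a := by
      rw [hz, mul_smul, mul_smul, inv_smul_eq_iff.mpr hka.symm, hk]
    have hw : (z⁻¹ * (t * u)) • a = a := by rw [mul_smul, ← hza, inv_smul_smul]
    rcases hT.eq_or_le_centralizer k with hc | hc
    · have h1 : (z⁻¹ * t) • a = a :=
        hfix _ (mul_mem (inv_mem (hc.le (conj_mem_cj ht))) ht) u (hle hu) (by rwa [mul_assoc])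
      apply hua
      calc u • a = ((z⁻¹ * t)⁻¹ * (z⁻¹ * (t * u))) • a := by
            rw [show (z⁻¹ * t)⁻¹ * (z⁻¹ * (t * u)) = u by group]
        _ = a := by rw [mul_smul, hw, inv_smul_eq_iff, h1]
    · have hzc : z⁻¹ ∈ centralizer (T : Set G) := inv_mem (hc (conj_mem_cj ht))
      exact hta (hfix t ht (z⁻¹ * u) (mul_mem hzc (hle hu))
        (by rw [← mul_assoc, mem_centralizer_iff.mp hzc t ht, mul_assoc]; exact hw))
  have hTN : T = N := by
    rw [← hT.iSup_eq]
    simp only [hall, iSup_const]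
  subst hTN
  refine ⟨hT.simple, by_contra fun hC => hsr a ?_⟩
  have := CfsgLib.Perm.normal_isPretransitive (α := Ω) hC
  rw [Subgroup.eq_bot_iff_forall]
  intro x hx
  refine eq_of_smul_eq_smul (α := Ω) fun ω => ?_
  obtain ⟨⟨c, hc⟩, rfl⟩ := exists_smul_eq (centralizer (T : Set G)) a ω
  rw [one_smul, Subgroup.mk_smul, smul_smul, mem_centralizer_iff.mp hc x hx.1, mul_smul,
    mem_stabilizer_iff.mp hx.2]

end CfsgLib.Recog
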