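/-! Natural number arithmetic for `SU(3,3)` over the field with nine elements and the kernel enumeration of its element orders. -/

set_option autoImplicit false

namespace CfsgLib.Recog.UThreeThree

/-- An element `re + im * i` of the field with nine elements. -/
structure C where
  (re im : Nat)
deriving DecidableEq

/-- A column vector. -/
structure V3 where
  (x y z : C)

/-- A matrix, by rows. -/
structure M3 where
  (a b c d e f g h i : C)
deriving DecidableEq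

/-- Sum. -/
def addC (u v : C) : C := ⟨(u.re + v.re) % 3, (u.im + v.im) % 3⟩

/-- Difference. -/
def subC (u v : C) : C := ⟨(u.re + 2 * v.re) % 3, (u.im + 2 * v.im) % 3⟩

/-- Product. -/
def mulC (u v : C) : C := ⟨(u.re * v.re + 2 * (u.im * v.im)) % 3, (u.re * v.im + u.im * v.re) % 3⟩

/-- Conjugate. -/
def conjC (u : C) : C := ⟨u.re % 3, (2 * u.im) % 3⟩

/-- Whether the element is a given reduced one. -/
def isC (u : C) (r s : Nat) : Bool := u.re == r && u.im == s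

/-- Inner product of a row and a column. -/
def row (a b c p q r : C) : C :=
  ⟨(a.re * p.re + b.re * q.re + c.re * r.re + 2 * (a.im * p.im + b.im * q.im + c.im * r.im)) % 3,
   (a.re * p.im + b.re * q.im + c.re * r.im + (a.im * p.re + b.im * q.re + c.im * r.re)) % 3⟩

/-- Hermitian product. -/
def dot (u v : V3) : C := row u.x u.y u.z (conjC v.x) (conjC v.y) (conjC v.z)

/-- Matrix product. -/
def mul (s t : M3) : M3 :=
  ⟨row s.a s.b s.c t.a t.d t.g, row s.a s.b s.c t.b t.e t.h, row s.a s.b s.c t.c t.f t.i,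
   row s.d s.e s.f t.a t.d t.g, row s.d s.e s.f t.b t.e t.h, row s.d s.e s.f t.c t.f t.i,
   row s.g s.h s.i t.a t.d t.g, row s.g s.h s.i t.b t.e t.h, row s.g s.h s.i t.c t.f t.i⟩

/-- The special unitary matrix with given first two columns. -/
def complete (u v : V3) : M3 :=
  ⟨u.x, v.x, conjC (subC (mulC u.y v.z) (mulC v.y u.z)),
   u.y, v.y, conjC (subC (mulC v.x u.z) (mulC u.x v.z)),
   u.z, v.z, conjC (subC (mulC u.x v.y) (mulC v.x u.y))⟩

/-- Whether a matrix is the identity. -/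
def isOne (m : M3) : Bool :=
  isC m.a 1 0 && isC m.b 0 0 && isC m.c 0 0 && isC m.d 0 0 && isC m.e 1 0 && isC m.f 0 0 &&
    isC m.g 0 0 && isC m.h 0 0 && isC m.i 1 0

/-- Whether the eighth, the twelfth or the seventh power is the identity. -/
def good (m : M3) : Bool :=
  let m2 := mul m m
  let m4 := mul m2 m2
  let m8 := mul m4 m4
  isOne m8 || isOne (mul m8 m4) || isOne (mul (mul m4 m2) m)

/-- Decoding of a vector. -/
def dec (k : Nat) : V3 := ⟨⟨k % 3, k / 3 % 3⟩, ⟨k / 9 % 3, k / 27 % 3⟩, ⟨k / 81 % 3, k / 243 % 3⟩⟩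

/-- The codes of the vectors of norm one. -/
def units : List Nat := [1, 2, 3, 6, 9, 18, 27, 40, 41, 43, 44, 49, 50, 52, 53, 54, 67, 68, 70, 71, 76, 77, 79, 80, 81, 94, 95, 97, 98, 103, 104, 106, 107, 112, 113, 115, 116, 118, 119, 120, 123, 127, 128, 129, 132, 139, 140, 142, 143, 145, 146, 147, 150, 154, 155, 156, 159, 162, 175, 176, 178, 179, 184, 185, 187, 188, 193, 194, 196, 197, 199, 200, 201, 204, 208, 209, 210, 213, 220, 221, 223, 224, 226, 227, 228, 231, 235, 236, 237, 240, 243, 256, 257, 259, 260, 265, 266, 268, 269, 274, 275, 277, 278, 280, 281, 282, 285, 289, 290, 291, 294, 301, 302, 304, 305, 307, 308, 309, 312, 316, 317, 318, 321, 328, 329, 331, 332, 334, 335, 336, 339, 343, 344, 345, 348, 352, 353, 354, 357, 360, 369, 379, 380, 381, 384, 387, 396, 409, 410, 412, 413, 415, 416, 417, 420, 424, 425, 426, 429, 433, 434, 435, 438, 441, 450, 460, 461, 462, 465, 468, 477, 486, 499, 500, 502, 503, 508, 509, 511,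 512, 517, 518, 520, 521, 523, 524, 525, 528, 532, 533, 534, 537, 544, 545, 547, 548, 550, 551, 552, 555, 559, 560, 561, 564, 571, 572, 574, 575, 577, 578, 579, 582, 586, 587, 588, 591, 595, 596, 597, 600, 603, 612, 622, 623, 624, 627, 630, 639, 652, 653, 655, 656, 658, 659, 660, 663, 667, 668, 669, 672, 676, 677, 678, 681, 684, 693, 703, 704, 705, 708, 711, 720]

/-- The check at a pair of vectors of norm one. -/
def okPair (j k : Nat) : Bool := if isC (dot (dec j) (dec k)) 0 0 then good (complete (dec j) (dec k)) else true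

theorem units_complete : ((List.range 729).all fun k => !(isC (dot (dec k) (dec k)) 1 0) || units.contains k) = true := by
  decide +kernel

/-- The determinant. -/
def detC (m : M3) : C :=
  row m.a m.b m.c (subC (mulC m.e m.i) (mulC m.f m.h)) (subC (mulC m.f m.g) (mulC m.d m.i))
    (subC (mulC m.d m.h) (mulC m.e m.g))

/-- Whether a matrix is special unitary. -/
def isSU (m : M3) : Bool :=
  let u : V3 := ⟨m.a, m.d, m.g⟩
  let v : V3 := ⟨m.b, m.e, m.h⟩
  let w : V3 := ⟨m.c, m.f, m.i⟩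
  isC (detC m) 1 0 && isC (dot u u) 1 0 && isC (dot u v) 0 0 && isC (dot u w) 0 0 &&
    isC (dot v u) 0 0 && isC (dot v v) 1 0 && isC (dot v w) 0 0 &&
    isC (dot w u) 0 0 && isC (dot w v) 0 0 && isC (dot w w) 1 0

/-- Powers. -/
def pw (m : M3) : Nat → M3
  | 0 => ⟨⟨1, 0⟩, ⟨0, 0⟩, ⟨0, 0⟩, ⟨0, 0⟩, ⟨1, 0⟩, ⟨0, 0⟩, ⟨0, 0⟩, ⟨0, 0⟩, ⟨1, 0⟩⟩
  | n + 1 => mul (pw m n) m

/-- An element of order seven. -/
def m7 : M3 := ⟨⟨0, 0⟩, ⟨2, 1⟩, ⟨1, 2⟩, ⟨1, 0⟩, ⟨0, 0⟩, ⟨0, 0⟩, ⟨0, 0⟩, ⟨1, 1⟩, ⟨1, 1⟩⟩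

/-- An element of order eight. -/
def m8 : M3 := ⟨⟨0, 1⟩, ⟨0, 0⟩, ⟨0, 0⟩, ⟨0, 0⟩, ⟨0, 0⟩, ⟨0, 1⟩, ⟨0, 0⟩, ⟨1, 0⟩, ⟨0, 0⟩⟩

/-- An element of order twelve. -/
def m12 : M3 := ⟨⟨2, 0⟩, ⟨0, 0⟩, ⟨0, 0⟩, ⟨0, 0⟩, ⟨1, 1⟩, ⟨1, 2⟩, ⟨0, 0⟩, ⟨1, 1⟩, ⟨2, 1⟩⟩

end CfsgLib.Recog.UThreeThree
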