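import Cfsg.Agent.Lib.Recog.UThreeThreeCheck

/-! A third of the kernel enumeration for `SU(3,3)`. -/

set_option autoImplicit false

namespace CfsgLib.Recog.UThreeThree

theorem okPair_A : ((units.take 84).all fun j => units.all fun k => okPair j k) = true := by
  decide +kernel

end CfsgLib.Recog.UThreeThree
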